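import Mathlib
import Cfsg.Prelude.Def_CaseTheorems
import Cfsg.Prelude.Def_Sz
import Cfsg.Agent.LieExceptional.CITDefs
set_option linter.all false

/-!
# Definitions for the case "no elements of order 6" of S0342 (blueprints/S0342-T0eq1.md)

All subgroups live in one ambient group `G`. `IsO2`, `IsSyl2`, `IsMaxLocal`, `omegaZ`, `Elem` are those of the CIT
project (`CITDefs`).
-/

set_option autoImplicit false

namespace Cfsg.Agent.OddCyclic.T1Defs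

open Cfsg.Agent.LieExceptional.CITDefs

universe u

/-- all Sylow subgroups for odd primes are cyclic -/
def OddCyc (G : Type*) [Group G] : Prop :=
  ∀ (p : ℕ) (P : Sylow p G), p.Prime → p ≠ 2 → IsCyclic P

/-- no elements of order 6 -/
def NoSix (G : Type*) [Group G] : Prop := ∀ g : G, orderOf g ≠ 6

/-- the allowed proper simple sections -/
def K1 (K : Type*) [Group K] : Prop :=
  (∃ (F : Type) (_ : Field F) (_ : Fintype F), (Fintype.card F).Prime ∧ 5 ≤ Fintype.card F ∧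
    Nonempty (K ≃* Matrix.ProjectiveSpecialLinearGroup (Fin 2) F)) ∨
  (∃ (F : Type) (_ : Field F) (_ : Fintype F) (f : ℕ), 2 ≤ f ∧ Fintype.card F = 2 ^ f ∧
    Nonempty (K ≃* Matrix.ProjectiveSpecialLinearGroup (Fin 2) F)) ∨
  Cfsg.Lie.IsoSuzuki K ∨ ∃ g : K, orderOf g = 6

/-- every non-abelian simple section of a proper subgroup is in `K1` -/
def KProper (G : Type u) [Group G] : Prop :=
  ∀ (H : Subgroup G), H ≠ ⊤ → ∀ (N : Subgroup H) [N.Normal], IsSimpleGroup (H ⧸ N) →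
    (∃ a b : H ⧸ N, a * b ≠ b * a) → K1 (H ⧸ N)

variable {G : Type u} [Group G]

/-- characteristic 2 type in ambient form -/
def CharTwo (G : Type u) [Group G] : Prop :=
  ∀ A X : Subgroup G, IsPGroup 2 A → A ≠ ⊥ → IsO2 (Subgroup.normalizer (A : Set G)) X →
    Subgroup.centralizer (X : Set G) ≤ X

/-- the standing hypotheses -/
structure Hyp (G : Type u) [Group G] : Prop where
  cyc : OddCyc G
  nosix : NoSix G
  three : 3 ∣ Nat.card G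
  char2 : CharTwo G
  kproper : KProper G

/-- `P/Q ≅ SL₂(q)`, `q = 2ⁿ ≥ 2` (`S₃` for `q = 2`), `Q = O₂(P)`, `T` a Sylow 2-subgroup of `P`, the elements of order
3 of `P` act fixed point freely on `Q`. -/
structure LType (P Q T : Subgroup G) (q : ℕ) : Prop where
  o2 : IsO2 P Q
  syl : IsSyl2 P T
  iso : ∃ (F : Type) (_ : Field F) (_ : Fintype F) (_ : CharP F 2)
    (φ : P →* Matrix.SpecialLinearGroup (Fin 2) F),
    Function.Surjective φ ∧ φ.ker = Q.subgroupOf P ∧ Fintype.card F = q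
  fpf : ∀ x ∈ P, orderOf x = 3 → ∀ u ∈ Q, x * u = u * x → u = 1

/-- the local subgroup `M` is of type 3t: `Q = O₂(M)`, `T ∈ Syl₂(M)`, `P = L T`, `L` generated by the elements of
order 3 of `M`. -/
structure ThreeType (M P Q T : Subgroup G) (q : ℕ) : Prop where
  le : P ≤ M
  o2 : IsO2 M Q
  syl : IsSyl2 M T
  ltype : LType P Q T q
  fpf : ∀ x ∈ M, orderOf x = 3 → ∀ u ∈ Q, x * u = u * x → u = 1
  /-- `P` is generated by `T` and the elements of order 3 of `M` -/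
  gen : P = T ⊔ Subgroup.closure {x : G | x ∈ M ∧ orderOf x = 3}
  /-- Sylow 2-subgroups of `M` are TI modulo `Q` -/
  ti : ∀ g ∈ M, (∃ x ∈ T, x ∉ Q ∧ g * x * g⁻¹ ∈ T) → ∀ x ∈ T, g * x * g⁻¹ ∈ T
  /-- for `q ≥ 4`, `T ≤ L = P` is normal in `M` -/
  normal : q ≠ 2 → ∀ m ∈ M, ∀ p ∈ P, m * p * m⁻¹ ∈ P

/-- `N` is normal in `M` (ambient form) -/
def NormalIn (M N : Subgroup G) : Prop := N ≤ M ∧ ∀ m ∈ M, ∀ n ∈ N, m * n * m⁻¹ ∈ N

/-- all simple non-abelian sections are in K1 -/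
def KSec (H : Type u) [Group H] : Prop :=
  ∀ (A : Subgroup H) (N : Subgroup A) [N.Normal], IsSimpleGroup (A ⧸ N) → (∃ a b : A ⧸ N, a * b ≠ b * a) → K1 (A ⧸ N)


/-- (**): 2-subgroups properly containing `T` lie in at most one maximal local subgroup -/
def UniqueAbove (T : Subgroup G) : Prop := ∀ R : Subgroup G, IsPGroup 2 R → T < R → ∀ M M' : Subgroup G,
  IsMaxLocal M → IsMaxLocal M' → R ≤ M → R ≤ M' → M = M'


/-- Case I -/
structure Pair (M₁ M₂ P₁ P₂ V₁ V₂ T : Subgroup G) (q : ℕ) : Prop where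
  t₁ : ThreeType M₁ P₁ V₁ T q
  t₂ : ThreeType M₂ P₂ V₂ T q
  max₁ : IsMaxLocal M₁
  max₂ : IsMaxLocal M₂
  ne : M₁ ≠ M₂
  elem₁ : Elem V₁
  elem₂ : Elem V₂
  card_V₁ : Nat.card V₁ = q ^ 2
  card_V₂ : Nat.card V₂ = q ^ 2
  card_C : Nat.card (omegaZ T) = q
  sup : T = V₁ ⊔ V₂
  inf : V₁ ⊓ V₂ = omegaZ T
  card : Nat.card T = q ^ 3
  /-- elementary abelian subgroups of `T` lie in `V₁` or `V₂` -/
  elem : ∀ A : Subgroup G, A ≤ T → Elem A → A ≤ V₁ ∨ A ≤ V₂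
  cent₁ : ∀ t ∈ T, t ∉ V₁ → ∀ v ∈ V₁, t * v = v * t → v ∈ omegaZ T
  cent₂ : ∀ t ∈ T, t ∉ V₂ → ∀ v ∈ V₂, t * v = v * t → v ∈ omegaZ T

/-- the situation of section 4 (piece O produces it) -/
structure CaseII (M P Q S P₂ Q₂ : Subgroup G) (q : ℕ) : Prop where
  t₁ : ThreeType M P Q S q
  max₁ : IsMaxLocal M
  sylow : IsSyl2 ⊤ S
  norm : Subgroup.normalizer (S : Set G) ≤ M
  three : ¬ 3 ∣ Nat.card P₂
  le : S ≤ P₂
  not_le : ¬ P₂ ≤ M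
  min : ∀ K : Subgroup G, S ≤ K → K ≤ P₂ → K ≠ P₂ → K ≤ M
  o2 : IsO2 P₂ Q₂
  cent : ∀ g ∈ P₂, (∀ x ∈ Q₂, g * x = x * g) → g ∈ Q₂
  /-- 1.6 -/
  uniq : ∀ A : Subgroup G, A ≠ ⊥ → IsPGroup 2 A → (∀ p ∈ P, ∀ a ∈ A, p * a * p⁻¹ ∈ A) →
    Subgroup.normalizer (A : Set G) ≤ M

/-- structure (R): `r` of `p`-power order, `p ≥ 5` -/
structure RType (P₂ Q₂ S : Subgroup G) (p : ℕ) (r : G) : Prop where
  prime : p.Prime
  five : 5 ≤ p
  mem : r ∈ P₂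
  order : ∃ a : ℕ, r ^ p ^ a = 1
  not_mem : r ∉ Q₂
  gen : ∀ g ∈ P₂, ∃ i : ℕ, ∃ s ∈ S, g = r ^ i * s
  /-- `⟨r⟩` is normal modulo `Q₂` -/
  norm : ∀ g ∈ P₂, ∃ k : ℕ, g * r * g⁻¹ * (r ^ k)⁻¹ ∈ Q₂
  /-- `S/Q₂` is cyclic and faithful on `⟨r⟩` -/
  cyc : ∃ s₀ ∈ S, ∀ s ∈ S, ∃ k : ℕ, s * (s₀ ^ k)⁻¹ ∈ Q₂
  faith : ∀ s ∈ S, s * r * s⁻¹ * r⁻¹ ∈ Q₂ → s ∈ Q₂
  /-- involutions of `S/Q₂` invert `r` -/
  inv : ∀ t ∈ S, t ∉ Q₂ → t * t ∈ Q₂ → t * r * t⁻¹ * r ∈ Q₂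
  ne : S ≠ Q₂

/-- structure (Sz) -/
def SzType (P₂ Q₂ : Subgroup G) : Prop :=
  ∃ (H : Type u) (_ : Group H) (φ : P₂ →* H), Function.Surjective φ ∧ φ.ker = Q₂.subgroupOf P₂ ∧ Cfsg.Lie.IsoSuzuki H

end Cfsg.Agent.OddCyclic.T1Defs
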