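import Mathlib
import Cfsg.Agent.MinSimple.Geo_m3
import Cfsg.Agent.Lib.NormalAbelian
import Cfsg.Agent.Lib.SylowNormalInf
import Cfsg.Agent.Lib.SolvableMinNormal
import Cfsg.Agent.Lib.CoprimeAbelian
import Cfsg.Agent.MinSimple.CaseD9_m3
import Cfsg.Agent.Omega.KM.Bridge_m3
import Cfsg.Agent.OddCyclic.CompBasic
import Cfsg.Agent.FastGrp
import Cfsg.Agent.Prune
set_option linter.all false

section
prune_inst 0x7ff0fefbaff8addfffff7e7ffefddffc39d4dfffffdff94bffe1ebffef9f23672be5fbaf8de458fe9ef6e29430b87813f97ec23fa96bdc7ffffd5ff45ffbec1f856fbfa551d7b8341ffe6ffffbf37fbf7f3fffffffffffffffffffffffffffffffffffbfffff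

-- part: MinSimple/BTwoB
section
prune_inst 0xc0100000512000000018001020003c4282000002006b0001e140010605888d41a0010721b86016101112a874003e8068109804690010000020008200413807a90400a2c28048b00001000040c804080c00000000000000000000000000000000000400000
set_option linter.all false
open scoped Cfsg.Agent.FastGrp

-- part: MinSimple/BTwoA
section
/-!
# (E1) with `|V| = 4`: the case `b = 2` (`ws V z` nonabelian), part A

`BTwo T V z`: the situation `Geo T V z` with `ws V z` nonabelian. For the three points `p` of the line `V`: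

* `us V p = C_{ws V p}(V)`, `dd V = ⋂ ws V p`, `rr V = ⟨us V p⟩`, `xx V = ⟨ws V p⟩`;
* `dd V` is elementary abelian, `[dd V, ws V p] ≤ ⟨p⟩`, `ws V p ∩ ws V q = dd V`, `[us V p, us V q] ≤ dd V`;
* `BTwo.exists_eq`, `BTwo.us_le_sup`: `rr V / dd V` is the sum of any two of the three `us V p / dd V`;
* `BTwo.mem_V_of_comm`: an element of `dd V` centralizing one `us V p` is in `V`.
-/

set_option autoImplicit false
set_option linter.dupNamespace false
set_option linter.unusedSectionVars false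

namespace Cfsg.Agent.MinSimple.BTwoA

open Subgroup Cfsg Cfsg.Agent.ZN Cfsg.Agent.MinSimple.Geo
open Cfsg.Agent.ZN.Block (conj_mem_of_normalizer conj_mem_of_normalizer' le_normalizer_of_forall
  mem_normalizer_of)

universe u

variable {G : Type u} [Group G]

/-- `C_{ws V p}(V)` -/
def us (V : Subgroup G) (p : G) : Subgroup G := ws V p ⊓ centralizer (V : Set G)

/-- the intersection of the `ws V p`, `p` a point of `V` -/
def dd (V : Subgroup G) : Subgroup G := ⨅ p : {p : G // p ∈ V ∧ p ≠ 1}, ws V p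

/-- the subgroup generated by the `us V p`, `p` a point of `V` -/
def rr (V : Subgroup G) : Subgroup G := ⨆ p : {p : G // p ∈ V ∧ p ≠ 1}, us V p

/-- the subgroup generated by the `ws V p`, `p` a point of `V` -/
def xx (V : Subgroup G) : Subgroup G := ⨆ p : {p : G // p ∈ V ∧ p ≠ 1}, ws V p

theorem mem_dd {V : Subgroup G} {d : G} : d ∈ dd V ↔ ∀ p ∈ V, p ≠ 1 → d ∈ ws V p := by
  rw [dd, mem_iInf]
  exact ⟨fun h p hp hp1 => h ⟨p, hp, hp1⟩, fun h p => h p p.2.1 p.2.2⟩

theorem us_le_ws (V : Subgroup G) (p : G) : us V p ≤ ws V p := inf_le_left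

theorem us_le_centralizer (V : Subgroup G) (p : G) : us V p ≤ centralizer (V : Set G) := inf_le_right

theorem us_le_rr {V : Subgroup G} {p : G} (hp : p ∈ V) (hp1 : p ≠ 1) : us V p ≤ rr V :=
  le_iSup (fun p : {p : G // p ∈ V ∧ p ≠ 1} => us V p) ⟨p, hp, hp1⟩

theorem ws_le_xx {V : Subgroup G} {p : G} (hp : p ∈ V) (hp1 : p ≠ 1) : ws V p ≤ xx V :=
  le_iSup (fun p : {p : G // p ∈ V ∧ p ≠ 1} => ws V p) ⟨p, hp, hp1⟩

theorem rr_le_centralizer (V : Subgroup G) : rr V ≤ centralizer (V : Set G) :=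
  iSup_le fun p => us_le_centralizer V p

theorem centralizer_le_of_mem {V : Subgroup G} {p : G} (hp : p ∈ V) :
    centralizer (V : Set G) ≤ centralizer ({p} : Set G) :=
  centralizer_le (by simpa using hp)

/-- `C_G(V)` normalizes each `ws V p` -/
theorem centralizer_le_normalizer_ws {V : Subgroup G} {p : G} (hp : p ∈ V) :
    centralizer (V : Set G) ≤ normalizer ((ws V p : Subgroup G) : Set G) :=
  (centralizer_le_of_mem hp).trans (Geo.centralizer_le_normalizer_ws V p)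

theorem comm_V {V : Subgroup G} {g v : G} (hg : g ∈ centralizer (V : Set G)) (hv : v ∈ V) :
    g * v = v * g := (mem_centralizer_iff.mp hg v hv).symm

theorem conj_mem_centralizer {V : Subgroup G} {g c : G} (hg : g ∈ normalizer (V : Set G))
    (hc : c ∈ centralizer (V : Set G)) : g * c * g⁻¹ ∈ centralizer (V : Set G) := by
  rw [mem_centralizer_iff]
  intro v hv
  have hv' : g⁻¹ * v * g ∈ V := by
    have := (mem_normalizer_iff.mp (inv_mem hg) v).mp hv
    rwa [inv_inv] at this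
  have h1 := comm_V hc hv'
  calc v * (g * c * g⁻¹) = g * ((g⁻¹ * v * g) * c) * g⁻¹ := by group
    _ = g * (c * (g⁻¹ * v * g)) * g⁻¹ := by rw [h1]
    _ = g * c * g⁻¹ * v := by group

theorem conj_mem_ws {V : Subgroup G} {g w p : G} (hw : w ∈ ws V p) :
    g * w * g⁻¹ ∈ ws V (g * p * g⁻¹) := by
  rw [← cj_ws]; exact conj_mem_cj hw

theorem conj_mem_us {V : Subgroup G} {g w p : G} (hg : g ∈ normalizer (V : Set G)) (hw : w ∈ us V p) :
    g * w * g⁻¹ ∈ us V (g * p * g⁻¹) := ⟨conj_mem_ws hw.1, conj_mem_centralizer hg hw.2⟩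

theorem cj_us {V : Subgroup G} {g : G} (hg : g ∈ normalizer (V : Set G)) (p : G) :
    cj g (us V p) = us V (g * p * g⁻¹) := by
  ext x
  rw [mem_cj]
  constructor
  · intro h
    have := conj_mem_us hg h
    have e : g * (g⁻¹ * x * g) * g⁻¹ = x := by group
    rwa [e] at this
  · intro h
    have := conj_mem_us (inv_mem hg) h
    have e : g⁻¹ * (g * p * g⁻¹) * g⁻¹⁻¹ = p := by group
    rw [e, inv_inv] at this
    exact this

theorem conj_mem_dd {V : Subgroup G} {g d : G} (hg : g ∈ normalizer (V : Set G)) (hd : d ∈ dd V) :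
    g * d * g⁻¹ ∈ dd V := by
  rw [mem_dd] at hd ⊢
  intro p hp hp1
  have hp' : g⁻¹ * p * g ∈ V := by
    have := (mem_normalizer_iff.mp (inv_mem hg) p).mp hp
    rwa [inv_inv] at this
  have h1 := hd _ hp' (fun e => hp1 (by
    have : p = g * (g⁻¹ * p * g) * g⁻¹ := by group
    rw [this, e]; group))
  have h2 := conj_mem_ws (g := g) h1
  have e : g * (g⁻¹ * p * g) * g⁻¹ = p := by group
  rwa [e] at h2

theorem normalizer_le_normalizer_dd (V : Subgroup G) :
    normalizer (V : Set G) ≤ normalizer ((dd V : Subgroup G) : Set G) :=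
  le_normalizer_of_forall fun _ hg _ hd => conj_mem_dd hg hd

/-- The case `b = 2`. -/
structure BTwo (T V : Subgroup G) (z : G) : Prop extends Geo T V z where
  nonab : ∃ a ∈ ws V z, ∃ b ∈ ws V z, a * b ≠ b * a

namespace BTwo

variable {T V : Subgroup G} {z : G}

theorem point (h : BTwo T V z) {p : G} (hp : p ∈ V) (hp1 : p ≠ 1) : ∃ T' : Subgroup G, BTwo T' V p := by
  obtain ⟨g, hg, rfl, h1⟩ := h.toGeo.point hp hp1
  obtain ⟨a, ha, b, hb, hab⟩ := h.nonab
  refine ⟨cj g T, h1, g * a * g⁻¹, conj_mem_ws ha, g * b * g⁻¹, conj_mem_ws hb, fun e => hab ?_⟩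
  calc a * b = g⁻¹ * (g * a * g⁻¹ * (g * b * g⁻¹)) * g := by group
    _ = g⁻¹ * (g * b * g⁻¹ * (g * a * g⁻¹)) * g := by rw [e]
    _ = b * a := by group

section

variable [Finite G]

theorem exists_w (h : BTwo T V z) : ∃ w ∈ ws V z, w ∉ centralizer (V : Set G) := by
  by_contra hcon
  push Not at hcon
  obtain ⟨a, ha, b, hb, hab⟩ := h.nonab
  apply hab
  have h1 : ∀ L ∈ lines V z, ws V z ≤ centralizer (L : Set G) := by
    intro L hL w hw
    obtain ⟨c, hc, rfl⟩ := h.exists_of_mem_lines hL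
    have hw' : c⁻¹ * w * c ∈ ws V z := by
      have := conj_mem_ws (g := c⁻¹) hw
      rw [inv_inv] at this
      have e : c⁻¹ * z * c = z := by rw [mul_assoc, ← h.z_comm hc, inv_mul_cancel_left]
      rwa [e] at this
    rw [mem_centralizer_iff]
    intro x hx
    have hx' := mem_cj.mp hx
    have h2 := comm_V (hcon _ hw') hx'
    calc x * w = c * (c⁻¹ * x * c * (c⁻¹ * w * c)) * c⁻¹ := by group
      _ = c * (c⁻¹ * w * c * (c⁻¹ * x * c)) * c⁻¹ := by rw [h2]
      _ = w * x := by group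
  have h2 : ws V z ≤ centralizer ({b} : Set G) := by
    refine ws_le fun L hL x hx => ?_
    rw [mem_centralizer_singleton_iff]
    exact mem_centralizer_iff.mp (h1 L hL hb) x hx
  exact mem_centralizer_singleton_iff.mp (h2 ha)

theorem w_move (h : BTwo T V z) {w q : G} (hw : w ∈ ws V z) (hwV : w ∉ centralizer (V : Set G)) (hq : q ∈ V)
    (hq1 : q ≠ 1) (hqz : q ≠ z) : w * q * w⁻¹ = z * q := by
  rcases h.conj_cases h.z_mem hq h.z_ne (h.z_comm (h.ws_le_centralizer hw)) (h.ws_le_normalizer hw)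
    with e | e
  · exfalso
    apply hwV
    rw [mem_centralizer_iff]
    have hwq : q * w = w * q := by
      calc q * w = (w * q * w⁻¹) * w := by rw [e]
        _ = w * q := by group
    have hwz : z * w = w * z := (h.z_comm (h.ws_le_centralizer hw)).symm
    intro v hv
    rcases h.four h.z_mem hq h.z_ne hq1 (Ne.symm hqz) hv with rfl | rfl | rfl | rfl
    · simp
    · exact hwz
    · exact hwq
    · rw [mul_assoc, hwq, ← mul_assoc, hwz, mul_assoc]
  · exact e

theorem us_two (h : BTwo T V z) {w w' : G} (hw : w ∈ ws V z) (hwV : w ∉ centralizer (V : Set G))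
    (hw' : w' ∈ ws V z) (hwV' : w' ∉ centralizer (V : Set G)) : w * w' ∈ us V z := by
  refine ⟨mul_mem hw hw', ?_⟩
  obtain ⟨y, hy, hy1, hyz⟩ := h.exists_y
  have h1 := h.w_move hw hwV hy hy1 hyz
  have h2 := h.w_move hw' hwV' hy hy1 hyz
  have hwz : ∀ w ∈ ws V z, w * z = z * w := fun w hw => h.z_comm (h.ws_le_centralizer hw)
  have hwy : (w * w') * y = y * (w * w') := by
    calc (w * w') * y = w * (w' * y * w'⁻¹) * w' := by group
      _ = (w * z) * y * w' := by rw [h2]; group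
      _ = z * (w * y * w⁻¹) * w * w' := by rw [hwz w hw]; group
      _ = (z * z) * y * (w * w') := by rw [h1]; group
      _ = y * (w * w') := by rw [h.zz, one_mul]
  refine mem_centralizer_iff.mpr fun v hv => ?_
  have hz2 := hwz _ (mul_mem hw hw')
  rcases h.four h.z_mem hy h.z_ne hy1 (Ne.symm hyz) hv with rfl | rfl | rfl | rfl
  · simp
  · exact hz2.symm
  · exact hwy.symm
  · rw [mul_assoc, ← hwy, ← mul_assoc, ← hz2, mul_assoc]

theorem conj_z (h : BTwo T V z) {w : G} (hw : w ∈ ws V z) : w * z * w⁻¹ = z := by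
  rw [h.z_comm (h.ws_le_centralizer hw)]; group

/-- `ws V z ∩ ws V q ≤ dd V` -/
theorem inf_le_dd (h : BTwo T V z) {q : G} (hq : q ∈ V) (hq1 : q ≠ 1) (hqz : q ≠ z) :
    ws V z ⊓ ws V q ≤ dd V := by
  rintro d ⟨hdz, hdq⟩
  rw [mem_dd]
  intro p hp hp1
  rcases h.four h.z_mem hq h.z_ne hq1 (Ne.symm hqz) hp with rfl | rfl | rfl | rfl
  · exact absurd rfl hp1
  · exact hdz
  · exact hdq
  · obtain ⟨w, hw, hwV⟩ := h.exists_w
    have h1 : w * d * w⁻¹ ∈ ws V (z * q) := by
      rw [← h.w_move hw hwV hq hq1 hqz]; exact conj_mem_ws hdq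
    obtain ⟨T', h'⟩ := h.point hp hp1
    rcases h.comm_cases hw (h.ws_le_o2 hdz) with e | e
    · rwa [e, mul_inv_cancel_right] at h1
    · rw [e] at h1
      have h2 : z * (d * w) * w⁻¹ = z * d := by group
      rw [h2] at h1
      have h3 : z ∈ ws V (z * q) := h'.V_le_ws h.z_mem
      have h4 := mul_mem (inv_mem h3) h1
      rwa [inv_mul_cancel_left] at h4

theorem dd_le_ws (_ : BTwo T V z) {p : G} (hp : p ∈ V) (hp1 : p ≠ 1) : dd V ≤ ws V p :=
  fun _ hd => mem_dd.mp hd p hp hp1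

theorem V_le_dd (h : BTwo T V z) : V ≤ dd V := by
  intro v hv
  rw [mem_dd]
  intro p hp hp1
  obtain ⟨T', h'⟩ := h.point hp hp1
  exact h'.V_le_ws hv

theorem dd_le_centralizer (h : BTwo T V z) : dd V ≤ centralizer (V : Set G) := by
  intro d hd
  rw [mem_centralizer_iff]
  intro v hv
  by_cases hv1 : v = 1
  · rw [hv1]; simp
  · obtain ⟨T', h'⟩ := h.point hv hv1
    exact (h'.z_comm (h'.ws_le_centralizer (mem_dd.mp hd v hv hv1))).symm

theorem dd_le_us (h : BTwo T V z) {p : G} (hp : p ∈ V) (hp1 : p ≠ 1) : dd V ≤ us V p :=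
  le_inf (h.dd_le_ws hp hp1) h.dd_le_centralizer

theorem dd_comm (h : BTwo T V z) {a b : G} (ha : a ∈ dd V) (hb : b ∈ dd V) : a * b = b * a := by
  obtain ⟨y, hy, hy1, hyz⟩ := h.exists_y
  obtain ⟨T', h'⟩ := h.point hy hy1
  have ha1 := mem_dd.mp ha z h.z_mem h.z_ne
  have hb1 := mem_dd.mp hb z h.z_mem h.z_ne
  have ha2 := mem_dd.mp ha y hy hy1
  have hb2 := mem_dd.mp hb y hy hy1
  rcases h.comm_cases ha1 (h.ws_le_o2 hb1) with e | e
  · exact e
  · rcases h'.comm_cases ha2 (h'.ws_le_o2 hb2) with e' | e'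
    · exact e'
    · exfalso
      apply hyz
      rw [e] at e'
      exact (mul_right_cancel e').symm

theorem dd_sq (h : BTwo T V z) {a : G} (ha : a ∈ dd V) : a * a = 1 := by
  obtain ⟨y, hy, hy1, hyz⟩ := h.exists_y
  obtain ⟨T', h'⟩ := h.point hy hy1
  rcases h.sq_cases (mem_dd.mp ha z h.z_mem h.z_ne) with e | e
  · exact e
  · rcases h'.sq_cases (mem_dd.mp ha y hy hy1) with e' | e'
    · exact e'
    · exfalso; apply hyz; rw [← e', e]

theorem dd_inv (h : BTwo T V z) {a : G} (ha : a ∈ dd V) : a⁻¹ = a := inv_eq_self (h.dd_sq ha)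

/-- an element of `dd V` commutes with an element of `ws V z` up to `z` -/
theorem dd_ws (h : BTwo T V z) {d w : G} (hd : d ∈ dd V) (hw : w ∈ ws V z) :
    w * d * w⁻¹ = d ∨ w * d * w⁻¹ = z * d := by
  rcases h.comm_cases hw (h.ws_le_o2 (mem_dd.mp hd z h.z_mem h.z_ne)) with e | e
  · left; rw [e]; group
  · right; rw [e]; group

/-- `[us V z, us V q] ≤ dd V` -/
theorem comm_us (h : BTwo T V z) {q a b : G} (hq : q ∈ V) (hq1 : q ≠ 1) (hqz : q ≠ z) (ha : a ∈ us V z)
    (hb : b ∈ us V q) : a * b * a⁻¹ * b⁻¹ ∈ dd V := by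
  apply h.inf_le_dd hq hq1 hqz
  constructor
  · have h1 := conj_mem_of_normalizer (centralizer_le_normalizer_ws h.z_mem) hb.2 (inv_mem ha.1)
    have e : a * b * a⁻¹ * b⁻¹ = a * (b * a⁻¹ * b⁻¹) := by group
    rw [e]; exact mul_mem ha.1 h1
  · exact (ws V q).mul_mem (conj_mem_of_normalizer (centralizer_le_normalizer_ws hq) ha.2 hb.1)
      (inv_mem hb.1)

/-- `[ws V z, us V q] ≤ us V z` -/
theorem comm_ws_us (h : BTwo T V z) {q w u : G} (hw : w ∈ ws V z) (hu : u ∈ us V q) :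
    w * u * w⁻¹ * u⁻¹ ∈ us V z := by
  refine ⟨?_, ?_⟩
  · have h1 := conj_mem_of_normalizer (centralizer_le_normalizer_ws h.z_mem) hu.2 (inv_mem hw)
    have e : w * u * w⁻¹ * u⁻¹ = w * (u * w⁻¹ * u⁻¹) := by group
    rw [e]; exact mul_mem hw h1
  · exact (centralizer (V : Set G)).mul_mem (conj_mem_centralizer (h.ws_le_normalizer hw) hu.2)
      ((centralizer (V : Set G)).inv_mem hu.2)

/-- injectivity of `us V q / dd V → us V z / dd V`, `u ↦ [w, u]` -/
theorem mem_dd_of_comm (h : BTwo T V z) {q w u : G} (hq : q ∈ V) (hq1 : q ≠ 1) (hqz : q ≠ z)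
    (hw : w ∈ ws V z) (hwV : w ∉ centralizer (V : Set G)) (hu : u ∈ us V q)
    (hd : w * u * w⁻¹ * u⁻¹ ∈ dd V) : u ∈ dd V := by
  have hn := h.ws_le_normalizer hw
  have h1 : w * u * w⁻¹ ∈ us V (z * q) := by
    rw [← h.w_move hw hwV hq hq1 hqz]; exact conj_mem_us hn hu
  have h2 : w * u * w⁻¹ ∈ ws V q := by
    have e : w * u * w⁻¹ = (w * u * w⁻¹ * u⁻¹) * u := by group
    rw [e]; exact mul_mem (h.dd_le_ws hq hq1 hd) hu.1
  obtain ⟨T', h'⟩ := h.point hq hq1
  have hzq1 : z * q ≠ 1 := fun e => hqz (by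
    rw [mul_eq_one_iff_eq_inv.mp e, h.inv_eq hq])
  have hzqq : z * q ≠ q := fun e => h.z_ne (by simpa using e)
  have h3 := h'.inf_le_dd (mul_mem h.z_mem hq) hzq1 hzqq ⟨h2, h1.1⟩
  have h4 := conj_mem_dd (inv_mem hn) h3
  have e : w⁻¹ * (w * u * w⁻¹) * w⁻¹⁻¹ = u := by group
  rwa [e] at h4

theorem card_us (h : BTwo T V z) {q : G} (hq : q ∈ V) (hq1 : q ≠ 1) :
    Nat.card (us V q) = Nat.card (us V z) := by
  obtain ⟨g, hg, rfl⟩ := h.trans q hq hq1
  rw [← cj_us hg, card_cj]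

/-- surjectivity of `us V q / dd V → us V z / dd V`, `u ↦ [w, u]` -/
theorem exists_eq (h : BTwo T V z) {q w a : G} (hq : q ∈ V) (hq1 : q ≠ 1) (hqz : q ≠ z)
    (hw : w ∈ ws V z) (hwV : w ∉ centralizer (V : Set G)) (ha : a ∈ us V z) :
    ∃ u ∈ us V q, ∃ d ∈ dd V, a = w * u * w⁻¹ * u⁻¹ * d := by
  have hn := h.ws_le_normalizer hw
  have hcomm : ∀ u ∈ us V q, ∀ v ∈ us V q, w * (u * v) * w⁻¹ * (u * v)⁻¹ =
      (w * u * w⁻¹ * u⁻¹) * (u * (w * v * w⁻¹ * v⁻¹) * u⁻¹) := by
    intro u _ v _; group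
  have hcd : ∀ u ∈ us V q, ∀ d ∈ dd V, u * d * u⁻¹ ∈ dd V := fun u hu d hd =>
    conj_mem_dd (centralizer_le_normalizer _ hu.2) hd
  let φ : (us V q ⧸ (dd V).subgroupOf (us V q)) → (us V z ⧸ (dd V).subgroupOf (us V z)) :=
    Quotient.map' (fun u : us V q => (⟨w * u * w⁻¹ * (u : G)⁻¹, h.comm_ws_us hw u.2⟩ : us V z)) (by
      intro u v huv
      rw [QuotientGroup.leftRel_apply] at huv ⊢
      rw [mem_subgroupOf] at huv ⊢
      change (w * u * w⁻¹ * (u : G)⁻¹)⁻¹ * (w * v * w⁻¹ * (v : G)⁻¹) ∈ dd V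
      have hd : (u : G)⁻¹ * v ∈ dd V := huv
      have e1 : (v : G) = u * ((u : G)⁻¹ * v) := by group
      have h1 := hcomm u u.2 ((u : G)⁻¹ * v) (mul_mem (inv_mem u.2) v.2)
      rw [← e1] at h1
      rw [h1, inv_mul_cancel_left]
      exact hcd u u.2 _ (mul_mem (conj_mem_dd hn hd) (inv_mem hd)))
  have hinj : Function.Injective φ := by
    intro x y
    refine Quotient.inductionOn₂' x y (fun u v huv => ?_)
    have h1 : QuotientGroup.leftRel ((dd V).subgroupOf (us V z))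
        ⟨w * u * w⁻¹ * (u : G)⁻¹, h.comm_ws_us hw u.2⟩ ⟨w * v * w⁻¹ * (v : G)⁻¹, h.comm_ws_us hw v.2⟩ :=
      Quotient.eq''.mp huv
    rw [QuotientGroup.leftRel_apply, mem_subgroupOf] at h1
    refine Quotient.eq''.mpr ?_
    rw [QuotientGroup.leftRel_apply, mem_subgroupOf]
    change (u : G)⁻¹ * v ∈ dd V
    change (w * u * w⁻¹ * (u : G)⁻¹)⁻¹ * (w * v * w⁻¹ * (v : G)⁻¹) ∈ dd V at h1
    have e1 : (v : G) = u * ((u : G)⁻¹ * v) := by group
    have h2 := hcomm u u.2 ((u : G)⁻¹ * v) (mul_mem (inv_mem u.2) v.2)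
    rw [← e1] at h2
    rw [h2, inv_mul_cancel_left] at h1
    have h3 := hcd _ (inv_mem u.2) _ h1
    have e2 : (u : G)⁻¹ * (u * (w * ((u : G)⁻¹ * v) * w⁻¹ * ((u : G)⁻¹ * v)⁻¹) * (u : G)⁻¹) * (u : G)⁻¹⁻¹ =
        w * ((u : G)⁻¹ * v) * w⁻¹ * ((u : G)⁻¹ * v)⁻¹ := by group
    rw [e2] at h3
    exact h.mem_dd_of_comm hq hq1 hqz hw hwV (mul_mem (inv_mem u.2) v.2) h3
  have hcard : Nat.card (us V q ⧸ (dd V).subgroupOf (us V q)) =
      Nat.card (us V z ⧸ (dd V).subgroupOf (us V z)) := by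
    have h1 := Subgroup.card_mul_index ((dd V).subgroupOf (us V q))
    have h2 := Subgroup.card_mul_index ((dd V).subgroupOf (us V z))
    rw [Nat.card_congr (subgroupOfEquivOfLe (h.dd_le_us hq hq1)).toEquiv] at h1
    rw [Nat.card_congr (subgroupOfEquivOfLe (h.dd_le_us h.z_mem h.z_ne)).toEquiv] at h2
    rw [h.card_us hq hq1, ← h2] at h1
    exact Nat.eq_of_mul_eq_mul_left Nat.card_pos h1
  have hsurj : Function.Surjective φ :=
    (hinj.bijective_of_nat_card_le hcard.ge).2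
  obtain ⟨x, hx⟩ := hsurj (Quotient.mk'' ⟨a, ha⟩)
  obtain ⟨u, rfl⟩ := Quotient.mk''_surjective x
  have h1 : QuotientGroup.leftRel ((dd V).subgroupOf (us V z))
      ⟨w * u * w⁻¹ * (u : G)⁻¹, h.comm_ws_us hw u.2⟩ ⟨a, ha⟩ := Quotient.eq''.mp hx
  rw [QuotientGroup.leftRel_apply, mem_subgroupOf] at h1
  refine ⟨u, u.2, _, h1, ?_⟩
  change a = w * u * w⁻¹ * (u : G)⁻¹ * ((w * u * w⁻¹ * (u : G)⁻¹)⁻¹ * a)
  group

end

end BTwo

end Cfsg.Agent.MinSimple.BTwoA
end

-- part: MinSimple/BTwoB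
section
/-!
# (E1) with `|V| = 4`: the case `b = 2`, part B

* `Geo.z_mem_of_le`: a nontrivial subgroup of `T` normalized by `T` contains `z`;
* `Geo.le_kq`: `O₂(C_G(z)/kq V z) = 1`;
* `BTwo.us_le_sup`, `BTwo.rr_eq`: `rr V` is generated by any two of the `us V p`;
* `BTwo.identify`: `w_r u w_r⁻¹ ≡ [w_p, u]` modulo `dd V`;
* `BTwo.mem_V_of_comm`: `C_{dd V}(us V p) = V`;
* `BTwo.o2_inf_ws_le`: `O₂(C_G(z)) ∩ ws V q ≤ dd V`;
* `BTwo.comm_o2_us`: `[O₂(C_G(z)), us V q] ≤ us V z`;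
* `BTwo.center_comm`: `[Z(ws V z), us V q] ≤ ⟨z⟩`.
-/

set_option autoImplicit false
set_option linter.dupNamespace false
set_option linter.unusedSectionVars false
set_option linter.style.haveILetI false

namespace Cfsg.Agent.MinSimple.BTwoB

open Subgroup Cfsg Cfsg.Agent.ZN Cfsg.Agent.MinSimple.Geo Cfsg.Agent.MinSimple.BTwoA
open Cfsg.Agent.ZN.Block (conj_mem_of_normalizer conj_mem_of_normalizer' le_normalizer_of_forall
  mem_normalizer_of)

universe u

variable {G : Type u} [Group G] [Finite G] {T V : Subgroup G} {z : G}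

/-- Frattini argument, relative version -/
theorem exists_mul_of_frattini {C T N : Subgroup G} (hTC : T ≤ C) (hT : IsPGroup 2 T)
    (hs : ¬ 2 ∣ T.relIndex C) (_ : N ≤ C) (hn : C ≤ normalizer (N : Set G)) {c : G} (hc : c ∈ C) :
    ∃ n ∈ N, ∃ m ∈ C, m ∈ normalizer ((T ⊓ N : Subgroup G) : Set G) ∧ c = n * m := by
  haveI : Fact (Nat.Prime 2) := ⟨Nat.prime_two⟩
  have hT' : IsPGroup 2 (T.subgroupOf C) := hT.comap_of_injective _ C.subtype_injective
  haveI hN : (N.subgroupOf C).Normal := normal_subgroupOf_of_le_normalizer hn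
  have h1 := Lib.SylowNormalInf.normalizer_inf_sup_eq_top (hT'.toSylow hs) (N.subgroupOf C)
  have h2 : (⟨c, hc⟩ : C) ∈ normalizer
      ((((hT'.toSylow hs : Sylow 2 C) : Subgroup C) ⊓ N.subgroupOf C : Subgroup C) : Set C) ⊔
      N.subgroupOf C := by rw [h1]; exact mem_top _
  rw [mem_sup_of_normal_right] at h2
  obtain ⟨y, hy, n, hn', hyn⟩ := h2
  have hyn' : (y : G) * n = c := congrArg Subtype.val hyn
  have hmem : ∀ g : G, ∀ hg : g ∈ C, (⟨g, hg⟩ : C) ∈
      (((hT'.toSylow hs : Sylow 2 C) : Subgroup C) ⊓ N.subgroupOf C : Subgroup C) ↔ g ∈ T ⊓ N := by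
    intro g hg
    exact Iff.rfl
  refine ⟨y * n * (y : G)⁻¹, conj_mem_of_normalizer hn y.2 (mem_subgroupOf.mp hn'), y, y.2, ?_, ?_⟩
  · refine mem_normalizer_of (fun m hm => ?_) (fun m hm => ?_)
    · have h3 := (mem_normalizer_iff.mp hy ⟨m, hTC hm.1⟩).mp ((hmem m (hTC hm.1)).mpr hm)
      exact h3
    · have h3 := (mem_normalizer_iff.mp (inv_mem hy) ⟨m, hTC hm.1⟩).mp ((hmem m (hTC hm.1)).mpr hm)
      rw [inv_inv] at h3
      exact h3
  · rw [← hyn']; group

theorem le_sup_inf_of_pow {C T N K : Subgroup G} (_ : T ≤ C) (hT : IsPGroup 2 T)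
    (hs : ¬ 2 ∣ T.relIndex C) (hNC : N ≤ C) (hn : C ≤ normalizer (N : Set G)) (hKC : K ≤ C)
    (hk : C ≤ normalizer (K : Set G)) (h : ∀ x ∈ N, ∃ k : ℕ, x ^ 2 ^ k ∈ K) : N ≤ K ⊔ (T ⊓ N) := by
  haveI : Fact (Nat.Prime 2) := ⟨Nat.prime_two⟩
  have hT' : IsPGroup 2 (T.subgroupOf C) := hT.comap_of_injective _ C.subtype_injective
  haveI hN : (N.subgroupOf C).Normal := normal_subgroupOf_of_le_normalizer hn
  haveI hK : (K.subgroupOf C).Normal := normal_subgroupOf_of_le_normalizer hk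
  have h1 := Lib.SylowNormalInf.le_sup_inf (hT'.toSylow hs) (N.subgroupOf C) (K.subgroupOf C)
    (fun x hx => by
      obtain ⟨k, hk⟩ := h x (mem_subgroupOf.mp hx)
      exact ⟨k, mem_subgroupOf.mpr hk⟩)
  have h2 := Subgroup.map_mono (f := C.subtype) h1
  rw [Subgroup.map_sup, subgroupOf_map_subtype, subgroupOf_map_subtype, inf_eq_left.mpr hNC,
    inf_eq_left.mpr hKC] at h2
  refine h2.trans (sup_le_sup_left ?_ _)
  rintro _ ⟨x, hx, rfl⟩
  exact ⟨hx.1, hx.2⟩

theorem zpowers_conj {z c y : G} (hc : c ∈ centralizer ({z} : Set G)) (hy : y ∈ zpowers z) :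
    c * y * c⁻¹ = y := by
  obtain ⟨n, rfl⟩ := mem_zpowers_iff.mp hy
  have h : Commute c z := mem_centralizer_singleton_iff.mp hc
  rw [(h.zpow_right n).eq, mul_inv_cancel_right]

theorem mem_kq {V : Subgroup G} {x c : G} : c ∈ kq V x ↔ c ∈ centralizer ({x} : Set G) ∧
    (∀ w ∈ ws V x, c * w * c⁻¹ * w⁻¹ ∈ zpowers x) ∧ ∀ w ∈ ws V x, c⁻¹ * w * c * w⁻¹ ∈ zpowers x :=
  Iff.rfl

theorem kq_le (V : Subgroup G) (x : G) : kq V x ≤ centralizer ({x} : Set G) := fun _ h => h.1

theorem centralizer_le_normalizer_kq (V : Subgroup G) (x : G) :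
    centralizer ({x} : Set G) ≤ normalizer ((kq V x : Subgroup G) : Set G) := by
  have hws := Geo.centralizer_le_normalizer_ws V x
  refine le_normalizer_of_forall fun c hc k hk => ?_
  rw [mem_kq] at hk ⊢
  refine ⟨mul_mem (mul_mem hc hk.1) (inv_mem hc), fun w hw => ?_, fun w hw => ?_⟩
  · have h1 := hk.2.1 _ (conj_mem_of_normalizer' hws hc hw)
    have h2 := zpowers_conj hc h1
    have e : c * k * c⁻¹ * w * (c * k * c⁻¹)⁻¹ * w⁻¹ =
        c * (k * (c⁻¹ * w * c) * k⁻¹ * (c⁻¹ * w * c)⁻¹) * c⁻¹ := by group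
    rw [e, h2]; exact h1
  · have h1 := hk.2.2 _ (conj_mem_of_normalizer' hws hc hw)
    have h2 := zpowers_conj hc h1
    have e : (c * k * c⁻¹)⁻¹ * w * (c * k * c⁻¹) * w⁻¹ =
        c * (k⁻¹ * (c⁻¹ * w * c) * k * (c⁻¹ * w * c)⁻¹) * c⁻¹ := by group
    rw [e, h2]; exact h1

/-- `[V, T] ≤ ⟨z⟩` -/
theorem comm_T (h : Geo T V z) {t v : G} (ht : t ∈ T) (hv : v ∈ V) : t * v * t⁻¹ * v⁻¹ ∈ zpowers z := by
  rcases h.conj_cases h.z_mem hv h.z_ne (h.z_comm (h.T_le ht)) (h.T_norm ht) with e | e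
  · rw [e, mul_inv_cancel]; exact one_mem _
  · rw [e, mul_inv_cancel_right]; exact mem_zpowers z

/-- **`O₂(C_G(z)/kq V z) = 1`** -/
theorem le_kq (h : Geo T V z) {N : Subgroup G} (hNC : N ≤ centralizer ({z} : Set G))
    (hn : centralizer ({z} : Set G) ≤ normalizer (N : Set G))
    (h2 : ∀ x ∈ N, ∃ k : ℕ, x ^ 2 ^ k ∈ kq V z) : N ≤ kq V z := by
  set C := centralizer ({z} : Set G) with hC
  have hws : C ≤ normalizer ((ws V z : Subgroup G) : Set G) := Geo.centralizer_le_normalizer_ws V z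
  have hsup : N ≤ kq V z ⊔ (T ⊓ N) :=
    le_sup_inf_of_pow h.T_le h.two h.T_syl hNC hn (kq_le V z) (centralizer_le_normalizer_kq V z) h2
  -- decomposition of the elements of `C`
  have hdec : ∀ c ∈ C, ∃ k ∈ kq V z, ∃ m ∈ C, m ∈ normalizer ((T ⊓ N : Subgroup G) : Set G) ∧
      c = k * m := by
    intro c hc
    obtain ⟨n, hn1, m, hm, hm2, rfl⟩ := exists_mul_of_frattini h.T_le h.two h.T_syl hNC hn hc
    have h3 := hsup hn1
    have h4 : (T ⊓ N : Subgroup G) ≤ normalizer ((kq V z : Subgroup G) : Set G) :=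
      (inf_le_left.trans h.T_le).trans (centralizer_le_normalizer_kq V z)
    rw [← SetLike.mem_coe, coe_mul_of_right_le_normalizer_left _ _ h4] at h3
    obtain ⟨k, hk, t, ht, rfl⟩ := h3
    exact ⟨k, hk, t * m, mul_mem (h.T_le ht.1) hm, mul_mem (le_normalizer ht) hm2, by group⟩
  let A : Subgroup G :=
    { carrier := {w | w ∈ ws V z ∧ ∀ t ∈ T ⊓ N, t * w * t⁻¹ * w⁻¹ ∈ zpowers z}
      mul_mem' := by
        rintro a b ⟨ha, ha1⟩ ⟨hb, hb1⟩
        refine ⟨mul_mem ha hb, fun t ht => ?_⟩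
        have e : t * (a * b) * t⁻¹ * (a * b)⁻¹ =
            (t * a * t⁻¹ * a⁻¹) * (a * (t * b * t⁻¹ * b⁻¹) * a⁻¹) := by group
        rw [e, zpowers_conj (h.ws_le_centralizer ha) (hb1 t ht)]
        exact mul_mem (ha1 t ht) (hb1 t ht)
      one_mem' := ⟨one_mem _, fun t _ => by simp⟩
      inv_mem' := by
        rintro a ⟨ha, ha1⟩
        refine ⟨inv_mem ha, fun t ht => ?_⟩
        have h1 := inv_mem (ha1 t ht)
        have h2 := zpowers_conj (h.ws_le_centralizer (inv_mem ha)) h1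
        have e : t * a⁻¹ * t⁻¹ * a⁻¹⁻¹ = a⁻¹ * (t * a * t⁻¹ * a⁻¹)⁻¹ * a⁻¹⁻¹ := by group
        rw [e, h2]; exact h1 }
  have hA : ws V z ≤ A := by
    refine ws_le fun L hL => ?_
    obtain ⟨c, hc, rfl⟩ := h.exists_of_mem_lines hL
    obtain ⟨k, hk, m, hm, hm2, rfl⟩ := hdec c hc
    intro x hx
    rw [mem_cj] at hx
    set v := (k * m)⁻¹ * x * (k * m) with hv
    have hv' : m * v * m⁻¹ ∈ ws V z := conj_mem_of_normalizer hws hm (h.V_le_ws hx)
    have hv'A : m * v * m⁻¹ ∈ A := by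
      refine ⟨hv', fun t ht => ?_⟩
      have ht' : m⁻¹ * t * m ∈ T ⊓ N := by
        have := (mem_normalizer_iff.mp (inv_mem hm2) t).mp ht
        rwa [inv_inv] at this
      have h1 := comm_T h ht'.1 hx
      have h2 := zpowers_conj hm h1
      have e : t * (m * v * m⁻¹) * t⁻¹ * (m * v * m⁻¹)⁻¹ =
          m * ((m⁻¹ * t * m) * v * (m⁻¹ * t * m)⁻¹ * v⁻¹) * m⁻¹ := by group
      rw [e, h2]; exact h1
    have hzA : ∀ y ∈ zpowers z, y ∈ A := by
      intro y hy
      have hy1 : y ∈ ws V z := by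
        have : zpowers z ≤ ws V z := (zpowers_le).mpr (h.V_le_ws h.z_mem)
        exact this hy
      refine ⟨hy1, fun t ht => ?_⟩
      rw [zpowers_conj (h.T_le ht.1) hy, mul_inv_cancel]; exact one_mem _
    have h3 := (mem_kq.mp hk).2.1 _ hv'
    have e : x = (k * (m * v * m⁻¹) * k⁻¹ * (m * v * m⁻¹)⁻¹) * (m * v * m⁻¹) := by
      rw [hv]; group
    rw [e]
    exact mul_mem (hzA _ h3) hv'A
  have hT : T ⊓ N ≤ kq V z := by
    intro t ht
    rw [mem_kq]
    refine ⟨h.T_le ht.1, fun w hw => (hA hw).2 t ht, fun w hw => ?_⟩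
    have := (hA hw).2 t⁻¹ (inv_mem ht)
    rwa [inv_inv] at this
  exact hsup.trans (sup_le le_rfl hT)

/-- a nontrivial subgroup of `T` normalized by `T` contains `z` -/
theorem z_mem_of_le (h : Geo T V z) {U : Subgroup G} (hU : U ≤ T)
    (hn : T ≤ normalizer (U : Set G)) (hU1 : U ≠ ⊥) : z ∈ U := by
  haveI : Fact (Nat.Prime 2) := ⟨Nat.prime_two⟩
  have hT := h.two
  haveI hUn : (U.subgroupOf T).Normal := normal_subgroupOf_of_le_normalizer hn
  haveI : Group.IsNilpotent T := hT.isNilpotent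
  have hne : (U.subgroupOf T) ≠ ⊥ := by
    intro e
    apply hU1
    rw [subgroupOf_eq_bot, disjoint_iff, inf_eq_left.mpr hU] at e
    exact e
  have h1 := Lib.NormalAbelian.normal_inf_center_ne_bot (U.subgroupOf T) hne
  obtain ⟨x, hx1⟩ := (Subgroup.ne_bot_iff_exists_ne_one).mp h1
  have hx := x.2
  obtain ⟨k, hk⟩ := hT (x : T)
  have hx1' : (x : T) ≠ 1 := fun e => hx1 (Subtype.ext e)
  -- an involution among the powers of `x`
  have hex : ∃ n : ℕ, (x : T) ^ 2 ^ n = 1 := ⟨k, hk⟩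
  classical
  set n := Nat.find hex with hn'
  have hn1 : (x : T) ^ 2 ^ n = 1 := Nat.find_spec hex
  have hn0 : n ≠ 0 := by
    intro e
    rw [e] at hn1
    apply hx1'
    simpa using hn1
  obtain ⟨m, hm⟩ := Nat.exists_eq_succ_of_ne_zero hn0
  set y := (x : T) ^ 2 ^ m with hy
  have hy1 : y ≠ 1 := Nat.find_min hex (by omega)
  have hy2 : y * y = 1 := by
    rw [hy, ← pow_two, ← pow_mul, ← pow_succ]
    rw [hm] at hn1
    exact hn1
  have hyU : y ∈ U.subgroupOf T := pow_mem hx.1 _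
  have hyc : y ∈ center T := pow_mem hx.2 _
  rcases h.soc y y.2 (by simpa using congrArg Subtype.val hy2)
    (fun s hs => by
      have := mem_center_iff.mp hyc ⟨s, hs⟩
      exact congrArg Subtype.val this) with e | e
  · exact absurd (Subtype.ext e) hy1
  · rw [← e]; exact mem_subgroupOf.mp hyU

namespace BTwo

/-- `C_T(xx V) = 1` -/
theorem T_inf_centralizer_xx (h : BTwo T V z) : T ⊓ centralizer (xx V : Set G) = ⊥ := by
  by_contra hne
  have hxn : normalizer (V : Set G) ≤ normalizer (centralizer (xx V : Set G) : Set G) := by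
    have h1 : normalizer (V : Set G) ≤ normalizer ((xx V : Subgroup G) : Set G) := by
      intro g hg
      rw [mem_normalizer_iff_cj]
      have key : ∀ g ∈ normalizer (V : Set G), cj g (xx V) ≤ xx V := by
        intro g hg
        rw [cj_le_iff]
        refine iSup_le fun p => ?_
        rw [← cj_le_iff, cj_ws]
        refine ws_le_xx ((mem_normalizer_iff.mp hg _).mp p.2.1) (fun e => p.2.2 ?_)
        have : (p : G) = g⁻¹ * (g * p * g⁻¹) * g := by group
        rw [this, e]; group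
      refine le_antisymm (key g hg) ?_
      have := key g⁻¹ (inv_mem hg)
      rwa [cj_le_iff, inv_inv] at this
    refine h1.trans ?_
    refine le_normalizer_of_forall fun g hg c hc => ?_
    rw [mem_centralizer_iff] at hc ⊢
    intro x hx
    have h2 := hc _ (conj_mem_of_normalizer' le_rfl hg hx)
    calc x * (g * c * g⁻¹) = g * ((g⁻¹ * x * g) * c) * g⁻¹ := by group
      _ = g * (c * (g⁻¹ * x * g)) * g⁻¹ := by rw [h2]
      _ = g * c * g⁻¹ * x := by group
  have h1 := z_mem_of_le h.toGeo (U := T ⊓ centralizer (xx V : Set G)) inf_le_left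
    (le_normalizer_of_forall fun t ht c hc =>
      ⟨T.mul_mem (T.mul_mem ht hc.1) (T.inv_mem ht), conj_mem_of_normalizer hxn (h.T_norm ht) hc.2⟩) hne
  obtain ⟨y, hy, hy1, hyz⟩ := h.exists_y
  obtain ⟨T', h'⟩ := h.point hy hy1
  obtain ⟨w, hw, hwV⟩ := h'.exists_w
  have h2 := h'.w_move hw hwV h.z_mem h.z_ne (Ne.symm hyz)
  have h3 := mem_centralizer_iff.mp h1.2 w (ws_le_xx hy hy1 hw)
  rw [h3, mul_inv_cancel_right] at h2
  exact hy1 (by simpa using h2.symm)

/-- an element of `dd V` commuting with `us V z` commutes with `us V q` -/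
theorem comm_us_of_comm (h : BTwo T V z) {d q : G} (hd : d ∈ dd V) (hc : ∀ u ∈ us V z, u * d = d * u)
    (hq : q ∈ V) (hq1 : q ≠ 1) : ∀ u ∈ us V q, u * d = d * u := by
  intro u hu
  by_cases hqz : q = z
  · rw [hqz] at hu; exact hc u hu
  -- the third point
  have hr : z * q ∈ V := mul_mem h.z_mem hq
  have hr1 : z * q ≠ 1 := fun e => hqz (by
    have := mul_eq_one_iff_eq_inv.mp e
    rw [h.inv_eq hq] at this; exact this.symm)
  obtain ⟨T', h'⟩ := h.point hr hr1
  obtain ⟨w, hw, hwV⟩ := h'.exists_w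
  have hzr : z ≠ z * q := fun e => hq1 (by simpa using e.symm)
  have h1 : w * z * w⁻¹ = q := by
    rw [h'.w_move hw hwV h.z_mem h.z_ne hzr, h.comm h.z_mem hq, mul_assoc, h.zz, mul_one]
  have h2 : w⁻¹ * q * w = z := by rw [← h1]; group
  have hn := h'.ws_le_normalizer hw
  have h3 : w⁻¹ * u * w ∈ us V z := by
    have := conj_mem_us (inv_mem hn) hu
    rw [inv_inv, h2] at this
    exact this
  have h4 := hc _ h3
  have h5 : w * d * w⁻¹ = d ∨ w * d * w⁻¹ = z * q * d := h'.dd_ws hd hw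
  have h6 : u * (w * d * w⁻¹) = (w * d * w⁻¹) * u := by
    calc u * (w * d * w⁻¹) = w * ((w⁻¹ * u * w) * d) * w⁻¹ := by group
      _ = w * (d * (w⁻¹ * u * w)) * w⁻¹ := by rw [h4]
      _ = (w * d * w⁻¹) * u := by group
  rcases h5 with e | e
  · rwa [e] at h6
  · rw [e] at h6
    have h7 : u * (z * q) = z * q * u := comm_V hu.2 hr
    have h8 : z * q * (u * d) = z * q * (d * u) := by
      calc z * q * (u * d) = (z * q * u) * d := by group
        _ = u * (z * q * d) := by rw [← h7]; group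
        _ = z * q * (d * u) := by rw [h6]; group
    exact mul_left_cancel h8

/-- **`C_{dd V}(us V z) = V`** -/
theorem mem_V_of_comm (h : BTwo T V z) {d : G} (hd : d ∈ dd V) (hc : ∀ u ∈ us V z, u * d = d * u) :
    d ∈ V := by
  obtain ⟨y, hy, hy1, hyz⟩ := h.exists_y
  obtain ⟨T', h'⟩ := h.point hy hy1
  obtain ⟨w1, hw1, hw1V⟩ := h.exists_w
  obtain ⟨w2, hw2, hw2V⟩ := h'.exists_w
  have hcy := comm_us_of_comm h hd hc hy hy1
  have m1 : w1 * y * w1⁻¹ = z * y := h.w_move hw1 hw1V hy hy1 hyz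
  have m2 : w2 * z * w2⁻¹ = y * z := h'.w_move hw2 hw2V h.z_mem h.z_ne (Ne.symm hyz)
  have n1 : w1 * z * w1⁻¹ = z := h.conj_z hw1
  have n2 : w2 * y * w2⁻¹ = y := h'.conj_z hw2
  have hyz' : y * z = z * y := h.comm hy h.z_mem
  have hVd : ∀ v ∈ V, v * d = d * v := fun v hv => (comm_V (h.dd_le_centralizer hd) hv).symm
  -- an element `v` of `V` such that `d * v` commutes with `w1` and `w2`
  obtain ⟨v, hv, e1, e2⟩ : ∃ v ∈ V, w1 * (d * v) * w1⁻¹ = d * v ∧ w2 * (d * v) * w2⁻¹ = d * v := by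
    have f1 : ∀ v, w1 * (d * v) * w1⁻¹ = (w1 * d * w1⁻¹) * (w1 * v * w1⁻¹) := fun v => by group
    have f2 : ∀ v, w2 * (d * v) * w2⁻¹ = (w2 * d * w2⁻¹) * (w2 * v * w2⁻¹) := fun v => by group
    rcases h.dd_ws hd hw1 with g1 | g1 <;> rcases h'.dd_ws hd hw2 with g2 | g2
    · exact ⟨1, one_mem _, by simp [g1], by simp [g2]⟩
    · refine ⟨z, h.z_mem, ?_, ?_⟩
      · rw [f1, g1, n1]
      · rw [f2, g2, m2, hVd y hy]
        calc d * y * (y * z) = d * (y * y) * z := by group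
          _ = d * z := by rw [h.sq y hy, mul_one]
    · refine ⟨y, hy, ?_, ?_⟩
      · rw [f1, g1, m1, hVd z h.z_mem]
        calc d * z * (z * y) = d * (z * z) * y := by group
          _ = d * y := by rw [h.zz, mul_one]
      · rw [f2, g2, n2]
    · refine ⟨z * y, mul_mem h.z_mem hy, ?_, ?_⟩
      · have : w1 * (z * y) * w1⁻¹ = y := by
          calc w1 * (z * y) * w1⁻¹ = (w1 * z * w1⁻¹) * (w1 * y * w1⁻¹) := by group
            _ = (z * z) * y := by rw [n1, m1]; group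
            _ = y := by rw [h.zz, one_mul]
        rw [f1, g1, this, hVd z h.z_mem, mul_assoc]
      · have : w2 * (z * y) * w2⁻¹ = z := by
          calc w2 * (z * y) * w2⁻¹ = (w2 * z * w2⁻¹) * (w2 * y * w2⁻¹) := by group
            _ = z * (y * y) := by rw [m2, n2, hyz']; group
            _ = z := by rw [h.sq y hy, mul_one]
        rw [f2, g2, this, hVd y hy, mul_assoc, hyz']
  set e := d * v with he
  have hev : ∀ p ∈ V, p ≠ 1 → ∀ u ∈ us V p, u * e = e * u := by
    intro p hp hp1 u hu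
    have h1 := comm_us_of_comm h hd hc hp hp1 u hu
    rw [he, ← mul_assoc, h1, mul_assoc, comm_V hu.2 hv, ← mul_assoc]
  have hcomm1 : ∀ w ∈ ws V z, w * e = e * w := by
    have hw1e : w1 * e = e * w1 := by
      calc w1 * e = (w1 * e * w1⁻¹) * w1 := by group
        _ = e * w1 := by rw [e1]
    intro w hw
    by_cases hwV : w ∈ centralizer (V : Set G)
    · exact hev z h.z_mem h.z_ne w ⟨hw, hwV⟩
    · have h1 := h.us_two (inv_mem hw1) (fun hh => hw1V ((inv_mem_iff).mp hh)) hw hwV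
      have h2 := hev z h.z_mem h.z_ne _ h1
      calc w * e = w1 * ((w1⁻¹ * w) * e) := by group
        _ = (w1 * e) * (w1⁻¹ * w) := by rw [h2]; group
        _ = e * w := by rw [hw1e]; group
  have hcomm2 : ∀ w ∈ ws V y, w * e = e * w := by
    have hw2e : w2 * e = e * w2 := by
      calc w2 * e = (w2 * e * w2⁻¹) * w2 := by group
        _ = e * w2 := by rw [e2]
    intro w hw
    by_cases hwV : w ∈ centralizer (V : Set G)
    · exact hev y hy hy1 w ⟨hw, hwV⟩
    · have h1 := h'.us_two (inv_mem hw2) (fun hh => hw2V ((inv_mem_iff).mp hh)) hw hwV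
      have h2 := hev y hy hy1 _ h1
      calc w * e = w2 * ((w2⁻¹ * w) * e) := by group
        _ = (w2 * e) * (w2⁻¹ * w) := by rw [h2]; group
        _ = e * w := by rw [hw2e]; group
  have hxx : xx V ≤ centralizer ({e} : Set G) := by
    refine iSup_le fun p w hw => ?_
    rw [mem_centralizer_singleton_iff]
    rcases h.four h.z_mem hy h.z_ne hy1 (Ne.symm hyz) p.2.1 with h1 | h1 | h1 | h1
    · exact absurd h1 p.2.2
    · rw [h1] at hw; exact hcomm1 w hw
    · rw [h1] at hw; exact hcomm2 w hw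
    · rw [h1, ← m1] at hw
      have h2 := conj_mem_ws (g := w1⁻¹) hw
      have e3 : w1⁻¹ * (w1 * y * w1⁻¹) * w1⁻¹⁻¹ = y := by group
      rw [e3, inv_inv] at h2
      have h3 := hcomm2 _ h2
      have hw1e := hcomm1 w1 hw1
      have hw1e' : w1⁻¹ * e = e * w1⁻¹ := hcomm1 _ (inv_mem hw1)
      calc w * e = w1 * (w1⁻¹ * w * w1) * (w1⁻¹ * e) := by group
        _ = w1 * ((w1⁻¹ * w * w1) * e) * w1⁻¹ := by rw [hw1e']; group
        _ = (w1 * e) * (w1⁻¹ * w * w1) * w1⁻¹ := by rw [h3]; group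
        _ = e * w := by rw [hw1e]; group
  have heT : e ∈ T := h.ws_le_T (mul_mem (mem_dd.mp hd z h.z_mem h.z_ne) (h.V_le_ws hv))
  have h1 : e ∈ T ⊓ centralizer (xx V : Set G) :=
    ⟨heT, mem_centralizer_iff.mpr fun x hx => mem_centralizer_singleton_iff.mp (hxx hx)⟩
  rw [T_inf_centralizer_xx h, mem_bot] at h1
  have h2 : d = v⁻¹ := eq_inv_of_mul_eq_one_left h1
  rw [h2]; exact inv_mem hv

/-- general form: `C_{dd V}(us V q) = V` -/
theorem mem_V_of_comm' (h : BTwo T V z) {d q : G} (hd : d ∈ dd V) (hq : q ∈ V) (hq1 : q ≠ 1)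
    (hc : ∀ u ∈ us V q, u * d = d * u) : d ∈ V := by
  obtain ⟨T', h'⟩ := h.point hq hq1
  exact mem_V_of_comm h' hd hc

/-- `O₂(C_G(z)) ∩ ws V q ≤ dd V` -/
theorem o2_inf_ws_le (h : BTwo T V z) {q : G} (hq : q ∈ V) (hq1 : q ≠ 1) (hqz : q ≠ z) :
    o2 (centralizer ({z} : Set G)) ⊓ ws V q ≤ dd V := by
  rintro d ⟨hd1, hd2⟩
  obtain ⟨T', h'⟩ := h.point hq hq1
  have hdz : d * z = z * d := h.z_comm (o2_le _ hd1)
  have hdq : d * q = q * d := h'.z_comm (h'.ws_le_centralizer hd2)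
  have hdV : d ∈ centralizer (V : Set G) := by
    rw [mem_centralizer_iff]
    intro v hv
    rcases h.four h.z_mem hq h.z_ne hq1 (Ne.symm hqz) hv with rfl | rfl | rfl | rfl
    · simp
    · exact hdz.symm
    · exact hdq.symm
    · rw [mul_assoc, ← hdq, ← mul_assoc, ← hdz, mul_assoc]
  obtain ⟨w, hw, hwV⟩ := h.exists_w
  refine h.mem_dd_of_comm hq hq1 hqz hw hwV ⟨hd2, hdV⟩ ?_
  have h1 := h.comm_mem hw hd1
  have h2 : zpowers z ≤ dd V := (zpowers_le).mpr (h.V_le_dd h.z_mem)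
  exact h2 h1

/-- `us V z ≤ us V q ⊔ us V (z * q)` -/
theorem us_le_sup (h : BTwo T V z) {q : G} (hq : q ∈ V) (hq1 : q ≠ 1) (hqz : q ≠ z) :
    us V z ≤ us V q ⊔ us V (z * q) := by
  intro a ha
  obtain ⟨w, hw, hwV⟩ := h.exists_w
  obtain ⟨u, hu, d, hd, rfl⟩ := h.exists_eq hq hq1 hqz hw hwV ha
  have h1 : w * u * w⁻¹ ∈ us V (z * q) := by
    rw [← h.w_move hw hwV hq hq1 hqz]
    exact conj_mem_us (h.ws_le_normalizer hw) hu
  exact mul_mem (mul_mem (mem_sup_right h1) (mem_sup_left (inv_mem hu)))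
    (mem_sup_left (h.dd_le_us hq hq1 hd))

/-- `rr V` is generated by `us V z` and `us V q` -/
theorem rr_eq (h : BTwo T V z) {q : G} (hq : q ∈ V) (hq1 : q ≠ 1) (hqz : q ≠ z) :
    rr V = us V z ⊔ us V q := by
  apply le_antisymm
  · refine iSup_le fun p => ?_
    rcases h.four h.z_mem hq h.z_ne hq1 (Ne.symm hqz) p.2.1 with h1 | h1 | h1 | h1
    · exact absurd h1 p.2.2
    · rw [h1]; exact le_sup_left
    · rw [h1]; exact le_sup_right
    · obtain ⟨T', h'⟩ := h.point p.2.1 p.2.2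
      rw [h1] at h' ⊢
      have hzr : z ≠ z * q := fun e => hq1 (by simpa using e.symm)
      have := us_le_sup h' h.z_mem h.z_ne hzr
      have e : z * q * z = q := by rw [h.comm h.z_mem hq, mul_assoc, h.zz, mul_one]
      rwa [e] at this
  · exact sup_le (us_le_rr h.z_mem h.z_ne) (us_le_rr hq hq1)

/-- identification of `us V q / dd V` with `us V z / dd V`: `w_r u w_r⁻¹ ≡ [w_z, u]` -/
theorem identify (h : BTwo T V z) {q u w w' : G} (hq : q ∈ V) (hq1 : q ≠ 1) (hqz : q ≠ z)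
    (hw : w ∈ ws V z) (hwV : w ∉ centralizer (V : Set G)) (hw' : w' ∈ ws V (z * q))
    (hwV' : w' ∉ centralizer (V : Set G)) (hu : u ∈ us V q) :
    (w * u * w⁻¹ * u⁻¹)⁻¹ * (w' * u * w'⁻¹) ∈ dd V := by
  have hr : z * q ∈ V := mul_mem h.z_mem hq
  have hr1 : z * q ≠ 1 := fun e => hqz (by
    have := mul_eq_one_iff_eq_inv.mp e
    rw [h.inv_eq hq] at this; exact this.symm)
  have hzr : z ≠ z * q := fun e => hq1 (by simpa using e.symm)
  have hqr : q ≠ z * q := fun e => h.z_ne (by simpa using e.symm)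
  obtain ⟨T', h'⟩ := h.point hr hr1
  have hn := h.ws_le_normalizer hw
  have hn' := h'.ws_le_normalizer hw'
  have ez : w' * z * w'⁻¹ = q := by
    rw [h'.w_move hw' hwV' h.z_mem h.z_ne hzr, h.comm h.z_mem hq, mul_assoc, h.zz, mul_one]
  have eq : w' * q * w'⁻¹ = z := by
    rw [h'.w_move hw' hwV' hq hq1 hqr, mul_assoc, h.sq q hq, mul_one]
  set c := w * u * w⁻¹ * u⁻¹ with hc
  have hcz : c ∈ us V z := h.comm_ws_us hw hu
  have hcu : c * u ∈ us V (z * q) := by
    have : c * u = w * u * w⁻¹ := by rw [hc]; group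
    rw [this, ← h.w_move hw hwV hq hq1 hqz]
    exact conj_mem_us hn hu
  -- `w'` centralizes `c * u` modulo `zpowers (z * q) ≤ dd V`
  have h1 : w' * (c * u) * w'⁻¹ * (c * u)⁻¹ ∈ dd V := by
    have h2 := h'.comm_mem hw' (h'.ws_le_o2 hcu.1)
    have h3 : zpowers (z * q) ≤ dd V := (zpowers_le).mpr (h.V_le_dd hr)
    exact h3 h2
  set e := w' * u * w'⁻¹ with he
  set f := w' * c * w'⁻¹ with hf
  have hez : e ∈ us V z := by
    have := conj_mem_us hn' hu; rwa [eq] at this
  have hfq : f ∈ us V q := by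
    have := conj_mem_us hn' hcz; rwa [ez] at this
  have h2 : w' * (c * u) * w'⁻¹ = f * e := by rw [he, hf]; group
  rw [h2] at h1
  -- `c⁻¹ e` lies in `us V z` and in `us V q`
  apply h.inf_le_dd hq hq1 hqz
  refine ⟨(ws V z).mul_mem ((ws V z).inv_mem hcz.1) hez.1, ?_⟩
  -- `f e u⁻¹ c⁻¹ ∈ dd V`, so `c⁻¹ e = c⁻¹ f⁻¹ δ c u = ...`
  set δ := f * e * (c * u)⁻¹ with hδ
  have h3 : c⁻¹ * e = (c⁻¹ * f⁻¹ * c * f) * (f⁻¹ * (c⁻¹ * δ * c) * u) := by
    rw [hδ]; group
  rw [h3]
  have h4 : c⁻¹ * f⁻¹ * c * f ∈ ws V q := by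
    have h5 := conj_mem_of_normalizer (centralizer_le_normalizer_ws hq)
      ((centralizer (V : Set G)).inv_mem hcz.2) ((ws V q).inv_mem hfq.1)
    rw [inv_inv] at h5
    exact (ws V q).mul_mem h5 hfq.1
  have h6 : c⁻¹ * δ * c ∈ dd V := by
    have := conj_mem_dd (centralizer_le_normalizer _ ((centralizer (V : Set G)).inv_mem hcz.2)) h1
    rwa [inv_inv] at this
  exact (ws V q).mul_mem h4 ((ws V q).mul_mem ((ws V q).mul_mem ((ws V q).inv_mem hfq.1)
    (h.dd_le_ws hq hq1 h6)) hu.1)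

end BTwo

end Cfsg.Agent.MinSimple.BTwoB
end

private theorem dce_c9816e49701f : _root_.True := by
  try have : _root_.True := by simp only [_root_.Cfsg.Agent.MinSimple.BTwoA.dd.eq_1]
  exact _root_.True.intro
end

-- part: MinSimple/BTwoD
section
prune_inst 0xd0000100452200000000001020003c0280000002006b0000e1000102010809408000072008201410100220000004006002900460000000000000000000200729000080000000a000000000000004080c00000000000000000000000000000000000400000
set_option linter.all false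
open scoped Cfsg.Agent.FastGrp

-- part: MinSimple/BTwoC
section
/-!
# (E1) with `|V| = 4`: the case `b = 2`, part C

* `BTwo.us_inf_kq_le`, `BTwo.mem_zpowers_of_comm`, `BTwo.mem_V_of_comm_zpowers`;
* `BTwo.center_comm`: `[Z(ws V z), us V q] ≤ ⟨z⟩`;
* `BTwo.comm_o2_us`: `[O₂(C_G(z)), us V q] ≤ us V z`;
* `ax V z q = ⟨(us V q)^{C_G(z)}⟩`, `BTwo.ax_inf_kq_le`: `ax ∩ kq ≤ O₂(C_G(z))`;
* `BTwo.exists_transvection`;
* `Geo.odd_lines`: the number of lines through `z` is odd.
-/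

set_option autoImplicit false
set_option linter.dupNamespace false
set_option linter.unusedSectionVars false
set_option linter.style.haveILetI false

namespace Cfsg.Agent.MinSimple.BTwoC

open Subgroup Cfsg Cfsg.Agent.ZN Cfsg.Agent.MinSimple.Geo Cfsg.Agent.MinSimple.BTwoA
open Cfsg.Agent.MinSimple.BTwoB
open Cfsg.Agent.ZN.Block (conj_mem_of_normalizer conj_mem_of_normalizer' le_normalizer_of_forall
  mem_normalizer_of)

universe u

variable {G : Type u} [Group G] [Finite G] {T V : Subgroup G} {z : G}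

theorem zpowers_le_dd (h : BTwo T V z) {p : G} (hp : p ∈ V) : zpowers p ≤ dd V :=
  (zpowers_le).mpr (h.V_le_dd hp)

/-- the kernel of `us V q` on `ws V z / ⟨z⟩` is `dd V` -/
theorem us_inf_kq_le (h : BTwo T V z) {q : G} (hq : q ∈ V) (hq1 : q ≠ 1) (hqz : q ≠ z) :
    us V q ⊓ kq V z ≤ dd V := by
  rintro u ⟨hu, hk⟩
  obtain ⟨w, hw, hwV⟩ := h.exists_w
  refine h.mem_dd_of_comm hq hq1 hqz hw hwV hu ?_
  have h1 := (mem_kq.mp hk).2.1 w hw
  have e : w * u * w⁻¹ * u⁻¹ = (u * w * u⁻¹ * w⁻¹)⁻¹ := by group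
  rw [e]
  exact zpowers_le_dd h h.z_mem (inv_mem h1)

/-- `dd V ∩ Z(ws V z) = ⟨z⟩` -/
theorem mem_zpowers_of_comm (h : BTwo T V z) {d : G} (hd : d ∈ dd V) (hc : ∀ w ∈ ws V z, w * d = d * w) :
    d ∈ zpowers z := by
  have hdV := BTwo.mem_V_of_comm h hd (fun u hu => hc u hu.1)
  obtain ⟨w, hw, hwV⟩ := h.exists_w
  by_cases hd1 : d = 1
  · rw [hd1]; exact one_mem _
  by_cases hdz : d = z
  · rw [hdz]; exact mem_zpowers z
  exfalso
  have h1 := h.w_move hw hwV hdV hd1 hdz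
  rw [hc w hw, mul_inv_cancel_right] at h1
  exact h.z_ne (by simpa using h1.symm)

/-- `C_{dd V/⟨z⟩}(us V q) = V/⟨z⟩` -/
theorem mem_V_of_comm_zpowers (h : BTwo T V z) {d q : G} (hq : q ∈ V) (hq1 : q ≠ 1) (hqz : q ≠ z)
    (hd : d ∈ dd V) (hc : ∀ u ∈ us V q, u * d * u⁻¹ * d⁻¹ ∈ zpowers z) : d ∈ V := by
  refine BTwo.mem_V_of_comm' h hd hq hq1 (fun u hu => ?_)
  obtain ⟨T', h'⟩ := h.point hq hq1
  have h1 := (mem_zpowers_iff_of_mul_self h.zz).mp (hc u hu)
  rcases h'.dd_ws hd hu.1 with e | e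
  · calc u * d = (u * d * u⁻¹) * u := by group
      _ = d * u := by rw [e]
  · exfalso
    rw [e, mul_inv_cancel_right] at h1
    rcases h1 with h1 | h1
    · exact hq1 h1
    · exact hqz h1

/-- `[Z(ws V z), us V q] ≤ ⟨z⟩` -/
theorem center_comm (h : BTwo T V z) {q x u : G} (hq : q ∈ V) (hq1 : q ≠ 1) (hqz : q ≠ z)
    (hx : x ∈ ws V z) (hxc : ∀ w ∈ ws V z, w * x = x * w) (hu : u ∈ us V q) :
    x * u * x⁻¹ * u⁻¹ ∈ zpowers z := by
  have hxV : x ∈ centralizer (V : Set G) := by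
    rw [mem_centralizer_iff]
    exact fun v hv => hxc v (h.V_le_ws hv)
  have h1 := h.comm_us hq hq1 hqz ⟨hx, hxV⟩ hu
  refine mem_zpowers_of_comm h h1 (fun w hw => ?_)
  have hn := _root_.Cfsg.Agent.MinSimple.BTwoA.centralizer_le_normalizer_ws h.z_mem hu.2
  -- `u x⁻¹ u⁻¹` is central in `ws V z`
  have h2 : w * (u * x⁻¹ * u⁻¹) = (u * x⁻¹ * u⁻¹) * w := by
    have h3 := hxc _ (conj_mem_of_normalizer' le_rfl hn hw)
    have h4 : (u⁻¹ * w * u) * x⁻¹ = x⁻¹ * (u⁻¹ * w * u) := by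
      calc (u⁻¹ * w * u) * x⁻¹ = x⁻¹ * (x * (u⁻¹ * w * u)) * x⁻¹ := by group
        _ = x⁻¹ * ((u⁻¹ * w * u) * x) * x⁻¹ := by rw [h3]
        _ = x⁻¹ * (u⁻¹ * w * u) := by group
    calc w * (u * x⁻¹ * u⁻¹) = u * ((u⁻¹ * w * u) * x⁻¹) * u⁻¹ := by group
      _ = u * (x⁻¹ * (u⁻¹ * w * u)) * u⁻¹ := by rw [h4]
      _ = (u * x⁻¹ * u⁻¹) * w := by group
  calc w * (x * u * x⁻¹ * u⁻¹) = (w * x) * (u * x⁻¹ * u⁻¹) := by group
    _ = x * (w * (u * x⁻¹ * u⁻¹)) := by rw [hxc w hw]; group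
    _ = x * u * x⁻¹ * u⁻¹ * w := by rw [h2]; group

/-- `us V z` normalizes `us V q` -/
theorem us_le_normalizer_us {V : Subgroup G} {z q : G} (hq : q ∈ V) :
    us V z ≤ normalizer ((us V q : Subgroup G) : Set G) := by
  refine le_normalizer_of_forall fun a ha u hu => ?_
  have h1 := conj_mem_us (centralizer_le_normalizer _ ha.2) hu
  have e : a * q * a⁻¹ = q := by rw [comm_V ha.2 hq]; group
  rwa [e] at h1

/-- `[O₂(C_G(z)), us V q] ≤ us V z` -/
theorem comm_o2_us (h : BTwo T V z) {q g u : G} (hq : q ∈ V) (hq1 : q ≠ 1) (hqz : q ≠ z)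
    (hg : g ∈ o2 (centralizer ({z} : Set G))) (hu : u ∈ us V q) : g * u * g⁻¹ * u⁻¹ ∈ us V z := by
  have hgT := h.o2_le_T hg
  have hgn := h.T_norm hgT
  have h1 : g * u * g⁻¹ ∈ rr V := by
    have h2 := conj_mem_us hgn hu
    refine us_le_rr ((mem_normalizer_iff.mp hgn q).mp hq) (fun e => hq1 ?_) h2
    have : q = g⁻¹ * (g * q * g⁻¹) * g := by group
    rw [this, e]; group
  have h2 : g * u * g⁻¹ * u⁻¹ ∈ rr V := mul_mem h1 (inv_mem (us_le_rr hq hq1 hu))
  have huC : u ∈ centralizer ({z} : Set G) := centralizer_le_of_mem h.z_mem hu.2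
  have h3 : g * u * g⁻¹ * u⁻¹ ∈ o2 (centralizer ({z} : Set G)) := by
    have h4 := conj_mem_of_normalizer (ZN.le_normalizer_o2 _) huC (inv_mem hg)
    have e : g * u * g⁻¹ * u⁻¹ = g * (u * g⁻¹ * u⁻¹) := by group
    rw [e]; exact mul_mem hg h4
  rw [BTwo.rr_eq h hq hq1 hqz, ← SetLike.mem_coe,
    coe_mul_of_left_le_normalizer_right _ _ (us_le_normalizer_us hq)] at h2
  obtain ⟨a, ha, b, hb, hab⟩ := h2
  have hab' : a * b = g * u * g⁻¹ * u⁻¹ := hab
  have hbo : b ∈ o2 (centralizer ({z} : Set G)) := by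
    have e : b = a⁻¹ * (a * b) := by group
    rw [e, hab']
    exact mul_mem (inv_mem (h.ws_le_o2 ha.1)) h3
  have hbd : b ∈ dd V := BTwo.o2_inf_ws_le h hq hq1 hqz ⟨hbo, hb.1⟩
  rw [← hab']
  exact mul_mem ha (h.dd_le_us h.z_mem h.z_ne hbd)

/-- the normal closure of `us V q` in `C_G(z)` -/
def ax (V : Subgroup G) (z q : G) : Subgroup G := ⨆ c : centralizer ({z} : Set G), cj (c : G) (us V q)

theorem us_le_ax (V : Subgroup G) (z q : G) : us V q ≤ ax V z q := by
  have := le_iSup (fun c : centralizer ({z} : Set G) => cj (c : G) (us V q)) 1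
  rw [show ((1 : centralizer ({z} : Set G)) : G) = 1 from rfl, cj_one] at this
  exact this

theorem centralizer_le_normalizer_ax (V : Subgroup G) (z q : G) :
    centralizer ({z} : Set G) ≤ normalizer ((ax V z q : Subgroup G) : Set G) := by
  have key : ∀ g ∈ centralizer ({z} : Set G), cj g (ax V z q) ≤ ax V z q := by
    intro g hg
    rw [cj_le_iff]
    refine iSup_le fun c => ?_
    rw [← cj_le_iff, cj_cj]
    exact (le_iSup (fun c : centralizer ({z} : Set G) => cj (c : G) (us V q)) (⟨g, hg⟩ * c) :)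
  intro g hg
  rw [mem_normalizer_iff_cj]
  refine le_antisymm (key g hg) ?_
  have := key g⁻¹ (inv_mem hg)
  rwa [cj_le_iff, inv_inv] at this

theorem us_le_C (h : BTwo T V z) (q : G) : us V q ≤ centralizer ({z} : Set G) :=
  (us_le_centralizer V q).trans (centralizer_le_of_mem h.z_mem)

theorem ax_le (h : BTwo T V z) (q : G) : ax V z q ≤ centralizer ({z} : Set G) := by
  refine iSup_le fun c => ?_
  have := cj_mono (g := (c : G)) (us_le_C h q)
  rwa [cj_eq_of_mem_normalizer (le_normalizer c.2)] at this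

/-- `[O₂(C_G(z)), ax V z q] ≤ ws V z` -/
theorem comm_o2_ax (h : BTwo T V z) {q : G} (hq : q ∈ V) (hq1 : q ≠ 1) (hqz : q ≠ z) :
    ∀ x ∈ ax V z q, ∀ g ∈ o2 (centralizer ({z} : Set G)), g * x * g⁻¹ * x⁻¹ ∈ ws V z := by
  set C := centralizer ({z} : Set G) with hC
  have hws : C ≤ normalizer ((ws V z : Subgroup G) : Set G) := Geo.centralizer_le_normalizer_ws V z
  have hoC : o2 C ≤ C := o2_le C
  let A : Subgroup G :=
    { carrier := {x | x ∈ C ∧ ∀ g ∈ o2 C, g * x * g⁻¹ * x⁻¹ ∈ ws V z}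
      mul_mem' := by
        rintro a b ⟨ha, ha1⟩ ⟨hb, hb1⟩
        refine ⟨mul_mem ha hb, fun g hg => ?_⟩
        have e : g * (a * b) * g⁻¹ * (a * b)⁻¹ =
            (g * a * g⁻¹ * a⁻¹) * (a * (g * b * g⁻¹ * b⁻¹) * a⁻¹) := by group
        rw [e]
        exact mul_mem (ha1 g hg) (conj_mem_of_normalizer hws ha (hb1 g hg))
      one_mem' := ⟨one_mem _, fun g _ => by simp⟩
      inv_mem' := by
        rintro a ⟨ha, ha1⟩
        refine ⟨inv_mem ha, fun g hg => ?_⟩
        have e3 : g * a⁻¹ * g⁻¹ * a⁻¹⁻¹ =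
            (g * (a⁻¹ * (g⁻¹ * a * g⁻¹⁻¹ * a⁻¹) * a) * g⁻¹) := by group
        rw [e3]
        have h3 := conj_mem_of_normalizer' hws ha (ha1 g⁻¹ (inv_mem hg))
        exact conj_mem_of_normalizer hws (hoC hg) h3 }
  have hA : ax V z q ≤ A := by
    refine iSup_le fun c x hx => ?_
    rw [mem_cj] at hx
    refine ⟨?_, fun g hg => ?_⟩
    · have := mul_mem (mul_mem c.2 (us_le_C h q hx)) (inv_mem c.2)
      have e : (c : G) * ((c : G)⁻¹ * x * c) * (c : G)⁻¹ = x := by group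
      rwa [e] at this
    · have hg' := conj_mem_of_normalizer' (ZN.le_normalizer_o2 C) c.2 hg
      have h1 := comm_o2_us h hq hq1 hqz hg' hx
      have h2 := conj_mem_of_normalizer hws c.2 h1.1
      have e : (c : G) * ((c : G)⁻¹ * g * c * ((c : G)⁻¹ * x * c) * ((c : G)⁻¹ * g * c)⁻¹ *
          ((c : G)⁻¹ * x * c)⁻¹) * (c : G)⁻¹ = g * x * g⁻¹ * x⁻¹ := by group
      rwa [e] at h2
  exact fun x hx => (hA hx).2

/-- `ax V z q ∩ kq V z ≤ O₂(C_G(z))` -/
theorem ax_inf_kq_le (h : BTwo T V z) {q : G} (hq : q ∈ V) (hq1 : q ≠ 1) (hqz : q ≠ z) :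
    ax V z q ⊓ kq V z ≤ o2 (centralizer ({z} : Set G)) := by
  set C := centralizer ({z} : Set G) with hC
  have hn : C ≤ normalizer ((ax V z q ⊓ kq V z : Subgroup G) : Set G) :=
    le_normalizer_of_forall fun c hc k hk =>
      ⟨conj_mem_of_normalizer (centralizer_le_normalizer_ax V z q) hc hk.1,
        conj_mem_of_normalizer (centralizer_le_normalizer_kq V z) hc hk.2⟩
  refine le_o2 (inf_le_left.trans (ax_le h q)) ?_ hn
  rintro ⟨x, hx1, hx2⟩
  have hxC : x ∈ C := ax_le h q hx1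
  have hxz : x * z = z * x := h.z_comm hxC
  -- `x ^ 4` centralizes `O₂(C)`
  have h2 : x * x * (x * x) ∈ o2 C := by
    refine inf_centralizer_o2_le h.charTwo (isTwoLocal_centralizer h.zz h.z_ne)
      ⟨mul_mem (mul_mem hxC hxC) (mul_mem hxC hxC), ?_⟩
    refine mem_centralizer_iff.mpr fun g hg => ?_
    -- conjugation by `x`
    have hw : x * g * x⁻¹ * g⁻¹ ∈ ws V z := by
      have := inv_mem (comm_o2_ax h hq hq1 hqz x hx1 g hg)
      have e : (g * x * g⁻¹ * x⁻¹)⁻¹ = x * g * x⁻¹ * g⁻¹ := by group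
      rwa [e] at this
    set w := x * g * x⁻¹ * g⁻¹ with hwdef
    have e1 : x * g * x⁻¹ = w * g := by rw [hwdef]; group
    have hwx := (mem_zpowers_iff_of_mul_self h.zz).mp ((mem_kq.mp hx2).2.1 w hw)
    -- `x² g x⁻² = (x w x⁻¹) w g`, and `(x w x⁻¹) w ∈ ⟨z⟩`
    have e2 : x * x * g * (x * x)⁻¹ = (x * w * x⁻¹) * w * g := by
      calc x * x * g * (x * x)⁻¹ = x * (x * g * x⁻¹) * x⁻¹ := by group
        _ = x * (w * g) * x⁻¹ := by rw [e1]
        _ = (x * w * x⁻¹) * (x * g * x⁻¹) := by group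
        _ = (x * w * x⁻¹) * (w * g) := by rw [e1]
        _ = (x * w * x⁻¹) * w * g := by group
    have e3 : (x * w * x⁻¹) * w = 1 ∨ (x * w * x⁻¹) * w = z := by
      have hww := h.sq_cases hw
      have e4 : x * w * x⁻¹ * w = (x * w * x⁻¹ * w⁻¹) * (w * w) := by group
      rw [e4]
      rcases hwx with a1 | a1 <;> rcases hww with a2 | a2 <;> rw [a1, a2] <;> simp [h.zz]
    have e5 : x * x * g * (x * x)⁻¹ = g ∨ x * x * g * (x * x)⁻¹ = z * g := by
      rw [e2]; rcases e3 with a | a <;> rw [a]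
      · left; rw [one_mul]
      · right; rfl
    have hxxz : x * x * z * (x * x)⁻¹ = z := by
      have : x * x * z = z * (x * x) := by
        rw [mul_assoc, hxz, ← mul_assoc, hxz, mul_assoc]
      rw [this]; group
    have e6 : x * x * (x * x) * g * (x * x * (x * x))⁻¹ = g := by
      have e7 : x * x * (x * x) * g * (x * x * (x * x))⁻¹ =
          x * x * (x * x * g * (x * x)⁻¹) * (x * x)⁻¹ := by group
      rw [e7]
      rcases e5 with a | a
      · rw [a, a]
      · rw [a]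
        have e8 : x * x * (z * g) * (x * x)⁻¹ = (x * x * z * (x * x)⁻¹) * (x * x * g * (x * x)⁻¹) := by
          group
        rw [e8, hxxz, a, ← mul_assoc, h.zz, one_mul]
    calc g * (x * x * (x * x)) = (x * x * (x * x) * g * (x * x * (x * x))⁻¹) * (x * x * (x * x)) := by
          rw [e6]
      _ = x * x * (x * x) * g := by group
  obtain ⟨n, hn'⟩ := (isPGroup_o2 C) ⟨_, h2⟩
  refine ⟨n + 2, ?_⟩
  have h3 : (x * x * (x * x)) ^ 2 ^ n = 1 := by simpa only [_root_.SubmonoidClass.mk_pow, _root_.OneMemClass.coe_one] using congrArg Subtype.val hn'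
  have h4 : x * x * (x * x) = x ^ 4 := by
    rw [← pow_two, ← pow_two, ← pow_mul]
  ext
  change x ^ 2 ^ (n + 2) = 1
  rw [h4, ← pow_mul] at h3
  have : 2 ^ (n + 2) = 4 * 2 ^ n := by ring
  rw [this]; exact h3

/-- The number of lines through `z` is odd. -/
theorem odd_lines (h : Geo T V z) : Odd (lines V z).ncard := by
  set C := centralizer ({z} : Set G) with hC
  set H := (C ⊓ normalizer (V : Set G)).subgroupOf C with hH
  let f : C ⧸ H → Subgroup G := fun x => Quotient.liftOn' x (fun c : C => cj (c : G) V) (by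
    intro a b hab
    rw [QuotientGroup.leftRel_apply, mem_subgroupOf] at hab
    have h1 : ((a⁻¹ * b : C) : G) ∈ normalizer (V : Set G) := hab.2
    have h2 := cj_eq_of_mem_normalizer h1
    change cj (a : G) V = cj (b : G) V
    have e : (b : G) = a * ((a⁻¹ * b : C) : G) := by simp only [_root_.Subgroup.coe_mul, _root_.InvMemClass.coe_inv, _root_.mul_inv_cancel_left]
    rw [e, ← cj_cj, h2])
  have hinj : Function.Injective f := by
    intro x y
    refine Quotient.inductionOn₂' x y (fun a b hab => ?_)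
    have hab' : cj (a : G) V = cj (b : G) V := hab
    refine Quotient.eq''.mpr ?_
    rw [QuotientGroup.leftRel_apply, mem_subgroupOf]
    refine ⟨(a⁻¹ * b).2, ?_⟩
    change (a : G)⁻¹ * b ∈ normalizer (V : Set G)
    rw [mem_normalizer_iff_cj, ← cj_cj, ← hab', cj_inv_cj]
  have hrange : Set.range f = lines V z := by
    ext L
    constructor
    · rintro ⟨x, rfl⟩
      refine Quotient.inductionOn' x (fun a => ?_)
      exact h.cj_mem_lines a.2
    · intro hL
      obtain ⟨c, hc, rfl⟩ := h.exists_of_mem_lines hL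
      exact ⟨Quotient.mk'' ⟨c, hc⟩, rfl⟩
  have hcard : (lines V z).ncard = H.index := by
    rw [← hrange, ← Set.image_univ, Set.ncard_image_of_injective _ hinj, Set.ncard_univ]
    rfl
  rw [hcard]
  have h1 : T.relIndex (C ⊓ normalizer (V : Set G)) * (C ⊓ normalizer (V : Set G)).relIndex C =
      T.relIndex C := relIndex_mul_relIndex _ _ _ (le_inf h.T_le h.T_norm) inf_le_left
  rw [← Nat.not_even_iff_odd, even_iff_two_dvd]
  intro h2
  apply h.T_syl
  rw [← hC, ← h1]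
  exact Dvd.dvd.mul_left h2 _

end Cfsg.Agent.MinSimple.BTwoC
end

-- part: MinSimple/BTwoD
section
/-!
# (E1) with `|V| = 4`: the case `b = 2`, part D

* `BTwo.us_ne_dd`: `us V z ≠ dd V`;
* `BTwo.card_ws`: `|ws V z| = 2 |us V z|`;
* `pairing`: double counting for a `±1`-valued commutator pairing;
* `es V z = us V z ∩ C(dd V)`, `BTwo.card_es`, `BTwo.perp_perp`, `BTwo.exists_central`;
* `BTwo.centralizer_xx`: `C_G(xx V) = 1`;
* `Geo.inter_line`: (g4), two noncommuting mutually normalizing lines meet in a point.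
-/

set_option autoImplicit false
set_option linter.dupNamespace false
set_option linter.unusedSectionVars false
set_option linter.style.haveILetI false

namespace Cfsg.Agent.MinSimple.BTwoD

open Subgroup Cfsg Cfsg.Agent.ZN Cfsg.Agent.MinSimple.Geo Cfsg.Agent.MinSimple.BTwoA
open Cfsg.Agent.MinSimple.BTwoB Cfsg.Agent.MinSimple.BTwoC
open Cfsg.Agent.ZN.Block (conj_mem_of_normalizer conj_mem_of_normalizer' le_normalizer_of_forall
  mem_normalizer_of)

universe u

/-! ### the pairing lemma -/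

section Pairing

variable {G : Type u} [Group G]

open Classical in
/-- the sign of a commutator -/
noncomputable def sg (a b : G) : ℤ := if a * b = b * a then 1 else -1

theorem sg_comm (a b : G) : sg a b = sg b a := by
  unfold sg
  by_cases h : a * b = b * a
  · rw [if_pos h, if_pos h.symm]
  · rw [if_neg h, if_neg (fun e => h e.symm)]

variable [Finite G]

open Classical in
theorem sum_sg {B : Subgroup G} [Fintype B] {z a : G} (hz : z * z = 1) (hz1 : z ≠ 1)
    (hzB : ∀ b ∈ B, z * b = b * z) (hab : ∀ b ∈ B, a * b = b * a ∨ a * b = z * (b * a)) :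
    ∑ b : B, sg a (b : G) = if a ∈ centralizer (B : Set G) then (Nat.card B : ℤ) else 0 := by
  by_cases ha : a ∈ centralizer (B : Set G)
  · rw [if_pos ha]
    have : ∀ b : B, sg a (b : G) = 1 := fun b => by
      unfold sg; rw [if_pos (mem_centralizer_iff.mp ha b b.2).symm]
    simp only [this, Nat.card_eq_fintype_card, _root_.Finset.sum_const, _root_.Finset.card_univ, _root_.Int.nsmul_eq_mul, _root_.mul_one]
  · rw [if_neg ha]
    have ha' : ∃ b ∈ B, ¬ a * b = b * a := by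
      by_contra hcon
      push Not at hcon
      exact ha (mem_centralizer_iff.mpr fun b hb => (hcon b hb).symm)
    obtain ⟨b₀, hb₀, hne⟩ := ha'
    have hb : a * b₀ = z * (b₀ * a) := (hab b₀ hb₀).resolve_left hne
    have key : ∀ b : B, sg a ((b₀ * b : G)) = - sg a (b : G) := by
      intro b
      have hzb := hzB b b.2
      have hzb₀ := hzB b₀ hb₀
      unfold sg
      rcases hab b b.2 with e | e
      · have e1 : a * (b₀ * b) = z * (b₀ * b * a) := by
          calc a * (b₀ * b) = (a * b₀) * b := by group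
            _ = z * (b₀ * (a * b)) := by rw [hb]; group
            _ = z * (b₀ * b * a) := by rw [e]; group
        rw [if_pos e, if_neg]
        rw [e1]
        intro e2
        exact hz1 (by simpa using e2)
      · have e1 : a * (b₀ * b) = b₀ * b * a := by
          calc a * (b₀ * b) = (a * b₀) * b := by group
            _ = z * (b₀ * (a * b)) := by rw [hb]; group
            _ = z * (b₀ * z) * (b * a) := by rw [e]; group
            _ = (z * z) * (b₀ * b * a) := by rw [← hzb₀]; group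
            _ = b₀ * b * a := by rw [hz, one_mul]
        rw [if_pos e1, if_neg]
        · norm_num
        · rw [e]
          intro e2
          exact hz1 (by simpa using e2)
    have h1 : ∑ b : B, sg a (b : G) = ∑ b : B, sg a ((b₀ * b : G)) := by
      symm
      exact Fintype.sum_equiv (Equiv.mulLeft (⟨b₀, hb₀⟩ : B)) _ _ (fun b => rfl)
    have h2 : ∑ b : B, sg a ((b₀ * b : G)) = - ∑ b : B, sg a (b : G) := by
      rw [← Finset.sum_neg_distrib]
      exact Finset.sum_congr rfl fun b _ => key b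
    linarith

/-- If `[A, B] ≤ ⟨z⟩`, `z` an involution commuting with `A` and `B`, then
`|C_A(B)| |B| = |A| |C_B(A)|`. -/
theorem pairing {A B : Subgroup G} {z : G} (hz : z * z = 1) (hz1 : z ≠ 1)
    (hzA : ∀ a ∈ A, z * a = a * z) (hzB : ∀ b ∈ B, z * b = b * z)
    (hab : ∀ a ∈ A, ∀ b ∈ B, a * b = b * a ∨ a * b = z * (b * a)) :
    Nat.card ↥(A ⊓ centralizer (B : Set G)) * Nat.card B =
      Nat.card A * Nat.card ↥(B ⊓ centralizer (A : Set G)) := by
  classical
  have := Fintype.ofFinite A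
  have := Fintype.ofFinite B
  have hba : ∀ b ∈ B, ∀ a ∈ A, b * a = a * b ∨ b * a = z * (a * b) := by
    intro b hb a ha
    rcases hab a ha b hb with e | e
    · exact Or.inl e.symm
    · right; rw [e, ← mul_assoc, hz, one_mul]
  have key : ∀ (A B : Subgroup G) (_ : Fintype A) (_ : Fintype B),
      ∑ a : A, (if (a : G) ∈ centralizer (B : Set G) then (Nat.card B : ℤ) else 0) =
      (Nat.card ↥(A ⊓ centralizer (B : Set G)) * Nat.card B : ℤ) := by
    intro A B _ _
    rw [← Finset.sum_filter, Finset.sum_const, nsmul_eq_mul]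
    congr 2
    rw [← Nat.card_eq_finsetCard]
    exact (Nat.card_congr
      { toFun := fun x => ⟨x.1.1, x.1.2, (Finset.mem_filter.mp x.2).2⟩
        invFun := fun x => ⟨⟨x.1, x.2.1⟩, Finset.mem_filter.mpr ⟨Finset.mem_univ _, x.2.2⟩⟩
        left_inv := fun x => rfl
        right_inv := fun x => rfl })
  have h1 : ∑ a : A, ∑ b : B, sg (a : G) (b : G) =
      (Nat.card ↥(A ⊓ centralizer (B : Set G)) * Nat.card B : ℤ) := by
    rw [← key A B ‹Fintype A› ‹Fintype B›]
    exact Finset.sum_congr rfl fun a _ => sum_sg hz hz1 hzB (hab a a.2)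
  have h2 : ∑ a : A, ∑ b : B, sg (a : G) (b : G) =
      (Nat.card ↥(B ⊓ centralizer (A : Set G)) * Nat.card A : ℤ) := by
    rw [Finset.sum_comm, ← key B A ‹Fintype B› ‹Fintype A›]
    refine Finset.sum_congr rfl fun b _ => ?_
    rw [← sum_sg hz hz1 hzA (hba b b.2)]
    exact Finset.sum_congr rfl fun a _ => sg_comm _ _
  rw [h1] at h2
  have h3 : Nat.card ↥(A ⊓ centralizer (B : Set G)) * Nat.card B =
      Nat.card ↥(B ⊓ centralizer (A : Set G)) * Nat.card A := by exact_mod_cast h2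
  rw [h3, mul_comm]

/-- `B^⊥⊥ = B Z(A)` -/
theorem perp_perp {A B : Subgroup G} {z : G} (hz : z * z = 1) (hz1 : z ≠ 1)
    (hzA : ∀ a ∈ A, z * a = a * z) (hBA : B ≤ A)
    (hab : ∀ a ∈ A, ∀ b ∈ A, a * b = b * a ∨ a * b = z * (b * a)) :
    A ⊓ centralizer ((A ⊓ centralizer (B : Set G) : Subgroup G) : Set G) =
      B ⊔ (A ⊓ centralizer (A : Set G)) := by
  set Z := A ⊓ centralizer (A : Set G) with hZ
  set B' := A ⊓ centralizer (B : Set G) with hB'
  symm
  have hle : B ⊔ Z ≤ A ⊓ centralizer (B' : Set G) := by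
    refine sup_le (fun b hb => ⟨hBA hb, mem_centralizer_iff.mpr fun x hx => ?_⟩) (fun x hx => ⟨hx.1, ?_⟩)
    · exact (mem_centralizer_iff.mp hx.2 b hb).symm
    · exact mem_centralizer_iff.mpr fun y hy => mem_centralizer_iff.mp hx.2 y hy.1
  have h1 := pairing hz hz1 hzA (fun b hb => hzA b (hBA hb)) (fun a ha b hb => hab a ha b (hBA hb))
    (B := B)
  have h2 := pairing hz hz1 hzA (fun b hb => hzA b hb.1) (fun a ha b hb => hab a ha b hb.1)
    (B := B')
  have h3 : B' ⊓ centralizer (A : Set G) = Z := by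
    refine le_antisymm (fun x hx => ⟨hx.1.1, hx.2⟩) (fun x hx => ⟨⟨hx.1, ?_⟩, hx.2⟩)
    exact mem_centralizer_iff.mpr fun y hy => mem_centralizer_iff.mp hx.2 y (hBA hy)
  have h4 : B ⊓ centralizer (A : Set G) = B ⊓ Z := by
    refine le_antisymm (fun x hx => ⟨hx.1, hBA hx.1, hx.2⟩) (fun x hx => ⟨hx.1, hx.2.2⟩)
  have h5 : B ≤ normalizer (Z : Set G) := by
    refine le_normalizer_of_forall fun b hb x hx => ?_
    rw [mem_centralizer_iff.mp hx.2 b (hBA hb), mul_inv_cancel_right]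
    exact hx
  have h6 := Block.card_sup_mul_card_inf h5
  rw [h3] at h2
  rw [h4] at h1
  have p1 : 0 < Nat.card A := Nat.card_pos
  have p2 : 0 < Nat.card B' := Nat.card_pos
  have p3 : 0 < Nat.card ↥(B ⊓ Z) := Nat.card_pos
  have p4 : 0 < Nat.card B := Nat.card_pos
  -- cards agree
  have h7 : Nat.card ↥(A ⊓ centralizer (B' : Set G)) = Nat.card ↥(B ⊔ Z) := by
    have e1 : Nat.card ↥(A ⊓ centralizer (B' : Set G)) * (Nat.card B' * Nat.card ↥(B ⊓ Z)) =
        Nat.card ↥(B ⊔ Z) * (Nat.card B' * Nat.card ↥(B ⊓ Z)) := by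
      calc Nat.card ↥(A ⊓ centralizer (B' : Set G)) * (Nat.card B' * Nat.card ↥(B ⊓ Z))
          = (Nat.card ↥(A ⊓ centralizer (B' : Set G)) * Nat.card B') * Nat.card ↥(B ⊓ Z) := by ring
        _ = (Nat.card A * Nat.card ↥(B ⊓ Z)) * Nat.card Z := by rw [h2]; ring
        _ = (Nat.card B' * Nat.card B) * Nat.card Z := by rw [← h1]
        _ = Nat.card B' * (Nat.card B * Nat.card Z) := by ring
        _ = Nat.card ↥(B ⊔ Z) * (Nat.card B' * Nat.card ↥(B ⊓ Z)) := by rw [← h6]; ring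
    exact Nat.eq_of_mul_eq_mul_right (Nat.mul_pos p2 p3) e1
  exact Subgroup.eq_of_le_of_card_ge hle (le_of_eq h7)

end Pairing

variable {G : Type u} [Group G] [Finite G] {T V : Subgroup G} {z : G}

/-! ### `c = 0` is impossible -/

/-- a nontrivial element of a line different from the point generates the line together with the point -/
theorem eq_of_mem_lines (h : Geo T V z) {L L' : Subgroup G} (hL : L ∈ lines V z) (hL' : L' ∈ lines V z)
    {g : G} (hg : g ∈ L) (hg' : g ∈ L') (hg1 : g ≠ 1) (hgz : g ≠ z) : L = L' := by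
  have hcard : ∀ L ∈ lines V z, Nat.card L = 4 := by
    intro L hL
    obtain ⟨⟨c, rfl⟩, -⟩ := hL
    rw [card_cj, h.card_V]
  have h1 : ({1, z, g} : Set G) ⊆ ((L ⊓ L' : Subgroup G) : Set G) := by
    rintro x (rfl | rfl | rfl)
    · exact one_mem _
    · exact ⟨hL.2, hL'.2⟩
    · exact ⟨hg, hg'⟩
  have h2 : ({1, z, g} : Set G).ncard = 3 := by
    rw [Set.ncard_insert_of_notMem, Set.ncard_pair (Ne.symm hgz)]
    rintro (e | e)
    · exact h.z_ne e.symm
    · exact hg1 e.symm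
  have h3 := Set.ncard_le_ncard h1 (Set.toFinite _)
  have h4 : ((L ⊓ L' : Subgroup G) : Set G).ncard = Nat.card ↥(L ⊓ L') := rfl
  rw [h2, h4] at h3
  have h5 : Nat.card ↥(L ⊓ L') ∣ 4 := by
    rw [← hcard L hL]; exact card_dvd_of_le inf_le_left
  have h6 : Nat.card ↥(L ⊓ L') = 4 := by
    have h7 : Nat.card ↥(L ⊓ L') ≤ 4 := Nat.le_of_dvd (by norm_num) h5
    interval_cases hn : Nat.card ↥(L ⊓ L')
    · exact absurd h5 (by norm_num)
    · rfl
  have h7 : L ⊓ L' = L := Subgroup.eq_of_le_of_card_ge inf_le_left (by rw [h6, hcard L hL])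
  have h8 : L ⊓ L' = L' := Subgroup.eq_of_le_of_card_ge inf_le_right (by rw [h6, hcard L' hL'])
  rw [← h7, h8]

/-- `c = 0` is impossible -/
theorem us_ne_dd (h : BTwo T V z) : us V z ≠ dd V := by
  intro heq
  have hV : us V z = V := by
    refine le_antisymm (fun d hd => ?_) ((h.V_le_dd).trans (le_of_eq heq.symm))
    rw [heq] at hd
    refine BTwo.mem_V_of_comm h hd (fun u hu => ?_)
    rw [heq] at hu
    exact h.dd_comm hu hd
  have hodd := odd_lines h.toGeo
  -- there are three lines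
  have hne : ∃ L ∈ lines V z \ {V}, ∃ L' ∈ lines V z \ {V}, L ≠ L' := by
    have h1 : (lines V z \ {V}).ncard = (lines V z).ncard - 1 :=
      Set.ncard_sdiff_singleton_of_mem h.V_mem_lines
    have h2 : (lines V z).ncard ≠ 1 := by
      intro e
      obtain ⟨L, hL⟩ := Set.ncard_eq_one.mp e
      have hVL : V = L := by
        have := h.V_mem_lines
        rw [hL] at this
        exact this
      obtain ⟨w, hw, hwV⟩ := h.exists_w
      apply hwV
      have : ws V z ≤ V := by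
        refine ws_le fun L' hL' => ?_
        rw [hL] at hL'
        rw [Set.mem_singleton_iff.mp hL', ← hVL]
      refine mem_centralizer_iff.mpr fun v hv => ?_
      exact h.comm hv (this hw)
    obtain ⟨k, hk⟩ := hodd
    have h3 : 1 < (lines V z \ {V}).ncard := by omega
    obtain ⟨L, L', hL, hL', hLL⟩ := (Set.one_lt_ncard_iff (Set.toFinite _)).mp h3
    exact ⟨L, hL, L', hL', hLL⟩
  obtain ⟨L, ⟨hL, hLV⟩, L', ⟨hL', hLV'⟩, hLL⟩ := hne
  have hpick : ∀ L ∈ lines V z, L ≠ V → ∃ g ∈ L, g ∉ V := by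
    intro L hL hLV
    by_contra hcon
    push Not at hcon
    apply hLV
    obtain ⟨⟨c, rfl⟩, -⟩ := hL
    exact Subgroup.eq_of_le_of_card_ge hcon (by rw [card_cj])
  obtain ⟨g, hg, hgV⟩ := hpick L hL hLV
  obtain ⟨g', hg', hgV'⟩ := hpick L' hL' hLV'
  have hsq : ∀ L ∈ lines V z, ∀ g ∈ L, g * g = 1 := by
    rintro L hL g hg
    obtain ⟨⟨c, rfl⟩, -⟩ := hL
    have h1 := h.sq _ (mem_cj.mp hg)
    have e : g * g = c * (c⁻¹ * g * c * (c⁻¹ * g * c)) * c⁻¹ := by group
    rw [e, h1]; group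
  have hnc : ∀ g ∈ ws V z, g ∉ V → g ∉ centralizer (V : Set G) := by
    intro g hg hgV hgc
    exact hgV (by rw [← hV]; exact ⟨hg, hgc⟩)
  have hgw := le_ws hL hg
  have hgw' := le_ws hL' hg'
  have h1 : g * g' ∈ V := by
    rw [← hV]
    exact h.us_two hgw (hnc g hgw hgV) hgw' (hnc g' hgw' hgV')
  set v := g * g' with hv
  have hgg := hsq L hL g hg
  have hgg' := hsq L' hL' g' hg'
  have e1 : g' = g * v := by rw [hv, ← mul_assoc, hgg, one_mul]
  have hgne : ∀ g : G, g ∉ V → g ≠ 1 ∧ g ≠ z := fun g hg =>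
    ⟨fun e => hg (e ▸ one_mem _), fun e => hg (e ▸ h.z_mem)⟩
  have hv1 : v ≠ 1 := by
    intro e
    rw [e, mul_one] at e1
    exact hLL (eq_of_mem_lines h.toGeo hL hL' hg (e1 ▸ hg') (hgne g hgV).1 (hgne g hgV).2)
  have hvz : v ≠ z := by
    intro e
    rw [e] at e1
    exact hLL (eq_of_mem_lines h.toGeo hL hL' (e1 ▸ mul_mem hg hL.2) hg' (hgne g' hgV').1
      (hgne g' hgV').2)
  have h2 := h.w_move hgw (hnc g hgw hgV) h1 hv1 hvz
  rw [e1] at hgg'
  have e2 : g * v * (g * v) = (g * v * g⁻¹) * (g * g) * v := by group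
  rw [e2, hgg, h2, mul_one, mul_assoc, h.sq v h1, mul_one] at hgg'
  exact h.z_ne hgg'

/-! ### orders -/

/-- `dd V^⊥` -/
def es (V : Subgroup G) (p : G) : Subgroup G := us V p ⊓ centralizer (dd V : Set G)

theorem ws_cases (h : BTwo T V z) {a b : G} (ha : a ∈ ws V z) (hb : b ∈ ws V z) :
    a * b = b * a ∨ a * b = z * (b * a) := h.comm_cases ha (h.ws_le_o2 hb)

theorem z_ws (h : BTwo T V z) {a : G} (ha : a ∈ ws V z) : z * a = a * z :=
  (h.z_comm (h.ws_le_centralizer ha)).symm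

theorem es_eq (h : BTwo T V z) : es V z = ws V z ⊓ centralizer (dd V : Set G) := by
  refine le_antisymm (fun x hx => ⟨hx.1.1, hx.2⟩) (fun x hx => ⟨⟨hx.1, ?_⟩, hx.2⟩)
  exact mem_centralizer_iff.mpr fun v hv => mem_centralizer_iff.mp hx.2 v (h.V_le_dd hv)

/-- An element of `es V z` commuting with `es V z` is in `dd V * Z(ws V z)`. -/
theorem exists_central (h : BTwo T V z) {x : G} (hx : x ∈ es V z) (hc : ∀ y ∈ es V z, x * y = y * x) :
    ∃ d ∈ dd V, ∀ w ∈ ws V z, w * (x * d) = (x * d) * w := by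
  have hd := h.dd_le_ws h.z_mem h.z_ne
  have h1 := perp_perp h.zz h.z_ne (fun a ha => z_ws h ha) hd
    (fun a ha b hb => ws_cases h ha hb)
  rw [← es_eq h] at h1
  have h2 : x ∈ dd V ⊔ (ws V z ⊓ centralizer (ws V z : Set G)) := by
    rw [← h1]
    exact ⟨hx.1.1, mem_centralizer_iff.mpr fun y hy => (hc y hy).symm⟩
  have h5 : dd V ≤ normalizer ((ws V z ⊓ centralizer (ws V z : Set G) : Subgroup G) : Set G) := by
    refine le_normalizer_of_forall fun b hb x hx => ?_
    rw [mem_centralizer_iff.mp hx.2 b (hd hb), mul_inv_cancel_right]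
    exact hx
  rw [← SetLike.mem_coe, coe_mul_of_left_le_normalizer_right _ _ h5] at h2
  obtain ⟨d, hd', c, hc', hdc⟩ := h2
  have hdc' : d * c = x := hdc
  have hdc2 : d * c = c * d := mem_centralizer_iff.mp hc'.2 d (hd hd')
  refine ⟨d, hd', fun w hw => ?_⟩
  have e : x * d = c := by rw [← hdc', hdc2, mul_assoc, h.dd_sq hd', mul_one]
  rw [e]
  exact mem_centralizer_iff.mp hc'.2 w hw

/-! ### `C_G(xx V) = 1` -/

theorem normalizer_le_normalizer_rr (V : Subgroup G) :
    normalizer (V : Set G) ≤ normalizer ((rr V : Subgroup G) : Set G) := by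
  have key : ∀ g ∈ normalizer (V : Set G), cj g (rr V) ≤ rr V := by
    intro g hg
    rw [cj_le_iff]
    refine iSup_le fun p => ?_
    rw [← cj_le_iff, cj_us hg]
    refine us_le_rr ((mem_normalizer_iff.mp hg p).mp p.2.1) (fun e => p.2.2 ?_)
    have : (p : G) = g⁻¹ * (g * p * g⁻¹) * g := by group
    rw [this, e]; group
  intro g hg
  rw [mem_normalizer_iff_cj]
  refine le_antisymm (key g hg) ?_
  have := key g⁻¹ (inv_mem hg)
  rwa [cj_le_iff, inv_inv] at this

/-! ### (g4) -/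

end Cfsg.Agent.MinSimple.BTwoD
end
end

-- part: MinSimple/OddBase
section
prune_inst 0xc0000000010000000018001020003c4292000000002b0001c140010604808d0020000721a82016001002a0440030004812000460001000002000000041380689000082028048a000000000008004080c00000000000000000000000000000000000400000
set_option linter.all false
open scoped Cfsg.Agent.FastGrp

-- part: MinSimple/TriTrans
section
/-!
# Irreducible solvable groups do not contain three transvections with centres `z₁, z₂, z₁z₂`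

`false_of_three`: `R` is a finite elementary abelian 2-group, `J` a solvable irreducible group of automorphisms,
`w i ∈ J` (`i = 0, 1, 2`) a transvection with centre `z i`, `z 0 * z 1 = z 2` and every `w i` fixes every `z j`.
This is impossible.
-/

set_option autoImplicit false

namespace Cfsg.Agent.MinSimple.TriTrans

open Subgroup

variable {R : Type*} [Group R]

theorem comm_of_sq (hsq : ∀ x : R, x * x = 1) (x y : R) : x * y = y * x := by
  have h1 := hsq (x * y)
  have hx := hsq x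
  have hy := hsq y
  calc x * y = (y * y) * (x * y) * (x * x) := by rw [hy, hx]; simp
    _ = y * (y * x * (y * x)) * x := by group
    _ = y * x := by rw [hsq (y * x), mul_one]

/-- the basic properties of the abelian normal subgroup of odd order -/
structure Odd (J A : Subgroup (MulAut R)) (p : ℕ) : Prop where
  le : A ≤ J
  conj : ∀ j ∈ J, ∀ a ∈ A, j * a * j⁻¹ ∈ A
  comm : ∀ a ∈ A, ∀ b ∈ A, a * b = b * a
  pow : ∀ a ∈ A, ∃ k : ℕ, a ^ p ^ k = 1
  ne : ∃ a ∈ A, a ≠ 1
  fix : ∀ x : R, (∀ a ∈ A, a x = x) → x = 1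
  prime : p.Prime
  odd : p ≠ 2

theorem exists_odd [Finite R] (hsq : ∀ x : R, x * x = 1) (J : Subgroup (MulAut R))
    (hJ : Group.IsSolvable J) (hJ1 : ∃ j ∈ J, j ≠ 1)
    (hirr : ∀ U : Subgroup R, (∀ j ∈ J, ∀ u ∈ U, j u ∈ U) → U = ⊥ ∨ U = ⊤) :
    ∃ (A : Subgroup (MulAut R)) (p : ℕ), Odd J A p := by
  have hfin : Finite (MulAut R) := Finite.of_injective (fun j : MulAut R => (j : R → R)) DFunLike.coe_injective
  have hnt : Nontrivial J := by
    obtain ⟨j, hj, hj1⟩ := hJ1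
    exact ⟨⟨j, hj⟩, 1, fun e => hj1 (congrArg Subtype.val e)⟩
  obtain ⟨p, hp, N, hNc, hNcomm, hNp, hNne⟩ :=
    Lib.SolvableMinNormal.exists_characteristic_pgroup (G := J)
  have hNn : N.Normal := inferInstance
  set A : Subgroup (MulAut R) := N.map J.subtype with hA
  have hle : A ≤ J := map_subtype_le _
  have hconj : ∀ j ∈ J, ∀ a ∈ A, j * a * j⁻¹ ∈ A := by
    rintro j hj _ ⟨n, hn, rfl⟩
    exact ⟨(⟨j, hj⟩ * n * ⟨j, hj⟩⁻¹ :), hNn.conj_mem n hn _, rfl⟩
  have hcomm : ∀ a ∈ A, ∀ b ∈ A, a * b = b * a := by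
    rintro _ ⟨n, hn, rfl⟩ _ ⟨m, hm, rfl⟩
    have := congrArg (fun x : N => ((x : J) : MulAut R)) (mul_comm' (⟨n, hn⟩ : N) ⟨m, hm⟩)
    exact this
  have hpow : ∀ a ∈ A, ∃ k : ℕ, a ^ p ^ k = 1 := by
    rintro _ ⟨n, hn, rfl⟩
    obtain ⟨k, hk⟩ := hNp ⟨n, hn⟩
    refine ⟨k, ?_⟩
    have h1 := congrArg (fun x : N => ((x : J) : MulAut R)) hk
    exact h1
  have hne : ∃ a ∈ A, a ≠ 1 := by
    obtain ⟨n, hn1⟩ := (Subgroup.ne_bot_iff_exists_ne_one (H := N)).1 hNne
    exact ⟨_, ⟨n, n.2, rfl⟩, fun e => hn1 (Subtype.ext (Subtype.ext e))⟩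
  -- fixed points
  let C : Subgroup R :=
    { carrier := {x | ∀ a ∈ A, a x = x}
      mul_mem' := fun {x y} hx hy a ha => by rw [map_mul, hx a ha, hy a ha]
      one_mem' := fun a _ => map_one a
      inv_mem' := fun {x} hx a ha => by rw [map_inv, hx a ha] }
  have hCinv : ∀ j ∈ J, ∀ u ∈ C, j u ∈ C := by
    intro j hj u hu a ha
    have h1 : j⁻¹ * a * j ∈ A := by
      have := hconj j⁻¹ (inv_mem hj) a ha
      rwa [inv_inv] at this
    have h2 := hu _ h1
    rw [MulAut.mul_apply, MulAut.mul_apply] at h2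
    calc a (j u) = j (j⁻¹ (a (j u))) := (MulAut.apply_inv_self _ j _).symm
      _ = j u := by rw [h2]
  have hfix : ∀ x : R, (∀ a ∈ A, a x = x) → x = 1 := by
    rcases hirr C hCinv with h | h
    · intro x hx
      have : x ∈ C := hx
      rwa [h, mem_bot] at this
    · exfalso
      obtain ⟨a, ha, ha1⟩ := hne
      apply ha1
      ext x
      have : x ∈ C := by rw [h]; exact mem_top x
      exact this a ha
  refine ⟨A, p, hle, hconj, hcomm, hpow, hne, hfix, hp, ?_⟩
  -- `p ≠ 2`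
  rintro rfl
  have : Fact (Nat.Prime 2) := ⟨Nat.prime_two⟩
  have hA2 : IsPGroup 2 A := by
    rintro ⟨a, ha⟩
    obtain ⟨k, hk⟩ := hpow a ha
    exact ⟨k, Subtype.ext hk⟩
  obtain ⟨a, ha, ha1⟩ := hne
  have hR1 : ∃ x : R, a x ≠ x := by
    by_contra hcon
    push Not at hcon
    exact ha1 (MulEquiv.ext hcon)
  obtain ⟨x, hx⟩ := hR1
  have hx1 : x ≠ 1 := by rintro rfl; exact hx (map_one a)
  have h2 : 2 ∣ Nat.card R := by
    have h3 : orderOf x = 2 := orderOf_eq_prime (by rw [pow_two, hsq]) hx1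
    rw [← h3]; exact _root_.orderOf_dvd_natCard x
  obtain ⟨b, hb, hb1⟩ := hA2.exists_fixed_point_of_prime_dvd_card_of_fixed_point R h2
    (a := (1 : R)) (fun a => smul_one a)
  apply hb1
  symm
  apply hfix
  intro a ha
  exact hb ⟨a, ha⟩

section Single

variable {J A : Subgroup (MulAut R)} {p : ℕ}

theorem Odd.fix_of_sq (h : Odd J A p) {y : MulAut R} (hy : y ∈ A) {x : R} (hx : y (y x) = x) : y x = x := by
  obtain ⟨k, hk⟩ := h.pow y hy
  have hodd : p ^ k % 2 = 1 := by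
    have := h.prime.eq_two_or_odd.resolve_left h.odd
    exact Nat.odd_iff.1 ((Nat.odd_iff.2 this).pow)
  have h3 : ∀ i : ℕ, (y ^ (2 * i)) x = x := by
    intro i
    induction i with
    | zero => simp
    | succ i ih =>
      rw [show 2 * (i + 1) = 2 * i + 2 by ring, pow_add, MulAut.mul_apply, pow_two, MulAut.mul_apply, hx, ih]
  have h4 : (y ^ p ^ k) x = x := by rw [hk, MulAut.one_apply]
  rw [show p ^ k = 1 + 2 * (p ^ k / 2) by omega, pow_add, pow_one, MulAut.mul_apply, h3] at h4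
  exact h4

/-- an odd automorphism fixes no element `≠ 1` of `[R, y]` -/
theorem Odd.eq_one_of_fix (h : Odd J A p) (hsq : ∀ x : R, x * x = 1) {y : MulAut R} (hy : y ∈ A) {x : R}
    (hx : y (x * y x) = x * y x) : x * y x = 1 := by
  have h1 : y (y x) = x := by
    rw [map_mul, comm_of_sq hsq x] at hx
    exact mul_left_cancel hx
  rw [h.fix_of_sq hy h1, hsq]

/-- for one transvection: an element `y` of `A` inverted by `w` with `[R, y] = {1, z, y z, y² z}` -/
theorem Odd.exists_y (h : Odd J A p) (hsq : ∀ x : R, x * x = 1) {w : MulAut R} (hw : w ∈ J) {z : R}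
    (hz1 : z ≠ 1) (hwt : ∀ x, w x = x ∨ w x = x * z) (hwne : ∃ x, w x ≠ x) (hwz : w z = z) :
    ∃ y ∈ A, y ≠ 1 ∧ (∀ x, w (y (w (y x))) = x) ∧ (∃ x, x * y x = z) ∧
      ∀ x, x * y x = 1 ∨ x * y x = z ∨ x * y x = y z ∨ x * y x = y (y z) := by
  have hcm := comm_of_sq hsq
  have hww : ∀ x, w (w x) = x := by
    intro x
    rcases hwt x with h1 | h1
    · rw [h1, h1]
    · rw [h1, map_mul, hwz, h1, mul_assoc, hsq, mul_one]
  have hwwi : w * w = 1 := MulEquiv.ext hww
  have hwi : w⁻¹ = w := inv_eq_of_mul_eq_one_left hwwi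
  -- `w` does not centralize `A`
  have hex : ∃ α ∈ A, w * α * w⁻¹ ≠ α := by
    by_contra hcon
    push Not at hcon
    apply hz1
    apply h.fix
    intro a ha
    obtain ⟨x, hx⟩ := hwne
    have hx' := (hwt x).resolve_left hx
    have h1 : w (a x) = a (w x) := by
      have h2 : w * a = a * w := by
        have := hcon a ha
        calc w * a = (w * a * w⁻¹) * w := by group
          _ = a * w := by rw [this]
      have := congrArg (fun f : MulAut R => f x) h2
      exact this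
    rw [hx', map_mul] at h1
    rcases hwt (a x) with h2 | h2
    · exfalso
      rw [h2] at h1
      have h3 : a z = 1 := by
        have := mul_left_cancel (a := a x) (b := 1) (c := a z) (by rw [mul_one]; exact h1)
        exact this.symm
      exact hz1 ((MulEquiv.map_eq_one_iff a).1 h3)
    · rw [h2] at h1
      exact (mul_left_cancel h1).symm
  obtain ⟨α, hα, hne⟩ := hex
  have hwα : w * α * w⁻¹ ∈ A := h.conj w hw α hα
  set y : MulAut R := α⁻¹ * (w * α * w⁻¹) with hy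
  have hyA : y ∈ A := mul_mem (inv_mem hα) hwα
  have hy1 : y ≠ 1 := by
    intro e
    apply hne
    have := congrArg (fun f => α * f) e
    rw [hy] at this
    simpa only [_root_.mul_inv_cancel_left, _root_.mul_one] using this
  have hinv : w * y * w⁻¹ = y⁻¹ := by
    have h1 : w * y * w⁻¹ = (w * α * w⁻¹)⁻¹ * α := by
      rw [hy]
      have : w * (α⁻¹ * (w * α * w⁻¹)) * w⁻¹ = (w * α * w⁻¹)⁻¹ * ((w * w) * α * (w * w)⁻¹) := by group
      rw [this, hwwi]; group
    rw [h1, hy]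
    group
  have hinv' : ∀ x, w (y (w (y x))) = x := by
    intro x
    have h1 : w * y * w * y = 1 := by
      have h2 : w * y * w = y⁻¹ := by
        calc w * y * w = w * y * w⁻¹ := by rw [hwi]
          _ = y⁻¹ := hinv
      rw [h2, inv_mul_cancel]
    have := congrArg (fun f : MulAut R => f x) h1
    exact this
  -- the four elements
  set z' := α⁻¹ z with hz'
  have hαz' : α z' = z := MulAut.apply_inv_self _ α z
  have hS : ∀ x, x * y x = 1 ∨ x * y x = z ∨ x * y x = z' ∨ x * y x = z * z' := by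
    intro x
    have hyx : y x = α⁻¹ (w (α (w x))) := by
      rw [hy, hwi]
      rfl
    have hαi : ∀ u, α⁻¹ (α u) = u := fun u => MulAut.inv_apply_self _ α u
    have key : ∀ u, α⁻¹ (w (α u)) = u ∨ α⁻¹ (w (α u)) = u * z' := by
      intro u
      rcases hwt (α u) with h1 | h1
      · left; rw [h1, hαi]
      · right; rw [h1, map_mul, hαi]
    rw [hyx]
    rcases hwt x with h1 | h1 <;> rw [h1]
    · rcases key x with h2 | h2 <;> rw [h2]
      · left; exact hsq x
      · right; right; left; rw [← mul_assoc, hsq, one_mul]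
    · rcases key (x * z) with h2 | h2 <;> rw [h2]
      · right; left; rw [← mul_assoc, hsq, one_mul]
      · right; right; right; rw [← mul_assoc, ← mul_assoc, hsq, one_mul]
  have himg : ∀ x, y (x * y x) = y x * y (y x) := fun x => map_mul y _ _
  -- a nontrivial commutator
  obtain ⟨x₀, hx₀⟩ : ∃ x, x * y x ≠ 1 := by
    by_contra hcon
    push Not at hcon
    apply hy1
    ext x
    have := hcon x
    rw [MulAut.one_apply]
    calc y x = x * (x * y x) := by rw [← mul_assoc, hsq, one_mul]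
      _ = x := by rw [this, mul_one]
  -- facts for a nontrivial commutator `n`
  have facts : ∀ x, x * y x ≠ 1 → y (x * y x) ≠ x * y x ∧ y (y (x * y x)) ≠ x * y x ∧
      y (x * y x) ≠ 1 := by
    intro x hx
    refine ⟨fun e => hx (h.eq_one_of_fix hsq hyA e), fun e => hx (h.eq_one_of_fix hsq hyA
      (h.fix_of_sq hyA e)), fun e => hx ((MulEquiv.map_eq_one_iff y).1 e)⟩
  have hS' : ∀ x, x * y x ≠ 1 → ∀ i : ℕ, ∃ x', (y ^ i) (x * y x) = x' * y x' ∧ x' * y x' ≠ 1 := by
    intro x hx i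
    refine ⟨(y ^ i) x, ?_, ?_⟩
    · rw [map_mul]
      congr 1
      rw [← MulAut.mul_apply, ← MulAut.mul_apply, ← pow_succ, ← pow_succ']
    · intro e
      apply hx
      have h1 : (y ^ i) (x * y x) = 1 := by
        rw [map_mul, ← e]
        congr 1
        rw [← MulAut.mul_apply, ← MulAut.mul_apply, ← pow_succ, ← pow_succ']
      exact (MulEquiv.map_eq_one_iff (y ^ i)).1 h1
  -- `z` is a commutator
  have hz : ∃ x, x * y x = z := by
    by_contra hcon
    push Not at hcon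
    obtain ⟨f1, f2, f3⟩ := facts x₀ hx₀
    obtain ⟨x1, e1, g1⟩ := hS' x₀ hx₀ 1
    obtain ⟨x2, e2, g2⟩ := hS' x₀ hx₀ 2
    rw [pow_one] at e1
    rw [pow_two, MulAut.mul_apply] at e2
    have f4 : y (y (x₀ * y x₀)) ≠ y (x₀ * y x₀) := fun e => f1 (y.injective e)
    have c0 := (hS x₀).resolve_left hx₀ |>.resolve_left (hcon x₀)
    have c1 := (hS x1).resolve_left g1 |>.resolve_left (hcon x1)
    have c2 := (hS x2).resolve_left g2 |>.resolve_left (hcon x2)
    rw [e1] at f1 f4 f2 e2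
    rw [e2] at f4 f2
    rcases c0 with c0 | c0 <;> rcases c1 with c1 | c1 <;> rcases c2 with c2 | c2
    · exact f1 (c1.trans c0.symm)
    · exact f1 (c1.trans c0.symm)
    · exact f2 (c2.trans c0.symm)
    · exact f4 (c2.trans c1.symm)
    · exact f4 (c2.trans c1.symm)
    · exact f2 (c2.trans c0.symm)
    · exact f1 (c1.trans c0.symm)
    · exact f1 (c1.trans c0.symm)
  refine ⟨y, hyA, hy1, hinv', hz, ?_⟩
  obtain ⟨xz, hxz⟩ := hz
  have hxz1 : xz * y xz ≠ 1 := by rw [hxz]; exact hz1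
  obtain ⟨f1, f2, f3⟩ := facts xz hxz1
  obtain ⟨x1, e1, g1⟩ := hS' xz hxz1 1
  obtain ⟨x2, e2, g2⟩ := hS' xz hxz1 2
  rw [pow_one] at e1
  rw [pow_two, MulAut.mul_apply] at e2
  rw [hxz] at f1 f2 f3 e1 e2
  have f4 : y (y z) ≠ y z := fun e => f1 (y.injective e)
  have c1 := (hS x1).resolve_left g1
  have c2 := (hS x2).resolve_left g2
  rw [← e1] at c1
  rw [← e2] at c2
  have c1' := c1.resolve_left f1
  have c2' := c2.resolve_left f2
  intro x
  rcases hS x with h1 | h1 | h1 | h1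
  · exact Or.inl h1
  · exact Or.inr (Or.inl h1)
  · rw [h1]
    rcases c1' with c | c
    · exact Or.inr (Or.inr (Or.inl c.symm))
    · rcases c2' with c' | c'
      · exact Or.inr (Or.inr (Or.inr c'.symm))
      · exact absurd (c'.trans c.symm) f4
  · rw [h1]
    rcases c1' with c | c
    · rcases c2' with c' | c'
      · exact absurd (c'.trans c.symm) f4
      · exact Or.inr (Or.inr (Or.inr c'.symm))
    · exact Or.inr (Or.inr (Or.inl c.symm))

/-- if `z'` moves under `y` then `z` lies in `[R, y']` -/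
theorem Odd.eq_or_of_moves (h : Odd J A p) (hsq : ∀ x : R, x * x = 1) {y y' : MulAut R} (hy : y ∈ A) (hy' : y' ∈ A)
    {z z' : R} (hS : ∀ x, x * y x = 1 ∨ x * y x = z ∨ x * y x = y z ∨ x * y x = y (y z))
    (hS' : ∀ x, x * y' x = 1 ∨ x * y' x = z' ∨ x * y' x = y' z' ∨ x * y' x = y' (y' z'))
    (hx' : ∃ x, x * y' x = z') (hm : y z' ≠ z') :
    z = z' ∨ z = y' z' ∨ z = y' (y' z') := by
  obtain ⟨x, hx⟩ := hx'
  have hc1 : z' * y z' ≠ 1 := by
    intro e
    apply hm
    calc y z' = z' * (z' * y z') := by rw [← mul_assoc, hsq, one_mul]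
      _ = z' := by rw [e, mul_one]
  have hcomm : ∀ a ∈ A, ∀ u, a (y' u) = y' (a u) := by
    intro a ha u
    have := congrArg (fun f : MulAut R => f u) (h.comm a ha y' hy')
    exact this
  have hc' : ∀ a ∈ A, ∃ u, u * y' u = a (z' * y z') := by
    intro a ha
    refine ⟨a (x * y x), ?_⟩
    rw [← hcomm a ha, ← map_mul]
    congr 1
    rw [← hx, map_mul, map_mul, ← hcomm y hy]
    have := comm_of_sq hsq (y x) (y' x)
    calc x * y x * (y' x * y (y' x)) = x * (y x * y' x) * y (y' x) := by simp only [mul_assoc]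
      _ = x * y' x * (y x * y (y' x)) := by rw [this]; simp only [mul_assoc]
  have key : ∃ a ∈ A, a (z' * y z') = z := by
    rcases hS z' with e | e | e | e
    · exact absurd e hc1
    · exact ⟨1, one_mem _, by rw [MulAut.one_apply, e]⟩
    · exact ⟨y⁻¹, inv_mem hy, by rw [e, MulAut.inv_apply_self]⟩
    · exact ⟨y⁻¹ * y⁻¹, mul_mem (inv_mem hy) (inv_mem hy), by
        rw [e, MulAut.mul_apply, MulAut.inv_apply_self, MulAut.inv_apply_self]⟩
  obtain ⟨a, ha, hi⟩ := key
  obtain ⟨u, hu⟩ := hc' a ha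
  rw [hi] at hu
  have hz1 : z ≠ 1 := by
    rw [← hi]
    exact fun e => hc1 ((MulEquiv.map_eq_one_iff a).1 e)
  have := (hS' u)
  rw [hu] at this
  exact this.resolve_left hz1

end Single

/-- **three transvections with centres on a line** -/
theorem false_of_three [Finite R] (hsq : ∀ x : R, x * x = 1) (J : Subgroup (MulAut R))
    (hJ : Group.IsSolvable J)
    (hirr : ∀ U : Subgroup R, (∀ j ∈ J, ∀ u ∈ U, j u ∈ U) → U = ⊥ ∨ U = ⊤)
    (z : Fin 3 → R) (w : Fin 3 → MulAut R) (hz : z 0 * z 1 = z 2) (hz1 : ∀ i, z i ≠ 1)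
    (hw : ∀ i, w i ∈ J) (hwt : ∀ i x, w i x = x ∨ w i x = x * z i) (hwne : ∀ i, ∃ x, w i x ≠ x)
    (hfix : ∀ i j, w i (z j) = z j) : False := by
  have hJ1 : ∃ j ∈ J, j ≠ 1 := by
    obtain ⟨x, hx⟩ := hwne 0
    exact ⟨w 0, hw 0, fun e => hx (by rw [e, MulAut.one_apply])⟩
  obtain ⟨A, p, h⟩ := exists_odd hsq J hJ hJ1 hirr
  choose y hyA hy1 hinv hzc hS using fun i =>
    h.exists_y hsq (hw i) (hz1 i) (hwt i) (hwne i) (hfix i i)
  -- the `z i` are different
  have hcm := comm_of_sq hsq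
  have hne01 : z 0 ≠ z 1 := by
    intro e
    apply hz1 2
    rw [← hz, e, hsq]
  have hne02 : z 0 ≠ z 2 := by
    intro e
    apply hz1 1
    rw [← hz] at e
    exact (mul_left_cancel (a := z 0) (b := 1) (c := z 1) (by rw [mul_one]; exact e)).symm
  have hne12 : z 1 ≠ z 2 := by
    intro e
    apply hz1 0
    rw [← hz] at e
    exact (mul_right_cancel (a := 1) (b := z 1) (c := z 0) (by rw [one_mul]; exact e)).symm
  -- `y i` fixes `z j` for `i ≠ j`
  have hcross : ∀ i j, z i ≠ z j → y i (z j) = z j := by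
    intro i j hij
    by_contra hm
    rcases h.eq_or_of_moves hsq (hyA i) (hyA j) (hS i) (hS j) (hzc j) hm with e | e | e
    · exact hij e
    · -- `z i = y j (z j)`; `w j` fixes both
      have h1 := hinv j (z j)
      rw [← e, hfix j i, e] at h1
      -- `w (y (y z)) = z`
      have h2 : y j (y j (z j)) = z j := by
        have h3 : w j (w j (y j (y j (z j)))) = w j (z j) := by rw [h1]
        have h4 : w j (w j (y j (y j (z j)))) = y j (y j (z j)) := by
          rcases hwt j (y j (y j (z j))) with h5 | h5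
          · rw [h5, h5]
          · rw [h5, map_mul, hfix j j, h5, mul_assoc, hsq, mul_one]
        rw [h4, hfix j j] at h3
        exact h3
      apply hij
      rw [e]
      exact h.fix_of_sq (hyA j) h2
    · -- `z i = y (y z)`
      have hww : ∀ x, w j (w j x) = x := by
        intro x
        rcases hwt j x with h5 | h5
        · rw [h5, h5]
        · rw [h5, map_mul, hfix j j, h5, mul_assoc, hsq, mul_one]
      have h1 := hinv j (y j (z j))
      rw [← e, hfix j i] at h1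
      have h2 := hinv j (z j)
      have h3 : y j (z i) = w j (y j (z j)) := by
        calc y j (z i) = w j (w j (y j (z i))) := (hww _).symm
          _ = w j (y j (z j)) := by rw [h1]
      rw [← h3] at h2
      have h4 : y j (y j (z i)) = z j := by
        calc y j (y j (z i)) = w j (w j (y j (y j (z i)))) := (hww _).symm
          _ = w j (z j) := by rw [h2]
          _ = z j := hfix j j
      apply hij
      have h6 : (y j * y j) ((y j * y j) (z j)) = z j := by
        rw [MulAut.mul_apply, MulAut.mul_apply, ← e]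
        exact h4
      have h7 := h.fix_of_sq (mul_mem (hyA j) (hyA j)) h6
      rw [MulAut.mul_apply] at h7
      rw [e]
      exact h7
  have h0 : y 0 (z 0) = z 0 := by
    have h1 := hcross 0 1 hne01
    have h2 := hcross 0 2 hne02
    have h3 : z 0 = z 2 * z 1 := by rw [← hz, mul_assoc, hsq, mul_one]
    rw [h3, map_mul, h1, h2]
  obtain ⟨x, hx⟩ := hzc 0
  apply hz1 0
  rw [← hx]
  exact h.eq_one_of_fix hsq (hyA 0) (by rw [hx]; exact h0)

end Cfsg.Agent.MinSimple.TriTrans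
end

-- part: MinSimple/BTwoK
section
/-!
# (E1) with `|V| = 4`, `b = 2`: "Lemma K"

* `false_of_transvections`: a subgroup `J` acting irreducibly on the elementary abelian 2-subgroup `R` does not contain
  three elements inducing transvections with centres `z 0`, `z 1`, `z 0 * z 1` on `R` and centralizing the centres;
* `BTwo.eq_of_mem_lines`: `V` is the only line through `z` contained in `dd V`.
-/

set_option autoImplicit false
set_option linter.dupNamespace false
set_option linter.unusedSectionVars false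

namespace Cfsg.Agent.MinSimple.BTwoK

open Subgroup Cfsg Cfsg.Agent.ZN Cfsg.Agent.MinSimple.Geo Cfsg.Agent.MinSimple.BTwoA Cfsg.Agent.MinSimple.BTwoB
open Cfsg.Agent.ZN.Block (conj_mem_of_normalizer conj_mem_of_normalizer' le_normalizer_of_forall
  mem_normalizer_of)

universe u

variable {G : Type u} [Group G] [Finite G]

theorem isPGroup_of_sq {R : Subgroup G} (hR : ∀ x ∈ R, x * x = 1) : IsPGroup 2 R := by
  rintro ⟨x, hx⟩
  refine ⟨1, Subtype.ext ?_⟩
  simpa only [pow_two, _root_.pow_one, _root_.MulMemClass.mk_mul_mk, _root_.OneMemClass.coe_one] using hR x hx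

theorem solvable_normalizer (hsolv : ∀ N : Subgroup G, IsTwoLocal N → Group.IsSolvable N) {R : Subgroup G}
    (hR : ∀ x ∈ R, x * x = 1) (hR1 : R ≠ ⊥) : Group.IsSolvable (normalizer (R : Set G)) :=
  hsolv _ ⟨R, isPGroup_of_sq hR, hR1, rfl⟩

/-- three transvections with centres on a line -/
theorem false_of_transvections (hsolv : ∀ N : Subgroup G, IsTwoLocal N → Group.IsSolvable N) {R J : Subgroup G}
    (hR : ∀ x ∈ R, x * x = 1) (hJ : J ≤ normalizer (R : Set G)) (z w : Fin 3 → G) (hz : z 0 * z 1 = z 2)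
    (hz1 : ∀ i, z i ≠ 1) (hzR : ∀ i, z i ∈ R) (hw : ∀ i, w i ∈ J)
    (hwt : ∀ i, ∀ x ∈ R, w i * x * (w i)⁻¹ = x ∨ w i * x * (w i)⁻¹ = x * z i)
    (hwne : ∀ i, ∃ x ∈ R, w i * x * (w i)⁻¹ ≠ x) (hfix : ∀ i j, w i * z j * (w i)⁻¹ = z j)
    (hirr : ∀ U : Subgroup G, U ≤ R → J ≤ normalizer (U : Set G) → U = ⊥ ∨ U = R) : False := by
  have hR1 : R ≠ ⊥ := by
    intro e
    apply hz1 0
    have := hzR 0
    rwa [e, mem_bot] at this
  have hs := solvable_normalizer hsolv hR hR1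
  have hJs : Group.IsSolvable J :=
    Group.isSolvable_of_isSolvable_injective (f := Subgroup.inclusion hJ) (Subgroup.inclusion_injective hJ)
  let f : J →* MulAut R := R.normalizerMonoidHom.comp (Subgroup.inclusion hJ)
  have hf : ∀ (j : J) (x : R), ((f j x : R) : G) = j * x * (j : G)⁻¹ := fun j x => rfl
  have hfs : Group.IsSolvable f.range :=
    Group.isSolvable_of_surjective (f := f.rangeRestrict) f.rangeRestrict_surjective
  refine TriTrans.false_of_three (R := R) (fun x => Subtype.ext (hR x x.2)) f.range hfs ?_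
    (fun i => ⟨z i, hzR i⟩) (fun i => f ⟨w i, hw i⟩) (Subtype.ext hz)
    (fun i e => hz1 i (congrArg Subtype.val e)) (fun i => ⟨_, rfl⟩) ?_ ?_ ?_
  · intro U hU
    have h1 : J ≤ normalizer ((U.map R.subtype : Subgroup G) : Set G) := by
      refine le_normalizer_of_forall ?_
      rintro j hj _ ⟨u, hu, rfl⟩
      exact ⟨f ⟨j, hj⟩ u, hU _ ⟨_, rfl⟩ u hu, rfl⟩
    rcases hirr _ (map_subtype_le U) h1 with h2 | h2
    · left
      exact (Subgroup.map_eq_bot_iff_of_injective U R.subtype_injective).1 h2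
    · right
      rw [eq_top_iff]
      intro x _
      have hx : (x : G) ∈ U.map R.subtype := by rw [h2]; exact x.2
      obtain ⟨u, hu, hux⟩ := hx
      rwa [← Subtype.ext hux]
  · intro i x
    rcases hwt i x x.2 with h1 | h1
    · left; exact Subtype.ext h1
    · right; exact Subtype.ext h1
  · intro i
    obtain ⟨x, hx, hne⟩ := hwne i
    exact ⟨⟨x, hx⟩, fun e => hne (congrArg Subtype.val e)⟩
  · intro i j
    exact Subtype.ext (hfix i j)

variable {T V : Subgroup G} {z : G}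

theorem lines_cj (V : Subgroup G) (g x : G) : lines (cj g V) x = lines V x := by
  ext L
  constructor
  · rintro ⟨⟨k, rfl⟩, hx⟩
    exact ⟨⟨k * g, cj_cj _ _ _⟩, hx⟩
  · rintro ⟨⟨k, rfl⟩, hx⟩
    refine ⟨⟨k * g⁻¹, ?_⟩, hx⟩
    rw [cj_cj, inv_mul_cancel_right]

theorem ws_cj (V : Subgroup G) (g x : G) : ws (cj g V) x = ws V x := by
  rw [ws, lines_cj, ws]

theorem BTwo.conj (h : BTwo T V z) (g : G) : BTwo (cj g T) (cj g V) (g * z * g⁻¹) := by
  obtain ⟨a, ha, b, hb, hab⟩ := h.nonab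
  refine ⟨h.toGeo.conj g, g * a * g⁻¹, ?_, g * b * g⁻¹, ?_, fun e => hab ?_⟩
  · rw [ws_cj]; exact conj_mem_ws ha
  · rw [ws_cj]; exact conj_mem_ws hb
  · calc a * b = g⁻¹ * (g * a * g⁻¹ * (g * b * g⁻¹)) * g := by group
      _ = g⁻¹ * (g * b * g⁻¹ * (g * a * g⁻¹)) * g := by rw [e]
      _ = b * a := by group

/-- every line through `z` is as good as `V` -/
theorem BTwo.line (h : BTwo T V z) {L : Subgroup G} (hL : L ∈ lines V z) : ∃ T' : Subgroup G, BTwo T' L z := by
  obtain ⟨c, hc, rfl⟩ := h.toGeo.exists_of_mem_lines hL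
  refine ⟨cj c T, ?_⟩
  have := BTwo.conj h c
  rwa [show c * z * c⁻¹ = z by rw [h.z_comm hc]; group] at this

/-- an element of `xx V` moving `p` to `q` -/
theorem BTwo.exists_move (h : BTwo T V z) {p q : G} (hp : p ∈ V) (hq : q ∈ V) (hp1 : p ≠ 1) (hq1 : q ≠ 1)
    (hpq : p ≠ q) : ∃ w ∈ ws V (p * q), w * p * w⁻¹ = q ∧ w * q * w⁻¹ = p := by
  have hr1 : p * q ≠ 1 := fun e => hpq (by
    have := mul_eq_one_iff_eq_inv.mp e
    rwa [h.inv_eq hq] at this)
  obtain ⟨T', h'⟩ := h.point (mul_mem hp hq) hr1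
  obtain ⟨w, hw, hwV⟩ := h'.exists_w
  have hrp : p ≠ p * q := fun e => hq1 (by simpa using e.symm)
  have hrq : q ≠ p * q := fun e => hp1 (by simpa using e.symm)
  refine ⟨w, hw, ?_, ?_⟩
  · rw [h'.w_move hw hwV hp hp1 hrp, h.comm hp hq, mul_assoc, h.sq p hp, mul_one]
  · rw [h'.w_move hw hwV hq hq1 hrq, mul_assoc, h.sq q hq, mul_one]

/-- a subgroup normalized by `xx V` containing a point of `V` contains `V` -/
theorem BTwo.V_le_of_mem (h : BTwo T V z) {U : Subgroup G} (hU : xx V ≤ normalizer (U : Set G)) {p : G}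
    (hp : p ∈ V) (hp1 : p ≠ 1) (hpU : p ∈ U) : V ≤ U := by
  intro q hq
  by_cases hq1 : q = 1
  · rw [hq1]; exact one_mem _
  by_cases hpq : p = q
  · rwa [← hpq]
  obtain ⟨w, hw, h1, _⟩ := BTwo.exists_move h hp hq hp1 hq1 hpq
  have hr1 : p * q ≠ 1 := fun e => hpq (by
    have := mul_eq_one_iff_eq_inv.mp e
    rwa [h.inv_eq hq] at this)
  rw [← h1]
  exact conj_mem_of_normalizer hU (ws_le_xx (mul_mem hp hq) hr1 hw) hpU

/-- a nontrivial subgroup of `dd V` normalized by `xx V` contains `V` -/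
theorem BTwo.V_le_of_le_dd (h : BTwo T V z) {U : Subgroup G} (hU : xx V ≤ normalizer (U : Set G))
    (hUd : U ≤ dd V) (hU1 : U ≠ ⊥) : V ≤ U := by
  obtain ⟨u, hu1⟩ := (Subgroup.ne_bot_iff_exists_ne_one).mp hU1
  by_cases hc : ∀ a ∈ us V z, a * (u : G) = u * a
  · exact BTwo.V_le_of_mem h hU (BTwo.mem_V_of_comm h (hUd u.2) hc) (fun e => hu1 (Subtype.ext e)) u.2
  · push Not at hc
    obtain ⟨a, ha, hne⟩ := hc
    have h1 : a * u * a⁻¹ = z * u := by
      rcases h.dd_ws (hUd u.2) ha.1 with e | e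
      · exfalso; apply hne
        calc a * u = (a * u * a⁻¹) * a := by group
          _ = u * a := by rw [e]
      · exact e
    have h2 : a * u * a⁻¹ ∈ U := conj_mem_of_normalizer hU (ws_le_xx h.z_mem h.z_ne ha.1) u.2
    have h3 : z ∈ U := by
      have := mul_mem h2 (inv_mem u.2)
      rwa [h1, mul_inv_cancel_right] at this
    exact BTwo.V_le_of_mem h hU h.z_mem h.z_ne h3

/-- `xx V` normalizes the subgroups between `V` and `dd V` -/
theorem BTwo.xx_le_normalizer (h : BTwo T V z) {E : Subgroup G} (hE : E ≤ dd V) (hVE : V ≤ E) :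
    xx V ≤ normalizer (E : Set G) := by
  refine iSup_le fun p => ?_
  obtain ⟨T', h'⟩ := h.point p.2.1 p.2.2
  refine le_normalizer_of_forall fun w hw e he => ?_
  rcases h'.dd_ws (hE he) hw with e1 | e1
  · rw [e1]; exact he
  · rw [e1]; exact mul_mem (hVE p.2.1) he

/-- **Lemma K** -/
theorem BTwo.false_of_gen (h : BTwo T V z) {E J : Subgroup G} (hE : E ≤ dd V) (hVE : V ≤ E) (hne : ¬ E ≤ V)
    (hJ : J ≤ normalizer (E : Set G)) (hxx : xx V ≤ J)
    (hgen : ∀ U : Subgroup G, V ≤ U → J ≤ normalizer (U : Set G) → E ≤ U) : False := by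
  obtain ⟨q, hq, hq1, hqz⟩ := h.exists_y
  have hzq1 : z * q ≠ 1 := fun e => hqz (by
    rw [mul_eq_one_iff_eq_inv.mp e, h.inv_eq hq])
  -- the transvections
  have hex : ∀ p ∈ V, p ≠ 1 → ∃ w ∈ us V p, ∃ x ∈ E, w * x * w⁻¹ ≠ x := by
    intro p hp hp1
    by_contra hcon
    push Not at hcon
    apply hne
    intro x hx
    refine BTwo.mem_V_of_comm' h (hE hx) hp hp1 fun u hu => ?_
    calc u * x = (u * x * u⁻¹) * u := by group
      _ = x * u := by rw [hcon u hu x hx]
  let pt : Fin 3 → G := ![z, q, z * q]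
  have hpt : ∀ i, pt i ∈ V ∧ pt i ≠ 1 := by
    intro i
    fin_cases i
    · exact ⟨h.z_mem, h.z_ne⟩
    · exact ⟨hq, hq1⟩
    · exact ⟨mul_mem h.z_mem hq, hzq1⟩
  choose w hw hwx using fun i => hex (pt i) (hpt i).1 (hpt i).2
  refine false_of_transvections h.solv (R := E) (J := J) (fun x hx => h.dd_sq (hE hx)) hJ pt w rfl
    (fun i => (hpt i).2) (fun i => hVE (hpt i).1) (fun i => hxx (ws_le_xx (hpt i).1 (hpt i).2 (hw i).1))
    ?_ hwx ?_ ?_
  · intro i x hx
    obtain ⟨T', h'⟩ := h.point (hpt i).1 (hpt i).2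
    rcases h'.dd_ws (hE hx) (hw i).1 with e | e
    · exact Or.inl e
    · right
      rw [e]
      exact h.dd_comm (hE (hVE (hpt i).1)) (hE hx)
  · intro i j
    rw [comm_V (hw i).2 (hpt j).1]
    group
  · intro U hU hJU
    by_cases hU1 : U = ⊥
    · exact Or.inl hU1
    · right
      refine le_antisymm hU (hgen U ?_ hJU)
      exact BTwo.V_le_of_le_dd h (hxx.trans hJU) (hU.trans hE) hU1

/-- a line `L` through `z` in `dd V`: `V ≤ dd L` -/
theorem BTwo.le_dd_of_le (h : BTwo T V z) {L : Subgroup G} (hL : L ∈ lines V z) (hLd : L ≤ dd V) (hne : ¬ L ≤ V) :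
    V ≤ dd L := by
  obtain ⟨T', h'⟩ := BTwo.line h hL
  obtain ⟨v, hv, hv1, hvz⟩ := h.exists_y
  have hzL : z ∈ L := h'.z_mem
  have hvz' : z * v ≠ 1 := fun e => hvz (by rw [mul_eq_one_iff_eq_inv.mp e, h.inv_eq hv])
  have hlV : ∀ x, ws L x = ws V x := by
    intro x
    obtain ⟨c, _, rfl⟩ := h.toGeo.exists_of_mem_lines hL
    exact ws_cj V c x
  -- enough: `v ∈ ws V p` for all points `p` of `L`
  have key : ∀ p ∈ L, p ≠ 1 → v ∈ ws V p ∧ z ∈ ws V p := by
    intro p hp hp1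
    by_cases hpz : p = z
    · rw [hpz]; exact ⟨h.V_le_ws hv, h.V_le_ws h.z_mem⟩
    have hpV : p ∉ V := by
      intro hpV
      apply hne
      intro x hx
      rcases h'.four hzL hp h.z_ne hp1 (Ne.symm hpz) hx with rfl | rfl | rfl | rfl
      · exact one_mem _
      · exact h.z_mem
      · exact hpV
      · exact mul_mem h.z_mem hpV
    -- an element of `ws V (z * v)` exchanging `z` and `v` and commuting with `p`
    obtain ⟨w, hw, hwz, hwv⟩ := BTwo.exists_move h h.z_mem hv h.z_ne hv1 (Ne.symm hvz)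
    obtain ⟨T'', h''⟩ := h.point (mul_mem h.z_mem hv) hvz'
    obtain ⟨g, hg1, hg2⟩ : ∃ g : G, g * z * g⁻¹ = v ∧ g * p * g⁻¹ = p := by
      rcases h''.dd_ws (hLd hp) hw with e | e
      · exact ⟨w, hwz, e⟩
      · -- correct by an element of `us V (z * v)`
        obtain ⟨u, hu, hup⟩ : ∃ u ∈ us V (z * v), u * p ≠ p * u := by
          by_contra hcon
          push Not at hcon
          exact hpV (BTwo.mem_V_of_comm h'' (hLd hp) hcon)
        have hu1 : u * p * u⁻¹ = z * v * p := by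
          rcases h''.dd_ws (hLd hp) hu.1 with e' | e'
          · exfalso; apply hup
            calc u * p = (u * p * u⁻¹) * u := by group
              _ = p * u := by rw [e']
          · exact e'
        have huv : u * v * u⁻¹ = v := by rw [comm_V hu.2 hv]; group
        have huz : u * (z * v) * u⁻¹ = z * v := by rw [comm_V hu.2 (mul_mem h.z_mem hv)]; group
        refine ⟨u * w, ?_, ?_⟩
        · calc u * w * z * (u * w)⁻¹ = u * (w * z * w⁻¹) * u⁻¹ := by group
            _ = v := by rw [hwz, huv]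
        · calc u * w * p * (u * w)⁻¹ = u * (w * p * w⁻¹) * u⁻¹ := by group
            _ = (u * (z * v) * u⁻¹) * (u * p * u⁻¹) := by rw [e]; group
            _ = (z * v) * (z * v) * p := by rw [huz, hu1]; group
            _ = p := by rw [h.sq _ (mul_mem h.z_mem hv), one_mul]
    have hLp : L ∈ lines V p := ⟨hL.1, hp⟩
    refine ⟨?_, le_ws hLp hzL⟩
    have h1 : cj g L ∈ lines V (g * p * g⁻¹) := mem_lines_cj hLp
    rw [hg2] at h1
    have h2 : g * z * g⁻¹ ∈ cj g L := conj_mem_cj hzL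
    rw [hg1] at h2
    exact le_ws h1 h2
  intro x hx
  rw [mem_dd]
  intro p hp hp1
  rw [hlV]
  obtain ⟨k1, k2⟩ := key p hp hp1
  rcases h.four h.z_mem hv h.z_ne hv1 (Ne.symm hvz) hx with rfl | rfl | rfl | rfl
  · exact one_mem _
  · exact k2
  · exact k1
  · exact mul_mem k2 k1

/-- `V` is the only line through `z` contained in `dd V` -/
theorem BTwo.eq_of_mem_lines (h : BTwo T V z) {L : Subgroup G} (hL : L ∈ lines V z) (hLd : L ≤ dd V) : L = V := by
  by_contra hne
  have hcard : Nat.card L = Nat.card V := by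
    obtain ⟨c, _, rfl⟩ := h.toGeo.exists_of_mem_lines hL
    exact card_cj _ _
  have hne' : ¬ L ≤ V := by
    intro hle
    exact hne (Subgroup.eq_of_le_of_card_ge hle hcard.ge)
  obtain ⟨T', h'⟩ := BTwo.line h hL
  have hVd := BTwo.le_dd_of_le h hL hLd hne'
  set E := V ⊔ L with hE
  have hE1 : E ≤ dd V := sup_le h.V_le_dd hLd
  have hE2 : E ≤ dd L := sup_le hVd h'.V_le_dd
  refine BTwo.false_of_gen h hE1 le_sup_left (fun h1 => hne' (le_sup_right.trans h1)) (J := xx V ⊔ xx L)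
    (sup_le (BTwo.xx_le_normalizer h hE1 le_sup_left) (BTwo.xx_le_normalizer h' hE2 le_sup_right))
    le_sup_left ?_
  intro U hVU hJU
  refine sup_le hVU ?_
  exact BTwo.V_le_of_mem h' (le_sup_right.trans hJU) h'.z_mem h'.z_ne (hVU h.z_mem)

end Cfsg.Agent.MinSimple.BTwoK
end

-- part: MinSimple/OddLine
section
/-!
# (E1) with `|V| = 4`, the case "`ws V z` abelian": lines

* structure `Odd T V z`, `Odd.conj`, `Odd.point`, `Odd.line`, `Odd.line'`;
* `Odd.exists_swap`, `Odd.exists_swap'`: some element of `kq V p` interchanges the other two points of `V`;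
* `Odd.inf_eq_dd`: `ws V p ∩ ws V q = dd V`;
* `ll V = ⟨kq V p⟩`, `cj_kq`, `normalizer_le_normalizer_ll`, `Odd.ll_dd`, `Odd.eq_one_of_comm_ll`;
* `Odd.mem_V_of_comm`, `Odd.exists_transvection`, `Odd.exists_swap_comm`: `S₄` on `⟨V, t⟩`;
* `Odd.eq_of_mem_lines`, `Odd.eq_of_le_sup`: there is no second line in `dd V` through a point of `V`.
-/

set_option autoImplicit false
set_option linter.dupNamespace false
set_option linter.unusedSectionVars false
set_option linter.style.haveILetI false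

namespace Cfsg.Agent.MinSimple.OddLine

open Subgroup Cfsg Cfsg.Agent.ZN Cfsg.Agent.MinSimple.Geo Cfsg.Agent.MinSimple.BTwoA
open Cfsg.Agent.MinSimple.BTwoB
open Cfsg.Agent.ZN.Block (conj_mem_of_normalizer conj_mem_of_normalizer' le_normalizer_of_forall
  mem_normalizer_of)

universe u

variable {G : Type u} [Group G]

/-- The case `ws V z` abelian. -/
structure Odd (T V : Subgroup G) (z : G) : Prop extends Geo T V z where
  ab : ∀ a ∈ ws V z, ∀ b ∈ ws V z, a * b = b * a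

/-- conjugating `V` does not change `lines` and `ws` -/
theorem lines_cj (V : Subgroup G) (g x : G) : lines (cj g V) x = lines V x := by
  ext L
  constructor
  · rintro ⟨⟨k, rfl⟩, hx⟩
    exact ⟨⟨k * g, cj_cj _ _ _⟩, hx⟩
  · rintro ⟨⟨k, rfl⟩, hx⟩
    refine ⟨⟨k * g⁻¹, ?_⟩, hx⟩
    rw [cj_cj, inv_mul_cancel_right]

theorem ws_cj (V : Subgroup G) (g x : G) : ws (cj g V) x = ws V x := by
  unfold ws; rw [lines_cj]

namespace Odd

variable {T V : Subgroup G} {z : G}

/-- conjugate situation -/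
theorem conj (h : Odd T V z) (g : G) : Odd (cj g T) (cj g V) (g * z * g⁻¹) where
  toGeo := h.toGeo.conj g
  ab := by
    intro a ha b hb
    rw [ws_cj, ← cj_ws, mem_cj] at ha hb
    have := h.ab _ ha _ hb
    calc a * b = g * (g⁻¹ * a * g * (g⁻¹ * b * g)) * g⁻¹ := by group
      _ = g * (g⁻¹ * b * g * (g⁻¹ * a * g)) * g⁻¹ := by rw [this]
      _ = b * a := by group

/-- each point of `V` is as good as `z` -/
theorem point (h : Odd T V z) {p : G} (hp : p ∈ V) (hp1 : p ≠ 1) : ∃ T' : Subgroup G, Odd T' V p := by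
  obtain ⟨g, hg, rfl, h1⟩ := h.toGeo.point hp hp1
  have h2 := h.conj g
  rw [cj_eq_of_mem_normalizer hg] at h2
  exact ⟨_, h2⟩

/-- each line through a point: `L = cj g V`, `x ∈ L#` -/
theorem line (h : Odd T V z) {g x : G} (hx : x ∈ cj g V) (hx1 : x ≠ 1) :
    ∃ T' : Subgroup G, Odd T' (cj g V) x := by
  exact (h.conj g).point hx hx1

variable [Finite G]

theorem ws_sq (h : Odd T V z) {w : G} (hw : w ∈ ws V z) : w * w = 1 := by
  have hzw := h.ab
  let A : Subgroup G :=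
    { carrier := {w | w ∈ ws V z ∧ w * w = 1}
      mul_mem' := by
        rintro a b ⟨ha, ha1⟩ ⟨hb, hb1⟩
        refine ⟨mul_mem ha hb, ?_⟩
        calc a * b * (a * b) = a * (b * a) * b := by group
          _ = (a * a) * (b * b) := by rw [h.ab b hb a ha]; group
          _ = 1 := by rw [ha1, hb1, one_mul]
      one_mem' := ⟨one_mem _, one_mul 1⟩
      inv_mem' := by
        rintro a ⟨ha, ha1⟩
        refine ⟨inv_mem ha, ?_⟩
        have : a⁻¹ * a⁻¹ = (a * a)⁻¹ := by group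
        rw [this, ha1, inv_one] }
  refine (ws_le (U := A) (fun L hL x hx => ⟨le_ws hL hx, ?_⟩) hw).2
  obtain ⟨c, hc, rfl⟩ := h.exists_of_mem_lines hL
  rw [mem_cj] at hx
  have := h.sq _ hx
  have e : x * x = c * (c⁻¹ * x * c * (c⁻¹ * x * c)) * c⁻¹ := by group
  rw [e, this]; group

end Odd

/-! ### moving the points of a line -/

section Move

variable {T V : Subgroup G} {z : G} [Finite G]

/-- an element of `N(V) ∩ C(z)` not centralizing `V` interchanges the other two points -/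
theorem move (h : Geo T V z) {w q : G} (hwz : w ∈ centralizer ({z} : Set G))
    (hwn : w ∈ normalizer (V : Set G)) (hwV : w ∉ centralizer (V : Set G)) (hq : q ∈ V)
    (hq1 : q ≠ 1) (hqz : q ≠ z) : w * q * w⁻¹ = z * q := by
  rcases h.conj_cases h.z_mem hq h.z_ne (h.z_comm hwz) hwn with e | e
  · exfalso
    apply hwV
    rw [mem_centralizer_iff]
    have hwq : q * w = w * q := by
      calc q * w = (w * q * w⁻¹) * w := by rw [e]
        _ = w * q := by group
    have hwz : z * w = w * z := (h.z_comm hwz).symm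
    intro v hv
    rcases h.four h.z_mem hq h.z_ne hq1 (Ne.symm hqz) hv with rfl | rfl | rfl | rfl
    · simp
    · exact hwz
    · exact hwq
    · rw [mul_assoc, hwq, ← mul_assoc, hwz, mul_assoc]
  · exact e

theorem not_T_le (h : Geo T V z) : ¬ T ≤ centralizer (V : Set G) := by
  intro hT
  obtain ⟨y, hy, hy1, hyz⟩ := h.exists_y
  rcases h.soc y (h.V_le hy) (h.sq y hy) (fun s hs => (mem_centralizer_iff.mp (hT hs) y hy).symm)
    with e | e
  · exact hy1 e
  · exact hyz e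

theorem kq_le_normalizer (h : Geo T V z) : kq V z ≤ normalizer (V : Set G) := by
  refine le_normalizer_of_forall fun k hk v hv => ?_
  have h1 := (mem_kq.mp hk).2.1 v (h.V_le_ws hv)
  have h2 : zpowers z ≤ V := (zpowers_le).mpr h.z_mem
  have e : k * v * k⁻¹ = (k * v * k⁻¹ * v⁻¹) * v := by group
  rw [e]
  exact mul_mem (h2 h1) hv

/-- an element of `kq V z` moves an element of `ws V z` at most by `z` -/
theorem kq_ws (h : Geo T V z) {k w : G} (hk : k ∈ kq V z) (hw : w ∈ ws V z) :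
    k * w * k⁻¹ = w ∨ k * w * k⁻¹ = z * w := by
  rcases (mem_zpowers_iff_of_mul_self h.zz).mp ((mem_kq.mp hk).2.1 w hw) with e | e
  · left
    calc k * w * k⁻¹ = (k * w * k⁻¹ * w⁻¹) * w := by group
      _ = w := by rw [e, one_mul]
  · right
    calc k * w * k⁻¹ = (k * w * k⁻¹ * w⁻¹) * w := by group
      _ = z * w := by rw [e]

/-- if `T ∩ kq V z` centralizes `V` then `kq V z` centralizes `ws V z` -/
theorem kq_le_centralizer (h : Geo T V z) (h1 : T ⊓ kq V z ≤ centralizer (V : Set G)) :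
    kq V z ≤ centralizer (ws V z : Set G) := by
  set C := centralizer ({z} : Set G) with hC
  set K := kq V z with hK
  set K1 := K ⊓ centralizer (ws V z : Set G) with hK1
  have hws : C ≤ normalizer ((ws V z : Subgroup G) : Set G) := Geo.centralizer_le_normalizer_ws V z
  have hKn : C ≤ normalizer (K : Set G) := centralizer_le_normalizer_kq V z
  have hn1 : C ≤ normalizer (K1 : Set G) := by
    refine le_normalizer_of_forall fun c hc x hx => ⟨conj_mem_of_normalizer hKn hc hx.1, ?_⟩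
    refine mem_centralizer_iff.mpr fun w hw => ?_
    have h2 := mem_centralizer_iff.mp hx.2 _ (conj_mem_of_normalizer' hws hc hw)
    calc w * (c * x * c⁻¹) = c * (c⁻¹ * w * c * x) * c⁻¹ := by group
      _ = c * (x * (c⁻¹ * w * c)) * c⁻¹ := by rw [h2]
      _ = c * x * c⁻¹ * w := by group
  have hsup := le_sup_inf_of_pow h.T_le h.two h.T_syl (kq_le V z) hKn
    (inf_le_left.trans (kq_le V z)) hn1 (K := K1) (fun x hx => ⟨1, by
      rw [pow_one, pow_two]
      refine ⟨mul_mem hx hx, mem_centralizer_iff.mpr fun w hw => ?_⟩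
      have hxz := h.z_comm (kq_le V z hx)
      have e : x * x * w * (x * x)⁻¹ = w := by
        have e1 : x * x * w * (x * x)⁻¹ = x * (x * w * x⁻¹) * x⁻¹ := by group
        rw [e1]
        rcases kq_ws h hx hw with e2 | e2
        · rw [e2, e2]
        · rw [e2]
          have e3 : x * (z * w) * x⁻¹ = z * (x * w * x⁻¹) := by
            rw [← mul_assoc, hxz]; group
          rw [e3, e2, ← mul_assoc, h.zz, one_mul]
      calc w * (x * x) = (x * x * w * (x * x)⁻¹) * (x * x) := by rw [e]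
        _ = x * x * w := by group⟩)
  have hKV : K ≤ centralizer (V : Set G) :=
    hsup.trans (sup_le (inf_le_right.trans (centralizer_le h.V_le_ws)) h1)
  intro k hk
  have h2 : ws V z ≤ centralizer ({k} : Set G) := by
    refine ws_le fun L hL x hx => ?_
    obtain ⟨c, hc, rfl⟩ := h.exists_of_mem_lines hL
    rw [mem_centralizer_singleton_iff]
    have hk' := conj_mem_of_normalizer' hKn hc hk
    have h3 := mem_centralizer_iff.mp (hKV hk') _ (mem_cj.mp hx)
    calc x * k = c * (c⁻¹ * x * c * (c⁻¹ * k * c)) * c⁻¹ := by group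
      _ = c * (c⁻¹ * k * c * (c⁻¹ * x * c)) * c⁻¹ := by rw [h3]
      _ = k * x := by group
  exact mem_centralizer_iff.mpr fun w hw => mem_centralizer_singleton_iff.mp (h2 hw)

namespace Odd

/-- `T ∩ kq V z` does not centralize `V` -/
theorem not_inf_le (h : Odd T V z) : ¬ T ⊓ kq V z ≤ centralizer (V : Set G) := by
  intro hTK
  have hKc := kq_le_centralizer h.toGeo hTK
  set C := centralizer ({z} : Set G) with hC
  set K := kq V z with hK
  set W := ws V z with hW
  have hws : C ≤ normalizer (W : Set G) := Geo.centralizer_le_normalizer_ws V z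
  have hKn : C ≤ normalizer (K : Set G) := centralizer_le_normalizer_kq V z
  have hKC : K ≤ C := kq_le V z
  haveI hKN : (K.subgroupOf C).Normal := normal_subgroupOf_of_le_normalizer hKn
  haveI hsol : Group.IsSolvable C := h.solv C (isTwoLocal_centralizer h.zz h.z_ne)
  let H := C ⧸ K.subgroupOf C
  haveI : Group.IsSolvable H := inferInstance
  -- `H` is nontrivial
  haveI hHnt : Nontrivial H := by
    obtain ⟨t, ht, htV⟩ := Set.not_subset.mp (not_T_le h.toGeo)
    refine ⟨⟨QuotientGroup.mk ⟨t, h.T_le ht⟩, 1, fun e => htV ?_⟩⟩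
    rw [QuotientGroup.eq_one_iff, mem_subgroupOf] at e
    exact centralizer_le h.V_le_ws (hKc e)
  letI : CommGroup W := { (inferInstance : Group W) with
    mul_comm := fun x y => Subtype.ext (h.ab x x.2 y y.2) }
  let ψ : C →* MulAut W := (Subgroup.normalizerMonoidHom W).comp (Subgroup.inclusion hws)
  have hψ : ∀ (c : C) (w : W), ((ψ c w : W) : G) = c * w * (c : G)⁻¹ := fun c w => rfl
  have hker : K.subgroupOf C ≤ ψ.ker := by
    intro k hk
    rw [MonoidHom.mem_ker]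
    ext w
    rw [hψ]
    have := mem_centralizer_iff.mp (hKc (mem_subgroupOf.mp hk)) w w.2
    rw [← this]; simp
  let ψ' : H →* MulAut W := QuotientGroup.lift (K.subgroupOf C) ψ hker
  obtain ⟨p, hp, N, hNch, -, hNp, hN1⟩ := Lib.SolvableMinNormal.exists_characteristic_pgroup (G := H)
  haveI hNn : N.Normal := inferInstance
  haveI : Fact p.Prime := ⟨hp⟩
  -- `p` is odd
  have hp2 : p ≠ 2 := by
    rintro rfl
    let M : Subgroup G := (N.comap (QuotientGroup.mk' (K.subgroupOf C))).map C.subtype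
    have hMC : M ≤ C := map_subtype_le _
    have hMn : C ≤ normalizer (M : Set G) := by
      refine le_normalizer_of_forall fun c hc x hx => ?_
      obtain ⟨y, hy, rfl⟩ := hx
      refine ⟨⟨c, hc⟩ * y * ⟨c, hc⟩⁻¹, ?_, rfl⟩
      rw [SetLike.mem_coe, mem_comap, map_mul, map_mul, map_inv]
      exact hNn.conj_mem _ hy _
    have hMK := le_kq h.toGeo hMC hMn (by
      rintro _ ⟨y, hy, rfl⟩
      obtain ⟨k, hk⟩ := hNp ⟨_, hy⟩
      refine ⟨k, ?_⟩
      have h1 : (QuotientGroup.mk' (K.subgroupOf C) y) ^ 2 ^ k = 1 := by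
        simpa only [_root_.QuotientGroup.mk'_apply, _root_.SubmonoidClass.mk_pow, _root_.OneMemClass.coe_one] using congrArg Subtype.val hk
      rw [← map_pow] at h1
      have h2 : y ^ 2 ^ k ∈ K.subgroupOf C := by
        rwa [← QuotientGroup.eq_one_iff]
      exact mem_subgroupOf.mp h2)
    apply hN1
    rw [eq_bot_iff]
    intro x hx
    obtain ⟨y, rfl⟩ := QuotientGroup.mk'_surjective (K.subgroupOf C) x
    rw [mem_bot]
    change (QuotientGroup.mk y : C ⧸ K.subgroupOf C) = 1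
    rw [QuotientGroup.eq_one_iff, mem_subgroupOf]
    exact hMK ⟨y, hx, rfl⟩
  -- coprimeness
  have hW2 : IsPGroup 2 W := h.two.to_le h.ws_le_T
  have hcop : (Nat.card N).Coprime (Nat.card W) := by
    obtain ⟨m, hm⟩ := IsPGroup.iff_card.mp hNp
    haveI : Fact (Nat.Prime 2) := ⟨Nat.prime_two⟩
    obtain ⟨n, hn⟩ := IsPGroup.iff_card.mp hW2
    rw [hm, hn]
    exact Nat.Coprime.pow _ _ ((Nat.coprime_primes hp Nat.prime_two).mpr hp2)
  let φ : N →* MulAut W := ψ'.comp N.subtype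
  let W1 : Subgroup W := Subgroup.closure {w : W | ∃ (a : N) (u : W), w = φ a u * u⁻¹}
  have hzW : z ∈ W := h.V_le_ws h.z_mem
  have hW1n : ∀ t ∈ T, ∀ w ∈ W1.map W.subtype, t * w * t⁻¹ ∈ W1.map W.subtype := by
    intro t ht w hw
    have htC := h.T_le ht
    obtain ⟨w', hw', rfl⟩ := hw
    have h1 : ψ ⟨t, htC⟩ w' ∈ W1 := by
      have hle : W1 ≤ W1.comap (ψ ⟨t, htC⟩).toMonoidHom := by
        rw [closure_le]
        rintro _ ⟨a, u, rfl⟩
        rw [SetLike.mem_coe, mem_comap]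
        have e : (ψ ⟨t, htC⟩).toMonoidHom (φ a u * u⁻¹) =
            φ ⟨QuotientGroup.mk ⟨t, htC⟩ * (a : H) * (QuotientGroup.mk ⟨t, htC⟩)⁻¹,
              hNn.conj_mem _ a.2 _⟩ (ψ ⟨t, htC⟩ u) * (ψ ⟨t, htC⟩ u)⁻¹ := by
          have e1 : ψ ⟨t, htC⟩ = ψ' (QuotientGroup.mk ⟨t, htC⟩) := rfl
          change (ψ ⟨t, htC⟩) (ψ' a u * u⁻¹) = ψ' _ (ψ ⟨t, htC⟩ u) * (ψ ⟨t, htC⟩ u)⁻¹
          rw [map_mul, map_inv, e1, ← MulAut.mul_apply, ← MulAut.mul_apply, ← map_mul, ← map_mul,
            Subgroup.coe_subtype, inv_mul_cancel_right]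
        rw [e]
        exact subset_closure ⟨_, _, rfl⟩
      exact hle hw'
    exact ⟨_, h1, rfl⟩
  have hW1T : W1.map W.subtype ≤ T := (map_subtype_le _).trans h.ws_le_T
  have hW1 : W1.map W.subtype = ⊥ := by
    by_contra hne
    have hz := z_mem_of_le h.toGeo hW1T (le_normalizer_of_forall hW1n) hne
    obtain ⟨w, hw, hwz⟩ := hz
    have hwz' : (w : G) = z := hwz
    have h1 := Lib.CoprimeAbelian.eq_one_of_fixed_of_mem_closure φ hcop w (fun a => by
      obtain ⟨c, hc⟩ := QuotientGroup.mk_surjective (a : H)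
      apply Subtype.ext
      change ((ψ' (a : H) w : W) : G) = w
      rw [← hc]
      change ((ψ c w : W) : G) = w
      rw [hψ, hwz', h.z_comm c.2, mul_inv_cancel_right]) hw
    apply h.z_ne
    rw [← hwz', h1]; rfl
  have hW1' : W1 = ⊥ := by
    rw [map_eq_bot_iff_of_injective _ W.subtype_injective] at hW1
    exact hW1
  have hfix : ∀ (a : N) (u : W), φ a u = u := by
    intro a u
    have h1 : φ a u * u⁻¹ ∈ W1 := subset_closure ⟨a, u, rfl⟩
    rw [hW1', mem_bot, mul_inv_eq_one] at h1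
    exact h1
  apply hN1
  rw [eq_bot_iff]
  intro x hx
  obtain ⟨y, rfl⟩ := QuotientGroup.mk_surjective x
  rw [mem_bot, QuotientGroup.eq_one_iff, mem_subgroupOf, hK, mem_kq]
  have hyfix : ∀ w ∈ W, (y : G) * w * (y : G)⁻¹ = w := by
    intro w hw
    have h1 := congrArg Subtype.val (hfix ⟨_, hx⟩ ⟨w, hw⟩)
    exact h1
  refine ⟨y.2, fun w hw => ?_, fun w hw => ?_⟩
  · rw [hyfix w hw, mul_inv_cancel]; exact one_mem _
  · have h2 : (y : G)⁻¹ * w * y = w := by
      have := hyfix w hw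
      calc (y : G)⁻¹ * w * y = (y : G)⁻¹ * (y * w * (y : G)⁻¹) * y := by rw [this]
        _ = w := by group
    rw [h2, mul_inv_cancel]; exact one_mem _

/-- some element of `T ∩ kq V z` interchanges the other two points of `V` -/
theorem exists_swap (h : Odd T V z) :
    ∃ y ∈ T ⊓ kq V z, ∀ q ∈ V, q ≠ 1 → q ≠ z → y * q * y⁻¹ = z * q := by
  obtain ⟨y, hy, hyV⟩ := Set.not_subset.mp h.not_inf_le
  exact ⟨y, hy, fun q hq hq1 hqz => move h.toGeo (kq_le V z hy.2) (h.T_norm hy.1) hyV hq hq1 hqz⟩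

end Odd

end Move

/-! ### `dd V`, `ll V` -/

section LL

variable {T V : Subgroup G} {z : G} [Finite G]

theorem cj_kq (V : Subgroup G) (g x : G) : cj g (kq V x) = kq V (g * x * g⁻¹) := by
  have key : ∀ (g x : G), cj g (kq V x) ≤ kq V (g * x * g⁻¹) := by
    intro g x c hc
    rw [mem_cj, mem_kq] at hc
    rw [mem_kq]
    have hzp : ∀ y, y ∈ zpowers x → g * y * g⁻¹ ∈ zpowers (g * x * g⁻¹) := by
      intro y hy
      obtain ⟨n, rfl⟩ := mem_zpowers_iff.mp hy
      rw [← conj_zpow]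
      exact zpow_mem (mem_zpowers _) n
    have hw' : ∀ w ∈ ws V (g * x * g⁻¹), g⁻¹ * w * g ∈ ws V x := by
      intro w hw
      rw [← cj_ws, mem_cj] at hw
      exact hw
    refine ⟨?_, fun w hw => ?_, fun w hw => ?_⟩
    · rw [← cj_centralizer_singleton, mem_cj]; exact hc.1
    · have h1 := hzp _ (hc.2.1 _ (hw' w hw))
      have e : g * (g⁻¹ * c * g * (g⁻¹ * w * g) * (g⁻¹ * c * g)⁻¹ * (g⁻¹ * w * g)⁻¹) * g⁻¹ =
          c * w * c⁻¹ * w⁻¹ := by group
      rwa [e] at h1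
    · have h1 := hzp _ (hc.2.2 _ (hw' w hw))
      have e : g * ((g⁻¹ * c * g)⁻¹ * (g⁻¹ * w * g) * (g⁻¹ * c * g) * (g⁻¹ * w * g)⁻¹) * g⁻¹ =
          c⁻¹ * w * c * w⁻¹ := by group
      rwa [e] at h1
  refine le_antisymm (key g x) ?_
  have h := key g⁻¹ (g * x * g⁻¹)
  have e : g⁻¹ * (g * x * g⁻¹) * g⁻¹⁻¹ = x := by group
  rw [e, cj_le_iff, inv_inv] at h
  exact h

/-- the subgroup generated by the kernels `kq V p`, `p ∈ V#` -/
def ll (V : Subgroup G) : Subgroup G := ⨆ p : {p : G // p ∈ V ∧ p ≠ 1}, kq V p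

theorem kq_le_ll {V : Subgroup G} {p : G} (hp : p ∈ V) (hp1 : p ≠ 1) : kq V p ≤ ll V :=
  le_iSup (fun p : {p : G // p ∈ V ∧ p ≠ 1} => kq V p) ⟨p, hp, hp1⟩

theorem normalizer_le_normalizer_ll (V : Subgroup G) :
    normalizer (V : Set G) ≤ normalizer ((ll V : Subgroup G) : Set G) := by
  have key : ∀ g ∈ normalizer (V : Set G), cj g (ll V) ≤ ll V := by
    intro g hg
    rw [cj_le_iff]
    refine iSup_le fun p => ?_
    rw [← cj_le_iff, cj_kq]
    refine kq_le_ll ((mem_normalizer_iff.mp hg p).mp p.2.1) (fun e => p.2.2 ?_)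
    have : (p : G) = g⁻¹ * (g * p * g⁻¹) * g := by group
    rw [this, e]; group
  intro g hg
  rw [mem_normalizer_iff_cj]
  refine le_antisymm (key g hg) ?_
  have := key g⁻¹ (inv_mem hg)
  rwa [cj_le_iff, inv_inv] at this

theorem ll_le_normalizer (h : Odd T V z) : ll V ≤ normalizer (V : Set G) := by
  refine iSup_le fun p => ?_
  obtain ⟨T', h'⟩ := h.point p.2.1 p.2.2
  exact kq_le_normalizer h'.toGeo

namespace Odd

/-- `ws V z ⊓ ws V q = dd V` -/
theorem inf_le_dd (h : Odd T V z) {q : G} (hq : q ∈ V) (hq1 : q ≠ 1) (hqz : q ≠ z) :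
    ws V z ⊓ ws V q ≤ dd V := by
  rintro d ⟨hdz, hdq⟩
  rw [mem_dd]
  intro p hp hp1
  rcases h.four h.z_mem hq h.z_ne hq1 (Ne.symm hqz) hp with rfl | rfl | rfl | rfl
  · exact absurd rfl hp1
  · exact hdz
  · exact hdq
  · obtain ⟨w, hw, hwm⟩ := h.exists_swap
    have h1 : w * d * w⁻¹ ∈ ws V (z * q) := by
      rw [← hwm q hq hq1 hqz]; exact conj_mem_ws hdq
    obtain ⟨T', h'⟩ := h.point hp hp1
    rcases kq_ws h.toGeo hw.2 hdz with e | e
    · rwa [e] at h1
    · rw [e] at h1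
      have h3 : z ∈ ws V (z * q) := h'.V_le_ws h.z_mem
      have h4 := mul_mem (inv_mem h3) h1
      rwa [inv_mul_cancel_left] at h4

theorem inf_eq_dd (h : Odd T V z) {p q : G} (hp : p ∈ V) (hp1 : p ≠ 1) (hq : q ∈ V) (hq1 : q ≠ 1)
    (hpq : p ≠ q) : ws V p ⊓ ws V q = dd V := by
  obtain ⟨T', h'⟩ := h.point hp hp1
  exact le_antisymm (h'.inf_le_dd hq hq1 (Ne.symm hpq))
    (fun d hd => ⟨mem_dd.mp hd p hp hp1, mem_dd.mp hd q hq hq1⟩)

theorem dd_le_ws (_ : Odd T V z) {p : G} (hp : p ∈ V) (hp1 : p ≠ 1) : dd V ≤ ws V p :=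
  fun _ hd => mem_dd.mp hd p hp hp1

theorem V_le_dd (h : Odd T V z) : V ≤ dd V := by
  intro v hv
  rw [mem_dd]
  intro p hp hp1
  obtain ⟨T', h'⟩ := h.point hp hp1
  exact h'.V_le_ws hv

theorem dd_comm (h : Odd T V z) {a b : G} (ha : a ∈ dd V) (hb : b ∈ dd V) : a * b = b * a :=
  h.ab a (h.dd_le_ws h.z_mem h.z_ne ha) b (h.dd_le_ws h.z_mem h.z_ne hb)

theorem dd_sq (h : Odd T V z) {a : G} (ha : a ∈ dd V) : a * a = 1 :=
  h.ws_sq (h.dd_le_ws h.z_mem h.z_ne ha)

theorem dd_inv (h : Odd T V z) {a : G} (ha : a ∈ dd V) : a⁻¹ = a := inv_eq_self (h.dd_sq ha)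

theorem ws_le_centralizer_V (h : Odd T V z) {p : G} (hp : p ∈ V) (hp1 : p ≠ 1) :
    ws V p ≤ centralizer (V : Set G) := by
  obtain ⟨T', h'⟩ := h.point hp hp1
  intro w hw
  exact mem_centralizer_iff.mpr fun v hv => h'.ab v (h'.V_le_ws hv) w hw

theorem dd_le_centralizer (h : Odd T V z) : dd V ≤ centralizer (V : Set G) :=
  (h.dd_le_ws h.z_mem h.z_ne).trans (h.ws_le_centralizer_V h.z_mem h.z_ne)

/-- an element of `kq V p` moves an element of `dd V` at most by `p` -/
theorem kq_dd (h : Odd T V z) {k d p : G} (hp : p ∈ V) (hp1 : p ≠ 1) (hk : k ∈ kq V p) (hd : d ∈ dd V) :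
    k * d * k⁻¹ = d ∨ k * d * k⁻¹ = p * d := by
  obtain ⟨T', h'⟩ := h.point hp hp1
  exact kq_ws h'.toGeo hk (h.dd_le_ws hp hp1 hd)

/-- swap at each point -/
theorem exists_swap' (h : Odd T V z) {p : G} (hp : p ∈ V) (hp1 : p ≠ 1) :
    ∃ y ∈ kq V p, ∀ q ∈ V, q ≠ 1 → q ≠ p → y * q * y⁻¹ = p * q := by
  obtain ⟨T', h'⟩ := h.point hp hp1
  obtain ⟨y, hy, hy2⟩ := h'.exists_swap
  exact ⟨y, hy.2, hy2⟩

theorem kq_conj (_ : Odd T V z) {k p : G} (hk : k ∈ kq V p) : k * p * k⁻¹ = p := by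
  rw [mem_centralizer_singleton_iff.mp (kq_le V p hk)]; group

/-- `[dd V, ll V] ≤ V` -/
theorem ll_dd (h : Odd T V z) : ∀ g ∈ ll V, ∀ d ∈ dd V, g * d * g⁻¹ * d⁻¹ ∈ V := by
  let A : Subgroup G :=
    { carrier := {g | g ∈ normalizer (V : Set G) ∧ ∀ d ∈ dd V, g * d * g⁻¹ * d⁻¹ ∈ V}
      mul_mem' := by
        rintro a b ⟨ha, ha1⟩ ⟨hb, hb1⟩
        refine ⟨mul_mem ha hb, fun d hd => ?_⟩
        have e : a * b * d * (a * b)⁻¹ * d⁻¹ =
            (a * (b * d * b⁻¹ * d⁻¹) * a⁻¹) * (a * d * a⁻¹ * d⁻¹) := by group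
        rw [e]
        exact mul_mem ((mem_normalizer_iff.mp ha _).mp (hb1 d hd)) (ha1 d hd)
      one_mem' := ⟨one_mem _, fun d _ => by simp⟩
      inv_mem' := by
        rintro a ⟨ha, ha1⟩
        refine ⟨inv_mem ha, fun d hd => ?_⟩
        have hd' : a⁻¹ * d * a ∈ dd V := by
          have := conj_mem_dd (inv_mem ha) hd
          rwa [inv_inv] at this
        have h1 := inv_mem (ha1 _ hd')
        have e : (a * (a⁻¹ * d * a) * a⁻¹ * (a⁻¹ * d * a)⁻¹)⁻¹ = a⁻¹ * d * a⁻¹⁻¹ * d⁻¹ := by group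
        rwa [e] at h1 }
  have hA : ll V ≤ A := by
    refine iSup_le fun p k hk => ⟨ll_le_normalizer h (kq_le_ll p.2.1 p.2.2 hk), fun d hd => ?_⟩
    rcases h.kq_dd p.2.1 p.2.2 hk hd with e | e
    · rw [e, mul_inv_cancel]; exact one_mem _
    · rw [e, mul_inv_cancel_right]; exact p.2.1
  exact fun g hg => (hA hg).2

/-- `ll V` normalizes the subgroups between `V` and `dd V` -/
theorem ll_le_normalizer_of_le (h : Odd T V z) {E : Subgroup G} (hE : E ≤ dd V) (hVE : V ≤ E) :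
    ll V ≤ normalizer (E : Set G) := by
  refine le_normalizer_of_forall fun g hg e he => ?_
  have h1 := h.ll_dd g hg e (hE he)
  have h2 : g * e * g⁻¹ = (g * e * g⁻¹ * e⁻¹) * e := by group
  rw [h2]
  exact mul_mem (hVE h1) he

/-- `C_{dd V}(ll V) = 1` -/
theorem eq_one_of_comm_ll (h : Odd T V z) {d : G} (hd : d ∈ dd V) (hc : ∀ g ∈ ll V, g * d = d * g) :
    d = 1 := by
  by_contra hd1
  set U := dd V ⊓ centralizer (ll V : Set G) with hU
  have hUT : U ≤ T := inf_le_left.trans ((h.dd_le_ws h.z_mem h.z_ne).trans h.ws_le_T)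
  have hUn : T ≤ normalizer (U : Set G) := by
    refine le_normalizer_of_forall fun t ht u hu => ?_
    have htn := h.T_norm ht
    refine mem_inf.mpr ⟨conj_mem_dd htn hu.1, mem_centralizer_iff.mpr fun g hg => ?_⟩
    have h1 := mem_centralizer_iff.mp hu.2 _
      (conj_mem_of_normalizer' (normalizer_le_normalizer_ll V) htn hg)
    calc g * (t * u * t⁻¹) = t * (t⁻¹ * g * t * u) * t⁻¹ := by group
      _ = t * (u * (t⁻¹ * g * t)) * t⁻¹ := by rw [h1]
      _ = t * u * t⁻¹ * g := by group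
  have hne : U ≠ ⊥ := by
    intro e
    have : d ∈ U := ⟨hd, mem_centralizer_iff.mpr hc⟩
    rw [e, mem_bot] at this
    exact hd1 this
  have hz := z_mem_of_le h.toGeo hUT hUn hne
  obtain ⟨q, hq, hq1, hqz⟩ := h.exists_y
  obtain ⟨y, hy, hym⟩ := h.exists_swap' hq hq1
  have h1 := hym z h.z_mem h.z_ne (Ne.symm hqz)
  have h2 := mem_centralizer_iff.mp hz.2 y (kq_le_ll hq hq1 hy)
  rw [h2, mul_inv_cancel_right] at h1
  exact hq1 (by simpa using h1.symm)

/-- an element of `dd V` commuting with `kq V z ∩ C(V)` commutes with `kq V q ∩ C(V)` -/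
theorem comm_of_comm (h : Odd T V z) {d q : G} (hd : d ∈ dd V)
    (hc : ∀ u ∈ kq V z ⊓ centralizer (V : Set G), u * d = d * u) (hq : q ∈ V) (hq1 : q ≠ 1) :
    ∀ u ∈ kq V q ⊓ centralizer (V : Set G), u * d = d * u := by
  intro u hu
  by_cases hqz : q = z
  · rw [hqz] at hu; exact hc u hu
  have hr : z * q ∈ V := mul_mem h.z_mem hq
  have hr1 : z * q ≠ 1 := fun e => hqz (by
    have := mul_eq_one_iff_eq_inv.mp e
    rw [h.inv_eq hq] at this; exact this.symm)
  obtain ⟨w, hw, hwm⟩ := h.exists_swap' hr hr1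
  have hzr : z ≠ z * q := fun e => hq1 (by simpa using e.symm)
  have h1 : w * z * w⁻¹ = q := by
    rw [hwm z h.z_mem h.z_ne hzr, h.comm h.z_mem hq, mul_assoc, h.zz, mul_one]
  have h2 : w⁻¹ * q * w = z := by rw [← h1]; group
  have hn : w ∈ normalizer (V : Set G) := ll_le_normalizer h (kq_le_ll hr hr1 hw)
  have h3 : w⁻¹ * u * w ∈ kq V z ⊓ centralizer (V : Set G) := by
    refine mem_inf.mpr ⟨?_, ?_⟩
    · have h5 : w⁻¹ * u * w⁻¹⁻¹ ∈ cj w⁻¹ (kq V q) := conj_mem_cj hu.1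
      rw [cj_kq, inv_inv, h2] at h5
      exact h5
    · have := conj_mem_centralizer (inv_mem hn) hu.2
      rwa [inv_inv] at this
  have h4 := hc _ h3
  have h5 := h.kq_dd hr hr1 hw hd
  have h6 : u * (w * d * w⁻¹) = (w * d * w⁻¹) * u := by
    calc u * (w * d * w⁻¹) = w * ((w⁻¹ * u * w) * d) * w⁻¹ := by group
      _ = w * (d * (w⁻¹ * u * w)) * w⁻¹ := by rw [h4]
      _ = (w * d * w⁻¹) * u := by group
  rcases h5 with e | e
  · rwa [e] at h6
  · rw [e] at h6
    have h7 : u * (z * q) = z * q * u := comm_V hu.2 hr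
    have h8 : z * q * (u * d) = z * q * (d * u) := by
      calc z * q * (u * d) = (z * q * u) * d := by group
        _ = u * (z * q * d) := by rw [← h7]; group
        _ = z * q * (d * u) := by rw [h6]; group
    exact mul_left_cancel h8

/-- **`C_{dd V}(kq V z ∩ C(V)) = V`** -/
theorem mem_V_of_comm (h : Odd T V z) {d : G} (hd : d ∈ dd V)
    (hc : ∀ u ∈ kq V z ⊓ centralizer (V : Set G), u * d = d * u) : d ∈ V := by
  obtain ⟨y, hy, hy1, hyz⟩ := h.exists_y
  obtain ⟨w1, hw1, m1'⟩ := h.exists_swap' h.z_mem h.z_ne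
  obtain ⟨w2, hw2, m2'⟩ := h.exists_swap' hy hy1
  have m1 : w1 * y * w1⁻¹ = z * y := m1' y hy hy1 hyz
  have m2 : w2 * z * w2⁻¹ = y * z := m2' z h.z_mem h.z_ne (Ne.symm hyz)
  have n1 : w1 * z * w1⁻¹ = z := h.kq_conj hw1
  have n2 : w2 * y * w2⁻¹ = y := h.kq_conj hw2
  have hyz' : y * z = z * y := h.comm hy h.z_mem
  have hVd : ∀ v ∈ V, v * d = d * v := fun v hv => (comm_V (h.dd_le_centralizer hd) hv).symm
  -- an element `v` of `V` such that `d * v` commutes with `w1` and `w2`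
  obtain ⟨v, hv, e1, e2⟩ : ∃ v ∈ V, w1 * (d * v) * w1⁻¹ = d * v ∧ w2 * (d * v) * w2⁻¹ = d * v := by
    have f1 : ∀ v, w1 * (d * v) * w1⁻¹ = (w1 * d * w1⁻¹) * (w1 * v * w1⁻¹) := fun v => by group
    have f2 : ∀ v, w2 * (d * v) * w2⁻¹ = (w2 * d * w2⁻¹) * (w2 * v * w2⁻¹) := fun v => by group
    rcases h.kq_dd h.z_mem h.z_ne hw1 hd with g1 | g1 <;> rcases h.kq_dd hy hy1 hw2 hd with g2 | g2
    · exact ⟨1, one_mem _, by simp [g1], by simp [g2]⟩
    · refine ⟨z, h.z_mem, ?_, ?_⟩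
      · rw [f1, g1, n1]
      · rw [f2, g2, m2, hVd y hy]
        calc d * y * (y * z) = d * (y * y) * z := by group
          _ = d * z := by rw [h.sq y hy, mul_one]
    · refine ⟨y, hy, ?_, ?_⟩
      · rw [f1, g1, m1, hVd z h.z_mem]
        calc d * z * (z * y) = d * (z * z) * y := by group
          _ = d * y := by rw [h.zz, mul_one]
      · rw [f2, g2, n2]
    · refine ⟨z * y, mul_mem h.z_mem hy, ?_, ?_⟩
      · have : w1 * (z * y) * w1⁻¹ = y := by
          calc w1 * (z * y) * w1⁻¹ = (w1 * z * w1⁻¹) * (w1 * y * w1⁻¹) := by group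
            _ = (z * z) * y := by rw [n1, m1]; group
            _ = y := by rw [h.zz, one_mul]
        rw [f1, g1, this, hVd z h.z_mem, mul_assoc]
      · have : w2 * (z * y) * w2⁻¹ = z := by
          calc w2 * (z * y) * w2⁻¹ = (w2 * z * w2⁻¹) * (w2 * y * w2⁻¹) := by group
            _ = z * (y * y) := by rw [m2, n2, hyz']; group
            _ = z := by rw [h.sq y hy, mul_one]
        rw [f2, g2, this, hVd y hy, mul_assoc, hyz']
  set e := d * v with he
  have hed : e ∈ dd V := mul_mem hd (h.V_le_dd hv)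
  have hev : ∀ p ∈ V, p ≠ 1 → ∀ u ∈ kq V p ⊓ centralizer (V : Set G), u * e = e * u := by
    intro p hp hp1 u hu
    have h1 := h.comm_of_comm hd hc hp hp1 u hu
    rw [he, ← mul_assoc, h1, mul_assoc, comm_V hu.2 hv, ← mul_assoc]
  -- any two elements of `kq V p` moving `V` differ by an element of `C(V)`
  have htwo : ∀ p ∈ V, p ≠ 1 → ∀ w ∈ kq V p, (∀ q ∈ V, q ≠ 1 → q ≠ p → w * q * w⁻¹ = p * q) →
      w * e * w⁻¹ = e → ∀ k ∈ kq V p, k * e = e * k := by
    intro p hp hp1 w hw hwm hwe k hk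
    obtain ⟨T', h'⟩ := h.point hp hp1
    have hwe' : w * e = e * w := by
      calc w * e = (w * e * w⁻¹) * w := by group
        _ = e * w := by rw [hwe]
    by_cases hkV : k ∈ centralizer (V : Set G)
    · exact hev p hp hp1 k ⟨hk, hkV⟩
    · have hkm : ∀ q ∈ V, q ≠ 1 → q ≠ p → k * q * k⁻¹ = p * q := fun q hq =>
        move h'.toGeo (kq_le V p hk) (kq_le_normalizer h'.toGeo hk) hkV hq
      have h1 : w⁻¹ * k ∈ kq V p ⊓ centralizer (V : Set G) := by
        refine mem_inf.mpr ⟨mul_mem (inv_mem hw) hk, mem_centralizer_iff.mpr fun q hq => ?_⟩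
        by_cases hq1 : q = 1
        · rw [hq1]; simp
        by_cases hqp : q = p
        · rw [hqp]
          exact (mem_centralizer_singleton_iff.mp (mul_mem (inv_mem (kq_le V p hw)) (kq_le V p hk))).symm
        · have a1 := hwm q hq hq1 hqp
          have a2 := hkm q hq hq1 hqp
          have a3 : w⁻¹ * (p * q) * w = q := by rw [← a1]; group
          calc q * (w⁻¹ * k) = (w⁻¹ * (p * q) * w) * (w⁻¹ * k) := by rw [a3]
            _ = w⁻¹ * (k * q * k⁻¹) * k := by rw [a2]; group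
            _ = w⁻¹ * k * q := by group
      have h2 := hev p hp hp1 _ h1
      calc k * e = w * ((w⁻¹ * k) * e) := by group
        _ = (w * e) * (w⁻¹ * k) := by rw [h2]; group
        _ = e * k := by rw [hwe']; group
  have hll : ll V ≤ centralizer ({e} : Set G) := by
    refine iSup_le fun p k hk => ?_
    rw [mem_centralizer_singleton_iff]
    rcases h.four h.z_mem hy h.z_ne hy1 (Ne.symm hyz) p.2.1 with h1 | h1 | h1 | h1
    · exact absurd h1 p.2.2
    · rw [h1] at hk; exact htwo z h.z_mem h.z_ne w1 hw1 m1' e1 k hk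
    · rw [h1] at hk; exact htwo y hy hy1 w2 hw2 m2' e2 k hk
    · rw [h1, ← m1, ← cj_kq, mem_cj] at hk
      have h3 := htwo y hy hy1 w2 hw2 m2' e2 _ hk
      have hw1e := htwo z h.z_mem h.z_ne w1 hw1 m1' e1 w1 hw1
      have hw1e' := htwo z h.z_mem h.z_ne w1 hw1 m1' e1 w1⁻¹ (inv_mem hw1)
      calc k * e = w1 * (w1⁻¹ * k * w1) * (w1⁻¹ * e) := by group
        _ = w1 * ((w1⁻¹ * k * w1) * e) * w1⁻¹ := by rw [hw1e']; group
        _ = (w1 * e) * (w1⁻¹ * k * w1) * w1⁻¹ := by rw [h3]; group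
        _ = e * k := by rw [hw1e]; group
  have h1 := h.eq_one_of_comm_ll hed (fun g hg => mem_centralizer_singleton_iff.mp (hll hg))
  have h2 : d = v⁻¹ := eq_inv_of_mul_eq_one_left h1
  rw [h2]; exact inv_mem hv

/-- all transvections of `⟨V, t⟩` with axis `V` -/
theorem exists_transvection (h : Odd T V z) {t p : G} (ht : t ∈ dd V) (htV : t ∉ V) (hp : p ∈ V)
    (hp1 : p ≠ 1) : ∃ k ∈ kq V p, k ∈ centralizer (V : Set G) ∧ k * t * k⁻¹ = p * t := by
  by_contra hcon
  push Not at hcon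
  obtain ⟨T', h'⟩ := h.point hp hp1
  apply htV
  refine h'.mem_V_of_comm ht (fun u hu => ?_)
  rcases h.kq_dd hp hp1 hu.1 ht with e | e
  · calc u * t = (u * t * u⁻¹) * u := by group
      _ = t * u := by rw [e]
  · exact absurd e (hcon u hu.1 hu.2)

/-- for each `t ∈ dd V - V` there is an element of `kq V p` centralizing `t` and interchanging the other two
points of `V` -/
theorem exists_swap_comm (h : Odd T V z) {t p : G} (ht : t ∈ dd V) (htV : t ∉ V) (hp : p ∈ V)
    (hp1 : p ≠ 1) : ∃ k ∈ kq V p, k * t = t * k ∧ ∀ q ∈ V, q ≠ 1 → q ≠ p → k * q * k⁻¹ = p * q := by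
  obtain ⟨y, hy, hym⟩ := h.exists_swap' hp hp1
  rcases h.kq_dd hp hp1 hy ht with e | e
  · refine ⟨y, hy, ?_, hym⟩
    calc y * t = (y * t * y⁻¹) * y := by group
      _ = t * y := by rw [e]
  · obtain ⟨k, hk, hkV, hkt⟩ := h.exists_transvection ht htV hp hp1
    have hkp : k * p * k⁻¹ = p := h.kq_conj hk
    refine ⟨k * y, mul_mem hk hy, ?_, fun q hq hq1 hqp => ?_⟩
    · have e1 : k * y * t * (k * y)⁻¹ = t := by
        calc k * y * t * (k * y)⁻¹ = k * (y * t * y⁻¹) * k⁻¹ := by group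
          _ = (k * p * k⁻¹) * (k * t * k⁻¹) := by rw [e]; group
          _ = (p * p) * t := by rw [hkp, hkt]; group
          _ = t := by rw [h.sq p hp, one_mul]
      calc k * y * t = (k * y * t * (k * y)⁻¹) * (k * y) := by group
        _ = t * (k * y) := by rw [e1]
    · calc k * y * q * (k * y)⁻¹ = k * (y * q * y⁻¹) * k⁻¹ := by group
        _ = k * (p * q) * k⁻¹ := by rw [hym q hq hq1 hqp]
        _ = p * q := by rw [comm_V hkV (mul_mem hp hq)]; group

/-- an element of `kq V (p * q)` moving `p` to `q` -/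
theorem exists_move (h : Odd T V z) {p q : G} (hp : p ∈ V) (hq : q ∈ V) (hp1 : p ≠ 1) (hq1 : q ≠ 1)
    (hpq : p ≠ q) : ∃ w ∈ kq V (p * q), w * p * w⁻¹ = q ∧ w * q * w⁻¹ = p := by
  have hr1 : p * q ≠ 1 := fun e => hpq (by
    have := mul_eq_one_iff_eq_inv.mp e
    rwa [h.inv_eq hq] at this)
  obtain ⟨w, hw, hwm⟩ := h.exists_swap' (mul_mem hp hq) hr1
  have hrp : p ≠ p * q := fun e => hq1 (by simpa using e.symm)
  have hrq : q ≠ p * q := fun e => hp1 (by simpa using e.symm)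
  refine ⟨w, hw, ?_, ?_⟩
  · rw [hwm p hp hp1 hrp, h.comm hp hq, mul_assoc, h.sq p hp, mul_one]
  · rw [hwm q hq hq1 hrq, mul_assoc, h.sq q hq, mul_one]

/-- a subgroup normalized by `ll V` containing a point of `V` contains `V` -/
theorem V_le_of_mem (h : Odd T V z) {U : Subgroup G} (hU : ll V ≤ normalizer (U : Set G)) {p : G}
    (hp : p ∈ V) (hp1 : p ≠ 1) (hpU : p ∈ U) : V ≤ U := by
  intro q hq
  by_cases hq1 : q = 1
  · rw [hq1]; exact one_mem _
  by_cases hpq : p = q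
  · rwa [← hpq]
  obtain ⟨w, hw, h1, _⟩ := h.exists_move hp hq hp1 hq1 hpq
  have hr1 : p * q ≠ 1 := fun e => hpq (by
    have := mul_eq_one_iff_eq_inv.mp e
    rwa [h.inv_eq hq] at this)
  rw [← h1]
  exact conj_mem_of_normalizer hU (kq_le_ll (mul_mem hp hq) hr1 hw) hpU

/-- a nontrivial subgroup of `dd V` normalized by `ll V` contains `V` -/
theorem V_le_of_le_dd (h : Odd T V z) {U : Subgroup G} (hU : ll V ≤ normalizer (U : Set G))
    (hUd : U ≤ dd V) (hU1 : U ≠ ⊥) : V ≤ U := by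
  obtain ⟨u, hu1⟩ := (Subgroup.ne_bot_iff_exists_ne_one).mp hU1
  by_cases huV : (u : G) ∈ V
  · exact h.V_le_of_mem hU huV (fun e => hu1 (Subtype.ext e)) u.2
  · obtain ⟨k, hk, -, hku⟩ := h.exists_transvection (hUd u.2) huV h.z_mem h.z_ne
    have h2 : k * u * k⁻¹ ∈ U := conj_mem_of_normalizer hU (kq_le_ll h.z_mem h.z_ne hk) u.2
    have h3 : z ∈ U := by
      have := mul_mem h2 (inv_mem u.2)
      rwa [hku, mul_inv_cancel_right] at this
    exact h.V_le_of_mem hU h.z_mem h.z_ne h3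

/-- the line `L` through `z` as an `Odd` situation -/
theorem line' (h : Odd T V z) {L : Subgroup G} (hL : L ∈ lines V z) : ∃ T' : Subgroup G, Odd T' L z := by
  obtain ⟨c, hc, rfl⟩ := h.toGeo.exists_of_mem_lines hL
  refine ⟨cj c T, ?_⟩
  have := h.conj c
  rwa [show c * z * c⁻¹ = z by rw [h.z_comm hc]; group] at this

/-- **Lemma K** -/
theorem false_of_gen (h : Odd T V z) {E J : Subgroup G} (hE : E ≤ dd V) (hVE : V ≤ E) (hne : ¬ E ≤ V)
    (hJ : J ≤ normalizer (E : Set G)) (hxx : ll V ≤ J)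
    (hgen : ∀ U : Subgroup G, V ≤ U → J ≤ normalizer (U : Set G) → E ≤ U) : False := by
  obtain ⟨q, hq, hq1, hqz⟩ := h.exists_y
  have hzq1 : z * q ≠ 1 := fun e => hqz (by
    rw [mul_eq_one_iff_eq_inv.mp e, h.inv_eq hq])
  obtain ⟨x, hx, hxV⟩ := Set.not_subset.mp hne
  let pt : Fin 3 → G := ![z, q, z * q]
  have hpt : ∀ i, pt i ∈ V ∧ pt i ≠ 1 := by
    intro i
    fin_cases i
    · exact ⟨h.z_mem, h.z_ne⟩
    · exact ⟨hq, hq1⟩
    · exact ⟨mul_mem h.z_mem hq, hzq1⟩
  choose w hw hwV hwx using fun i => h.exists_transvection (hE hx) hxV (hpt i).1 (hpt i).2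
  refine BTwoK.false_of_transvections h.solv (R := E) (J := J) (fun x hx => h.dd_sq (hE hx)) hJ pt w rfl
    (fun i => (hpt i).2) (fun i => hVE (hpt i).1) (fun i => hxx (kq_le_ll (hpt i).1 (hpt i).2 (hw i)))
    ?_ (fun i => ⟨x, hx, ?_⟩) ?_ ?_
  · intro i x hx
    rcases h.kq_dd (hpt i).1 (hpt i).2 (hw i) (hE hx) with e | e
    · exact Or.inl e
    · right
      rw [e]
      exact h.dd_comm (hE (hVE (hpt i).1)) (hE hx)
  · rw [hwx i]
    intro e
    exact (hpt i).2 (by simpa using e)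
  · intro i j
    rw [comm_V (hwV i) (hpt j).1]
    group
  · intro U hU hJU
    by_cases hU1 : U = ⊥
    · exact Or.inl hU1
    · right
      refine le_antisymm hU (hgen U ?_ hJU)
      exact h.V_le_of_le_dd (hxx.trans hJU) (hU.trans hE) hU1

/-- a line `L` through `z` in `dd V`: `V ≤ dd L` -/
theorem le_dd_of_le (h : Odd T V z) {L : Subgroup G} (hL : L ∈ lines V z) (hLd : L ≤ dd V) (hne : ¬ L ≤ V) :
    V ≤ dd L := by
  obtain ⟨T', h'⟩ := h.line' hL
  obtain ⟨v, hv, hv1, hvz⟩ := h.exists_y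
  have hzL : z ∈ L := h'.z_mem
  have hlV : ∀ x, ws L x = ws V x := by
    intro x
    obtain ⟨c, _, rfl⟩ := h.toGeo.exists_of_mem_lines hL
    exact ws_cj V c x
  -- enough: `v ∈ ws V p` for all points `p` of `L`
  have key : ∀ p ∈ L, p ≠ 1 → v ∈ ws V p ∧ z ∈ ws V p := by
    intro p hp hp1
    by_cases hpz : p = z
    · rw [hpz]; exact ⟨h.V_le_ws hv, h.V_le_ws h.z_mem⟩
    have hpV : p ∉ V := by
      intro hpV
      apply hne
      intro x hx
      rcases h'.four hzL hp h.z_ne hp1 (Ne.symm hpz) hx with rfl | rfl | rfl | rfl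
      · exact one_mem _
      · exact h.z_mem
      · exact hpV
      · exact mul_mem h.z_mem hpV
    -- an element of `ll V` exchanging `z` and `v` and commuting with `p`
    have hvz' : z * v ≠ 1 := fun e => hvz (by rw [mul_eq_one_iff_eq_inv.mp e, h.inv_eq hv])
    obtain ⟨g, hg, hgp, hgm⟩ := h.exists_swap_comm (hLd hp) hpV (mul_mem h.z_mem hv) hvz'
    have hg1 : g * z * g⁻¹ = v := by
      rw [hgm z h.z_mem h.z_ne (fun e => hv1 (by simpa using e.symm)), h.comm h.z_mem hv, mul_assoc, h.zz,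
        mul_one]
    have hg2 : g * p * g⁻¹ = p := by rw [hgp, mul_inv_cancel_right]
    have hLp : L ∈ lines V p := ⟨hL.1, hp⟩
    refine ⟨?_, le_ws hLp hzL⟩
    have h1 : cj g L ∈ lines V (g * p * g⁻¹) := mem_lines_cj hLp
    rw [hg2] at h1
    have h2 : g * z * g⁻¹ ∈ cj g L := conj_mem_cj hzL
    rw [hg1] at h2
    exact le_ws h1 h2
  intro x hx
  rw [mem_dd]
  intro p hp hp1
  rw [hlV]
  obtain ⟨k1, k2⟩ := key p hp hp1
  rcases h.four h.z_mem hv h.z_ne hv1 (Ne.symm hvz) hx with rfl | rfl | rfl | rfl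
  · exact one_mem _
  · exact k2
  · exact k1
  · exact mul_mem k2 k1

/-- **`V` is the only line through `z` contained in `dd V`** -/
theorem eq_of_mem_lines (h : Odd T V z) {L : Subgroup G} (hL : L ∈ lines V z) (hLd : L ≤ dd V) : L = V := by
  by_contra hne
  have hcard : Nat.card L = Nat.card V := by
    obtain ⟨c, _, rfl⟩ := h.toGeo.exists_of_mem_lines hL
    exact card_cj _ _
  have hne' : ¬ L ≤ V := by
    intro hle
    exact hne (Subgroup.eq_of_le_of_card_ge hle hcard.ge)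
  obtain ⟨T', h'⟩ := h.line' hL
  have hVd := h.le_dd_of_le hL hLd hne'
  set E := V ⊔ L with hE
  have hE1 : E ≤ dd V := sup_le h.V_le_dd hLd
  have hE2 : E ≤ dd L := sup_le hVd h'.V_le_dd
  refine h.false_of_gen hE1 le_sup_left (fun h1 => hne' (le_sup_right.trans h1)) (J := ll V ⊔ ll L)
    (sup_le (h.ll_le_normalizer_of_le hE1 le_sup_left) (h'.ll_le_normalizer_of_le hE2 le_sup_right))
    le_sup_left ?_
  intro U hVU hJU
  refine sup_le hVU ?_
  exact h'.V_le_of_mem (le_sup_right.trans hJU) h'.z_mem h'.z_ne (hVU h.z_mem)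

/-- general form: a line `L` meeting `V` nontrivially and contained in `dd V` is `V` -/
theorem eq_of_mem_lines' (h : Odd T V z) {L : Subgroup G} {p : G} (hp : p ∈ V) (hp1 : p ≠ 1)
    (hL : L ∈ lines V p) (hLd : L ≤ dd V) : L = V := by
  obtain ⟨T', h'⟩ := h.point hp hp1
  exact h'.eq_of_mem_lines hL hLd

/-- **there is no second line in `⟨V, t⟩`**, `t ∈ dd V` -/
theorem eq_of_le_sup (h : Odd T V z) {g t : G} (ht : t ∈ dd V) (hL : cj g V ≤ V ⊔ zpowers t) :
    cj g V = V := by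
  have htn : zpowers t ≤ normalizer (V : Set G) := by
    rw [zpowers_le]
    exact centralizer_le_normalizer _ (h.dd_le_centralizer ht)
  have htt : t * t = 1 := h.dd_sq ht
  have hLd : cj g V ≤ dd V := hL.trans (sup_le h.V_le_dd ((zpowers_le).mpr ht))
  -- `cj g V` meets `V`
  have hmem : ∀ x ∈ cj g V, x ∈ V ∨ x * t ∈ V := by
    intro x hx
    have h1 := hL hx
    rw [← SetLike.mem_coe, coe_mul_of_right_le_normalizer_left _ _ htn] at h1
    obtain ⟨v, hv, s, hs, hvs⟩ := h1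
    have hvs' : v * s = x := hvs
    rcases (mem_zpowers_iff_of_mul_self htt).mp hs with e | e
    · left; rw [← hvs', e, mul_one]; exact hv
    · right; rw [← hvs', e, mul_assoc, htt, mul_one]; exact hv
  obtain ⟨p, hp, hpV, hp1⟩ : ∃ p ∈ cj g V, p ∈ V ∧ p ≠ 1 := by
    have hg := h.conj g
    obtain ⟨y, hy, hy1, hyz⟩ := hg.exists_y
    have hz' := hg.z_mem
    have hz1 := hg.z_ne
    by_contra hcon
    push Not at hcon
    have a1 : g * z * g⁻¹ * t ∈ V := (hmem _ hz').resolve_left (fun e => hz1 (hcon _ hz' e))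
    have a2 : y * t ∈ V := (hmem _ hy).resolve_left (fun e => hy1 (hcon _ hy e))
    have hyt : y * t = t * y := h.dd_comm (hLd hy) ht
    have a3 : g * z * g⁻¹ * y ∈ V := by
      have := mul_mem a1 a2
      have e : g * z * g⁻¹ * t * (y * t) = g * z * g⁻¹ * y := by
        rw [hyt]
        calc g * z * g⁻¹ * t * (t * y) = g * z * g⁻¹ * (t * t) * y := by group
          _ = g * z * g⁻¹ * y := by rw [htt, mul_one]
      rwa [e] at this
    have a4 := hcon _ (mul_mem hz' hy) a3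
    apply hyz
    have h5 := mul_eq_one_iff_eq_inv.mp a4
    rw [hg.inv_eq hy] at h5
    exact h5.symm
  exact h.eq_of_mem_lines' hpV hp1 ⟨⟨g, rfl⟩, hp⟩ hLd

end Odd

end LL

end Cfsg.Agent.MinSimple.OddLine
end

-- part: MinSimple/OddBase
section
/-!
# (E1) with `|V| = 4` and `b` odd: distance, critical pairs

* `Pt z x`: `x` is a point; `Col V x y`: distinct collinear points; `Walk V n x y`: distance at most `n`;
* `OddN T V z n`: `n` is the least distance of points `x`, `y` with `[ws V x, ws V y] ≠ 1`;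
* `exists_n`; `Crit V z n x y`: critical pairs; `tt V j r`: generated by the `ws V w`, `w` at distance at most `j`
  from `r` (`(T)` of helper424's row 3049).
-/

set_option autoImplicit false
set_option linter.unusedSectionVars false

namespace Cfsg.Agent.MinSimple.OddBase

open Subgroup Cfsg Cfsg.Agent.ZN Cfsg.Agent.MinSimple.Geo Cfsg.Agent.MinSimple.BTwoA
  Cfsg.Agent.MinSimple.OddLine
open Cfsg.Agent.ZN.Block (conj_mem_of_normalizer conj_mem_of_normalizer' le_normalizer_of_forall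
  mem_normalizer_of)

universe u

variable {G : Type u} [Group G]

/-! ### points, collinearity, distance -/

/-- the points: conjugates of `z` -/
def Pt (z x : G) : Prop := ∃ g : G, x = g * z * g⁻¹

/-- `x` and `y` are distinct collinear points -/
def Col (V : Subgroup G) (x y : G) : Prop := x ≠ 1 ∧ y ≠ 1 ∧ x ≠ y ∧ ∃ L ∈ lines V x, y ∈ L

/-- the distance of `x` and `y` is at most `n` -/
def Walk (V : Subgroup G) : ℕ → G → G → Prop
  | 0, x, y => x = y
  | n + 1, x, y => ∃ w, Walk V n x w ∧ (w = y ∨ Col V w y)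

theorem conj_ne_one {g x : G} (hx : x ≠ 1) : g * x * g⁻¹ ≠ 1 := fun e => hx (by
  have : x = g⁻¹ * (g * x * g⁻¹) * g := by group
  rw [this, e]; group)

theorem conj_inj {g x y : G} (h : g * x * g⁻¹ = g * y * g⁻¹) : x = y := by
  have : x = g⁻¹ * (g * x * g⁻¹) * g := by group
  rw [this, h]; group

theorem Pt.conj {z x : G} (h : Pt z x) (g : G) : Pt z (g * x * g⁻¹) := by
  obtain ⟨k, rfl⟩ := h
  exact ⟨g * k, by group⟩

theorem Pt.refl (z : G) : Pt z z := ⟨1, by group⟩

theorem Pt.trans {z x y : G} (h : Pt z x) (h' : Pt x y) : Pt z y := by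
  obtain ⟨g, rfl⟩ := h'
  exact h.conj g

theorem Pt.symm {z x : G} (h : Pt z x) : Pt x z := by
  obtain ⟨g, rfl⟩ := h
  exact ⟨g⁻¹, by group⟩

theorem mem_kq' {V : Subgroup G} {x c : G} : c ∈ kq V x ↔ c ∈ centralizer ({x} : Set G) ∧
    (∀ w ∈ ws V x, c * w * c⁻¹ * w⁻¹ ∈ zpowers x) ∧ ∀ w ∈ ws V x, c⁻¹ * w * c * w⁻¹ ∈ zpowers x :=
  Iff.rfl

theorem kq_cj_left (V : Subgroup G) (g x : G) : kq (cj g V) x = kq V x := by
  ext c
  rw [mem_kq', mem_kq', ws_cj]

theorem cj_kq (V : Subgroup G) (g x : G) : cj g (kq V x) = kq V (g * x * g⁻¹) := by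
  have key : ∀ (g x : G), cj g (kq V x) ≤ kq V (g * x * g⁻¹) := by
    intro g x c hc
    rw [mem_cj] at hc
    obtain ⟨h1, h2, h3⟩ := hc
    have hz : ∀ y ∈ zpowers x, g * y * g⁻¹ ∈ zpowers (g * x * g⁻¹) := by
      rintro y ⟨n, rfl⟩
      refine ⟨n, ?_⟩
      simp only [conj_zpow]
    refine ⟨?_, fun w hw => ?_, fun w hw => ?_⟩
    · rw [mem_centralizer_singleton_iff] at h1 ⊢
      calc c * (g * x * g⁻¹) = g * (g⁻¹ * c * g * x) * g⁻¹ := by group
        _ = g * (x * (g⁻¹ * c * g)) * g⁻¹ := by rw [h1]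
        _ = g * x * g⁻¹ * c := by group
    · rw [← cj_ws, mem_cj] at hw
      have := hz _ (h2 _ hw)
      have e : g * (g⁻¹ * c * g * (g⁻¹ * w * g) * (g⁻¹ * c * g)⁻¹ * (g⁻¹ * w * g)⁻¹) * g⁻¹ =
          c * w * c⁻¹ * w⁻¹ := by group
      rwa [e] at this
    · rw [← cj_ws, mem_cj] at hw
      have := hz _ (h3 _ hw)
      have e : g * ((g⁻¹ * c * g)⁻¹ * (g⁻¹ * w * g) * (g⁻¹ * c * g) * (g⁻¹ * w * g)⁻¹) * g⁻¹ =
          c⁻¹ * w * c * w⁻¹ := by group
      rwa [e] at this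
  refine le_antisymm (key g x) ?_
  have h := key g⁻¹ (g * x * g⁻¹)
  have e : g⁻¹ * (g * x * g⁻¹) * g⁻¹⁻¹ = x := by group
  rw [e, cj_le_iff, inv_inv] at h
  exact h

theorem Col.symm {V : Subgroup G} {x y : G} (h : Col V x y) : Col V y x := by
  obtain ⟨h1, h2, h3, L, ⟨hL, hx⟩, hy⟩ := h
  exact ⟨h2, h1, h3.symm, L, ⟨hL, hy⟩, hx⟩

theorem Col.conj {V : Subgroup G} {x y : G} (h : Col V x y) (g : G) :
    Col V (g * x * g⁻¹) (g * y * g⁻¹) := by
  obtain ⟨h1, h2, h3, L, hL, hy⟩ := h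
  exact ⟨conj_ne_one h1, conj_ne_one h2, fun e => h3 (conj_inj e), cj g L, mem_lines_cj hL, conj_mem_cj hy⟩

theorem Col.mem_ws {V : Subgroup G} {x y : G} (h : Col V x y) : y ∈ ws V x := by
  obtain ⟨_, _, _, L, hL, hy⟩ := h
  exact le_ws hL hy

theorem col_cj_left {V : Subgroup G} {g x y : G} : Col (cj g V) x y ↔ Col V x y := by
  unfold Col; rw [lines_cj]

theorem Walk.conj {V : Subgroup G} {n : ℕ} {x y : G} (h : Walk V n x y) (g : G) :
    Walk V n (g * x * g⁻¹) (g * y * g⁻¹) := by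
  induction n generalizing y with
  | zero => exact congrArg (fun t => g * t * g⁻¹) (h : x = y)
  | succ n ih =>
    obtain ⟨w, hw, h1⟩ := h
    refine ⟨g * w * g⁻¹, ih hw, ?_⟩
    rcases h1 with rfl | h1
    · exact Or.inl rfl
    · exact Or.inr (h1.conj g)

theorem Walk.refl (V : Subgroup G) (n : ℕ) (x : G) : Walk V n x x := by
  induction n with
  | zero => exact rfl
  | succ n ih => exact ⟨x, ih, Or.inl rfl⟩

theorem Walk.succ {V : Subgroup G} {n : ℕ} {x y : G} (h : Walk V n x y) : Walk V (n + 1) x y :=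
  ⟨y, h, Or.inl rfl⟩

theorem Walk.mono {V : Subgroup G} {m n : ℕ} (hmn : m ≤ n) {x y : G} (h : Walk V m x y) :
    Walk V n x y := by
  induction n, hmn using Nat.le_induction with
  | base => exact h
  | succ n _ ih => exact ih.succ

theorem Walk.step {V : Subgroup G} {n : ℕ} {x y w : G} (h : Walk V n x y) (h' : Col V y w) :
    Walk V (n + 1) x w := ⟨y, h, Or.inr h'⟩

theorem Walk.trans {V : Subgroup G} {m n : ℕ} {x y w : G} (h : Walk V m x y) (h' : Walk V n y w) :
    Walk V (m + n) x w := by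
  induction n generalizing w with
  | zero =>
    have e : y = w := h'
    rw [← e]; exact h
  | succ n ih =>
    obtain ⟨v, hv, h1⟩ := h'
    exact ⟨v, ih hv, h1⟩

theorem walk_one {V : Subgroup G} {x y : G} : Walk V 1 x y ↔ x = y ∨ Col V x y := by
  constructor
  · rintro ⟨w, hw, h⟩
    have e : x = w := hw
    rw [e]; exact h
  · intro h
    exact ⟨x, rfl, h⟩

theorem Col.walk {V : Subgroup G} {x y : G} (h : Col V x y) : Walk V 1 x y := walk_one.mpr (Or.inr h)

theorem Walk.symm {V : Subgroup G} {n : ℕ} {x y : G} (h : Walk V n x y) : Walk V n y x := by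
  induction n generalizing y with
  | zero => exact Eq.symm (h : x = y)
  | succ n ih =>
    obtain ⟨w, hw, h1⟩ := h
    rcases h1 with rfl | h1
    · exact (ih hw).succ
    · have := h1.symm.walk.trans (ih hw)
      rwa [Nat.add_comm] at this

/-- the first step of a walk -/
theorem Walk.head {V : Subgroup G} {n : ℕ} {x y : G} (h : Walk V (n + 1) x y) :
    ∃ w, (x = w ∨ Col V x w) ∧ Walk V n w y := by
  obtain ⟨w, hw, h1⟩ := h.symm
  refine ⟨w, ?_, hw.symm⟩
  rcases h1 with rfl | h1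
  · exact Or.inl rfl
  · exact Or.inr h1.symm

theorem walk_cj_left {V : Subgroup G} {g : G} {n : ℕ} {x y : G} : Walk (cj g V) n x y ↔ Walk V n x y := by
  induction n generalizing y with
  | zero => exact Iff.rfl
  | succ n ih =>
    constructor
    · rintro ⟨w, hw, h1⟩
      exact ⟨w, ih.mp hw, h1.imp id col_cj_left.mp⟩
    · rintro ⟨w, hw, h1⟩
      exact ⟨w, ih.mpr hw, h1.imp id col_cj_left.mpr⟩

section Geo

variable {T V : Subgroup G} {z : G}

theorem pt_of_mem_line (h : Geo T V z) {L : Subgroup G} {x y : G} (hL : L ∈ lines V x) (hy : y ∈ L)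
    (hy1 : y ≠ 1) : Pt z y := by
  obtain ⟨⟨g, rfl⟩, _⟩ := hL
  rw [mem_cj] at hy
  obtain ⟨k, _, hk⟩ := h.trans _ hy (fun e => hy1 (by
    have : y = g * (g⁻¹ * y * g) * g⁻¹ := by group
    rw [this, e]; group))
  refine ⟨g * k, ?_⟩
  have : y = g * (g⁻¹ * y * g) * g⁻¹ := by group
  rw [this, ← hk]; group

theorem Col.pt (h : Geo T V z) {x y : G} (hc : Col V x y) : Pt z y := by
  obtain ⟨_, h2, _, L, hL, hy⟩ := hc
  exact pt_of_mem_line h hL hy h2

theorem Col.pt_left (h : Geo T V z) {x y : G} (hc : Col V x y) : Pt z x := hc.symm.pt h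

theorem pt_of_mem (h : Geo T V z) {p : G} (hp : p ∈ V) (hp1 : p ≠ 1) : Pt z p := by
  obtain ⟨k, _, hk⟩ := h.trans p hp hp1
  exact ⟨k, hk.symm⟩

theorem Pt.ne_one (h : Geo T V z) {x : G} (hx : Pt z x) : x ≠ 1 := by
  obtain ⟨g, rfl⟩ := hx
  exact conj_ne_one h.z_ne

theorem Pt.sq (h : Geo T V z) {x : G} (hx : Pt z x) : x * x = 1 := by
  obtain ⟨g, rfl⟩ := hx
  calc g * z * g⁻¹ * (g * z * g⁻¹) = g * (z * z) * g⁻¹ := by group
    _ = 1 := by rw [h.zz]; group

theorem col_of_mem (_ : Geo T V z) {p q : G} (hp : p ∈ V) (hq : q ∈ V) (hp1 : p ≠ 1) (hq1 : q ≠ 1)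
    (hpq : p ≠ q) : Col V p q :=
  ⟨hp1, hq1, hpq, V, ⟨⟨1, (cj_one V).symm⟩, hp⟩, hq⟩

theorem Walk.pt (h : Geo T V z) {n : ℕ} {x y : G} (hx : Pt z x) (hw : Walk V n x y) : Pt z y := by
  induction n generalizing y with
  | zero =>
    have e : x = y := hw
    rwa [← e]
  | succ n ih =>
    obtain ⟨w, hw, h1⟩ := hw
    rcases h1 with rfl | h1
    · exact ih hw
    · exact h1.pt h

/-- collinear points form flags conjugate to `(z, V)` -/
theorem exists_geo (h : Geo T V z) {x y : G} (hc : Col V x y) :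
    ∃ g : G, x = g * z * g⁻¹ ∧ y ∈ cj g V ∧ Geo (cj g T) (cj g V) x := by
  obtain ⟨h1, h2, h3, L, ⟨⟨g, rfl⟩, hx⟩, hy⟩ := hc
  rw [mem_cj] at hx
  obtain ⟨k, hk, hk2⟩ := h.trans _ hx (fun e => h1 (by
    have : x = g * (g⁻¹ * x * g) * g⁻¹ := by group
    rw [this, e]; group))
  have e : x = g * k * z * (g * k)⁻¹ := by
    have : x = g * (g⁻¹ * x * g) * g⁻¹ := by group
    rw [this, ← hk2]; group
  have e2 : cj (g * k) V = cj g V := by rw [← cj_cj, cj_eq_of_mem_normalizer hk]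
  refine ⟨g * k, e, ?_, ?_⟩
  · rw [e2]; exact hy
  · have := h.conj (g * k)
    rwa [← e] at this

end Geo

/-! ### facts for all points -/

section Odd

variable {T V : Subgroup G} {z : G}

/-- every point is the point of a flag conjugate to `(z, V)` -/
theorem exists_odd (h : _root_.Cfsg.Agent.MinSimple.OddLine.Odd T V z) {x : G} (hx : Pt z x) : ∃ g : G, x = g * z * g⁻¹ ∧ Odd (cj g T) (cj g V) x := by
  obtain ⟨g, rfl⟩ := hx
  exact ⟨g, rfl, h.conj g⟩

/-- collinear points: a flag conjugate to `(z, V)` -/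
theorem exists_odd_col (h : _root_.Cfsg.Agent.MinSimple.OddLine.Odd T V z) {x y : G} (hc : Col V x y) :
    ∃ g : G, x = g * z * g⁻¹ ∧ y ∈ cj g V ∧ Odd (cj g T) (cj g V) x := by
  obtain ⟨g, hg, hy, h1⟩ := exists_geo h.toGeo hc
  refine ⟨g, hg, hy, ?_⟩
  have := h.conj g
  rwa [← hg] at this

theorem ws_comm (h : _root_.Cfsg.Agent.MinSimple.OddLine.Odd T V z) {x : G} (hx : Pt z x) {a b : G} (ha : a ∈ ws V x) (hb : b ∈ ws V x) :
    a * b = b * a := by
  obtain ⟨g, _, h1⟩ := exists_odd h hx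
  rw [← ws_cj V g] at ha hb
  exact h1.ab a ha b hb

theorem self_mem_ws (h : Geo T V z) {x : G} (hx : Pt z x) : x ∈ ws V x := by
  obtain ⟨g, rfl⟩ := hx
  exact le_ws ⟨⟨g, rfl⟩, conj_mem_cj h.z_mem⟩ (conj_mem_cj h.z_mem)

theorem lines_le_ws {L : Subgroup G} {x y : G} (hL : L ∈ lines V x) (hy : y ∈ L) : L ≤ ws V y :=
  le_ws ⟨hL.1, hy⟩

theorem Col.mul_comm (h : _root_.Cfsg.Agent.MinSimple.OddLine.Odd T V z) {x y : G} (hc : Col V x y) : x * y = y * x :=
  ws_comm h (hc.pt_left h.toGeo) (self_mem_ws h.toGeo (hc.pt_left h.toGeo)) hc.mem_ws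

variable [Finite G]

theorem ws_sq (h : _root_.Cfsg.Agent.MinSimple.OddLine.Odd T V z) {x : G} (hx : Pt z x) {a : G} (ha : a ∈ ws V x) : a * a = 1 := by
  obtain ⟨g, _, h1⟩ := exists_odd h hx
  rw [← ws_cj V g] at ha
  exact h1.ws_sq ha

theorem ws_inv (h : _root_.Cfsg.Agent.MinSimple.OddLine.Odd T V z) {x : G} (hx : Pt z x) {a : G} (ha : a ∈ ws V x) : a⁻¹ = a :=
  inv_eq_self (ws_sq h hx ha)

theorem ws_isPGroup (h : _root_.Cfsg.Agent.MinSimple.OddLine.Odd T V z) {x : G} (hx : Pt z x) : IsPGroup 2 (ws V x) := by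
  rintro ⟨a, ha⟩
  refine ⟨1, ?_⟩
  ext
  change a ^ 2 ^ 1 = 1
  rw [pow_one, pow_two]
  exact ws_sq h hx ha

end Odd

/-! ### the critical distance -/

/-- `n` is the least distance of two points `x`, `y` with `[ws V x, ws V y] ≠ 1` -/
structure OddN (T V : Subgroup G) (z : G) (n : ℕ) : Prop extends Odd T V z where
  lt : ∀ x y m, m < n → Pt z x → Walk V m x y → ∀ a ∈ ws V x, ∀ b ∈ ws V y, a * b = b * a
  crit : ∃ x y, Pt z x ∧ Walk V n x y ∧ ∃ a ∈ ws V x, ∃ b ∈ ws V y, a * b ≠ b * a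

/-- `x`, `y` is a critical pair: distance `n` and `[ws V x, ws V y] ≠ 1` -/
def Crit (V : Subgroup G) (z : G) (n : ℕ) (x y : G) : Prop :=
  Pt z x ∧ Walk V n x y ∧ ∃ a ∈ ws V x, ∃ b ∈ ws V y, a * b ≠ b * a

section Crit

variable {T V : Subgroup G} {z : G} {n : ℕ}

theorem OddN.pos (h : OddN T V z n) : 0 < n := by
  obtain ⟨x, y, hx, hw, a, ha, b, hb, hab⟩ := h.crit
  rcases Nat.eq_zero_or_pos n with rfl | h1
  · exfalso
    have e : x = y := hw
    rw [← e] at hb
    exact hab (ws_comm h.toOdd hx ha hb)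
  · exact h1

theorem OddN.conj (h : OddN T V z n) (g : G) : OddN (cj g T) (cj g V) (g * z * g⁻¹) n where
  toOdd := h.toOdd.conj g
  lt := by
    intro x y m hm hx hw a ha b hb
    rw [ws_cj] at ha hb
    exact h.lt x y m hm ((Pt.symm ⟨g, rfl⟩ : Pt (g * z * g⁻¹) z).symm.trans hx) (walk_cj_left.mp hw) a ha b hb
  crit := by
    obtain ⟨x, y, hx, hw, a, ha, b, hb, hab⟩ := h.crit
    refine ⟨x, y, (Pt.symm (z := z) ⟨g, rfl⟩ : Pt (g * z * g⁻¹) z).trans hx, walk_cj_left.mpr hw, a, ?_, b, ?_, hab⟩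
    · rw [ws_cj]; exact ha
    · rw [ws_cj]; exact hb

theorem Crit.symm (h : _root_.Cfsg.Agent.MinSimple.OddLine.Odd T V z) {x y : G} (hc : Crit V z n x y) : Crit V z n y x := by
  obtain ⟨hx, hw, a, ha, b, hb, hab⟩ := hc
  exact ⟨Walk.pt h.toGeo hx hw, hw.symm, b, hb, a, ha, fun e => hab e.symm⟩

theorem Crit.conj {x y : G} (hc : Crit V z n x y) (g : G) : Crit V z n (g * x * g⁻¹) (g * y * g⁻¹) := by
  obtain ⟨hx, hw, a, ha, b, hb, hab⟩ := hc
  refine ⟨hx.conj g, hw.conj g, g * a * g⁻¹, ?_, g * b * g⁻¹, ?_, fun e => hab ?_⟩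
  · rw [← cj_ws]; exact conj_mem_cj ha
  · rw [← cj_ws]; exact conj_mem_cj hb
  · calc a * b = g⁻¹ * (g * a * g⁻¹ * (g * b * g⁻¹)) * g := by group
      _ = g⁻¹ * (g * b * g⁻¹ * (g * a * g⁻¹)) * g := by rw [e]
      _ = b * a := by group

theorem Crit.pt {x y : G} (hc : Crit V z n x y) : Pt z x := hc.1

theorem Crit.pt' (h : Geo T V z) {x y : G} (hc : Crit V z n x y) : Pt z y := Walk.pt h hc.1 hc.2.1

/-- there is no shorter walk between the points of a critical pair -/
theorem Crit.not_walk (h : OddN T V z n) {x y : G} (hc : Crit V z n x y) {m : ℕ} (hm : m < n) :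
    ¬ Walk V m x y := by
  intro hw
  obtain ⟨hx, _, a, ha, b, hb, hab⟩ := hc
  exact hab (h.lt x y m hm hx hw a ha b hb)

/-- the first step of a critical path -/
theorem Crit.head (h : OddN T V z n) {x y : G} (hc : Crit V z n x y) :
    ∃ w, Col V x w ∧ Walk V (n - 1) w y := by
  obtain ⟨m, rfl⟩ : ∃ m, n = m + 1 := ⟨n - 1, (Nat.sub_add_cancel h.pos).symm⟩
  obtain ⟨w, h1, h2⟩ := hc.2.1.head
  refine ⟨w, ?_, h2⟩
  rcases h1 with rfl | h1
  · exact absurd h2 (hc.not_walk h (Nat.lt_succ_self m))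
  · exact h1

/-- `ws V y` centralizes `ws V w` for all `w` at distance `< n` -/
theorem comm_of_walk (h : OddN T V z n) {w y : G} (hw : Pt z w) {m : ℕ} (hm : m < n)
    (hwy : Walk V m w y) : ws V y ≤ centralizer (ws V w : Set G) := fun _ hb =>
  mem_centralizer_iff.mpr fun a ha => h.lt w y m hm hw hwy a ha _ hb

section path

variable {x y w : G}

/-- for a critical pair `x, y` and the neighbour `w` of `x` on a path: `ws V y` centralizes `ws V w` -/
theorem Crit.ws_comm_head (h : OddN T V z n) (hxw : Col V x w) (hwy : Walk V (n - 1) w y) :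
    ws V y ≤ centralizer (ws V w : Set G) :=
  comm_of_walk h (hxw.pt h.toGeo) (Nat.sub_lt h.pos Nat.one_pos) hwy

theorem Crit.ws_le_centralizer_line (h : OddN T V z n) (hwy : Walk V (n - 1) w y)
    {L : Subgroup G} (hL : L ∈ lines V x) (hwL : w ∈ L) (hw1 : w ≠ 1) :
    ws V y ≤ centralizer (L : Set G) := by
  have hw : Pt z w := pt_of_mem_line h.toGeo hL hwL hw1
  refine (comm_of_walk h hw (Nat.sub_lt h.pos Nat.one_pos) hwy).trans ?_
  exact centralizer_le (lines_le_ws hL hwL)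

theorem Crit.ws_le_centralizer (h : OddN T V z n) (hc : Crit V z n x y) :
    ws V y ≤ centralizer ({x} : Set G) := by
  obtain ⟨w, h1, h2⟩ := hc.head h
  refine (Crit.ws_comm_head h h1 h2).trans (centralizer_le ?_)
  rintro _ rfl
  exact h1.symm.mem_ws

theorem Crit.ws_le_normalizer (h : OddN T V z n) (hc : Crit V z n x y) :
    ws V y ≤ normalizer ((ws V x : Subgroup G) : Set G) :=
  (hc.ws_le_centralizer h).trans (Geo.centralizer_le_normalizer_ws V x)

theorem Crit.comm_mem (h : OddN T V z n) (hc : Crit V z n x y) {a b : G} (ha : a ∈ ws V x)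
    (hb : b ∈ ws V y) : a * b * a⁻¹ * b⁻¹ ∈ ws V x ⊓ ws V y := by
  refine ⟨?_, ?_⟩
  · have ha' : a⁻¹ ∈ ws V x := inv_mem ha
    have h1 := conj_mem_of_normalizer (hc.ws_le_normalizer h) hb ha'
    have e : a * b * a⁻¹ * b⁻¹ = a * (b * a⁻¹ * b⁻¹) := by group
    rw [e]
    exact mul_mem ha h1
  · have h1 := conj_mem_of_normalizer ((hc.symm h.toOdd).ws_le_normalizer h) ha hb
    have hb' : b⁻¹ ∈ ws V y := inv_mem hb
    exact mul_mem h1 hb'

end path

/-! ### `(T)` -/

/-- the subgroup generated by the `ws V w`, `w` at distance at most `j` from `r` -/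
def tt (V : Subgroup G) (j : ℕ) (r : G) : Subgroup G := sSup {U | ∃ w, Walk V j r w ∧ U = ws V w}

theorem ws_le_tt {j : ℕ} {r w : G} (hw : Walk V j r w) : ws V w ≤ tt V j r := le_sSup ⟨w, hw, rfl⟩

theorem tt_le {j : ℕ} {r : G} {U : Subgroup G} (hU : ∀ w, Walk V j r w → ws V w ≤ U) : tt V j r ≤ U :=
  sSup_le (by rintro _ ⟨w, hw, rfl⟩; exact hU w hw)

theorem tt_le_centralizer_ws (h : OddN T V z n) {j : ℕ} (hj : j < n) {r : G} (hr : Pt z r) :
    tt V j r ≤ centralizer (ws V r : Set G) :=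
  tt_le fun _ hw => comm_of_walk h hr hj hw

theorem cj_tt (j : ℕ) (r g : G) : cj g (tt V j r) = tt V j (g * r * g⁻¹) := by
  have key : ∀ (g r : G), cj g (tt V j r) ≤ tt V j (g * r * g⁻¹) := by
    intro g r
    rw [cj_le_iff]
    refine tt_le fun w hw => ?_
    rw [← cj_le_iff, cj_ws]
    exact ws_le_tt (hw.conj g)
  refine le_antisymm (key g r) ?_
  have h := key g⁻¹ (g * r * g⁻¹)
  have e : g⁻¹ * (g * r * g⁻¹) * g⁻¹⁻¹ = r := by group
  rw [e, cj_le_iff, inv_inv] at h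
  exact h

theorem centralizer_le_normalizer_tt (j : ℕ) (r : G) :
    centralizer ({r} : Set G) ≤ normalizer ((tt V j r : Subgroup G) : Set G) := by
  intro g hg
  rw [mem_normalizer_iff_cj, cj_tt]
  have : g * r * g⁻¹ = r := by
    rw [mem_centralizer_singleton_iff.mp hg]; group
  rw [this]

variable [Finite G]

/-- `tt V j r` is a 2-group for `j < n` -/
theorem tt_isPGroup (h : OddN T V z n) {j : ℕ} (hj : j < n) {r : G} (hr : Pt z r) :
    IsPGroup 2 (tt V j r) := by
  induction j generalizing r with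
  | zero =>
    have e : tt V 0 r ≤ ws V r := tt_le fun w hw => by
      have e : r = w := hw
      rw [e]
    exact (ws_isPGroup h.toOdd hr).to_le e
  | succ j ih =>
    have hle : tt V (j + 1) r ≤ o2 (tt V (j + 1) r) := by
      refine tt_le fun w hw => ?_
      obtain ⟨p, h1, h2⟩ := hw.head
      have hp : Pt z p := by
        rcases h1 with rfl | h1
        · exact hr
        · exact h1.pt h.toGeo
      have hpr : p ∈ ws V r := by
        rcases h1 with rfl | h1
        · exact self_mem_ws h.toGeo hr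
        · exact h1.mem_ws
      have hle : tt V j p ≤ tt V (j + 1) r := tt_le fun v hv => by
        refine ws_le_tt ?_
        have h3 : Walk V 1 r p := walk_one.mpr h1
        have := h3.trans hv
        rwa [Nat.add_comm] at this
      have hn : tt V (j + 1) r ≤ normalizer ((tt V j p : Subgroup G) : Set G) := by
        refine (tt_le_centralizer_ws h hj hr).trans (le_trans (centralizer_le ?_)
          (centralizer_le_normalizer_tt j p))
        rintro _ rfl
        exact hpr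
      exact (ws_le_tt h2).trans (le_o2 hle (ih (Nat.lt_of_succ_lt hj) hp) hn)
    exact (isPGroup_o2 _).to_le hle

end Crit

/-! ### existence of the critical distance -/

section exists_n

variable {T V : Subgroup G} {z : G} [Finite G]

theorem walk_of_mem_normalizer (h : Geo T V z) {g : G} (hg : g ∈ normalizer (V : Set G)) :
    Walk V 1 z (g * z * g⁻¹) := by
  rw [walk_one]
  by_cases e : z = g * z * g⁻¹
  · exact Or.inl e
  · exact Or.inr (col_of_mem h h.z_mem ((mem_normalizer_iff.mp hg z).mp h.z_mem) h.z_ne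
      (conj_ne_one h.z_ne) e)

/-- there is a critical distance -/
theorem exists_n (h : _root_.Cfsg.Agent.MinSimple.OddLine.Odd T V z) : ∃ n, OddN T V z n := by
  classical
  by_cases hex : ∃ m, ∃ x y, Pt z x ∧ Walk V m x y ∧ ∃ a ∈ ws V x, ∃ b ∈ ws V y, a * b ≠ b * a
  · refine ⟨Nat.find hex, h, ?_, Nat.find_spec hex⟩
    intro x y m hm hx hw a ha b hb
    by_contra hab
    exact Nat.find_min hex hm ⟨x, y, hx, hw, a, ha, b, hb, hab⟩
  · exfalso
    push Not at hex
    -- the group generated by all `ws V w`, `w` connected with `z`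
    let S : Set (Subgroup G) := {U | ∃ m w, Walk V m z w ∧ U = ws V w}
    let U : Subgroup G := sSup S
    have hle : ∀ {m w}, Walk V m z w → ws V w ≤ U := fun {m w} hw => le_sSup ⟨m, w, hw, rfl⟩
    have hUle : ∀ {K : Subgroup G}, (∀ m w, Walk V m z w → ws V w ≤ K) → U ≤ K := fun {K} hK =>
      sSup_le (by rintro _ ⟨m, w, hw, rfl⟩; exact hK m w hw)
    have hpt : ∀ {m w}, Walk V m z w → Pt z w := fun {m w} hw => Walk.pt h.toGeo (Pt.refl z) hw
    have hcomm1 : ∀ {m w}, Walk V m z w → U ≤ centralizer (ws V w : Set G) := by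
      intro m w hw
      refine hUle fun m' w' hw' => fun b hb => mem_centralizer_iff.mpr fun a ha => ?_
      exact hex (m + m') w w' (hpt hw) (hw.symm.trans hw') a ha b hb
    have hcomm : U ≤ centralizer (U : Set G) := by
      rw [Subgroup.le_centralizer_iff]
      exact hUle fun m w hw => by
        rw [Subgroup.le_centralizer_iff]
        exact hcomm1 hw
    have hUU : ∀ a ∈ U, ∀ b ∈ U, a * b = b * a := fun a ha b hb =>
      (mem_centralizer_iff.mp (hcomm hb)) a ha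
    let A : Subgroup G :=
      { carrier := {w | w ∈ U ∧ w * w = 1}
        mul_mem' := by
          rintro a b ⟨ha, ha1⟩ ⟨hb, hb1⟩
          refine ⟨mul_mem ha hb, ?_⟩
          calc a * b * (a * b) = a * (b * a) * b := by group
            _ = (a * a) * (b * b) := by rw [hUU b hb a ha]; group
            _ = 1 := by rw [ha1, hb1, one_mul]
        one_mem' := ⟨one_mem _, one_mul 1⟩
        inv_mem' := by
          rintro a ⟨ha, ha1⟩
          refine ⟨inv_mem ha, ?_⟩
          have : a⁻¹ * a⁻¹ = (a * a)⁻¹ := by group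
          rw [this, ha1, inv_one] }
    have hUA : U ≤ A := hUle fun m w hw => fun a ha => ⟨hle hw ha, ws_sq h (hpt hw) ha⟩
    have h2 : IsPGroup 2 U := by
      rintro ⟨a, ha⟩
      refine ⟨1, ?_⟩
      ext
      change a ^ 2 ^ 1 = 1
      rw [pow_one, pow_two]
      exact (hUA ha).2
    have hnorm : ∀ g : G, Walk V 1 z (g * z * g⁻¹) → ∀ u ∈ U, g * u * g⁻¹ ∈ U := by
      intro g hg u hu
      have : U ≤ cj g⁻¹ U := hUle fun m w hw => by
        rw [← cj_le_iff, cj_ws]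
        exact hle (hg.trans (hw.conj g))
      have h3 := this hu
      rw [mem_cj, inv_inv] at h3
      exact h3
    have hbot := h.core U h2 (le_normalizer_of_forall fun g hg u hu =>
      hnorm g (walk_of_mem_normalizer h.toGeo hg) u hu) (le_normalizer_of_forall fun g hg u hu =>
      hnorm g (by
        have : g * z * g⁻¹ = z := by rw [mem_centralizer_singleton_iff.mp hg]; group
        rw [this]; exact Walk.refl V 1 z) u hu)
    have hzU : z ∈ U := hle (Walk.refl V 0 z) (self_mem_ws h.toGeo (Pt.refl z))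
    rw [hbot, mem_bot] at hzU
    exact h.z_ne hzU

end exists_n

end Cfsg.Agent.MinSimple.OddBase
end

private theorem dce_74cda360f9dd : _root_.True := by
  try have : _root_.True := by simp only [_root_.Cfsg.Agent.MinSimple.Geo.ws.eq_1]
  exact _root_.True.intro
end

-- part: MinSimple/Sec
section
prune_inst 0xd0100500452200000018000020001c42b2000002004b0001a040000405c80c40a00506218860061010128c542030006813cc0420423000000a000800413c07a9000082028048a000010000008004080c00000000000000000000000000000000000400000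
set_option linter.all false
open scoped Cfsg.Agent.FastGrp

/-!
# The section `N / ⟨z⟩` as a module for a group `C`

`Sec N C z`: `z` is an involution in `N ≤ C`, central in `C`, `C` normalizes `N` and the squares of elements of `N` are
in `⟨z⟩`. Then `N / ⟨z⟩` is an additive group of exponent two (`Mod s`) with an action of `C`.
-/

set_option autoImplicit false
set_option linter.dupNamespace false
set_option linter.unusedTactic false

namespace Cfsg.Agent.MinSimple.Sec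

open Subgroup

universe u

variable {G : Type u} [Group G]

theorem mem_zpowers {z y : G} (hz : z * z = 1) : y ∈ zpowers z ↔ y = 1 ∨ y = z := by
  constructor
  · intro h
    obtain ⟨n, rfl⟩ := mem_zpowers_iff.mp h
    have h2 : z ^ (2 : ℤ) = 1 := by rw [zpow_two]; exact hz
    rcases Int.even_or_odd' n with ⟨k, rfl | rfl⟩
    · left; rw [zpow_mul, h2, one_zpow]
    · right; rw [zpow_add, zpow_mul, h2, one_zpow, one_mul, zpow_one]
  · rintro (rfl | rfl)
    · exact one_mem _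
    · exact Subgroup.mem_zpowers _

/-- The section `N / ⟨z⟩` with the action of `C`. -/
structure Sec (N C : Subgroup G) (z : G) : Prop where
  zN : z ∈ N
  zz : z * z = 1
  NC : N ≤ C
  zC : ∀ c ∈ C, c * z = z * c
  CN : ∀ c ∈ C, ∀ n ∈ N, c * n * c⁻¹ ∈ N
  sq : ∀ n ∈ N, n * n = 1 ∨ n * n = z

variable {N C : Subgroup G} {z : G}

namespace Sec

theorem conj_z (s : Sec N C z) {c : G} (hc : c ∈ C) {y : G} (hy : y ∈ zpowers z) : c * y * c⁻¹ = y := by
  rcases (mem_zpowers s.zz).1 hy with rfl | rfl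
  · simp
  · rw [s.zC c hc, mul_inv_cancel_right]

theorem mem_of_sq (s : Sec N C z) {n : G} (hn : n ∈ N) : n * n ∈ zpowers z :=
  (mem_zpowers s.zz).2 (s.sq n hn)

theorem comm_mem (s : Sec N C z) {a b : G} (ha : a ∈ N) (hb : b ∈ N) : a * b * a⁻¹ * b⁻¹ ∈ zpowers z := by
  have h1 := s.mem_of_sq (mul_mem ha hb)
  have h2 := s.mem_of_sq ha
  have h3 := s.mem_of_sq hb
  -- a b a⁻¹ b⁻¹ = (ab)(ab) (b⁻¹ (a a)⁻¹ b)(b b)⁻¹
  have e : a * b * a⁻¹ * b⁻¹ = (a * b * (a * b)) * (b⁻¹ * (a * a)⁻¹ * b⁻¹⁻¹) * (b * b)⁻¹ := by group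
  rw [e, s.conj_z (inv_mem (s.NC hb)) (inv_mem h2)]
  exact mul_mem (mul_mem h1 (inv_mem h2)) (inv_mem h3)

theorem normal (s : Sec N C z) : ((zpowers z).subgroupOf N).Normal := by
  constructor
  intro n hn g
  rw [mem_subgroupOf] at hn ⊢
  have h1 : ((g * n * g⁻¹ : N) : G) = (g : G) * n * (g : G)⁻¹ := rfl
  rw [h1, s.conj_z (s.NC g.2) hn]
  exact hn

end Sec

/-- `N / ⟨z⟩` -/
def Mod (_ : Sec N C z) : Type u := Additive (↥N ⧸ (zpowers z).subgroupOf N)

namespace Mod

variable (s : Sec N C z)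

instance : AddCommGroup (Mod s) := by
  letI : ((zpowers z).subgroupOf N).Normal := s.normal
  letI : CommGroup (↥N ⧸ (zpowers z).subgroupOf N) :=
    { (inferInstance : Group (↥N ⧸ (zpowers z).subgroupOf N)) with
      mul_comm := by
        intro x y
        obtain ⟨a, rfl⟩ := QuotientGroup.mk_surjective x
        obtain ⟨b, rfl⟩ := QuotientGroup.mk_surjective y
        rw [← QuotientGroup.mk_mul, ← QuotientGroup.mk_mul, QuotientGroup.eq, mem_subgroupOf]
        have h1 := s.comm_mem (inv_mem b.2) (inv_mem a.2)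
        have h2 : (((a * b)⁻¹ * (b * a) : N) : G) = (b : G)⁻¹ * (a : G)⁻¹ * (b : G)⁻¹⁻¹ * (a : G)⁻¹⁻¹ := by
          simp [mul_assoc]
        rw [h2]; exact h1 }
  exact inferInstanceAs (AddCommGroup (Additive (↥N ⧸ (zpowers z).subgroupOf N)))

instance [Finite G] : Finite (Mod s) := inferInstanceAs (Finite (↥N ⧸ (zpowers z).subgroupOf N))

variable {s}

/-- the class of an element of `N` -/
def mk (s : Sec N C z) (n : G) (hn : n ∈ N) : Mod s :=
  Additive.ofMul (QuotientGroup.mk (⟨n, hn⟩ : N) : ↥N ⧸ (zpowers z).subgroupOf N)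

theorem mk_surj (x : Mod s) : ∃ n, ∃ hn : n ∈ N, mk s n hn = x := by
  obtain ⟨⟨n, hn⟩, h⟩ := QuotientGroup.mk_surjective (s := (zpowers z).subgroupOf N) (Additive.toMul x)
  exact ⟨n, hn, h⟩

theorem mk_mul {a b : G} (ha : a ∈ N) (hb : b ∈ N) :
    mk s (a * b) (mul_mem ha hb) = mk s a ha + mk s b hb := rfl

theorem mk_one : mk s 1 (one_mem N) = 0 := rfl

theorem mk_eq {a b : G} (ha : a ∈ N) (hb : b ∈ N) : mk s a ha = mk s b hb ↔ a⁻¹ * b ∈ zpowers z := by
  have h1 : mk s a ha = mk s b hb ↔ (QuotientGroup.mk (⟨a, ha⟩ : N) : ↥N ⧸ (zpowers z).subgroupOf N) =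
    QuotientGroup.mk (⟨b, hb⟩ : N) := Iff.rfl
  rw [h1, QuotientGroup.eq, mem_subgroupOf]
  rfl

theorem mk_eq_zero {a : G} (ha : a ∈ N) : mk s a ha = 0 ↔ a ∈ zpowers z := by
  rw [← mk_one, eq_comm, mk_eq, inv_one, one_mul]

theorem add_self (x : Mod s) : x + x = 0 := by
  obtain ⟨a, ha, rfl⟩ := mk_surj x
  rw [← mk_mul, mk_eq_zero]
  exact s.mem_of_sq ha

theorem neg_eq (x : Mod s) : -x = x := neg_eq_of_add_eq_zero_left (add_self x)

theorem mk_inv {a : G} (ha : a ∈ N) : mk s a⁻¹ (inv_mem ha) = mk s a ha := by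
  have h1 : mk s (a⁻¹ * a) (mul_mem (inv_mem ha) ha) = 0 := by
    rw [mk_eq_zero, inv_mul_cancel]; exact one_mem _
  rw [mk_mul] at h1
  have := eq_neg_of_add_eq_zero_left h1
  rwa [neg_eq] at this

/-- The image of a subgroup of `G`. -/
def sub (s : Sec N C z) (U : Subgroup G) : AddSubgroup (Mod s) where
  carrier := {x | ∃ u ∈ U, ∃ hu : u ∈ N, mk s u hu = x}
  zero_mem' := ⟨1, one_mem _, one_mem _, mk_one⟩
  add_mem' := by
    rintro _ _ ⟨u, hu, hu', rfl⟩ ⟨v, hv, hv', rfl⟩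
    exact ⟨u * v, mul_mem hu hv, mul_mem hu' hv', mk_mul _ _⟩
  neg_mem' := by
    rintro _ ⟨u, hu, hu', rfl⟩
    refine ⟨u, hu, hu', (neg_eq _).symm⟩

theorem mem_sub {U : Subgroup G} (hz : z ∈ U) {a : G} (ha : a ∈ N) : mk s a ha ∈ sub s U ↔ a ∈ U := by
  constructor
  · rintro ⟨u, hu, hu', h⟩
    rw [mk_eq] at h
    have h1 : u * (u⁻¹ * a) ∈ U := mul_mem hu ((zpowers_le.mpr hz) h)
    rwa [mul_inv_cancel_left] at h1
  · intro h
    exact ⟨a, h, ha, rfl⟩

/-- the action of `C` -/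
instance : DistribMulAction C (Mod s) where
  smul c x := Quotient.liftOn' (Additive.toMul x)
    (fun n : N => (mk s ((c : G) * n * (c : G)⁻¹) (s.CN c c.2 n n.2)))
    (by
      intro a b hab
      rw [QuotientGroup.leftRel_apply, mem_subgroupOf] at hab
      change mk s _ _ = mk s _ _
      rw [mk_eq]
      have hab' : (a : G)⁻¹ * b ∈ zpowers z := hab
      have e : ((c : G) * a * (c : G)⁻¹)⁻¹ * (c * b * (c : G)⁻¹) = c * ((a : G)⁻¹ * b) * (c : G)⁻¹ := by group
      rw [e, s.conj_z c.2 hab']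
      exact hab')
  one_smul := by
    intro x
    obtain ⟨a, ha, rfl⟩ := mk_surj x
    change mk s _ _ = mk s _ _
    rw [mk_eq]
    have e : (((1 : C) : G) * a * ((1 : C) : G)⁻¹)⁻¹ * a = 1 := by simp
    change (((1 : C) : G) * a * ((1 : C) : G)⁻¹)⁻¹ * a ∈ _
    rw [e]; exact one_mem _
  mul_smul := by
    intro c d x
    obtain ⟨a, ha, rfl⟩ := mk_surj x
    change mk s _ _ = mk s _ _
    rw [mk_eq]
    change (((c * d : C) : G) * a * ((c * d : C) : G)⁻¹)⁻¹ * (c * (d * a * (d : G)⁻¹) * (c : G)⁻¹) ∈ _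
    have e : (((c * d : C) : G) * a * ((c * d : C) : G)⁻¹)⁻¹ * (c * (d * a * (d : G)⁻¹) * (c : G)⁻¹) = 1 := by
      have : ((c * d : C) : G) = c * d := rfl
      rw [this]; group
    rw [e]; exact one_mem _
  smul_zero := by
    intro c
    change mk s _ _ = 0
    rw [mk_eq_zero]
    change (c : G) * 1 * (c : G)⁻¹ ∈ _
    rw [mul_one, mul_inv_cancel]; exact one_mem _
  smul_add := by
    intro c x y
    obtain ⟨a, ha, rfl⟩ := mk_surj x
    obtain ⟨b, hb, rfl⟩ := mk_surj y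
    change mk s _ _ = mk s _ _ + mk s _ _
    rw [← mk_mul, mk_eq]
    change (c * (a * b) * (c : G)⁻¹)⁻¹ * (c * a * (c : G)⁻¹ * (c * b * (c : G)⁻¹)) ∈ _
    have e : (c * (a * b) * (c : G)⁻¹)⁻¹ * (c * a * (c : G)⁻¹ * (c * b * (c : G)⁻¹)) = 1 := by group
    rw [e]; exact one_mem _

theorem smul_mk (c : C) {a : G} (ha : a ∈ N) : c • mk s a ha = mk s ((c : G) * a * (c : G)⁻¹) (s.CN c c.2 a ha) := rfl

/-- the group acting -/
abbrev Aut (s : Sec N C z) : Type u := (AddMonoid.End (Mod s))ˣ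

/-- the representation -/
def rep (s : Sec N C z) : C →* Aut s := (DistribMulAction.toAddMonoidEnd C (Mod s)).toHomUnits

theorem rep_smul (c : C) (x : Mod s) : rep s c • x = c • x := rfl

theorem aut_ext {f g : Aut s} (h : ∀ x : Mod s, f • x = g • x) : f = g := by
  apply Units.ext
  exact AddMonoidHom.ext h

theorem rep_eq_one {c : C} : rep s c = 1 ↔ ∀ n ∈ N, (c : G) * n * (c : G)⁻¹ * n⁻¹ ∈ zpowers z := by
  constructor
  · intro h n hn
    have h1 : rep s c • mk s n hn = mk s n hn := by rw [h, one_smul]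
    rw [rep_smul, smul_mk, mk_eq] at h1
    have h2 := s.conj_z (s.NC hn) (inv_mem h1)
    have e : (c : G) * n * (c : G)⁻¹ * n⁻¹ = n * (((c : G) * n * (c : G)⁻¹)⁻¹ * n)⁻¹ * n⁻¹ := by group
    rw [e, h2]
    exact inv_mem h1
  · intro h
    apply aut_ext
    intro x
    obtain ⟨a, ha, rfl⟩ := mk_surj x
    rw [one_smul, rep_smul, smul_mk, mk_eq]
    have h1 := h a ha
    have h2 := s.conj_z (inv_mem (s.NC ha)) (inv_mem h1)
    have e : ((c : G) * a * (c : G)⁻¹)⁻¹ * a = a⁻¹ * ((c : G) * a * (c : G)⁻¹ * a⁻¹)⁻¹ * a⁻¹⁻¹ := by group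
    rw [e, h2]; exact inv_mem h1

end Mod

end Cfsg.Agent.MinSimple.Sec
end

-- part: Classification/TitsFin/Mod16
section
prune_inst 0xd00045001000000000000010000020001000000000200001e10001060800810000400100080014001002a0802000002002dc04604010000000000000002006090000820000740c00000000000004080c00000000000000000000000000000000000400000
set_option linter.all false
open scoped Cfsg.Agent.FastGrp

/-!
# Automorphisms of an elementary abelian group of order 16

`M` is elementary abelian of order 16, `x` an automorphism of order 5.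
-/

set_option autoImplicit false
set_option linter.unusedSectionVars false
set_option linter.style.haveILetI false

namespace Cfsg.Agent.Classification.TitsFin.Mod16

open Subgroup

variable {M : Type*} [CommGroup M]

/-- fixed points -/
def fx (s : MulAut M) : Subgroup M := (s : M ≃* M).toMonoidHom.eqLocus (MonoidHom.id M)

theorem mem_fx {s : MulAut M} {m : M} : m ∈ fx s ↔ s m = m := Iff.rfl

/-- `m ↦ m * s m` -/
def dl (s : MulAut M) : M →* M := MonoidHom.id M * (s : M ≃* M).toMonoidHom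

theorem dl_apply (s : MulAut M) (m : M) : dl s m = m * s m := rfl

theorem inv_eq (sq : ∀ m : M, m * m = 1) (m : M) : m⁻¹ = m := inv_eq_of_mul_eq_one_left (sq m)

theorem mul_eq_one_iff (sq : ∀ m : M, m * m = 1) {a b : M} : a * b = 1 ↔ b = a := by
  rw [mul_eq_one_iff_eq_inv, inv_eq sq]
  exact eq_comm

theorem ker_dl (sq : ∀ m : M, m * m = 1) (s : MulAut M) : (dl s).ker = fx s := by
  ext m
  rw [MonoidHom.mem_ker, dl_apply, mem_fx, mul_eq_one_iff sq]

variable [Finite M]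

theorem card_modEq {p k : ℕ} [Fact p.Prime] {s : MulAut M} (hs : s ^ p ^ k = 1) (A : Subgroup M)
    (hA : ∀ a ∈ A, s a ∈ A) : Nat.card A ≡ Nat.card ↥(A ⊓ fx s) [MOD p] := by
  classical
  let f : Function.End A := fun a => ⟨s a, hA a a.2⟩
  have hf : ∀ (n : ℕ) (a : A), ((f ^ n) a : M) = (s ^ n) a := by
    intro n
    induction n with
    | zero => intro a; rfl
    | succ n ih =>
      intro a
      rw [pow_succ, pow_succ]
      change ((f ^ n) (f a) : M) = (s ^ n) (s a)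
      rw [ih]
  have h1 : f ^ p ^ k = 1 := by
    funext a
    apply Subtype.ext
    rw [hf, hs]; rfl
  haveI : Fintype A := Fintype.ofFinite A
  have h2 := Equiv.Perm.card_fixedPoints_modEq h1
  rw [← Nat.card_eq_fintype_card, ← Nat.card_eq_fintype_card] at h2
  refine h2.trans ?_
  refine (congrArg (· % p) (Nat.card_congr ?_) : _)
  exact
    { toFun := fun a => ⟨a.1.1, a.1.2, congrArg Subtype.val a.2⟩
      invFun := fun a => ⟨⟨a.1, a.2.1⟩, Subtype.ext a.2.2⟩
      left_inv := fun a => rfl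
      right_inv := fun a => rfl }

theorem card_two_pow (hM : Nat.card M = 16) (A : Subgroup M) :
    Nat.card A = 1 ∨ Nat.card A = 2 ∨ Nat.card A = 4 ∨ Nat.card A = 8 ∨ Nat.card A = 16 := by
  have h := card_subgroup_dvd_card A
  rw [hM] at h
  have h2 : Nat.card A ∈ Nat.divisors 16 := Nat.mem_divisors.mpr ⟨h, by norm_num⟩
  have h3 : Nat.divisors 16 = {1, 2, 4, 8, 16} := by decide
  rw [h3] at h2
  simpa only [_root_.Subgroup.card_eq_one, _root_.Finset.mem_insert, _root_.Finset.mem_singleton] using h2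

theorem eq_bot_of_card {A : Subgroup M} (h : Nat.card A = 1) : A = ⊥ := by
  exact (Subgroup.card_eq_one.mp h)

theorem eq_top_of_card (hM : Nat.card M = 16) {A : Subgroup M} (h : Nat.card A = 16) : A = ⊤ :=
  (Subgroup.card_eq_iff_eq_top A).mp (by rw [h, hM])

/-- an automorphism of order 5 has no fixed points -/
theorem fx_eq_bot (hM : Nat.card M = 16) {x : MulAut M} (h5 : x ^ 5 = 1) (h1 : x ≠ 1) : fx x = ⊥ := by
  haveI : Fact (Nat.Prime 5) := ⟨by norm_num⟩
  have h2 := card_modEq (p := 5) (k := 1) (s := x) (by rw [pow_one]; exact h5) ⊤ (fun _ _ => mem_top _)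
  rw [top_inf_eq, Subgroup.card_top, hM] at h2
  rcases card_two_pow hM (fx x) with h | h | h | h | h
  · exact eq_bot_of_card h
  · rw [h] at h2; exact absurd h2 (by decide)
  · rw [h] at h2; exact absurd h2 (by decide)
  · rw [h] at h2; exact absurd h2 (by decide)
  · exfalso
    apply h1
    have h3 := eq_top_of_card hM h
    ext m
    have : m ∈ fx x := by rw [h3]; exact mem_top _
    exact this

/-- an automorphism of order 5 is irreducible -/
theorem irred (hM : Nat.card M = 16) {x : MulAut M} (h5 : x ^ 5 = 1) (h1 : x ≠ 1) {A : Subgroup M}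
    (hA : ∀ a ∈ A, x a ∈ A) : A = ⊥ ∨ A = ⊤ := by
  haveI : Fact (Nat.Prime 5) := ⟨by norm_num⟩
  have h2 := card_modEq (p := 5) (k := 1) (s := x) (by rw [pow_one]; exact h5) A hA
  rw [fx_eq_bot hM h5 h1, inf_bot_eq, Subgroup.card_bot] at h2
  rcases card_two_pow hM A with h | h | h | h | h
  · exact Or.inl (eq_bot_of_card h)
  · rw [h] at h2; exact absurd h2 (by decide)
  · rw [h] at h2; exact absurd h2 (by decide)
  · rw [h] at h2; exact absurd h2 (by decide)
  · exact Or.inr (eq_top_of_card hM h)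

theorem eq_one_of_fx_eq_top {s : MulAut M} (h : fx s = ⊤) : s = 1 := by
  ext m
  have : m ∈ fx s := by rw [h]; exact mem_top _
  exact this

/-- a 2-element commuting with `x` is trivial -/
theorem eq_one_of_comm (hM : Nat.card M = 16) {x : MulAut M} (h5 : x ^ 5 = 1) (h1 : x ≠ 1)
    {s : MulAut M} {k : ℕ} (hs : s ^ 2 ^ k = 1) (hc : s * x = x * s) : s = 1 := by
  haveI : Fact (Nat.Prime 2) := ⟨Nat.prime_two⟩
  have h2 := card_modEq (p := 2) (k := k) hs ⊤ (fun _ _ => mem_top _)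
  rw [top_inf_eq, Subgroup.card_top, hM] at h2
  have h3 : ∀ a ∈ fx s, x a ∈ fx s := by
    intro a ha
    rw [mem_fx] at ha ⊢
    calc s (x a) = (s * x) a := rfl
      _ = (x * s) a := by rw [hc]
      _ = x (s a) := rfl
      _ = x a := by rw [ha]
  rcases irred hM h5 h1 h3 with h | h
  · rw [h, Subgroup.card_bot] at h2
    exact absurd h2 (by decide)
  · exact eq_one_of_fx_eq_top h

/-- an involution normalising `⟨x⟩` inverts `x` -/
theorem conj_eq_inv (hM : Nat.card M = 16) {x : MulAut M} (h5 : x ^ 5 = 1) (h1 : x ≠ 1)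
    {t : MulAut M} (ht : t * t = 1) (ht1 : t ≠ 1) {k : ℕ} (hk : t * x * t⁻¹ = x ^ k) :
    t * x * t⁻¹ = x⁻¹ := by
  haveI : Fact (Nat.Prime 5) := ⟨by norm_num⟩
  have ho : orderOf x = 5 := orderOf_eq_prime h5 h1
  have h2 : x = x ^ (k * k) := by
    calc x = (t * t) * x * (t * t)⁻¹ := by rw [ht]; group
      _ = t * (t * x * t⁻¹) * t⁻¹ := by group
      _ = (t * x * t⁻¹) ^ k := by rw [hk, ← conj_pow, hk]
      _ = x ^ (k * k) := by rw [hk, pow_mul]
  have h3 : k * k % 5 = 1 := by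
    have h4 : x ^ (k * k) = x ^ 1 := by rw [pow_one]; exact h2.symm
    rw [pow_inj_mod, ho] at h4
    simpa using h4
  have h4 : x ^ k = x ^ (k % 5) := by rw [← ho, pow_mod_orderOf]
  have h5' : k % 5 < 5 := Nat.mod_lt _ (by norm_num)
  have h6 : (k % 5) * (k % 5) % 5 = 1 := by rw [← Nat.mul_mod]; exact h3
  rw [hk, h4]
  generalize k % 5 = j at h5' h6 h4 ⊢
  interval_cases j
  · omega
  · exfalso
    apply ht1
    refine eq_one_of_comm hM h5 h1 (k := 1) (by rw [pow_one, pow_two]; exact ht) ?_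
    rw [pow_one] at h4
    rw [h4] at hk
    calc t * x = (t * x * t⁻¹) * t := by group
      _ = x * t := by rw [hk]
  · omega
  · omega
  · rw [eq_inv_iff_mul_eq_one, ← pow_succ]; exact h5


theorem fx_pow_eq_bot (hM : Nat.card M = 16) {x : MulAut M} (h5 : x ^ 5 = 1) (h1 : x ≠ 1) {k : ℕ}
    (hk : k % 5 ≠ 0) : fx (x ^ k) = ⊥ := by
  haveI : Fact (Nat.Prime 5) := ⟨by norm_num⟩
  have ho : orderOf x = 5 := orderOf_eq_prime h5 h1
  refine fx_eq_bot hM ?_ ?_
  · rw [← pow_mul, mul_comm, pow_mul, h5, one_pow]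
  · intro h
    exact hk (Nat.mod_eq_zero_of_dvd (by rw [← ho]; exact orderOf_dvd_of_pow_eq_one h))

theorem mul_apply (a b : MulAut M) (m : M) : (a * b) m = a (b m) := rfl

/-- translates of `fx t` meet trivially -/
theorem eq_one_of_mem (hM : Nat.card M = 16) {x : MulAut M} (h5 : x ^ 5 = 1) (h1 : x ≠ 1)
    {t : MulAut M} (htx : t * x * t⁻¹ = x⁻¹) {k : ℕ} (hk : k % 5 ≠ 0) {m : M}
    (h : t m = m) (h' : t ((x ^ k) m) = (x ^ k) m) : m = 1 := by
  have e1 : t * x ^ k = (x ^ k)⁻¹ * t := by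
    calc t * x ^ k = (t * x * t⁻¹) ^ k * t := by rw [conj_pow]; group
      _ = (x ^ k)⁻¹ * t := by rw [htx, inv_pow]
  have e2 : (x ^ (2 * k)) m = m := by
    have h2 : t ((x ^ k) m) = (x ^ k)⁻¹ m := by
      calc t ((x ^ k) m) = (t * x ^ k) m := rfl
        _ = ((x ^ k)⁻¹ * t) m := by rw [e1]
        _ = (x ^ k)⁻¹ (t m) := rfl
        _ = (x ^ k)⁻¹ m := by rw [h]
    calc (x ^ (2 * k)) m = (x ^ k * x ^ k) m := by rw [← pow_add, two_mul]
      _ = (x ^ k) ((x ^ k) m) := rfl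
      _ = (x ^ k) (t ((x ^ k) m)) := by rw [h']
      _ = (x ^ k) ((x ^ k)⁻¹ m) := by rw [h2]
      _ = (x ^ k * (x ^ k)⁻¹) m := rfl
      _ = m := by rw [mul_inv_cancel]; rfl
  have h3 : m ∈ fx (x ^ (2 * k)) := e2
  rw [fx_pow_eq_bot hM h5 h1 (by omega)] at h3
  exact mem_bot.mp h3

theorem card_range_dl (sq : ∀ m : M, m * m = 1) (s : MulAut M) :
    Nat.card (dl s).range * Nat.card (fx s) = Nat.card M := by
  rw [← Subgroup.index_ker (dl s), ← ker_dl sq s, mul_comm]
  exact Subgroup.card_mul_index _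

theorem range_dl_le {t : MulAut M} (ht : t * t = 1) :
    (dl t).range ≤ fx t := by
  rintro _ ⟨m, rfl⟩
  rw [mem_fx, dl_apply, map_mul]
  have : t (t m) = m := by
    change (t * t) m = m
    rw [ht]; rfl
  rw [this, mul_comm]

theorem card_fx_le (hM : Nat.card M = 16) {x : MulAut M} (h5 : x ^ 5 = 1) (h1 : x ≠ 1)
    {t : MulAut M} (htx : t * x * t⁻¹ = x⁻¹) : Nat.card (fx t) ≤ 4 := by
  classical
  let φ : fx t × fx t → M := fun p => p.1 * x p.2
  have hφ : Function.Injective φ := by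
    rintro ⟨a, b⟩ ⟨c, d⟩ h
    change (a : M) * x b = c * x d at h
    have h2 : (a : M) * (c : M)⁻¹ = x ((d : M) * (b : M)⁻¹) := by
      rw [map_mul, map_inv, mul_inv_eq_iff_eq_mul, mul_right_comm, eq_mul_inv_iff_mul_eq, h, mul_comm]
    have h3 : (d : M) * (b : M)⁻¹ ∈ fx t := mul_mem d.2 (inv_mem b.2)
    have h4 : (a : M) * (c : M)⁻¹ ∈ fx t := mul_mem a.2 (inv_mem c.2)
    have h5' : (d : M) * (b : M)⁻¹ = 1 := by
      refine eq_one_of_mem hM h5 h1 htx (k := 1) (by norm_num) h3 ?_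
      rw [pow_one, ← h2]
      exact h4
    have h6 : (a : M) * (c : M)⁻¹ = 1 := by rw [h2, h5', map_one]
    exact Prod.ext (Subtype.ext (mul_inv_eq_one.mp h6)) (Subtype.ext (mul_inv_eq_one.mp h5').symm)
  have h2 := Nat.card_le_card_of_injective φ hφ
  rw [Nat.card_prod, hM] at h2
  nlinarith

theorem card_fx (hM : Nat.card M = 16) (sq : ∀ m : M, m * m = 1) {x : MulAut M} (h5 : x ^ 5 = 1)
    (h1 : x ≠ 1) {t : MulAut M} (ht : t * t = 1) (htx : t * x * t⁻¹ = x⁻¹) :
    Nat.card (fx t) = 4 := by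
  have h2 := card_range_dl sq t
  have h3 := Subgroup.card_le_of_le (range_dl_le ht)
  have h4 := card_fx_le hM h5 h1 htx
  rw [hM] at h2
  nlinarith only [h2, h3, h4]

theorem range_dl_eq (hM : Nat.card M = 16) (sq : ∀ m : M, m * m = 1) {x : MulAut M} (h5 : x ^ 5 = 1)
    (h1 : x ≠ 1) {t : MulAut M} (ht : t * t = 1) (htx : t * x * t⁻¹ = x⁻¹) :
    (dl t).range = fx t := by
  have h2 := card_range_dl sq t
  have h4 := card_fx hM sq h5 h1 ht htx
  rw [hM, h4] at h2
  refine Subgroup.eq_of_le_of_card_ge (range_dl_le ht) ?_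
  rw [h4]; omega


/-- the five translates of `fx t` cover `M` -/
theorem spread (hM : Nat.card M = 16) (sq : ∀ m : M, m * m = 1) {x : MulAut M} (h5 : x ^ 5 = 1)
    (h1 : x ≠ 1) {t : MulAut M} (ht : t * t = 1) (htx : t * x * t⁻¹ = x⁻¹) (m : M) :
    ∃ k : ℕ, k < 5 ∧ ∃ a ∈ fx t, (x ^ k) a = m := by
  classical
  haveI := Fintype.ofFinite M
  by_cases hm : m = 1
  · exact ⟨0, by norm_num, 1, one_mem _, by rw [hm, map_one]⟩
  let S : Type _ := {a : fx t // a ≠ 1}
  let φ : Fin 5 × S → {m : M // m ≠ 1} := fun p => ⟨(x ^ (p.1 : ℕ)) p.2.1, fun h => p.2.2 (by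
    rw [EmbeddingLike.map_eq_one_iff] at h
    exact Subtype.ext h)⟩
  have hφ : Function.Injective φ := by
    have key : ∀ i j : Fin 5, (i : ℕ) ≤ j → ∀ a b : S, (x ^ (i : ℕ)) a.1 = (x ^ (j : ℕ)) b.1 →
        i = j ∧ a = b := by
      intro i j hij a b hab
      have h2 : ((x ^ ((j : ℕ) - i)) (b.1 : M)) = a.1 := by
        have h3 : (x ^ (i : ℕ)) ((x ^ ((j : ℕ) - i)) (b.1 : M)) = (x ^ (i : ℕ)) a.1 := by
          rw [hab, ← mul_apply, ← pow_add]
          congr 2
          omega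
        exact (x ^ (i : ℕ)).injective h3
      by_cases hk : ((j : ℕ) - i) % 5 = 0
      · have h4 : i = j := by apply Fin.ext; omega
        refine ⟨h4, ?_⟩
        rw [h4, Nat.sub_self, pow_zero] at h2
        exact Subtype.ext (Subtype.ext h2.symm)
      · exfalso
        apply b.2
        refine Subtype.ext (eq_one_of_mem hM h5 h1 htx hk b.1.2 ?_)
        rw [h2]; exact a.1.2
    rintro ⟨i, a⟩ ⟨j, b⟩ h
    have h2 : (x ^ (i : ℕ)) (a.1 : M) = (x ^ (j : ℕ)) b.1 := congrArg Subtype.val h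
    rcases le_total (i : ℕ) j with hij | hij
    · obtain ⟨rfl, rfl⟩ := key i j hij a b h2
      rfl
    · obtain ⟨rfl, rfl⟩ := key j i hij b a h2.symm
      rfl
  have hS : Fintype.card S = 3 := by
    rw [Fintype.card_subtype_compl]
    rw [← Nat.card_eq_fintype_card, card_fx hM sq h5 h1 ht htx, Fintype.card_subtype_eq]
  have hM' : Fintype.card {m : M // m ≠ 1} = 15 := by
    rw [Fintype.card_subtype_compl]
    rw [← Nat.card_eq_fintype_card, hM, Fintype.card_subtype_eq]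
  have hbij : Function.Bijective φ := by
    rw [Fintype.bijective_iff_injective_and_card]
    refine ⟨hφ, ?_⟩
    rw [Fintype.card_prod, hS, hM']; rfl
  obtain ⟨⟨i, a⟩, ha⟩ := hbij.2 ⟨m, hm⟩
  exact ⟨i, i.2, a.1, a.1.2, congrArg Subtype.val ha⟩

/-! ### groups of order 10 and 20 -/

theorem exists_x {B : Subgroup (MulAut M)} (hB : Nat.card B = 10 ∨ Nat.card B = 20) :
    ∃ x ∈ B, x ^ 5 = 1 ∧ x ≠ 1 := by
  haveI : Fact (Nat.Prime 5) := ⟨by norm_num⟩
  obtain ⟨x, hx⟩ := exists_prime_orderOf_dvd_card' (G := B) 5 (by rcases hB with h | h <;> rw [h] <;> norm_num)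
  refine ⟨x, x.2, ?_, ?_⟩
  · have := pow_orderOf_eq_one x
    rw [hx] at this
    exact congrArg Subtype.val this
  · intro h
    rw [show x = 1 from Subtype.ext h, orderOf_one] at hx
    norm_num at hx

/-- in a group of order 10 or 20 a subgroup of order 5 is normal -/
theorem conj_mem {B : Type*} [Group B] [Finite B] (hB : Nat.card B = 10 ∨ Nat.card B = 20) {x : B}
    (hx : orderOf x = 5) (b : B) : ∃ k : ℕ, b * x * b⁻¹ = x ^ k := by
  haveI : Fact (Nat.Prime 5) := ⟨by norm_num⟩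
  have h1 : Nat.card (zpowers x) = 5 ^ (Nat.card B).factorization 5 := by
    rw [Nat.card_zpowers, hx]
    rcases hB with h | h <;> rw [h]
    · have : (10 : ℕ).factorization 5 = 1 := by
        rw [show (10 : ℕ) = 5 * 2 by norm_num, Nat.factorization_mul (by norm_num) (by norm_num)]
        simp [Nat.Prime.factorization, Nat.prime_five, Nat.prime_two]
      rw [this]; norm_num
    · have : (20 : ℕ).factorization 5 = 1 := by
        rw [show (20 : ℕ) = 5 * 4 by norm_num, Nat.factorization_mul (by norm_num) (by norm_num)]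
        have h4 : (4 : ℕ).factorization 5 = 0 := Nat.factorization_eq_zero_of_not_dvd (by norm_num)
        simp [Nat.Prime.factorization, Nat.prime_five, h4]
      rw [this]; norm_num
  let P : Sylow 5 B := Sylow.ofCard (zpowers x) h1
  have h2 : Nat.card (Sylow 5 B) ≡ 1 [MOD 5] := card_sylow_modEq_one 5 B
  have h3 : Nat.card (Sylow 5 B) ∣ P.index := P.card_dvd_index
  have h4 : P.index = Nat.card B / 5 := by
    have h5 : Nat.card (P : Subgroup B) * P.index = Nat.card B := Subgroup.card_mul_index _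
    have h6 : Nat.card (P : Subgroup B) = 5 := by
      change Nat.card (zpowers x) = 5
      rw [Nat.card_zpowers, hx]
    rw [h6] at h5
    omega
  have h5 : Nat.card (Sylow 5 B) = 1 := by
    have h6 : Nat.card (Sylow 5 B) ∣ 4 := by
      rcases hB with h | h
      · rw [h] at h4
        exact (h4 ▸ h3).trans (by norm_num)
      · rw [h] at h4
        exact (h4 ▸ h3).trans (by norm_num)
    have h7 : Nat.card (Sylow 5 B) ≤ 4 := Nat.le_of_dvd (by norm_num) h6
    have h8 : Nat.card (Sylow 5 B) % 5 = 1 := h2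
    omega
  have h6 : (P : Subgroup B).Normal := by
    haveI : Subsingleton (Sylow 5 B) := (Nat.card_eq_one_iff_unique.mp h5).1
    exact Sylow.normal_of_subsingleton P
  have h7 : b * x * b⁻¹ ∈ zpowers x := h6.conj_mem x (mem_zpowers x) b
  obtain ⟨k, hk⟩ := (mem_powers_iff_mem_zpowers.mpr h7 : b * x * b⁻¹ ∈ Submonoid.powers x)
  exact ⟨k, hk.symm⟩

end Cfsg.Agent.Classification.TitsFin.Mod16
end

-- part: Classification/TitsFin/Tri
section
prune_inst 0x400000
set_option linter.all false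
open scoped Cfsg.Agent.FastGrp

/-!
# The three points of a line: the structure `Tri`

Blueprint `P21-FIN-helper531.md`, section A. `V` is a four-group, its involutions are the points `p`; `U p` is elementary
abelian of order 32 and contains `V`, `C p ≤ C_G(p)` normalises `U p` and contains `N_G(V) ∩ C_G(p)`, and
`C p / kst (C p) (U p) p` has order 10 or 20, where `kst C U p` is the kernel of `C` on `U / ⟨p⟩`.
-/

set_option autoImplicit false

namespace Cfsg.Agent.Classification.TitsFin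

open Subgroup Cfsg Cfsg.Agent.ZN Cfsg.Agent.MinSimple.Geo
open Cfsg.Agent.ZN.Block (conj_mem_of_normalizer conj_mem_of_normalizer' le_normalizer_of_forall
  mem_normalizer_of card_sup_mul_card_inf card_mul_relIndex' mul_mem_of_relIndex_two)

universe u

namespace Tri

variable {G : Type u} [Group G]

/-- the points of `V` -/
def Pt (V : Subgroup G) (p : G) : Prop := p ∈ V ∧ p ≠ 1

/-- the kernel of `C` on `U / ⟨p⟩` -/
def kst (C U : Subgroup G) (p : G) : Subgroup G where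
  carrier := {c | c ∈ C ∧ c * p = p * c ∧
    (∀ w ∈ U, c * w * c⁻¹ * w⁻¹ ∈ zpowers p) ∧ ∀ w ∈ U, c⁻¹ * w * c * w⁻¹ ∈ zpowers p}
  mul_mem' := by
    rintro a b ⟨ha0, ha, ha1, ha2⟩ ⟨hb0, hb, hb1, hb2⟩
    have hzc : ∀ c : G, c * p = p * c → ∀ y ∈ zpowers p, c * y * c⁻¹ = y := by
      intro c hc y hy
      obtain ⟨n, rfl⟩ := mem_zpowers_iff.mp hy
      have h : Commute c p := hc
      rw [(h.zpow_right n).eq, mul_inv_cancel_right]
    have hb' : b⁻¹ * p = p * b⁻¹ := (show Commute b p from hb).inv_left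
    refine ⟨mul_mem ha0 hb0, ?_, fun w hw => ?_, fun w hw => ?_⟩
    · rw [mul_assoc, hb, ← mul_assoc, ha, mul_assoc]
    · have e : a * b * w * (a * b)⁻¹ * w⁻¹ = a * (b * w * b⁻¹ * w⁻¹) * a⁻¹ * (a * w * a⁻¹ * w⁻¹) := by group
      rw [e, hzc a ha _ (hb1 w hw)]
      exact mul_mem (hb1 w hw) (ha1 w hw)
    · have e : (a * b)⁻¹ * w * (a * b) * w⁻¹ =
          b⁻¹ * (a⁻¹ * w * a * w⁻¹) * b⁻¹⁻¹ * (b⁻¹ * w * b * w⁻¹) := by group
      rw [e, hzc b⁻¹ hb' _ (ha2 w hw)]
      exact mul_mem (ha2 w hw) (hb2 w hw)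
  one_mem' := by
    refine ⟨one_mem _, by simp, fun w _ => ?_, fun w _ => ?_⟩ <;> simp
  inv_mem' := by
    rintro a ⟨ha0, ha, ha1, ha2⟩
    refine ⟨inv_mem ha0, (show Commute a p from ha).inv_left, fun w hw => ?_, fun w hw => ?_⟩
    · rw [inv_inv]; exact ha2 w hw
    · rw [inv_inv]; exact ha1 w hw

theorem kst_le (C U : Subgroup G) (p : G) : kst C U p ≤ C := fun _ h => h.1

theorem cj_kst (g : G) (C U : Subgroup G) (p : G) :
    cj g (kst C U p) = kst (cj g C) (cj g U) (g * p * g⁻¹) := by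
  have key : ∀ (g : G) (C U : Subgroup G) (p : G), cj g (kst C U p) ≤ kst (cj g C) (cj g U) (g * p * g⁻¹) := by
    intro g C U p x hx
    obtain ⟨y, ⟨h0, h1, h2, h3⟩, rfl⟩ := hx
    have hz : ∀ k ∈ zpowers p, g * k * g⁻¹ ∈ zpowers (g * p * g⁻¹) := by
      intro k hk
      obtain ⟨n, rfl⟩ := mem_zpowers_iff.mp hk
      exact mem_zpowers_iff.mpr ⟨n, by rw [conj_zpow]⟩
    refine ⟨conj_mem_cj h0, ?_, ?_, ?_⟩
    · change g * y * g⁻¹ * (g * p * g⁻¹) = g * p * g⁻¹ * (g * y * g⁻¹)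
      calc g * y * g⁻¹ * (g * p * g⁻¹) = g * (y * p) * g⁻¹ := by group
        _ = g * (p * y) * g⁻¹ := by rw [h1]
        _ = g * p * g⁻¹ * (g * y * g⁻¹) := by group
    · rintro _ ⟨w, hw, rfl⟩
      change g * y * g⁻¹ * (g * w * g⁻¹) * (g * y * g⁻¹)⁻¹ * (g * w * g⁻¹)⁻¹ ∈ _
      have e : g * y * g⁻¹ * (g * w * g⁻¹) * (g * y * g⁻¹)⁻¹ * (g * w * g⁻¹)⁻¹ =
        g * (y * w * y⁻¹ * w⁻¹) * g⁻¹ := by group
      rw [e]
      exact hz _ (h2 w hw)
    · rintro _ ⟨w, hw, rfl⟩
      change (g * y * g⁻¹)⁻¹ * (g * w * g⁻¹) * (g * y * g⁻¹) * (g * w * g⁻¹)⁻¹ ∈ _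
      have e : (g * y * g⁻¹)⁻¹ * (g * w * g⁻¹) * (g * y * g⁻¹) * (g * w * g⁻¹)⁻¹ =
        g * (y⁻¹ * w * y * w⁻¹) * g⁻¹ := by group
      rw [e]
      exact hz _ (h3 w hw)
  refine le_antisymm (key g C U p) ?_
  have h := key g⁻¹ (cj g C) (cj g U) (g * p * g⁻¹)
  have e : g⁻¹ * (g * p * g⁻¹) * g⁻¹⁻¹ = p := by group
  rw [e, cj_inv_cj, cj_inv_cj, cj_le_iff, inv_inv] at h
  exact h

end Tri

open Tri

variable {G : Type u} [Group G]

/-- The configuration of the three points of the line `V`. -/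
structure Tri (V : Subgroup G) (U C : G → Subgroup G) : Prop where
  cardV : Nat.card V = 4
  sqV : ∀ v ∈ V, v * v = 1
  cardU : ∀ p, Pt V p → Nat.card (U p) = 32
  sqU : ∀ p, Pt V p → ∀ u ∈ U p, u * u = 1
  V_le : ∀ p, Pt V p → V ≤ U p
  C_le : ∀ p, Pt V p → C p ≤ centralizer ({p} : Set G)
  C_norm : ∀ p, Pt V p → C p ≤ normalizer (U p : Set G)
  le_C : ∀ p, Pt V p → normalizer (V : Set G) ⊓ centralizer ({p} : Set G) ≤ C p
  sym : ∀ p q p' q', Pt V p → Pt V q → p ≠ q → Pt V p' → Pt V q' → p' ≠ q' →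
    ∃ n ∈ normalizer (V : Set G), n * p * n⁻¹ = p' ∧ n * q * n⁻¹ = q'
  conjU : ∀ n ∈ normalizer (V : Set G), ∀ p, Pt V p → cj n (U p) = U (n * p * n⁻¹)
  conjC : ∀ n ∈ normalizer (V : Set G), ∀ p, Pt V p → cj n (C p) = C (n * p * n⁻¹)
  idx : ∀ p, Pt V p →
    (kst (C p) (U p) p).relIndex (C p) = 10 ∨ (kst (C p) (U p) p).relIndex (C p) = 20
  nc : ∀ p q, Pt V p → Pt V q → p ≠ q → ∃ a ∈ U p, ∃ b ∈ U q, a * b ≠ b * a
  solv : ∀ R : Subgroup G, IsPGroup 2 R → R ≠ ⊥ → Group.IsSolvable (normalizer (R : Set G))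
  char2 : ∀ p, Pt V p → C p ⊓ centralizer (o2 (C p) : Set G) ≤ o2 (C p)

namespace Tri

variable {V : Subgroup G} {U C : G → Subgroup G}

/-- `K_p = C_G(U_p)` -/
abbrev K (U : G → Subgroup G) (p : G) : Subgroup G := centralizer (U p : Set G)

/-- `Q_p` -/
abbrev Q (U C : G → Subgroup G) (p : G) : Subgroup G := kst (C p) (U p) p

variable (h : Tri V U C) {p q : G}

include h

theorem pp (hp : Pt V p) : p * p = 1 := h.sqV p hp.1

theorem p_mem (hp : Pt V p) (_ : Pt V q) : p ∈ U q := h.V_le q ‹_› hp.1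

theorem commU (hp : Pt V p) {a b : G} (ha : a ∈ U p) (hb : b ∈ U p) : a * b = b * a := by
  have h1 := h.sqU p hp _ (mul_mem ha hb)
  have h2 := inv_eq_self (h.sqU p hp a ha)
  have h3 := inv_eq_self (h.sqU p hp b hb)
  calc a * b = (a * b)⁻¹ := (inv_eq_self h1).symm
    _ = b⁻¹ * a⁻¹ := by group
    _ = b * a := by rw [h2, h3]

theorem centV_le (hp : Pt V p) : centralizer (V : Set G) ≤ C p := by
  refine le_trans ?_ (h.le_C p hp)
  intro g hg
  have hg' := mem_centralizer_iff.mp hg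
  refine ⟨?_, mem_centralizer_singleton_iff.mpr (hg' p hp.1).symm⟩
  refine mem_normalizer_of (fun m hm => ?_) (fun m hm => ?_)
  · rw [← hg' m hm, mul_inv_cancel_right]; exact hm
  · rw [mul_assoc, hg' m hm, inv_mul_cancel_left]; exact hm

theorem U_le_centV (hp : Pt V p) : U p ≤ centralizer (V : Set G) := fun _ hu =>
  mem_centralizer_iff.mpr fun _ hv => h.commU hp (h.V_le p hp hv) hu

theorem U_le_C (hp : Pt V p) (hq : Pt V q) : U q ≤ C p := (h.U_le_centV hq).trans (h.centV_le hp)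

theorem K_le_centV (hp : Pt V p) : K U p ≤ centralizer (V : Set G) :=
  centralizer_le (h.V_le p hp)

theorem K_le_C (hp : Pt V p) (hq : Pt V q) : K U q ≤ C p := (h.K_le_centV hq).trans (h.centV_le hp)

theorem U_le_K (hp : Pt V p) : U p ≤ K U p := fun _ hu =>
  mem_centralizer_iff.mpr fun _ hv => h.commU hp hv hu

theorem c_comm (hp : Pt V p) {c : G} (hc : c ∈ C p) : c * p = p * c :=
  mem_centralizer_singleton_iff.mp (h.C_le p hp hc)

theorem conj_memU (hp : Pt V p) {c u : G} (hc : c ∈ C p) (hu : u ∈ U p) : c * u * c⁻¹ ∈ U p :=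
  conj_mem_of_normalizer (h.C_norm p hp) hc hu

theorem conj_memU' (hp : Pt V p) {c u : G} (hc : c ∈ C p) (hu : u ∈ U p) : c⁻¹ * u * c ∈ U p :=
  conj_mem_of_normalizer' (h.C_norm p hp) hc hu

theorem mem_Q_iff (hp : Pt V p) {c : G} :
    c ∈ Q U C p ↔ c ∈ C p ∧ ∀ u ∈ U p, c * u * c⁻¹ = u ∨ c * u * c⁻¹ = p * u := by
  have hpp := h.pp hp
  constructor
  · rintro ⟨h0, -, h2, -⟩
    refine ⟨h0, fun u hu => ?_⟩
    rcases (mem_zpowers_iff_of_mul_self hpp).mp (h2 u hu) with e | e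
    · left; exact mul_inv_eq_one.mp e
    · right; exact mul_inv_eq_iff_eq_mul.mp e
  · rintro ⟨h0, h1⟩
    have key : ∀ u ∈ U p, c * u * c⁻¹ * u⁻¹ ∈ zpowers p := by
      intro u hu
      rcases h1 u hu with e | e
      · rw [e, mul_inv_cancel]; exact one_mem _
      · rw [e, mul_inv_cancel_right]; exact mem_zpowers p
    refine ⟨h0, h.c_comm hp h0, key, fun u hu => ?_⟩
    have h3 := key _ (h.conj_memU' hp h0 hu)
    have e : c⁻¹ * u * c * u⁻¹ = (c * (c⁻¹ * u * c) * c⁻¹ * (c⁻¹ * u * c)⁻¹)⁻¹ := by group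
    rw [e]
    exact inv_mem h3

theorem K_le_Q (hp : Pt V p) : K U p ≤ Q U C p := fun k hk =>
  (h.mem_Q_iff hp).mpr ⟨h.K_le_C hp hp hk, fun u hu => Or.inl (by
    rw [← mem_centralizer_iff.mp hk u hu, mul_inv_cancel_right])⟩

theorem C_le_normK (hp : Pt V p) : C p ≤ normalizer (K U p : Set G) := by
  refine le_normalizer_of_forall fun c hc k hk => mem_centralizer_iff.mpr fun u hu => ?_
  have h1 := mem_centralizer_iff.mp hk _ (h.conj_memU' hp hc hu)
  calc u * (c * k * c⁻¹) = c * ((c⁻¹ * u * c) * k) * c⁻¹ := by group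
    _ = c * (k * (c⁻¹ * u * c)) * c⁻¹ := by rw [h1]
    _ = c * k * c⁻¹ * u := by group

theorem C_le_normQ (hp : Pt V p) : C p ≤ normalizer (Q U C p : Set G) := by
  refine le_normalizer_of_forall fun c hc k hk => ?_
  obtain ⟨h0, h1⟩ := (h.mem_Q_iff hp).mp hk
  refine (h.mem_Q_iff hp).mpr ⟨mul_mem (mul_mem hc h0) (inv_mem hc), fun u hu => ?_⟩
  have hcp := h.c_comm hp hc
  have e : c * k * c⁻¹ * u * (c * k * c⁻¹)⁻¹ = c * (k * (c⁻¹ * u * c) * k⁻¹) * c⁻¹ := by group
  rw [e]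
  rcases h1 _ (h.conj_memU' hp hc hu) with h2 | h2
  · left; rw [h2]; group
  · right; rw [h2]
    calc c * (p * (c⁻¹ * u * c)) * c⁻¹ = (c * p) * c⁻¹ * u := by group
      _ = p * u := by rw [hcp, mul_inv_cancel_right]

/-- the third point -/
theorem third (hp : Pt V p) (hq : Pt V q) (hpq : p ≠ q) : Pt V (p * q) ∧ p * q ≠ p ∧ p * q ≠ q := by
  refine ⟨⟨mul_mem hp.1 hq.1, fun e => hpq ?_⟩, fun e => hq.2 (by simpa using e), fun e => hp.2 (by simpa using e)⟩
  rw [mul_eq_one_iff_eq_inv.mp e, inv_eq_self (h.pp hq)]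

theorem commV (hp : Pt V p) (hq : Pt V q) : p * q = q * p :=
  h.commU hp (h.V_le p hp hp.1) (h.V_le p hp hq.1)

/-- conjugation by an element of `N_G(V)` exchanging two points -/
theorem exists_swap (hp : Pt V p) (hq : Pt V q) (hpq : p ≠ q) : ∃ n ∈ normalizer (V : Set G),
    n * p * n⁻¹ = q ∧ n * q * n⁻¹ = p ∧ cj n (U p) = U q ∧ cj n (U q) = U p ∧
      cj n (C p) = C q ∧ cj n (C q) = C p := by
  obtain ⟨n, hn, h1, h2⟩ := h.sym p q q p hp hq hpq hq hp hpq.symm
  refine ⟨n, hn, h1, h2, ?_, ?_, ?_, ?_⟩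
  · rw [h.conjU n hn p hp, h1]
  · rw [h.conjU n hn q hq, h2]
  · rw [h.conjC n hn p hp, h1]
  · rw [h.conjC n hn q hq, h2]

/-- (A2) `U_q ≰ Q_p` -/
theorem exists_t (hp : Pt V p) (hq : Pt V q) (hpq : p ≠ q) : ∃ t ∈ U q, t ∉ Q U C p := by
  by_contra hcon
  push Not at hcon
  obtain ⟨n, hn, h1, h2, h3, h4, -, -⟩ := h.exists_swap hp hq hpq
  obtain ⟨a, ha, b, hb, hab⟩ := h.nc p q hp hq hpq
  apply hab
  have hpp := h.pp hp
  have hqq := h.pp hq
  have e1 : b * a * b⁻¹ = a ∨ b * a * b⁻¹ = p * a := ((h.mem_Q_iff hp).mp (hcon b hb)).2 a ha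
  have e2 : a * b * a⁻¹ = b ∨ a * b * a⁻¹ = q * b := by
    rw [← h4] at ha
    rw [← h3] at hb
    obtain ⟨b', hb', rfl⟩ := ha
    obtain ⟨a', ha', rfl⟩ := hb
    change n * b' * n⁻¹ * (n * a' * n⁻¹) * (n * b' * n⁻¹)⁻¹ = n * a' * n⁻¹ ∨
      n * b' * n⁻¹ * (n * a' * n⁻¹) * (n * b' * n⁻¹)⁻¹ = q * (n * a' * n⁻¹)
    have e : n * b' * n⁻¹ * (n * a' * n⁻¹) * (n * b' * n⁻¹)⁻¹ = n * (b' * a' * b'⁻¹) * n⁻¹ := by group
    rw [e]
    rcases ((h.mem_Q_iff hp).mp (hcon b' hb')).2 a' ha' with h5 | h5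
    · left; rw [h5]
    · right; rw [h5, ← h1]; group
  rcases e1 with e1 | e1
  · calc a * b = (b * a * b⁻¹) * b := by rw [e1]
      _ = b * a := by group
  rcases e2 with e2 | e2
  · calc a * b = (a * b * a⁻¹) * a := by group
      _ = b * a := by rw [e2]
  · exfalso
    -- `b a = p a b`, `a b = q b a`
    have f1 : b * a = p * (a * b) := by
      calc b * a = (b * a * b⁻¹) * b := by group
        _ = p * (a * b) := by rw [e1, mul_assoc]
    have f2 : a * b = q * (b * a) := by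
      calc a * b = (a * b * a⁻¹) * a := by group
        _ = q * (b * a) := by rw [e2, mul_assoc]
    have f3 : p * q = 1 := by
      have : b * a = p * q * (b * a) := by
        calc b * a = p * (a * b) := f1
          _ = p * (q * (b * a)) := by rw [f2]
          _ = p * q * (b * a) := by group
      exact (mul_eq_right.mp this.symm)
    exact (h.third hp hq hpq).1.2 f3

end Tri

end Cfsg.Agent.Classification.TitsFin
end

-- part: Classification/TitsFin/TriPair
section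
prune_inst 0xd0004100552200000018001020003c42b2000002006b0001e100010605c88d41a0450721b82016101102ac74203c004810dc04690018000020000a00413807a90000a2820040a000000000008804080c00000000000000000000000000000000000400000
set_option linter.all false
open scoped Cfsg.Agent.FastGrp

/-!
# A group of transvections with one centre acting on an elementary abelian 2-group

`N` acts on the elementary abelian 2-group `U` with commutators in `{1, p}`. Then `C_U(C_N(B)) = B` for every
`C_U(N) ≤ B ≤ U`, and `|N : C_N(U)| = |U : C_U(N)|`.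
-/

set_option autoImplicit false
set_option linter.unusedSectionVars false
set_option linter.unusedVariables false

namespace Cfsg.Agent.Classification.TitsFin.TriPair

open Subgroup

variable {G : Type*} [Group G]

/-- `N` acts on the elementary abelian group `U` with commutators in `{1, p}` -/
structure Pairing (N U : Subgroup G) (p : G) : Prop where
  pp : p * p = 1
  pU : p ∈ U
  comm : ∀ u ∈ U, ∀ v ∈ U, u * v = v * u
  sq : ∀ u ∈ U, u * u = 1
  Np : ∀ n ∈ N, n * p = p * n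
  act : ∀ n ∈ N, ∀ u ∈ U, n * u * n⁻¹ = u ∨ n * u * n⁻¹ = p * u

theorem conj_eq_iff {n u : G} : n * u * n⁻¹ = u ↔ n * u = u * n := mul_inv_eq_iff_eq_mul

/-- an element and a subgroup of index two -/
theorem relIndex_two {H K : Subgroup G} {a : G} (ha : a ∈ K) (ha' : a ∉ H)
    (h : ∀ k ∈ K, k ∈ H ∨ k * a ∈ H) : H.relIndex K = 2 := by
  rw [Subgroup.relIndex, Subgroup.index_eq_two_iff]
  refine ⟨⟨a, ha⟩, fun b => ?_⟩
  rw [Subgroup.mem_subgroupOf, Subgroup.mem_subgroupOf]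
  change Xor ((b : G) * a ∈ H) ((b : G) ∈ H)
  rcases h b b.2 with h1 | h1
  · right
    refine ⟨h1, fun h2 => ha' ?_⟩
    have := mul_mem (inv_mem h1) h2
    rwa [inv_mul_cancel_left] at this
  · left
    refine ⟨h1, fun h2 => ha' ?_⟩
    have := mul_mem (inv_mem h2) h1
    rwa [inv_mul_cancel_left] at this

theorem card_of_relIndex_two {H K : Subgroup G} (hHK : H ≤ K) (h : H.relIndex K = 2) :
    Nat.card K = 2 * Nat.card H := by
  have h1 := Subgroup.relIndex_mul_relIndex ⊥ H K bot_le hHK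
  rw [relIndex_bot_left, relIndex_bot_left, h] at h1
  rw [← h1, mul_comm]

namespace Pairing

variable {N U : Subgroup G} {p : G} (h : Pairing N U p)

include h

theorem mono {M : Subgroup G} (hM : M ≤ N) : Pairing M U p where
  pp := h.pp
  pU := h.pU
  comm := h.comm
  sq := h.sq
  Np := fun n hn => h.Np n (hM hn)
  act := fun n hn => h.act n (hM hn)

theorem mul_of {n m b : G} (hn : n ∈ N) (h1 : n * b * n⁻¹ = p * b)
    (h2 : m * b * m⁻¹ = p * b) : m⁻¹ * n * b = b * (m⁻¹ * n) := by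
  rw [← conj_eq_iff]
  have e2 : m⁻¹ * (p * b) * m = b := by rw [← h2]; group
  calc m⁻¹ * n * b * (m⁻¹ * n)⁻¹ = m⁻¹ * (n * b * n⁻¹) * m := by group
    _ = b := by rw [h1, e2]

/-- the double centraliser property -/
theorem dc_step {B : Subgroup G} (hB : ∀ e ∈ U, (∀ n ∈ N, (∀ b ∈ B, n * b = b * n) → n * e = e * n) → e ∈ B)
    {b : G} (hb : b ∈ U) : ∀ e ∈ U,
      (∀ n ∈ N, (∀ b' ∈ B ⊔ zpowers b, n * b' = b' * n) → n * e = e * n) → e ∈ B ⊔ zpowers b := by
  intro e he hcon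
  have hsup : ∀ n : G, (∀ b' ∈ B, n * b' = b' * n) → n * b = b * n →
      ∀ b' ∈ B ⊔ zpowers b, n * b' = b' * n := by
    intro n h1 h2 b' hb'
    have h3 : B ⊔ zpowers b ≤ centralizer ({n} : Set G) := by
      refine sup_le (fun x hx => mem_centralizer_singleton_iff.mpr (h1 x hx).symm) ?_
      rw [zpowers_le]
      exact mem_centralizer_singleton_iff.mpr h2.symm
    exact (mem_centralizer_singleton_iff.mp (h3 hb')).symm
  have hbB : b ∈ B ⊔ zpowers b := le_sup_right (α := Subgroup G) (mem_zpowers b)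
  by_cases hall : ∀ n ∈ N, (∀ b' ∈ B, n * b' = b' * n) → n * b = b * n
  · exact le_sup_left (α := Subgroup G) (hB e he fun n hn h1 => hcon n hn (hsup n h1 (hall n hn h1)))
  push Not at hall
  obtain ⟨m, hm, hmB, hmb⟩ := hall
  have hmb' : m * b * m⁻¹ = p * b := by
    rcases h.act m hm b hb with h1 | h1
    · exact absurd (conj_eq_iff.mp h1) hmb
    · exact h1
  -- every `n ∈ C_N(B)` commutes with `b` or `m⁻¹ n` does
  have key : ∀ n ∈ N, (∀ b' ∈ B, n * b' = b' * n) → n * b = b * n ∨ m⁻¹ * n * b = b * (m⁻¹ * n) := by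
    intro n hn h1
    rcases h.act n hn b hb with h2 | h2
    · left; exact conj_eq_iff.mp h2
    · right; exact h.mul_of hn h2 hmb'
  have key2 : ∀ n ∈ N, (∀ b' ∈ B, n * b' = b' * n) → n * b = b * n → n * e = e * n :=
    fun n hn h1 h2 => hcon n hn (hsup n h1 h2)
  have hinv : ∀ n : G, (∀ b' ∈ B, n * b' = b' * n) → ∀ b' ∈ B, m⁻¹ * n * b' = b' * (m⁻¹ * n) := by
    intro n h1 b' hb'
    have c1 : Commute m b' := hmB b' hb'
    have c2 : Commute n b' := h1 b' hb'
    exact (c1.inv_left.mul_left c2).eq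
  rcases h.act m hm e he with h1 | h1
  · -- `m` commutes with `e`
    have h1' := conj_eq_iff.mp h1
    refine le_sup_left (α := Subgroup G) (hB e he fun n hn h2 => ?_)
    rcases key n hn h2 with h3 | h3
    · exact key2 n hn h2 h3
    · have h4 := key2 (m⁻¹ * n) (mul_mem (inv_mem hm) hn) (hinv n h2) h3
      have c1 : Commute m e := h1'
      have c2 : Commute (m⁻¹ * n) e := h4
      have := (c1.mul_left c2).eq
      rwa [mul_inv_cancel_left] at this
  · -- `m` commutes with `e b`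
    have h2 : m * (e * b) * m⁻¹ = e * b := by
      calc m * (e * b) * m⁻¹ = (m * e * m⁻¹) * (m * b * m⁻¹) := by group
        _ = (p * e) * (p * b) := by rw [h1, hmb']
        _ = (p * e) * (b * p) := by rw [h.comm p h.pU b hb]
        _ = p * (e * b) * p := by group
        _ = (e * b) * p * p := by rw [h.comm p h.pU _ (mul_mem he hb)]
        _ = e * b := by rw [mul_assoc, h.pp, mul_one]
    have h3 : e * b ∈ B := by
      refine hB (e * b) (mul_mem he hb) fun n hn h4 => ?_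
      rcases key n hn h4 with h5 | h5
      · have c1 : Commute n e := key2 n hn h4 h5
        have c2 : Commute n b := h5
        exact (c1.mul_right c2).eq
      · have c1 : Commute (m⁻¹ * n) e := key2 (m⁻¹ * n) (mul_mem (inv_mem hm) hn) (hinv n h4) h5
        have c2 : Commute (m⁻¹ * n) b := h5
        have c3 : Commute m (e * b) := conj_eq_iff.mp h2
        have := (c3.mul_left (c1.mul_right c2)).eq
        rwa [mul_inv_cancel_left] at this
    have h4 : e = (e * b) * b := by rw [mul_assoc, h.sq b hb, mul_one]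
    rw [h4]
    exact mul_mem (le_sup_left (α := Subgroup G) h3) hbB

/-- both properties together -/
theorem dc_aux [Finite G] (s : Finset G) (hs : ∀ b ∈ s, b ∈ U) :
    (∀ e ∈ U, (∀ n ∈ N, (∀ b ∈ (U ⊓ centralizer (N : Set G)) ⊔ closure (s : Set G), n * b = b * n) → n * e = e * n) →
      e ∈ (U ⊓ centralizer (N : Set G)) ⊔ closure (s : Set G)) ∧
    Nat.card ↥(N ⊓ centralizer (((U ⊓ centralizer (N : Set G)) ⊔ closure (s : Set G) : Subgroup G) : Set G)) *
      Nat.card ↥((U ⊓ centralizer (N : Set G)) ⊔ closure (s : Set G)) =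
      Nat.card N * Nat.card ↥(U ⊓ centralizer (N : Set G)) := by
  classical
  induction s using Finset.induction_on with
  | empty =>
    rw [Finset.coe_empty, Subgroup.closure_empty, sup_bot_eq]
    constructor
    · intro e he h1
      refine ⟨he, mem_centralizer_iff.mpr fun n hn => h1 n hn fun b hb => ?_⟩
      exact mem_centralizer_iff.mp hb.2 n hn
    · congr 1
      have : N ⊓ centralizer ((U ⊓ centralizer (N : Set G) : Subgroup G) : Set G) = N := by
        rw [inf_eq_left]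
        intro n hn
        exact mem_centralizer_iff.mpr fun b hb => (mem_centralizer_iff.mp hb.2 n hn).symm
      rw [this]
  | insert b s hbs ih =>
    obtain ⟨ih1, ih2⟩ := ih fun b' hb' => hs b' (Finset.mem_insert_of_mem hb')
    have hb : b ∈ U := hs b (Finset.mem_insert_self b s)
    have hBU : (U ⊓ centralizer (N : Set G)) ⊔ closure (s : Set G) ≤ U :=
      sup_le inf_le_left ((closure_le _).mpr fun x hx => hs x (Finset.mem_insert_of_mem hx))
    have e1 : (U ⊓ centralizer (N : Set G)) ⊔ closure ((insert b s : Finset G) : Set G) =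
        ((U ⊓ centralizer (N : Set G)) ⊔ closure (s : Set G)) ⊔ zpowers b := by
      rw [Finset.coe_insert, ← Set.union_singleton, Subgroup.closure_union, zpowers_eq_closure, sup_assoc]
    rw [e1]
    generalize hBdef : (U ⊓ centralizer (N : Set G)) ⊔ closure (s : Set G) = B at *
    refine ⟨h.dc_step ih1 hb, ?_⟩
    by_cases hbB : b ∈ B
    · have e2 : B ⊔ zpowers b = B := by rw [sup_eq_left, zpowers_le]; exact hbB
      rw [e2]; exact ih2
    -- `|B⟨b⟩| = 2 |B|`
    have hb' : b ∈ B ⊔ zpowers b := le_sup_right (α := Subgroup G) (mem_zpowers b)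
    have hcB : ∀ k ∈ B ⊔ zpowers b, k ∈ B ∨ k * b ∈ B := by
      let B' : Subgroup G :=
        { carrier := {k | k ∈ U ∧ (k ∈ B ∨ k * b ∈ B)}
          one_mem' := ⟨one_mem _, Or.inl (one_mem _)⟩
          mul_mem' := by
            rintro x y ⟨hx, h1⟩ ⟨hy, h2⟩
            refine ⟨mul_mem hx hy, ?_⟩
            rcases h1 with h1 | h1 <;> rcases h2 with h2 | h2
            · left; exact mul_mem h1 h2
            · right; rw [mul_assoc]; exact mul_mem h1 h2
            · right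
              rw [mul_assoc, h.comm y hy b hb, ← mul_assoc]; exact mul_mem h1 h2
            · left
              have := mul_mem h1 h2
              have e : x * b * (y * b) = x * y := by
                rw [h.comm y hy b hb, mul_assoc, ← mul_assoc b b y, h.sq b hb, one_mul]
              rwa [e] at this
          inv_mem' := by
            rintro x ⟨hx, h1⟩
            have e : x⁻¹ = x := inv_eq_of_mul_eq_one_left (h.sq x hx)
            rw [e]; exact ⟨hx, h1⟩ }
      have h1 : B ⊔ zpowers b ≤ B' := by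
        refine sup_le (fun x hx => ⟨hBU hx, Or.inl hx⟩) ?_
        rw [zpowers_le]
        exact ⟨hb, Or.inr (by rw [h.sq b hb]; exact one_mem _)⟩
      exact fun k hk => (h1 hk).2
    have hcard1 := card_of_relIndex_two (le_sup_left (α := Subgroup G)) (relIndex_two hb' hbB hcB)
    -- `|C_N(B)| = 2 |C_N(B⟨b⟩)|`
    have hle : N ⊓ centralizer ((B ⊔ zpowers b : Subgroup G) : Set G) ≤ N ⊓ centralizer (B : Set G) :=
      inf_le_inf_left _ (centralizer_le (le_sup_left (α := Subgroup G)))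
    have hmem : ∀ n : G, n ∈ N → (∀ b' ∈ B, n * b' = b' * n) → n * b = b * n →
        n ∈ N ⊓ centralizer ((B ⊔ zpowers b : Subgroup G) : Set G) := by
      intro n hn h1 h2
      refine ⟨hn, mem_centralizer_iff.mpr fun b' hb' => ?_⟩
      have h3 : B ⊔ zpowers b ≤ centralizer ({n} : Set G) := by
        refine sup_le (fun x hx => mem_centralizer_singleton_iff.mpr (h1 x hx).symm) ?_
        rw [zpowers_le]
        exact mem_centralizer_singleton_iff.mpr h2.symm
      exact mem_centralizer_singleton_iff.mp (h3 hb')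
    have hex : ∃ m ∈ N, (∀ b' ∈ B, m * b' = b' * m) ∧ m * b ≠ b * m := by
      by_contra hcon
      push Not at hcon
      exact hbB (ih1 b hb hcon)
    obtain ⟨m, hm, hmB, hmb⟩ := hex
    have hmb' : m * b * m⁻¹ = p * b := by
      rcases h.act m hm b hb with h1 | h1
      · exact absurd (conj_eq_iff.mp h1) hmb
      · exact h1
    have hcard2 := card_of_relIndex_two hle (relIndex_two (a := m)
      ⟨hm, mem_centralizer_iff.mpr fun b' hb' => (hmB b' hb').symm⟩
      (fun hc => hmb (mem_centralizer_iff.mp hc.2 b hb').symm) (by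
        rintro n ⟨hn, hn'⟩
        have hn2 : ∀ b' ∈ B, n * b' = b' * n := fun b' hb' => (mem_centralizer_iff.mp hn' b' hb').symm
        rcases h.act n hn b hb with h1 | h1
        · left; exact hmem n hn hn2 (conj_eq_iff.mp h1)
        · right
          refine hmem _ (mul_mem hn hm) (fun b' hb' => ?_) ?_
          · have c1 : Commute m b' := hmB b' hb'
            have c2 : Commute n b' := hn2 b' hb'
            exact (c2.mul_left c1).eq
          · rw [← conj_eq_iff]
            calc n * m * b * (n * m)⁻¹ = n * (m * b * m⁻¹) * n⁻¹ := by group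
              _ = n * (p * b) * n⁻¹ := by rw [hmb']
              _ = (n * p) * n⁻¹ * (n * b * n⁻¹) := by group
              _ = p * (p * b) := by rw [h.Np n hn, h1, mul_inv_cancel_right]
              _ = b := by rw [← mul_assoc, h.pp, one_mul]))
    rw [hcard2] at ih2
    rw [hcard1, ← ih2]
    ring

theorem exists_closure [Finite G] {B : Subgroup G} (hB : U ⊓ centralizer (N : Set G) ≤ B) (hBU : B ≤ U) :
    ∃ s : Finset G, (∀ b ∈ s, b ∈ U) ∧ (U ⊓ centralizer (N : Set G)) ⊔ closure (s : Set G) = B := by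
  classical
  refine ⟨(Set.toFinite (B : Set G)).toFinset, fun b hb => hBU (by simpa using hb), ?_⟩
  rw [Set.Finite.coe_toFinset, closure_eq]
  exact sup_eq_right.mpr hB

/-- **The double centraliser property.** -/
theorem dc [Finite G] {B : Subgroup G} (hB : U ⊓ centralizer (N : Set G) ≤ B) (hBU : B ≤ U) {e : G} (he : e ∈ U)
    (heB : e ∉ B) : ∃ n ∈ N, (∀ b ∈ B, n * b = b * n) ∧ n * e * n⁻¹ = p * e := by
  obtain ⟨s, hs, hs2⟩ := h.exists_closure hB hBU
  have h1 := (h.dc_aux s hs).1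
  rw [hs2] at h1
  by_contra hcon
  push Not at hcon
  refine heB (h1 e he fun n hn h2 => ?_)
  rcases h.act n hn e he with h3 | h3
  · exact conj_eq_iff.mp h3
  · exact absurd h3 (hcon n hn h2)

theorem card_eq' [Finite G] {B : Subgroup G} (hB : U ⊓ centralizer (N : Set G) ≤ B) (hBU : B ≤ U) :
    Nat.card ↥(N ⊓ centralizer (B : Set G)) * Nat.card B =
      Nat.card N * Nat.card ↥(U ⊓ centralizer (N : Set G)) := by
  obtain ⟨s, hs, hs2⟩ := h.exists_closure hB hBU
  have h1 := (h.dc_aux s hs).2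
  rwa [hs2] at h1

/-- `|N : C_N(U)| = |U : C_U(N)|` -/
theorem card_eq [Finite G] : Nat.card ↥(N ⊓ centralizer (U : Set G)) * Nat.card U =
    Nat.card N * Nat.card ↥(U ⊓ centralizer (N : Set G)) := h.card_eq' inf_le_left le_rfl

end Pairing

end Cfsg.Agent.Classification.TitsFin.TriPair
end

-- part: Classification/TitsFin/TriBO_mg
section
prune_inst 0xc0100400012200000000000000001c028200000000280000c100000404800d008000012088001000000000040030006802cc00004000000000000000011c0080000080020000a000000000000000000000000000000000000000000000000000000000000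
set_option linter.all false
open scoped Cfsg.Agent.FastGrp

-- part: Classification/TitsFin/TriBO
section
/-!
# Case B of the Tits end: the subgroups `O_p` and `N_p`

(blueprint `P21-FIN-helper531.md`, (B2), and (B3') of helper117.)
`exists_O`: `Q/U` elementary abelian, `K/U` of order 2 the fixed points of `f` (`f ^ 5 = 1`): there is a complement
`O/U` invariant under `C`.
`exists_N`: extension to a subgroup `N` of index 2 in `C`, not containing `k ∈ K - U`.
-/

set_option autoImplicit false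

namespace Cfsg.Agent.Classification.TitsFin.TriBO

universe u

variable {G : Type u} [Group G]

/-- An abelian section as an additive group. -/
theorem exists_quot (A B : Subgroup G) (hc : ∀ x ∈ A, ∀ y ∈ A, x * y * x⁻¹ * y⁻¹ ∈ B) :
    ∃ (M : Type u) (_ : AddCommGroup M) (μ : G → M), (∀ x ∈ A, ∀ y ∈ A, μ (x * y) = μ x + μ y) ∧
      (∀ x ∈ A, (μ x = 0 ↔ x ∈ B)) := by
  classical
  have hn : (B.subgroupOf A).Normal := by
    refine ⟨fun b hb a => ?_⟩
    rw [Subgroup.mem_subgroupOf] at hb ⊢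
    have h1 := hc a a.2 b b.2
    have h2 := mul_mem h1 hb
    have e : (a : G) * b * (a : G)⁻¹ * (b : G)⁻¹ * b = a * b * (a : G)⁻¹ := by group
    rw [e] at h2
    exact h2
  let inst : CommGroup (A ⧸ B.subgroupOf A) :=
    { (inferInstance : Group (A ⧸ B.subgroupOf A)) with
      mul_comm := by
        intro x y
        induction x using QuotientGroup.induction_on with | H x =>
        induction y using QuotientGroup.induction_on with | H y =>
        rw [← QuotientGroup.mk_mul, ← QuotientGroup.mk_mul, QuotientGroup.eq, Subgroup.mem_subgroupOf]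
        have h1 := hc (y : G)⁻¹ (inv_mem y.2) (x : G)⁻¹ (inv_mem x.2)
        have e : ((x * y)⁻¹ * (y * x) : A) = (y : G)⁻¹ * (x : G)⁻¹ * (y : G)⁻¹⁻¹ * (x : G)⁻¹⁻¹ := by
          push_cast
          group
        rw [e]
        exact h1 }
  refine ⟨Additive (A ⧸ B.subgroupOf A), inferInstance,
    fun x => if h : x ∈ A then Additive.ofMul (QuotientGroup.mk ⟨x, h⟩) else 0, ?_, ?_⟩
  · intro x hx y hy
    beta_reduce
    rw [dif_pos hx, dif_pos hy, dif_pos (mul_mem hx hy)]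
    rfl
  · intro x hx
    beta_reduce
    rw [dif_pos hx]
    change (QuotientGroup.mk (⟨x, hx⟩ : A) : A ⧸ B.subgroupOf A) = 1 ↔ _
    rw [QuotientGroup.eq_one_iff, Subgroup.mem_subgroupOf]

/-- if all squares of `Q` are in the normal subgroup `U`, then so are all commutators -/
theorem comm_mem {Q U : Subgroup G} (hsq : ∀ x ∈ Q, x * x ∈ U)
    (hU : ∀ c ∈ Q, ∀ u ∈ U, c * u * c⁻¹ ∈ U) {x y : G} (hx : x ∈ Q) (hy : y ∈ Q) :
    x * y * x⁻¹ * y⁻¹ ∈ U := by
  have h1 := hsq _ (mul_mem hx hy)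
  have h2 := hU _ (inv_mem hy) _ (hsq _ (inv_mem hx))
  have h3 := hsq _ (inv_mem hy)
  have h4 := mul_mem (mul_mem h1 h2) h3
  have e : x * y * (x * y) * (y⁻¹ * (x⁻¹ * x⁻¹) * y⁻¹⁻¹) * (y⁻¹ * y⁻¹) = x * y * x⁻¹ * y⁻¹ := by group
  rwa [e] at h4

theorem exists_O {U K Q C : Subgroup G} {f k : G} (hUK : U ≤ K) (hKQ : K ≤ Q) (hQC : Q ≤ C)
    (hsq : ∀ x ∈ Q, x * x ∈ U) (hU : ∀ c ∈ C, ∀ u ∈ U, c * u * c⁻¹ ∈ U)
    (hK : ∀ c ∈ C, ∀ u ∈ K, c * u * c⁻¹ ∈ K) (hQ : ∀ c ∈ C, ∀ u ∈ Q, c * u * c⁻¹ ∈ Q)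
    (fC : f ∈ C) (f5 : f ^ 5 = 1) (hk : k ∈ K) (hkk : ∀ l ∈ K, l ∈ U ∨ l * k ∈ U)
    (fix : ∀ x ∈ Q, f * x * f⁻¹ * x⁻¹ ∈ U → x ∈ K)
    (hm : ∀ c ∈ C, ∃ m : ℕ, ∃ y ∈ Q, c⁻¹ * f * c = f ^ m * y) :
    ∃ O : Subgroup G, U ≤ O ∧ O ≤ Q ∧ (∀ x ∈ O, x ∈ K → x ∈ U) ∧ (∀ x ∈ Q, x ∈ O ∨ x * k ∈ O) ∧
      ∀ c ∈ C, ∀ x ∈ O, c * x * c⁻¹ ∈ O := by
  classical
  have hUQ : U ≤ Q := hUK.trans hKQ
  obtain ⟨B, instB, β, hβ, hβ0⟩ := exists_quot Q U
    (fun x hx y hy => comm_mem hsq (fun c hc => hU c (hQC hc)) hx hy)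
  have fiQ : ∀ (i : ℕ), ∀ x ∈ Q, f ^ i * x * (f ^ i)⁻¹ ∈ Q := fun i x hx => hQ _ (pow_mem fC i) x hx
  have fiU : ∀ (i : ℕ), ∀ x ∈ U, f ^ i * x * (f ^ i)⁻¹ ∈ U := fun i x hx => hU _ (pow_mem fC i) x hx
  have hβeq : ∀ x ∈ Q, ∀ y ∈ Q, (β x = β y ↔ x * y⁻¹ ∈ U) := by
    intro x hx y hy
    have h1 : β x = β (x * y⁻¹) + β y := by
      rw [← hβ _ (mul_mem hx (inv_mem hy)) _ hy, inv_mul_cancel_right]
    rw [← hβ0 _ (mul_mem hx (inv_mem hy)), h1]
    exact add_eq_right
  have h2β : ∀ x ∈ Q, β x + β x = 0 := fun x hx => by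
    rw [← hβ x hx x hx, hβ0 _ (mul_mem hx hx)]
    exact hsq x hx
  set z : G → G := fun x => x * (f ^ 1 * x * (f ^ 1)⁻¹) * (f ^ 2 * x * (f ^ 2)⁻¹) *
    (f ^ 3 * x * (f ^ 3)⁻¹) * (f ^ 4 * x * (f ^ 4)⁻¹) with hz
  have hzQ : ∀ x ∈ Q, z x ∈ Q := fun x hx =>
    mul_mem (mul_mem (mul_mem (mul_mem hx (fiQ 1 x hx)) (fiQ 2 x hx)) (fiQ 3 x hx)) (fiQ 4 x hx)
  have hβz : ∀ x ∈ Q, β (z x) = β x + β (f ^ 1 * x * (f ^ 1)⁻¹) + β (f ^ 2 * x * (f ^ 2)⁻¹) +
      β (f ^ 3 * x * (f ^ 3)⁻¹) + β (f ^ 4 * x * (f ^ 4)⁻¹) := by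
    intro x hx
    have h1 := fiQ 1 x hx
    have h2 := fiQ 2 x hx
    have h3 := fiQ 3 x hx
    have h4 := fiQ 4 x hx
    rw [hz]
    change β (x * (f ^ 1 * x * (f ^ 1)⁻¹) * (f ^ 2 * x * (f ^ 2)⁻¹) *
      (f ^ 3 * x * (f ^ 3)⁻¹) * (f ^ 4 * x * (f ^ 4)⁻¹)) = _
    rw [hβ _ (mul_mem (mul_mem (mul_mem hx h1) h2) h3) _ h4, hβ _ (mul_mem (mul_mem hx h1) h2) _ h3,
      hβ _ (mul_mem hx h1) _ h2, hβ _ hx _ h1]
  have hconj : ∀ (i : ℕ), ∀ x ∈ Q, ∀ y ∈ Q, β (f ^ i * (x * y) * (f ^ i)⁻¹) =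
      β (f ^ i * x * (f ^ i)⁻¹) + β (f ^ i * y * (f ^ i)⁻¹) := by
    intro i x hx y hy
    rw [← hβ _ (fiQ i x hx) _ (fiQ i y hy)]
    congr 1
    group
  have hzmul : ∀ x ∈ Q, ∀ y ∈ Q, β (z (x * y)) = β (z x) + β (z y) := by
    intro x hx y hy
    rw [hβz _ (mul_mem hx hy), hβz _ hx, hβz _ hy, hβ _ hx _ hy, hconj 1 _ hx _ hy, hconj 2 _ hx _ hy,
      hconj 3 _ hx _ hy, hconj 4 _ hx _ hy]
    abel
  have hzU : ∀ x ∈ U, β (z x) = 0 := by
    intro x hx
    rw [hβ0 _ (hzQ x (hUQ hx))]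
    exact mul_mem (mul_mem (mul_mem (mul_mem hx (fiU 1 x hx)) (fiU 2 x hx)) (fiU 3 x hx)) (fiU 4 x hx)
  -- `z x` is in `K`
  have hzK : ∀ x ∈ Q, z x ∈ K := by
    intro x hx
    apply fix _ (hzQ x hx)
    rw [← hβeq _ (hQ f fC _ (hzQ x hx)) _ (hzQ x hx)]
    have e5 : f ^ 5 * x * (f ^ 5)⁻¹ = x := by rw [f5]; group
    have e : f * z x * f⁻¹ = (f ^ 1 * x * (f ^ 1)⁻¹) * (f ^ 2 * x * (f ^ 2)⁻¹) *
        (f ^ 3 * x * (f ^ 3)⁻¹) * (f ^ 4 * x * (f ^ 4)⁻¹) * x := by
      have e6 : f * (x * (f ^ 1 * x * (f ^ 1)⁻¹) * (f ^ 2 * x * (f ^ 2)⁻¹) *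
        (f ^ 3 * x * (f ^ 3)⁻¹) * (f ^ 4 * x * (f ^ 4)⁻¹)) * f⁻¹ = (f ^ 1 * x * (f ^ 1)⁻¹) *
        (f ^ 2 * x * (f ^ 2)⁻¹) * (f ^ 3 * x * (f ^ 3)⁻¹) * (f ^ 4 * x * (f ^ 4)⁻¹) *
        (f ^ 5 * x * (f ^ 5)⁻¹) := by group
      rw [e5] at e6
      exact e6
    have h1 := fiQ 1 x hx
    have h2 := fiQ 2 x hx
    have h3 := fiQ 3 x hx
    have h4 := fiQ 4 x hx
    rw [e, hβz _ hx, hβ _ (mul_mem (mul_mem (mul_mem h1 h2) h3) h4) _ hx,
      hβ _ (mul_mem (mul_mem h1 h2) h3) _ h4, hβ _ (mul_mem h1 h2) _ h3, hβ _ h1 _ h2]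
    abel
  let O : Subgroup G :=
    { carrier := {x | x ∈ Q ∧ β (z x) = 0}
      mul_mem' := by
        rintro x y ⟨hx, hx0⟩ ⟨hy, hy0⟩
        exact ⟨mul_mem hx hy, by rw [hzmul x hx y hy, hx0, hy0, add_zero]⟩
      one_mem' := ⟨one_mem _, hzU 1 (one_mem _)⟩
      inv_mem' := by
        rintro x ⟨hx, hx0⟩
        refine ⟨inv_mem hx, ?_⟩
        have h1 := hzmul x hx _ (inv_mem hx)
        rw [mul_inv_cancel, hzU 1 (one_mem _), hx0, zero_add] at h1
        exact h1.symm }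
  have hO : ∀ x, x ∈ O ↔ x ∈ Q ∧ β (z x) = 0 := fun x => Iff.rfl
  have hUO : U ≤ O := fun u hu => ⟨hUQ hu, hzU u hu⟩
  -- on `K`
  have hzk : ∀ l ∈ K, β (z l) = β l := by
    intro l hl
    have h1 : ∀ i : ℕ, β (f ^ i * l * (f ^ i)⁻¹) = β l := by
      intro i
      have hl' := hK _ (pow_mem fC i) l hl
      rw [hβeq _ (hKQ hl') _ (hKQ hl)]
      rcases hkk l hl with h2 | h2
      · exact mul_mem (fiU i l h2) (inv_mem h2)
      · rcases hkk _ hl' with h3 | h3
        · have h4 := hU _ (inv_mem (pow_mem fC i)) _ h3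
          have e : (f ^ i)⁻¹ * (f ^ i * l * (f ^ i)⁻¹) * (f ^ i)⁻¹⁻¹ = l := by group
          rw [e] at h4
          exact mul_mem h3 (inv_mem h4)
        · have h4 := mul_mem h3 (inv_mem h2)
          have e : f ^ i * l * (f ^ i)⁻¹ * k * (l * k)⁻¹ = f ^ i * l * (f ^ i)⁻¹ * l⁻¹ := by group
          rwa [e] at h4
    rw [hβz l (hKQ hl), h1 1, h1 2, h1 3, h1 4, h2β l (hKQ hl), zero_add, h2β l (hKQ hl), zero_add]
  have kQ : k ∈ Q := hKQ hk
  -- cases
  have hcase : ∀ x ∈ Q, β (z x) = 0 ∨ β (z x) = β k := by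
    intro x hx
    rcases hkk _ (hzK x hx) with h1 | h1
    · left; rwa [hβ0 _ (hzQ x hx)]
    · right
      have h3 : β (z x) + β k = 0 := by rw [← hβ _ (hzQ x hx) _ kQ, hβ0 _ (mul_mem (hzQ x hx) kQ)]; exact h1
      have h4 := h2β k kQ
      exact add_right_cancel (h3.trans h4.symm)
  -- maximality
  have hmax : ∀ O' : Subgroup G, O' ≤ Q → (∀ x ∈ O', x ∈ K → x ∈ U) →
      (∀ x ∈ O', ∀ i : ℕ, f ^ i * x * (f ^ i)⁻¹ ∈ O') → O' ≤ O := by
    intro O' h1 h2 h3 x hx
    refine ⟨h1 hx, ?_⟩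
    rw [hβ0 _ (hzQ x (h1 hx))]
    exact h2 _ (mul_mem (mul_mem (mul_mem (mul_mem hx (h3 x hx 1)) (h3 x hx 2)) (h3 x hx 3)) (h3 x hx 4))
      (hzK x (h1 hx))
  have hOK : ∀ x ∈ O, x ∈ K → x ∈ U := by
    rintro x ⟨hx, hx0⟩ hxK
    rw [hzk x hxK, hβ0 x hx] at hx0
    exact hx0
  -- `f` normalises `O`
  have hOf1 : ∀ x ∈ O, f * x * f⁻¹ ∈ O := by
    rintro x ⟨hx, hx0⟩
    have h1 : f * x * f⁻¹ ∈ Q := hQ f fC x hx
    refine ⟨h1, ?_⟩
    have e : β (z (f * x * f⁻¹)) = β (f * z x * f⁻¹) := by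
      congr 1
      rw [hz]
      beta_reduce
      group
    have h2 := hU f fC _ ((hβ0 _ (hzQ x hx)).mp hx0)
    rw [e, hβ0 _ (hQ f fC _ (hzQ x hx))]
    exact h2
  have hOf : ∀ (i : ℕ), ∀ x ∈ O, f ^ i * x * (f ^ i)⁻¹ ∈ O := by
    intro i
    induction i with
    | zero => intro x hx; simpa using hx
    | succ n ih =>
      intro x hx
      have h1 := ih _ (hOf1 x hx)
      have e : f ^ n * (f * x * f⁻¹) * (f ^ n)⁻¹ = f ^ (n + 1) * x * (f ^ (n + 1))⁻¹ := by
        rw [pow_succ]; group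
      rwa [e] at h1
  refine ⟨O, hUO, fun x hx => hx.1, hOK, ?_, ?_⟩
  · intro x hx
    rcases hcase x hx with h1 | h1
    · exact Or.inl ⟨hx, h1⟩
    · right
      refine ⟨mul_mem hx kQ, ?_⟩
      rw [hzmul x hx k kQ, h1, hzk k hk]
      exact h2β k kQ
  · intro c hc x hx
    have h1 : O.map (MulAut.conj c).toMonoidHom ≤ O := by
      apply hmax
      · rintro _ ⟨y, hy, rfl⟩
        exact hQ c hc y hy.1
      · rintro _ ⟨y, hy, rfl⟩ hyK
        change c * y * c⁻¹ ∈ K at hyK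
        change c * y * c⁻¹ ∈ U
        apply hU c hc
        apply hOK y hy
        have h2 := hK _ (inv_mem hc) _ hyK
        have e : c⁻¹ * (c * y * c⁻¹) * c⁻¹⁻¹ = y := by group
        rwa [e] at h2
      · -- `f`-invariant
        have hstep : ∀ x ∈ O.map (MulAut.conj c).toMonoidHom,
            f * x * f⁻¹ ∈ O.map (MulAut.conj c).toMonoidHom := by
          rintro _ ⟨y, hy, rfl⟩
          obtain ⟨m, y0, hy0, hm0⟩ := hm c hc
          refine ⟨f ^ m * (y0 * y * y0⁻¹) * (f ^ m)⁻¹, hOf m _ ?_, ?_⟩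
          · have h2 := comm_mem hsq (fun c hc => hU c (hQC hc)) hy0 hy.1
            have h3 := mul_mem (hUO h2) hy
            have e : y0 * y * y0⁻¹ * y⁻¹ * y = y0 * y * y0⁻¹ := by group
            rwa [e] at h3
          · change c * (f ^ m * (y0 * y * y0⁻¹) * (f ^ m)⁻¹) * c⁻¹ = f * (c * y * c⁻¹) * f⁻¹
            have e : f ^ m * (y0 * y * y0⁻¹) * (f ^ m)⁻¹ = (f ^ m * y0) * y * (f ^ m * y0)⁻¹ := by group
            rw [e, ← hm0]
            group
        intro x hx i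
        induction i generalizing x with
        | zero => simpa only [_root_.MulEquiv.toMonoidHom_eq_coe, _root_.pow_zero, _root_.one_mul, _root_.inv_one, _root_.mul_one, _root_.Subgroup.mem_map, _root_.MonoidHom.coe_coe, _root_.MulAut.conj_apply] using hx
        | succ n ih =>
          have h1 := ih _ (hstep x hx)
          have e : f ^ n * (f * x * f⁻¹) * (f ^ n)⁻¹ = f ^ (n + 1) * x * (f ^ (n + 1))⁻¹ := by
            rw [pow_succ]; group
          rwa [e] at h1
    exact h1 ⟨x, hx, rfl⟩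

/-- extension of a subgroup by a normalising element of finite order -/
theorem exists_ext {A C : Subgroup G} {s : G} (hAC : A ≤ C) (sC : s ∈ C) {n : ℕ} (hn : 0 < n) (hs : s ^ n ∈ A)
    (hA : ∀ a ∈ A, s * a * s⁻¹ ∈ A) :
    ∃ B : Subgroup G, B ≤ C ∧ A ≤ B ∧ s ∈ B ∧ ∀ c, c ∈ B ↔ c ∈ C ∧ ∃ i : ℕ, s ^ i * c ∈ A := by
  have hAi : ∀ (i : ℕ), ∀ a ∈ A, s ^ i * a * (s ^ i)⁻¹ ∈ A := by
    intro i
    induction i with
    | zero => intro a ha; simpa using ha
    | succ n ih =>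
      intro a ha
      have h1 := ih _ (hA a ha)
      have e : s ^ n * (s * a * s⁻¹) * (s ^ n)⁻¹ = s ^ (n + 1) * a * (s ^ (n + 1))⁻¹ := by
        rw [pow_succ]; group
      rwa [e] at h1
  let B : Subgroup G :=
    { carrier := {c | c ∈ C ∧ ∃ i : ℕ, s ^ i * c ∈ A}
      mul_mem' := by
        rintro c d ⟨hc, i, hi⟩ ⟨hd, j, hj⟩
        refine ⟨mul_mem hc hd, j + i, ?_⟩
        have h1 := mul_mem (hAi j _ hi) hj
        have e : s ^ j * (s ^ i * c) * (s ^ j)⁻¹ * (s ^ j * d) = s ^ (j + i) * (c * d) := by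
          rw [pow_add]; group
        rwa [e] at h1
      one_mem' := ⟨one_mem _, 0, by simp⟩
      inv_mem' := by
        rintro c ⟨hc, i, hi⟩
        refine ⟨inv_mem hc, (n - 1) * i, ?_⟩
        have h1 := hAi ((n - 1) * i) _ (inv_mem hi)
        have h2 : s ^ (n * i) ∈ A := by rw [pow_mul]; exact pow_mem hs i
        have h3 := mul_mem h1 h2
        have e0 : s ^ (n * i) = s ^ ((n - 1) * i) * s ^ i := by
          rw [← pow_add]
          congr 1
          obtain ⟨m, rfl⟩ : ∃ m, n = m + 1 := ⟨n - 1, by omega⟩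
          rw [Nat.add_sub_cancel]
          ring
        have e : s ^ ((n - 1) * i) * (s ^ i * c)⁻¹ * (s ^ ((n - 1) * i))⁻¹ * s ^ (n * i) =
            s ^ ((n - 1) * i) * c⁻¹ := by
          rw [e0]; group
        rwa [e] at h3 }
  refine ⟨B, fun c hc => hc.1, fun a ha => ⟨hAC ha, 0, by simpa using ha⟩, ⟨sC, n - 1, ?_⟩, fun c => Iff.rfl⟩
  rw [← pow_succ, Nat.sub_add_cancel hn]
  exact hs

theorem exists_N {U O Q C : Subgroup G} {f s k : G} (hUO : U ≤ O) (hOQ : O ≤ Q) (hQC : Q ≤ C)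
    (hsq : ∀ x ∈ Q, x * x ∈ U) (hO : ∀ c ∈ C, ∀ x ∈ O, c * x * c⁻¹ ∈ O)
    (hQ : ∀ c ∈ C, ∀ x ∈ Q, c * x * c⁻¹ ∈ Q)
    (fC : f ∈ C) (f5 : f ^ 5 = 1) (hfQ : f ∉ Q)
    (hm : ∀ c ∈ C, ∃ m : ℕ, ∃ y ∈ Q, c * f * c⁻¹ = f ^ m * y)
    (sC : s ∈ C) (s4 : s ^ 4 = 1) (s2 : ∀ j : ℕ, f ^ j * (s * s) ∉ Q)
    (cover : ∀ c ∈ C, ∃ i j : ℕ, f ^ j * s ^ i * c ∈ Q)
    (kQ : k ∈ Q) (hkO : k ∉ O) (hkk : ∀ x ∈ Q, x ∈ O ∨ x * k ∈ O) :
    ∃ N : Subgroup G, N ≤ C ∧ O ≤ N ∧ f ∈ N ∧ s ∈ N ∧ k ∉ N ∧ ∀ c ∈ C, c ∈ N ∨ c * k ∈ N := by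
  have hOC : O ≤ C := hOQ.trans hQC
  -- `Q / O` is central
  have claim0 : ∀ c ∈ C, ∀ x ∈ Q, c * x * c⁻¹ * x⁻¹ ∈ O := by
    intro c hc x hx
    rcases hkk x hx with h1 | h1
    · exact mul_mem (hO c hc x h1) (inv_mem h1)
    · rcases hkk _ (hQ c hc x hx) with h2 | h2
      · have h3 := hO _ (inv_mem hc) _ h2
        have e : c⁻¹ * (c * x * c⁻¹) * c⁻¹⁻¹ = x := by group
        rw [e] at h3
        exact mul_mem h2 (inv_mem h3)
      · have h3 := mul_mem h2 (inv_mem h1)
        have e : c * x * c⁻¹ * k * (x * k)⁻¹ = c * x * c⁻¹ * x⁻¹ := by group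
        rwa [e] at h3
  have fi : ∀ i : ℕ, f ^ i ∈ C := fun i => pow_mem fC i
  -- powers of `f ^ m * y`
  have hpow : ∀ (m n : ℕ), ∀ y ∈ Q, ∃ y' ∈ Q, (f ^ m * y) ^ n = f ^ (m * n) * y' := by
    intro m n y hy
    induction n with
    | zero => exact ⟨1, one_mem _, by simp⟩
    | succ n ih =>
      obtain ⟨y', hy', h1⟩ := ih
      refine ⟨(f ^ m)⁻¹ * y' * (f ^ m) * y, mul_mem ?_ hy, ?_⟩
      · have h2 := hQ _ (inv_mem (fi m)) _ hy'
        rwa [inv_inv] at h2
      · rw [pow_succ, h1, mul_add, mul_one, pow_add]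
        group
  have claim1 : ∀ c ∈ C, ∃ m : ℕ, ∃ y ∈ O, c * f * c⁻¹ = f ^ m * y := by
    intro c hc
    obtain ⟨m, y, hy, h1⟩ := hm c hc
    obtain ⟨y', hy', h2⟩ := hpow m 3 y hy
    refine ⟨m * 3 + m * 3, (f ^ (m * 3))⁻¹ * y' * (f ^ (m * 3)) * y'⁻¹ * (y' * y'), ?_, ?_⟩
    · have h3 := claim0 _ (inv_mem (fi (m * 3))) _ hy'
      rw [inv_inv] at h3
      exact mul_mem h3 (hUO (hsq _ hy'))
    · have e : c * f * c⁻¹ = (c * f * c⁻¹) ^ 3 * (c * f * c⁻¹) ^ 3 := by
        rw [← pow_add, conj_pow]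
        have : f ^ (3 + 3) = f := by
          rw [show 3 + 3 = 5 + 1 from rfl, pow_succ, f5, one_mul]
        rw [this]
      rw [e, h1, h2, pow_add]
      group
  obtain ⟨A, hAC, hOA, fA, hA⟩ := exists_ext (A := O) (C := C) (s := f) hOC fC (n := 5) (by norm_num)
    (by rw [f5]; exact one_mem _) (hO f fC)
  have hAs : ∀ a ∈ A, s * a * s⁻¹ ∈ A := by
    intro a ha
    obtain ⟨haC, j, hj⟩ := (hA a).mp ha
    have h1 : s * f * s⁻¹ ∈ A := by
      obtain ⟨m, y, hy, h1⟩ := claim1 s sC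
      rw [h1]
      exact mul_mem (pow_mem fA m) (hOA hy)
    have h2 := mul_mem (inv_mem (pow_mem h1 j)) (hOA (hO s sC _ hj))
    have e : ((s * f * s⁻¹) ^ j)⁻¹ * (s * (f ^ j * a) * s⁻¹) = s * a * s⁻¹ := by
      rw [conj_pow]; group
    rwa [e] at h2
  obtain ⟨N, hNC, hAN, sN, hN⟩ := exists_ext (A := A) (C := C) (s := s) hAC sC (n := 4) (by norm_num)
    (by rw [s4]; exact one_mem _) hAs
  refine ⟨N, hNC, hOA.trans hAN, hAN fA, sN, ?_, ?_⟩
  · -- `k ∉ N`
    intro hk
    obtain ⟨-, i, hi⟩ := (hN k).mp hk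
    obtain ⟨-, j, hj⟩ := (hA _).mp hi
    have hsqQ : ∀ (j : ℕ) (g : G), f ^ j * g ∈ Q → f ^ (j + j) * (g * g) ∈ Q := by
      intro j g hg
      have h1 := mul_mem (hQ _ (fi j) _ hg) hg
      have e : f ^ j * (f ^ j * g) * (f ^ j)⁻¹ * (f ^ j * g) = f ^ (j + j) * (g * g) := by
        rw [pow_add]; group
      rwa [e] at h1
    have h1 : f ^ j * s ^ i ∈ Q := by
      have h2 := mul_mem (hOQ hj) (inv_mem kQ)
      have e : f ^ j * (s ^ i * k) * k⁻¹ = f ^ j * s ^ i := by group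
      rwa [e] at h2
    have hi4 : s ^ i = s ^ (i % 4) := by
      conv_lhs => rw [← Nat.div_add_mod i 4, pow_add, pow_mul, s4, one_pow, one_mul]
    have hi4' : i % 4 < 4 := Nat.mod_lt _ (by norm_num)
    rw [hi4] at h1
    generalize i % 4 = r at hi4' hi4 h1
    interval_cases r
    · -- `f ^ j ∈ Q`
      rw [pow_zero, mul_one] at h1
      have hj5 : f ^ j = f ^ (j % 5) := by
        conv_lhs => rw [← Nat.div_add_mod j 5, pow_add, pow_mul, f5, one_pow, one_mul]
      have hj5' : j % 5 < 5 := Nat.mod_lt _ (by norm_num)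
      have h0 : f ^ j = 1 := by
        rw [hj5] at h1 ⊢
        generalize j % 5 = r at hj5' h1
        interval_cases r
        · rw [pow_zero]
        · exact absurd (by simpa using h1) hfQ
        · exfalso
          apply hfQ
          have h2 := pow_mem h1 3
          have e : (f ^ 2) ^ 3 = f := by
            rw [← pow_mul, show 2 * 3 = 5 + 1 from rfl, pow_succ, f5, one_mul]
          rwa [e] at h2
        · exfalso
          apply hfQ
          have h2 := pow_mem h1 2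
          have e : (f ^ 3) ^ 2 = f := by
            rw [← pow_mul, show 3 * 2 = 5 + 1 from rfl, pow_succ, f5, one_mul]
          rwa [e] at h2
        · exfalso
          apply hfQ
          have h2 := pow_mem h1 4
          have e : (f ^ 4) ^ 4 = f := by
            rw [← pow_mul, show 4 * 4 = 5 * 3 + 1 from rfl, pow_succ, pow_mul, f5, one_pow, one_mul]
          rwa [e] at h2
      apply hkO
      rw [h0, hi4, pow_zero, one_mul, one_mul] at hj
      exact hj
    · rw [pow_one] at h1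
      exact s2 _ (hsqQ _ _ h1)
    · rw [pow_two] at h1
      exact s2 _ h1
    · have h2 := hsqQ _ _ h1
      have e : s ^ 3 * s ^ 3 = s * s := by
        rw [← pow_add, show 3 + 3 = 4 + 2 from rfl, pow_add, s4, one_mul, pow_two]
      rw [e] at h2
      exact s2 _ h2
  · intro c hc
    obtain ⟨i, j, hij⟩ := cover c hc
    rcases hkk _ hij with h1 | h1
    · left
      refine (hN c).mpr ⟨hc, i, (hA _).mpr ⟨mul_mem (pow_mem sC i) hc, j, ?_⟩⟩
      rwa [← mul_assoc]
    · right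
      refine (hN _).mpr ⟨mul_mem hc (hQC kQ), i, (hA _).mpr ⟨mul_mem (pow_mem sC i) (mul_mem hc (hQC kQ)), j, ?_⟩⟩
      have e : f ^ j * (s ^ i * (c * k)) = f ^ j * s ^ i * c * k := by group
      rwa [e]

end Cfsg.Agent.Classification.TitsFin.TriBO
end

-- part: Classification/TitsFin/TransferCount
section
/-!
# A parity (transfer) lemma for an element of order dividing 4

`G` is a finite group without subgroup of index 2, `N` a subgroup of index 2 of `C_G(p)`. For a conjugate `x` of `p` and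
`g ∈ C_G(x)` call `(x, g)` bad if `g ∉ N ^ x` (the subgroup of `C_G(x)` corresponding to `N`). If `k ^ 4 = 1` then
`2 * #{x : (x, k) bad} ≡ #{x : x commutes with k², (x, k²) bad}` modulo 4.
-/

set_option autoImplicit false

namespace Cfsg.Agent.Classification.TitsFin.TransferCount

open Equiv Equiv.Perm

/-! ### permutations `σ` with `σ ^ 4 = 1` -/

section perm

variable {Y : Type*} [Fintype Y] [DecidableEq Y]

theorem card_support_of_mem {σ : Perm Y} (h4 : σ ^ 4 = 1) {c : Perm Y} (hc : c ∈ σ.cycleFactorsFinset) :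
    c.support.card = 2 ∨ c.support.card = 4 := by
  have h1 : c.support.card ∈ σ.cycleType := by
    rw [cycleType_def]
    exact Multiset.mem_map_of_mem _ hc
  have h2 : c.support.card ∣ 4 := (dvd_of_mem_cycleType h1).trans (orderOf_dvd_of_pow_eq_one h4)
  have h3 : 2 ≤ c.support.card := two_le_of_mem_cycleType h1
  have h5 : c.support.card ≤ 4 := Nat.le_of_dvd (by norm_num) h2
  interval_cases h : c.support.card
  · exact Or.inl rfl
  · norm_num at h2
  · exact Or.inr rfl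

theorem exists_counts {σ : Perm Y} (h4 : σ ^ 4 = 1) :
    ∃ a b : ℕ, σ.support.card = 2 * a + 4 * b ∧ (σ ^ 2).support.card = 4 * b ∧
      (sign σ = 1 → Even (a + b)) := by
  classical
  set A := σ.cycleFactorsFinset with hA
  set A2 := A.filter (fun c => c.support.card = 2) with hA2
  set A4 := A.filter (fun c => c.support.card = 4) with hA4
  have hdis : _root_.Disjoint A2 A4 := by
    rw [Finset.disjoint_left]
    intro c h1 h2
    rw [hA2, Finset.mem_filter] at h1
    rw [hA4, Finset.mem_filter] at h2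
    omega
  have hun : A = A2 ∪ A4 := by
    ext c
    rw [Finset.mem_union, hA2, hA4, Finset.mem_filter, Finset.mem_filter]
    constructor
    · intro h
      rcases card_support_of_mem h4 h with h' | h'
      · exact Or.inl ⟨h, h'⟩
      · exact Or.inr ⟨h, h'⟩
    · rintro (h | h) <;> exact h.1
  have hsum : σ.cycleType.sum = 2 * A2.card + 4 * A4.card := by
    rw [cycleType_def]
    change (∑ c ∈ A, c.support.card) = _
    rw [hun, Finset.sum_union hdis]
    have e2 : ∑ c ∈ A2, c.support.card = 2 * A2.card := by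
      rw [Finset.sum_congr rfl (fun c hc => (Finset.mem_filter.mp hc).2), Finset.sum_const, smul_eq_mul,
        mul_comm]
    have e4 : ∑ c ∈ A4, c.support.card = 4 * A4.card := by
      rw [Finset.sum_congr rfl (fun c hc => (Finset.mem_filter.mp hc).2), Finset.sum_const, smul_eq_mul,
        mul_comm]
    rw [e2, e4]
  have hcard : Multiset.card σ.cycleType = A2.card + A4.card := by
    rw [cycleType_def, Multiset.card_map]
    change A.card = _
    rw [hun, Finset.card_union_of_disjoint hdis]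
  have hsupp : (σ ^ 2).support = A4.biUnion (fun c => c.support) := by
    ext y
    rw [mem_support, Finset.mem_biUnion]
    constructor
    · intro hy
      have hy1 : σ y ≠ y := by
        intro h
        apply hy
        rw [pow_two, mul_apply, h, h]
      have hc : σ.cycleOf y ∈ A := by
        rw [hA, cycleOf_mem_cycleFactorsFinset_iff, mem_support]
        exact hy1
      refine ⟨σ.cycleOf y, ?_, ?_⟩
      · rw [hA4, Finset.mem_filter]
        refine ⟨hc, ?_⟩
        rcases card_support_of_mem h4 hc with h | h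
        · exfalso
          have hcy : (σ.cycleOf y).IsCycle := isCycle_cycleOf σ hy1
          have h5 : (σ.cycleOf y) ^ 2 = 1 := by
            rw [← h, ← hcy.orderOf]
            exact pow_orderOf_eq_one _
          apply hy
          rw [← cycleOf_pow_apply_self, h5, one_apply]
        · exact h
      · rw [mem_support, cycleOf_apply_self]
        exact hy1
    · rintro ⟨c, hc, hyc⟩ h
      rw [hA4, Finset.mem_filter] at hc
      have hcy : c.IsCycle := (mem_cycleFactorsFinset_iff.mp hc.1).1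
      have hcc : c = σ.cycleOf y := by
        exact (cycle_is_cycleOf hyc hc.1)
      have h5 : (c ^ 2) y = y := by
        rw [hcc, cycleOf_pow_apply_self]
        exact h
      have h6 : c ^ 2 = 1 := hcy.pow_eq_one_iff.mpr ⟨y, mem_support.mp hyc, h5⟩
      have h7 := orderOf_dvd_of_pow_eq_one h6
      rw [hcy.orderOf, hc.2] at h7
      norm_num at h7
  refine ⟨A2.card, A4.card, ?_, ?_, ?_⟩
  · rw [← sum_cycleType, hsum]
  · rw [hsupp, Finset.card_biUnion]
    · rw [Finset.sum_congr rfl (fun c hc => (Finset.mem_filter.mp hc).2), Finset.sum_const, smul_eq_mul,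
        mul_comm]
    · intro c hc d hd hcd
      have h1 := cycleFactorsFinset_pairwise_disjoint σ (Finset.mem_filter.mp hc).1
        (Finset.mem_filter.mp hd).1 hcd
      exact disjoint_iff_disjoint_support.mp h1
  · intro hs
    rw [sign_of_cycleType, hsum, hcard] at hs
    have h1 : Even (2 * A2.card + 4 * A4.card + (A2.card + A4.card)) := by
      by_contra hodd
      rw [Nat.not_even_iff_odd] at hodd
      rw [hodd.neg_one_pow] at hs
      exact absurd hs (by decide)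
    rw [Nat.even_iff] at h1 ⊢
    omega

end perm

/-! ### points and bad pairs -/

variable {G : Type*} [Group G]

open Subgroup

/-- `x` is a conjugate of `p` -/
abbrev Pt (p : G) : Set G := {x | ∃ g : G, g * p * g⁻¹ = x}

/-- the element `g` of `C_G(x)` is not in the subgroup corresponding to `N ≤ C_G(p)` -/
def Bad (N : Subgroup G) (p x g : G) : Prop := ∃ h : G, h * p * h⁻¹ = x ∧ h⁻¹ * g * h ∉ N

/-- the element `g` is in the subgroup of `C_G(x)` corresponding to `N ≤ C_G(p)` -/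
def Good (N : Subgroup G) (p x g : G) : Prop := ∃ h : G, h * p * h⁻¹ = x ∧ h⁻¹ * g * h ∈ N

theorem conj_eq_iff {p g h : G} : g * p * g⁻¹ = h * p * h⁻¹ ↔ h⁻¹ * g ∈ centralizer ({p} : Set G) := by
  rw [mem_centralizer_singleton_iff]
  constructor
  · intro e
    calc h⁻¹ * g * p = h⁻¹ * (g * p * g⁻¹) * g := by group
      _ = p * (h⁻¹ * g) := by rw [e]; group
  · intro e
    calc g * p * g⁻¹ = h * (h⁻¹ * g * p) * g⁻¹ := by group
      _ = h * p * h⁻¹ := by rw [e]; group

theorem mem_centralizer_of_conj {p x h g : G} (hx : h * p * h⁻¹ = x) :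
    h⁻¹ * g * h ∈ centralizer ({p} : Set G) ↔ g * x = x * g := by
  rw [mem_centralizer_singleton_iff, ← hx]
  constructor
  · intro e
    calc g * (h * p * h⁻¹) = h * (h⁻¹ * g * h * p) * h⁻¹ := by group
      _ = h * p * h⁻¹ * g := by rw [e]; group
  · intro e
    calc h⁻¹ * g * h * p = h⁻¹ * (g * (h * p * h⁻¹)) * h := by group
      _ = p * (h⁻¹ * g * h) := by rw [e]; group

/-- `N` is a subgroup of index 2 of `C_G(p)` -/
structure IsHalf (N : Subgroup G) (p : G) : Prop where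
  le : N ≤ centralizer ({p} : Set G)
  index : N.relIndex (centralizer ({p} : Set G)) = 2

namespace IsHalf

variable {N : Subgroup G} {p : G}

theorem mul_mem_iff (h : IsHalf N p) {a b : G} (ha : a ∈ centralizer ({p} : Set G))
    (hb : b ∈ centralizer ({p} : Set G)) : a * b ∈ N ↔ (a ∈ N ↔ b ∈ N) := by
  have h1 := mul_mem_iff_of_index_two (H := N.subgroupOf (centralizer ({p} : Set G))) h.index
    (a := ⟨a, ha⟩) (b := ⟨b, hb⟩)
  simpa [mem_subgroupOf] using h1

theorem conj_mem_iff (h : IsHalf N p) {a c : G} (ha : a ∈ centralizer ({p} : Set G))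
    (hc : c ∈ centralizer ({p} : Set G)) : c⁻¹ * a * c ∈ N ↔ a ∈ N := by
  rw [h.mul_mem_iff (mul_mem (inv_mem hc) ha) hc, h.mul_mem_iff (inv_mem hc) ha, inv_mem_iff]
  (clear * -; tauto)

theorem good_iff (h : IsHalf N p) {x g t : G} (hx : t * p * t⁻¹ = x) (hg : g * x = x * g) :
    Good N p x g ↔ t⁻¹ * g * t ∈ N := by
  constructor
  · rintro ⟨s, hs, hsN⟩
    have h1 : s⁻¹ * t ∈ centralizer ({p} : Set G) := conj_eq_iff.mp (hx.trans hs.symm)
    have h2 := (h.conj_mem_iff ((mem_centralizer_of_conj hs).mpr hg) h1).mpr hsN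
    have e : (s⁻¹ * t)⁻¹ * (s⁻¹ * g * s) * (s⁻¹ * t) = t⁻¹ * g * t := by group
    rwa [e] at h2
  · intro h1
    exact ⟨t, hx, h1⟩

theorem bad_iff (h : IsHalf N p) {x g t : G} (hx : t * p * t⁻¹ = x) (hg : g * x = x * g) :
    Bad N p x g ↔ t⁻¹ * g * t ∉ N := by
  constructor
  · rintro ⟨s, hs, hsN⟩ hcon
    exact hsN ((h.good_iff hs hg).mp ((h.good_iff hx hg).mpr hcon))
  · intro h1
    exact ⟨t, hx, h1⟩

theorem bad_iff_not_good (h : IsHalf N p) {x g : G} (hx : x ∈ Pt p) (hg : g * x = x * g) :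
    Bad N p x g ↔ ¬ Good N p x g := by
  obtain ⟨t, ht⟩ := hx
  rw [h.bad_iff ht hg, h.good_iff ht hg]

theorem commute_of_good (h : IsHalf N p) {x g : G} (hg : Good N p x g) : g * x = x * g := by
  obtain ⟨t, ht, h1⟩ := hg
  exact (mem_centralizer_of_conj ht).mp (h.le h1)

/-- the relation `(ab bad) ↔ (a bad xor b bad)` -/
theorem bad_mul_iff (h : IsHalf N p) {x a b : G} (hx : x ∈ Pt p) (ha : a * x = x * a) (hb : b * x = x * b) :
    Bad N p x (a * b) ↔ ¬ (Bad N p x a ↔ Bad N p x b) := by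
  obtain ⟨t, ht⟩ := hx
  have hab : a * b * x = x * (a * b) := by rw [mul_assoc, hb, ← mul_assoc, ha, mul_assoc]
  rw [h.bad_iff ht hab, h.bad_iff ht ha, h.bad_iff ht hb]
  have e : t⁻¹ * (a * b) * t = (t⁻¹ * a * t) * (t⁻¹ * b * t) := by group
  rw [e, h.mul_mem_iff ((mem_centralizer_of_conj ht).mpr ha) ((mem_centralizer_of_conj ht).mpr hb)]
  (clear * -; tauto)

theorem not_bad_sq (h : IsHalf N p) {x a : G} (ha : a * x = x * a) : ¬ Bad N p x (a ^ 2) := by
  rintro ⟨t, ht, h1⟩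
  apply h1
  have e : t⁻¹ * a ^ 2 * t = (t⁻¹ * a * t) * (t⁻¹ * a * t) := by rw [pow_two]; group
  rw [e, h.mul_mem_iff ((mem_centralizer_of_conj ht).mpr ha) ((mem_centralizer_of_conj ht).mpr ha)]

/-- conjugation -/
theorem bad_conj_iff {x g c : G} : Bad N p (c * x * c⁻¹) (c * g * c⁻¹) ↔ Bad N p x g := by
  have key : ∀ {x g c : G}, Bad N p x g → Bad N p (c * x * c⁻¹) (c * g * c⁻¹) := by
    rintro x g c ⟨t, ht, h1⟩
    refine ⟨c * t, ?_, ?_⟩
    · rw [← ht]; group
    · have e : (c * t)⁻¹ * (c * g * c⁻¹) * (c * t) = t⁻¹ * g * t := by group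
      rwa [e]
  constructor
  · intro h1
    have h2 := key (c := c⁻¹) h1
    have e1 : c⁻¹ * (c * x * c⁻¹) * c⁻¹⁻¹ = x := by group
    have e2 : c⁻¹ * (c * g * c⁻¹) * c⁻¹⁻¹ = g := by group
    rwa [e1, e2] at h2
  · exact key

end IsHalf

/-! ### counting -/

theorem ncard_preimage {A B : Type*} [Finite A] (f : A → B) (T : Set B) (hT : T.Finite) (m : ℕ)
    (hm : ∀ b ∈ T, Set.ncard {a | f a = b} = m) : Set.ncard {a | f a ∈ T} = m * T.ncard := by
  classical
  have := Fintype.ofFinite A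
  have e1 : Set.ncard {a | f a ∈ T} = (Finset.univ.filter (fun a => f a ∈ T)).card := by
    rw [Set.ncard_eq_toFinset_card']
    congr 1
    ext a
    simp only [_root_.Set.toFinset_ofPred, _root_.Finset.mem_filter, _root_.Finset.mem_univ, _root_.true_and]
  rw [e1, Finset.card_eq_sum_card_fiberwise (f := f) (t := hT.toFinset) (by
    intro a ha
    simpa only [_root_.Set.Finite.coe_toFinset, _root_.Finset.coe_filter, _root_.Finset.mem_univ, _root_.true_and, _root_.Set.mem_ofPred_eq] using ha)]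
  rw [Finset.sum_congr rfl (g := fun _ => m) ?_, Finset.sum_const, smul_eq_mul, mul_comm,
    Set.ncard_eq_toFinset_card T hT]
  intro b hb
  rw [Set.Finite.mem_toFinset] at hb
  rw [← hm b hb, Set.ncard_eq_toFinset_card']
  congr 1
  ext a
  simp only [Finset.mem_filter, Finset.mem_univ, true_and, Set.mem_toFinset, Set.mem_ofPred_eq]
  constructor
  · rintro ⟨_, h⟩
    exact h
  · intro h
    exact ⟨h ▸ hb, h⟩

theorem ncard_fibre_pt [Finite G] {p x : G} (hx : x ∈ Pt p) :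
    Set.ncard {g : G | g * p * g⁻¹ = x} = Nat.card (centralizer ({p} : Set G)) := by
  obtain ⟨t, ht⟩ := hx
  have e : {g : G | g * p * g⁻¹ = x} = (fun c => t * c) '' (centralizer ({p} : Set G) : Set G) := by
    ext g
    rw [Set.mem_ofPred_eq, Set.mem_image, ← ht, conj_eq_iff]
    constructor
    · intro h
      exact ⟨_, h, by group⟩
    · rintro ⟨c, hc, rfl⟩
      have : t⁻¹ * (t * c) = c := by group
      rwa [this]
  rw [e, Set.ncard_image_of_injective _ (mul_right_injective t)]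
  rfl

theorem ncard_fibre_quot [Finite G] (N : Subgroup G) (y : G ⧸ N) :
    Set.ncard {g : G | (g : G ⧸ N) = y} = Nat.card N := by
  obtain ⟨t, rfl⟩ := QuotientGroup.mk_surjective y
  have e : {g : G | (g : G ⧸ N) = (t : G ⧸ N)} = (fun c => t * c) '' (N : Set G) := by
    ext g
    rw [Set.mem_ofPred_eq, Set.mem_image, eq_comm, QuotientGroup.eq]
    constructor
    · intro h
      exact ⟨_, h, by group⟩
    · rintro ⟨c, hc, rfl⟩
      have : t⁻¹ * (t * c) = c := by group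
      rwa [this]
  rw [e, Set.ncard_image_of_injective _ (mul_right_injective t)]
  rfl

theorem IsHalf.card_eq {N : Subgroup G} {p : G} [Finite G] (h : IsHalf N p) :
    Nat.card (centralizer ({p} : Set G)) = 2 * Nat.card N := by
  have h1 := h.index
  have h2 := card_mul_index (N.subgroupOf (centralizer ({p} : Set G)))
  have h3 : Nat.card (N.subgroupOf (centralizer ({p} : Set G))) = Nat.card N :=
    Nat.card_congr (subgroupOfEquivOfLe h.le).toEquiv
  rw [← h2, h3]
  have h4 : (N.subgroupOf (centralizer ({p} : Set G))).index = 2 := h1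
  rw [h4, mul_comm]

/-- the number of fixed points of `g₀` on `G ⧸ N` -/
theorem IsHalf.ncard_fixed {N : Subgroup G} {p : G} [Finite G] (h : IsHalf N p) (g₀ : G) :
    Set.ncard {y : G ⧸ N | g₀ • y = y} = 2 * Set.ncard {x | Good N p x g₀} := by
  have h1 : Set.ncard {g : G | (g : G ⧸ N) ∈ {y : G ⧸ N | g₀ • y = y}} =
      Nat.card N * Set.ncard {y : G ⧸ N | g₀ • y = y} :=
    ncard_preimage _ _ (Set.toFinite _) _ fun b _ => ncard_fibre_quot N b
  have h2 : Set.ncard {g : G | g * p * g⁻¹ ∈ {x | Good N p x g₀}} =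
      Nat.card (centralizer ({p} : Set G)) * Set.ncard {x | Good N p x g₀} :=
    ncard_preimage _ _ (Set.toFinite _) _ fun b hb => ncard_fibre_pt (by
      obtain ⟨t, ht, _⟩ := hb
      exact ⟨t, ht⟩)
  have e : {g : G | (g : G ⧸ N) ∈ {y : G ⧸ N | g₀ • y = y}} =
      {g : G | g * p * g⁻¹ ∈ {x | Good N p x g₀}} := by
    ext g
    rw [Set.mem_ofPred_eq, Set.mem_ofPred_eq, Set.mem_ofPred_eq, Set.mem_ofPred_eq]
    have e1 : g₀ • (g : G ⧸ N) = ((g₀ * g : G) : G ⧸ N) := rfl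
    rw [e1, eq_comm, QuotientGroup.eq]
    have e2 : g⁻¹ * (g₀ * g) = g⁻¹ * g₀ * g := by group
    rw [e2]
    constructor
    · intro h3
      exact ⟨g, rfl, h3⟩
    · intro h3
      exact (h.good_iff rfl (h.commute_of_good h3)).mp h3
  rw [e, h2, h.card_eq] at h1
  have hN : 0 < Nat.card N := Nat.card_pos
  have h4 : Nat.card N * Set.ncard {y : G ⧸ N | g₀ • y = y} =
      Nat.card N * (2 * Set.ncard {x | Good N p x g₀}) := by
    rw [← h1]; ring
  exact Nat.eq_of_mul_eq_mul_left hN h4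

/-- a finite group without subgroups of index 2 acts by even permutations -/
theorem sign_eq_one (hG : ∀ M : Subgroup G, M.index ≠ 2) {Y : Type*} [Fintype Y] [DecidableEq Y]
    [MulAction G Y] (g : G) : sign (MulAction.toPerm g : Perm Y) = 1 := by
  let f : G →* ℤˣ := sign.comp (MulAction.toPermHom G Y)
  by_contra hne
  have hne' : f g ≠ 1 := hne
  have hg1 : f g = -1 := (Int.units_eq_one_or (f g)).resolve_left hne'
  apply hG f.ker
  rw [index_ker]
  have : f.range = ⊤ := by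
    rw [MonoidHom.range_eq_top]
    intro u
    rcases Int.units_eq_one_or u with rfl | rfl
    · exact ⟨1, map_one f⟩
    · exact ⟨g, hg1⟩
  rw [this, Subgroup.card_top]
  simp [Nat.card_eq_fintype_card]

/-- conjugation by `k` on the points -/
def ptPerm (p k : G) : Perm (Pt p) where
  toFun x := ⟨k * x * k⁻¹, by
    obtain ⟨t, ht⟩ := x.2
    exact ⟨k * t, by rw [← ht]; group⟩⟩
  invFun x := ⟨k⁻¹ * x * k, by
    obtain ⟨t, ht⟩ := x.2
    exact ⟨k⁻¹ * t, by rw [← ht]; group⟩⟩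
  left_inv x := Subtype.ext (by simp [mul_assoc])
  right_inv x := Subtype.ext (by simp [mul_assoc])

theorem ptPerm_apply (p k : G) (x : Pt p) : ((ptPerm p k x : Pt p) : G) = k * x * k⁻¹ := rfl

theorem ptPerm_mul (p a b : G) : ptPerm p (a * b) = ptPerm p a * ptPerm p b := by
  ext x
  rw [mul_apply, ptPerm_apply, ptPerm_apply, ptPerm_apply]
  group

theorem ptPerm_one (p : G) : ptPerm p 1 = 1 := by
  ext x
  rw [ptPerm_apply]
  simp only [_root_.Set.mem_ofPred_eq, _root_.one_mul, _root_.inv_one, _root_.mul_one, _root_.Equiv.Perm.coe_one, _root_.id_eq]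

theorem ptPerm_pow (p a : G) (n : ℕ) : ptPerm p (a ^ n) = ptPerm p a ^ n := by
  induction n with
  | zero => rw [pow_zero, pow_zero, ptPerm_one]
  | succ n ih => rw [pow_succ, pow_succ, ptPerm_mul, ih]

theorem card_support_ptPerm [Finite G] (p k : G) [Fintype (Pt p)] [DecidableEq (Pt p)] :
    (ptPerm p k).support.card + Set.ncard {x | x ∈ Pt p ∧ k * x = x * k} = Set.ncard (Pt p) := by
  classical
  have h1 : Set.ncard {x | x ∈ Pt p ∧ k * x = x * k} =
      (Finset.univ.filter (fun x : Pt p => ptPerm p k x = x)).card := by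
    have e : {x | x ∈ Pt p ∧ k * x = x * k} = Subtype.val '' {x : Pt p | ptPerm p k x = x} := by
      ext x
      constructor
      · rintro ⟨hx, hk⟩
        refine ⟨⟨x, hx⟩, Subtype.ext ?_, rfl⟩
        rw [ptPerm_apply]
        change k * x * k⁻¹ = x
        rw [hk, mul_inv_cancel_right]
      · rintro ⟨y, hy, rfl⟩
        refine ⟨y.2, ?_⟩
        have := congrArg Subtype.val hy
        rw [ptPerm_apply] at this
        calc k * (y : G) = k * y * k⁻¹ * k := by group
          _ = y * k := by rw [this]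
    rw [e, Set.ncard_image_of_injective _ Subtype.val_injective, Set.ncard_eq_toFinset_card']
    congr 1
    ext x
    rw [Set.mem_toFinset, Finset.mem_filter]
    exact ⟨fun hx => ⟨Finset.mem_univ _, hx⟩, fun hx => hx.2⟩
  have h2 : Set.ncard (Pt p) = (Finset.univ : Finset (Pt p)).card := by
    rw [Finset.card_univ, ← Nat.card_eq_fintype_card]
    rfl
  rw [h1, h2, ← Finset.card_filter_add_card_filter_not (s := (Finset.univ : Finset (Pt p)))
    (fun x : Pt p => ptPerm p k x ≠ x)]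
  congr 1
  congr 1
  ext x
  simp only [_root_.Finset.mem_filter, _root_.Finset.mem_univ, _root_.true_and, _root_.ne_eq, _root_.Decidable.not_not]

/-- **Parity theorem.** -/
theorem IsHalf.parity {N : Subgroup G} {p : G} [Finite G] (h : IsHalf N p) (hG : ∀ M : Subgroup G, M.index ≠ 2)
    {k : G} (hk : k ^ 4 = 1) :
    4 ∣ (2 * Set.ncard {x | x ∈ Pt p ∧ k * x = x * k ∧ Bad N p x k} +
      Set.ncard {x | x ∈ Pt p ∧ k ^ 2 * x = x * k ^ 2 ∧ Bad N p x (k ^ 2)}) := by
  classical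
  have := Fintype.ofFinite (G ⧸ N)
  have := Fintype.ofFinite (Pt p)
  -- the action on `G ⧸ N`
  set σ : Perm (G ⧸ N) := MulAction.toPerm k with hσ
  have hσ' : σ = MulAction.toPermHom G (G ⧸ N) k := rfl
  have hσ4 : σ ^ 4 = 1 := by rw [hσ', ← map_pow, hk, map_one]
  have hσ2 : σ ^ 2 = MulAction.toPerm (k ^ 2) := by rw [hσ', ← map_pow]; rfl
  obtain ⟨a, b, h1, h2, h3⟩ := exists_counts hσ4
  have h4 := h3 (sign_eq_one hG k)
  -- the action on the points
  have hτ4 : ptPerm p k ^ 4 = 1 := by rw [← ptPerm_pow, hk, ptPerm_one]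
  obtain ⟨a', b', h1', h2', -⟩ := exists_counts hτ4
  rw [← ptPerm_pow] at h2'
  have e1 := card_support_ptPerm p k
  have e2 := card_support_ptPerm p (k ^ 2)
  -- fixed points on `G ⧸ N`
  have hfix : ∀ g : G, (MulAction.toPerm g : Perm (G ⧸ N)).support.card + 2 * Set.ncard {x | Good N p x g} =
      Nat.card (G ⧸ N) := by
    intro g
    rw [← h.ncard_fixed g, Nat.card_eq_fintype_card, ← Finset.card_univ,
      ← Finset.card_filter_add_card_filter_not (s := (Finset.univ : Finset (G ⧸ N)))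
      (fun y : G ⧸ N => g • y ≠ y)]
    have a1 : (MulAction.toPerm g : Perm (G ⧸ N)).support = Finset.univ.filter (fun y : G ⧸ N => g • y ≠ y) := by
      ext x
      rw [mem_support, Finset.mem_filter]
      exact ⟨fun hx => ⟨Finset.mem_univ _, hx⟩, fun hx => hx.2⟩
    have a2 : Set.ncard {y : G ⧸ N | g • y = y} =
        (Finset.univ.filter (fun y : G ⧸ N => ¬ g • y ≠ y)).card := by
      rw [Set.ncard_eq_toFinset_card']
      congr 1
      ext x
      rw [Set.mem_toFinset, Finset.mem_filter, not_not]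
      exact ⟨fun hx => ⟨Finset.mem_univ _, hx⟩, fun hx => hx.2⟩
    rw [a1, a2]
  have htot : Nat.card (G ⧸ N) = 2 * Set.ncard (Pt p) := by
    have h5 := hfix 1
    have h6 : (MulAction.toPerm (1 : G) : Perm (G ⧸ N)).support.card = 0 := by
      rw [Finset.card_eq_zero, Finset.eq_empty_iff_forall_notMem]
      intro x hx
      rw [mem_support] at hx
      exact hx (one_smul G x)
    have h7 : {x | Good N p x 1} = Pt p := by
      ext x
      constructor
      · rintro ⟨t, ht, -⟩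
        exact ⟨t, ht⟩
      · rintro ⟨t, ht⟩
        exact ⟨t, ht, by simp [one_mem]⟩
    rw [h6, h7, zero_add] at h5
    exact h5.symm
  have hgb : ∀ g : G, Set.ncard {x | x ∈ Pt p ∧ g * x = x * g} =
      Set.ncard {x | Good N p x g} + Set.ncard {x | x ∈ Pt p ∧ g * x = x * g ∧ Bad N p x g} := by
    intro g
    rw [← Set.ncard_union_eq]
    · congr 1
      ext x
      constructor
      · rintro ⟨hx, hg⟩
        by_cases hb : Bad N p x g
        · exact Or.inr ⟨hx, hg, hb⟩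
        · left
          by_contra hcon
          exact hb ((h.bad_iff_not_good hx hg).mpr hcon)
      · rintro (hx | hx)
        · refine ⟨?_, h.commute_of_good hx⟩
          obtain ⟨t, ht, -⟩ := hx
          exact ⟨t, ht⟩
        · exact ⟨hx.1, hx.2.1⟩
    · rw [Set.disjoint_left]
      rintro x hx ⟨hx1, hx2, hx3⟩
      exact (h.bad_iff_not_good hx1 hx2).mp hx3 hx
  have f1 := hfix k
  have f2 := hfix (k ^ 2)
  rw [← hσ, h1] at f1
  rw [← hσ2, h2] at f2
  have g1 := hgb k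
  have g2 := hgb (k ^ 2)
  rw [h1'] at e1
  rw [h2'] at e2
  rw [htot] at f1 f2
  obtain ⟨m, hm⟩ := h4
  rw [Nat.dvd_iff_mod_eq_zero]
  omega

end Cfsg.Agent.Classification.TitsFin.TransferCount
end

-- part: Classification/TitsFin/TwoFEnd
section
/-!
# The end of the case `|C_G(U_z)| = 64` (groups of `²F₄(2)` type)

`TwoFEnd.false_of`: a transfer argument. `N` is a subgroup of index 2 of `C_G(z)`, `K` an abelian 2-group with
`C_G(K) ≤ K`, `K ∩ N = U` elementary abelian, `[K, Q] ≤ U`, `[U, Q] ≤ ⟨z⟩`.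
-/

set_option autoImplicit false

namespace Cfsg.Agent.Classification.TitsFin.TwoFEnd

open Subgroup TransferCount

variable {G : Type*}

/-- a set with a fixed point free involution has even cardinality -/
theorem even_of_involution [Finite G] {S : Set G} (f : G → G) (hf : ∀ x ∈ S, f x ∈ S)
    (hff : ∀ x ∈ S, f (f x) = x) (hne : ∀ x ∈ S, f x ≠ x) : Even S.ncard := by
  classical
  have := Fintype.ofFinite G
  rw [Set.ncard_eq_toFinset_card', even_iff_two_dvd, ← CharP.cast_eq_zero_iff (ZMod 2) 2,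
    Finset.card_eq_sum_ones, Nat.cast_sum]
  refine Finset.sum_involution (fun x _ => f x) ?_ ?_ ?_ ?_
  · intro x _
    decide
  · intro x hx _
    exact hne x (by simpa using hx)
  · intro x hx
    have := hf x (by simpa using hx)
    simpa using this
  · intro x hx
    exact hff x (by simpa using hx)

variable [Group G]

/-! ### orbits of a subgroup under conjugation -/

/-- the `K`-conjugates of `x` -/
def orb (K : Subgroup G) (x : G) : Set G := {y | ∃ k ∈ K, k * x * k⁻¹ = y}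

theorem self_mem_orb (K : Subgroup G) (x : G) : x ∈ orb K x := ⟨1, K.one_mem, by simp⟩

theorem orb_eq_of_mem {K : Subgroup G} {x y : G} (h : y ∈ orb K x) : orb K y = orb K x := by
  obtain ⟨k, hk, rfl⟩ := h
  ext w
  constructor
  · rintro ⟨l, hl, rfl⟩
    exact ⟨l * k, K.mul_mem hl hk, by group⟩
  · rintro ⟨l, hl, rfl⟩
    exact ⟨l * k⁻¹, K.mul_mem hl (K.inv_mem hk), by group⟩

theorem ncard_orb [Finite G] (K : Subgroup G) (x : G) :
    Set.ncard (orb K x) = (centralizer ({x} : Set G)).relIndex K := by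
  have h1 : Set.ncard {k : K | (k : G) * x * (k : G)⁻¹ ∈ orb K x} =
      Nat.card (K ⊓ centralizer ({x} : Set G) : Subgroup G) * Set.ncard (orb K x) := by
    refine ncard_preimage (fun k : K => (k : G) * x * (k : G)⁻¹) (orb K x) (Set.toFinite _) _ ?_
    rintro _ ⟨t, ht, rfl⟩
    have e : Subtype.val '' {k : K | (k : G) * x * (k : G)⁻¹ = t * x * t⁻¹} =
        (fun c => t * c) '' ((K ⊓ centralizer ({x} : Set G) : Subgroup G) : Set G) := by
      ext g
      constructor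
      · rintro ⟨k, hk, rfl⟩
        refine ⟨t⁻¹ * k, ⟨K.mul_mem (K.inv_mem ht) k.2, ?_⟩, by simp⟩
        exact conj_eq_iff.mp hk
      · rintro ⟨c, ⟨hc1, hc2⟩, rfl⟩
        refine ⟨⟨t * c, K.mul_mem ht hc1⟩, ?_, rfl⟩
        change t * c * x * (t * c)⁻¹ = t * x * t⁻¹
        rw [conj_eq_iff]
        have : t⁻¹ * (t * c) = c := by group
        rwa [this]
    rw [← Set.ncard_image_of_injective _ Subtype.val_injective, e,
      Set.ncard_image_of_injective _ (mul_right_injective t)]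
    rfl
  have h2 : {k : K | (k : G) * x * (k : G)⁻¹ ∈ orb K x} = Set.univ := by
    ext k
    simp only [Set.mem_ofPred_eq, Set.mem_univ, iff_true]
    exact ⟨k, k.2, rfl⟩
  rw [h2, Set.ncard_univ] at h1
  have h3 := card_mul_index ((centralizer ({x} : Set G)).subgroupOf K)
  have h4 : Nat.card ((centralizer ({x} : Set G)).subgroupOf K) =
      Nat.card (K ⊓ centralizer ({x} : Set G) : Subgroup G) := by
    rw [← inf_subgroupOf_left]
    exact Nat.card_congr (subgroupOfEquivOfLe inf_le_left).toEquiv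
  rw [h4] at h3
  have hpos : 0 < Nat.card (K ⊓ centralizer ({x} : Set G) : Subgroup G) := Nat.card_pos
  have h5 := h3.trans h1
  exact (Nat.eq_of_mul_eq_mul_left hpos h5).symm

/-- a conjugation invariant set all of whose orbits have length divisible by `m` -/
theorem dvd_ncard [Finite G] {K : Subgroup G} {S : Set G} {m : ℕ}
    (hS : ∀ x ∈ S, ∀ k ∈ K, k * x * k⁻¹ ∈ S) (hm : ∀ x ∈ S, m ∣ (centralizer ({x} : Set G)).relIndex K) :
    m ∣ S.ncard := by
  classical
  have := Fintype.ofFinite G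
  rw [Set.ncard_eq_toFinset_card', Finset.card_eq_sum_card_image (orb K)]
  refine Finset.dvd_sum fun o ho => ?_
  rw [Finset.mem_image] at ho
  obtain ⟨x, hx, rfl⟩ := ho
  rw [Set.mem_toFinset] at hx
  have e : (S.toFinset.filter (fun a => orb K a = orb K x)).card = Set.ncard (orb K x) := by
    rw [Set.ncard_eq_toFinset_card']
    congr 1
    ext y
    rw [Finset.mem_filter, Set.mem_toFinset, Set.mem_toFinset]
    constructor
    · rintro ⟨_, h⟩
      rw [← h]
      exact self_mem_orb K y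
    · intro h
      refine ⟨?_, orb_eq_of_mem h⟩
      obtain ⟨k, hk, rfl⟩ := h
      exact hS x hx k hk
  rw [e, ncard_orb]
  exact hm x hx

/-- modulo 2 only the elements centralized by the 2-group `K` count -/
theorem even_iff_of_pGroup [Finite G] {K : Subgroup G} (hK : IsPGroup 2 K) {S : Set G}
    (hS : ∀ x ∈ S, ∀ k ∈ K, k * x * k⁻¹ ∈ S) :
    Even S.ncard ↔ Even (S ∩ (centralizer (K : Set G) : Set G)).ncard := by
  have h1 : 2 ∣ (S \ (centralizer (K : Set G) : Set G)).ncard := by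
    refine dvd_ncard (K := K) ?_ ?_
    · rintro x ⟨hx, hx2⟩ k hk
      refine ⟨hS x hx k hk, fun hc => hx2 ?_⟩
      rw [SetLike.mem_coe, mem_centralizer_iff] at hc ⊢
      intro l hl
      have h2 := hc (k * l * k⁻¹) (K.mul_mem (K.mul_mem hk hl) (K.inv_mem hk))
      calc l * x = k⁻¹ * (k * l * k⁻¹ * (k * x * k⁻¹)) * k := by group
        _ = x * l := by rw [h2]; group
    · rintro x ⟨hx, hx2⟩
      obtain ⟨n, hn⟩ := IsPGroup.iff_card.mp hK
      have h2 : (centralizer ({x} : Set G)).relIndex K ∣ 2 ^ n := by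
        rw [← hn]; exact relIndex_dvd_card _ _
      obtain ⟨j, -, hj⟩ := (Nat.dvd_prime_pow Nat.prime_two).mp h2
      rw [hj]
      rcases Nat.eq_zero_or_pos j with rfl | hj0
      · exfalso
        rw [pow_zero, relIndex_eq_one] at hj
        apply hx2
        rw [SetLike.mem_coe, mem_centralizer_iff]
        intro k hk
        exact mem_centralizer_singleton_iff.mp (hj hk)
      · exact dvd_pow_self 2 hj0.ne'
  have h3 := Set.ncard_inter_add_ncard_sdiff_eq_ncard S (centralizer (K : Set G) : Set G) (Set.toFinite _)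
  rw [← h3, Nat.even_add]
  have h4 : Even (S \ (centralizer (K : Set G) : Set G)).ncard := even_iff_two_dvd.mpr h1
  (clear * - h4; tauto)

/-- The situation. -/
structure Data (z : G) (N K U Q : Subgroup G) : Prop where
  half : IsHalf N z
  z_sq : z * z = 1
  z_ne : z ≠ 1
  z_mem : z ∈ U
  U_le : U ≤ K
  K_comm : ∀ a ∈ K, ∀ b ∈ K, a * b = b * a
  K_two : IsPGroup 2 K
  K_cent : centralizer (K : Set G) ≤ K
  K_sq : ∀ k ∈ K, k * k = 1 ∨ k * k = z
  U_sq : ∀ u ∈ U, u * u = 1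
  K_N : ∀ k ∈ K, k ∈ N ↔ k ∈ U
  exists_k : ∃ k ∈ K, k ∉ U
  K_le : K ≤ Q
  Q_le : Q ≤ centralizer ({z} : Set G)
  KQ : ∀ y ∈ Q, ∀ k ∈ K, y⁻¹ * k * y * k⁻¹ ∈ U
  UQ : ∀ y ∈ Q, ∀ u ∈ U, y⁻¹ * u * y = u ∨ y⁻¹ * u * y = u * z
  rho : ∀ y ∈ Q, ∀ k ∈ K, k ∉ U → y⁻¹ * k * y = k → y ∈ K
  Q_sq : ∀ y ∈ Q, y * y ∈ K
  Q_big : 8 ∣ K.relIndex Q
  pt_swap : ∀ x ∈ Pt z, x ∈ U → x ≠ z → ∃ y ∈ Q, y * x * y⁻¹ = x * z
  pt_good : ∀ x ∈ Pt z, x ∈ U → x ≠ z → ∀ u ∈ U, ¬ Bad N z x u
  pt_orb : (∃ k ∈ K, k * k = z) → ∀ x ∈ Pt z, z * x = x * z → x ∉ K →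
    2 < (centralizer ({x} : Set G)).relIndex K

namespace Data

variable {z : G} {N K U Q : Subgroup G}

theorem conj_mem_K (h : Data z N K U Q) {y k : G} (hy : y ∈ Q) (hk : k ∈ K) : y⁻¹ * k * y ∈ K := by
  have h1 := K.mul_mem (h.U_le (h.KQ y hy k hk)) hk
  have e : y⁻¹ * k * y * k⁻¹ * k = y⁻¹ * k * y := by group
  rwa [e] at h1

theorem conj_mem_K' (h : Data z N K U Q) {y k : G} (hy : y ∈ Q) (hk : k ∈ K) : y * k * y⁻¹ ∈ K := by
  have h1 := h.conj_mem_K (Q.inv_mem hy) hk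
  rwa [inv_inv] at h1

theorem conj_mem_U_iff (h : Data z N K U Q) {y k : G} (hy : y ∈ Q) (hk : k ∈ K) :
    y * k * y⁻¹ ∈ U ↔ k ∈ U := by
  have h1 := h.KQ y⁻¹ (Q.inv_mem hy) k hk
  rw [inv_inv] at h1
  constructor
  · intro h2
    have h3 := U.mul_mem (U.inv_mem h1) h2
    have e : (y * k * y⁻¹ * k⁻¹)⁻¹ * (y * k * y⁻¹) = k := by group
    rwa [e] at h3
  · intro h2
    have h3 := U.mul_mem h1 h2
    have e : y * k * y⁻¹ * k⁻¹ * k = y * k * y⁻¹ := by group
    rwa [e] at h3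

theorem pt_conj {z x y : G} (hx : x ∈ Pt z) : y * x * y⁻¹ ∈ Pt z := by
  obtain ⟨t, rfl⟩ := hx
  exact ⟨y * t, by group⟩

/-- `(y x y⁻¹, k)` and `(x, y⁻¹ k y)` -/
theorem bad_conj {N : Subgroup G} {z x y k : G} :
    Bad N z (y * x * y⁻¹) k ↔ Bad N z x (y⁻¹ * k * y) := by
  rw [← IsHalf.bad_conj_iff (N := N) (p := z) (x := x) (g := y⁻¹ * k * y) (c := y)]
  have e : y * (y⁻¹ * k * y) * y⁻¹ = k := by group
  rw [e]

section

variable [Finite G]

/-- the points of `U` contribute an odd number -/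
theorem odd_U (h : Data z N K U Q) {k : G} (hk : k ∈ K) (hkU : k ∉ U) :
    ¬ Even (Set.ncard {x | x ∈ Pt z ∧ x ∈ U ∧ Bad N z x k}) := by
  set S : Set G := {x | x ∈ Pt z ∧ x ∈ U ∧ x ≠ z ∧ Bad N z x k} with hS
  have hcomm : ∀ x ∈ U, k * x = x * k := fun x hx => h.K_comm k hk x (h.U_le hx)
  have hz : z ∈ Pt z := ⟨1, by simp⟩
  have hbz : Bad N z z k := by
    rw [h.half.bad_iff (t := 1) (by simp) (hcomm z h.z_mem)]
    simp only [inv_one, one_mul, mul_one]
    rw [h.K_N k hk]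
    exact hkU
  have e : {x | x ∈ Pt z ∧ x ∈ U ∧ Bad N z x k} = insert z S := by
    ext x
    rw [Set.mem_insert_iff]
    constructor
    · rintro ⟨h1, h2, h3⟩
      by_cases hx : x = z
      · exact Or.inl hx
      · exact Or.inr ⟨h1, h2, hx, h3⟩
    · rintro (rfl | ⟨h1, h2, h3, h4⟩)
      · exact ⟨hz, h.z_mem, hbz⟩
      · exact ⟨h1, h2, h4⟩
  have hev : Even S.ncard := by
    refine even_of_involution (fun x => x * z) ?_ ?_ ?_
    · rintro x ⟨h1, h2, h3, h4⟩
      obtain ⟨y, hy, hyx⟩ := h.pt_swap x h1 h2 h3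
      refine ⟨hyx ▸ pt_conj h1, U.mul_mem h2 h.z_mem, fun e => ?_, ?_⟩
      · have hx1 : x = 1 := by simpa using e
        obtain ⟨t, ht⟩ := h1
        apply h.z_ne
        have : z = t⁻¹ * (t * z * t⁻¹) * t := by group
        rw [this, ht, hx1]; group
      · have h5 : k * x = x * k := hcomm x h2
        have h6 := h.KQ y hy k hk
        have h7 := h.pt_good x h1 h2 h3 _ h6
        change Bad N z (x * z) k
        rw [← hyx, bad_conj]
        have e2 : y⁻¹ * k * y = (y⁻¹ * k * y * k⁻¹) * k := by group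
        rw [e2, h.half.bad_mul_iff h1 (h.K_comm _ (h.U_le h6) _ (h.U_le h2)) h5]
        (clear * - h4 h7; tauto)
    · rintro x -
      rw [mul_assoc, h.z_sq, mul_one]
    · rintro x - e
      exact h.z_ne (by simpa using e)
  rw [e, Set.ncard_insert_of_notMem (fun hz' => hz'.2.2.1 rfl)]
  intro h1
  rw [Nat.even_add_one] at h1
  exact h1 hev

/-- the points of `K` outside `U` contribute an even number -/
theorem even_K (h : Data z N K U Q) {k : G} (hk : k ∈ K) :
    Even (Set.ncard {x | x ∈ Pt z ∧ x ∈ K ∧ x ∉ U ∧ Bad N z x k}) := by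
  -- an element of `Q - K`
  obtain ⟨y, hy, hyK⟩ : ∃ y ∈ Q, y ∉ K := by
    by_contra hcon
    push Not at hcon
    have : K.relIndex Q = 1 := relIndex_eq_one.mpr hcon
    have h2 := h.Q_big
    rw [this] at h2
    norm_num at h2
  set u := y⁻¹ * k * y * k⁻¹ with hu
  have huU : u ∈ U := h.KQ y hy k hk
  have hyk : y⁻¹ * k * y = u * k := by rw [hu]; group
  -- `y` commutes with `u`
  have hyu : y⁻¹ * u * y = u := by
    have h1 : (y * y)⁻¹ * k * (y * y) = k := by
      rw [h.K_comm _ (K.inv_mem (h.Q_sq y hy)) k hk]; group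
    have h2 : (y⁻¹ * u * y) * (u * k) = k := by
      calc (y⁻¹ * u * y) * (u * k) = (y⁻¹ * u * y) * (y⁻¹ * k * y) := by rw [hyk]
        _ = y⁻¹ * (u * k) * y := by group
        _ = y⁻¹ * (y⁻¹ * k * y) * y := by rw [hyk]
        _ = (y * y)⁻¹ * k * (y * y) := by group
        _ = k := h1
    have h3 : (y⁻¹ * u * y) * u = 1 := by
      have : (y⁻¹ * u * y) * u * k = 1 * k := by rw [mul_assoc, h2, one_mul]
      exact mul_right_cancel this
    rw [mul_eq_one_iff_eq_inv.mp h3, inv_eq_of_mul_eq_one_left (h.U_sq u huU)]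
  set X : Set G := {x | x ∈ Pt z ∧ x ∈ K ∧ x ∉ U} with hX
  have hXc : ∀ w ∈ Q, ∀ x ∈ X, w * x * w⁻¹ ∈ X := by
    rintro w hw x ⟨h1, h2, h3⟩
    exact ⟨pt_conj h1, h.conj_mem_K' hw h2, fun h4 => h3 ((h.conj_mem_U_iff hw h2).mp h4)⟩
  have hcom : ∀ x ∈ X, ∀ a ∈ K, a * x = x * a := fun x hx a ha => h.K_comm a ha x hx.2.1
  -- the effect of `y`
  have hbk : ∀ x ∈ X, (Bad N z (y * x * y⁻¹) k ↔ ¬ (Bad N z x u ↔ Bad N z x k)) := by
    intro x hx
    rw [bad_conj, hyk, h.half.bad_mul_iff hx.1 (hcom x hx u (h.U_le huU)) (hcom x hx k hk)]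
  have hbu : ∀ x ∈ X, (Bad N z (y * x * y⁻¹) u ↔ Bad N z x u) := by
    intro x _
    rw [bad_conj, hyu]
  -- `X₁`
  set X₁ : Set G := {x | x ∈ X ∧ Bad N z x u} with hX₁
  have h4 : 4 ∣ X₁.ncard := by
    refine dvd_ncard (K := Q ⊓ centralizer ({u} : Set G)) ?_ ?_
    · rintro x ⟨hx, hxu⟩ w ⟨hw, hwu⟩
      refine ⟨hXc w hw x hx, ?_⟩
      rw [bad_conj]
      have : w⁻¹ * u * w = u := by
        rw [mul_assoc, ← mem_centralizer_singleton_iff.mp hwu, inv_mul_cancel_left]
      rwa [this]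
    · rintro x ⟨hx, -⟩
      have hK1 : K ≤ Q ⊓ centralizer ({u} : Set G) := fun a ha =>
        ⟨h.K_le ha, mem_centralizer_singleton_iff.mpr (h.K_comm a ha u (h.U_le huU))⟩
      have e1 : (centralizer ({x} : Set G)).relIndex (Q ⊓ centralizer ({u} : Set G)) =
          K.relIndex (Q ⊓ centralizer ({u} : Set G)) := by
        rw [← inf_relIndex_right]
        congr 1
        refine le_antisymm ?_ ?_
        · rintro w ⟨hw1, hw2, -⟩
          refine h.rho w hw2 x hx.2.1 hx.2.2 ?_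
          rw [mul_assoc, ← mem_centralizer_singleton_iff.mp hw1, inv_mul_cancel_left]
        · intro a ha
          exact ⟨mem_centralizer_singleton_iff.mpr (hcom x hx a ha), hK1 ha⟩
      rw [e1]
      have e2 : K.relIndex (Q ⊓ centralizer ({u} : Set G)) *
          (Q ⊓ centralizer ({u} : Set G)).relIndex Q = K.relIndex Q :=
        relIndex_mul_relIndex _ _ _ hK1 inf_le_left
      have e3 : (Q ⊓ centralizer ({u} : Set G)).relIndex Q ≤ 2 := by
        rw [inf_relIndex_left, ← ncard_orb]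
        have : orb Q u ⊆ {u, u * z} := by
          rintro _ ⟨w, hw, rfl⟩
          have h5 := h.UQ w⁻¹ (Q.inv_mem hw) u huU
          rw [inv_inv] at h5
          rcases h5 with h5 | h5
          · exact Or.inl h5
          · exact Or.inr h5
        refine (Set.ncard_le_ncard this (Set.toFinite _)).trans ?_
        exact (Set.ncard_insert_le _ _).trans (by rw [Set.ncard_singleton])
      have h8 := h.Q_big
      rw [← e2] at h8
      have e4 : (Q ⊓ centralizer ({u} : Set G)).relIndex Q ≠ 0 := by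
        rw [relIndex]
        exact index_ne_zero_of_finite
      obtain h9 | h9 : (Q ⊓ centralizer ({u} : Set G)).relIndex Q = 1 ∨
          (Q ⊓ centralizer ({u} : Set G)).relIndex Q = 2 := by omega
      · rw [h9, mul_one] at h8
        exact (by norm_num : 4 ∣ 8).trans h8
      · rw [h9] at h8
        omega
  have h5 : X₁.ncard = 2 * Set.ncard {x | x ∈ X₁ ∧ Bad N z x k} := by
    have e1 : (fun x => y * x * y⁻¹) '' {x | x ∈ X₁ ∧ Bad N z x k} = {x | x ∈ X₁ ∧ ¬ Bad N z x k} := by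
      ext w
      constructor
      · rintro ⟨x, ⟨⟨hx, hxu⟩, hxk⟩, rfl⟩
        refine ⟨⟨hXc y hy x hx, (hbu x hx).mpr hxu⟩, fun hcon => ?_⟩
        have := (hbk x hx).mp hcon
        (clear * - hxk hxu this; tauto)
      · rintro ⟨⟨hw, hwu⟩, hwk⟩
        have hx : y⁻¹ * w * y ∈ X := by
          have := hXc y⁻¹ (Q.inv_mem hy) w hw
          rwa [inv_inv] at this
        have e : y * (y⁻¹ * w * y) * y⁻¹ = w := by group
        refine ⟨y⁻¹ * w * y, ⟨⟨hx, ?_⟩, ?_⟩, e⟩
        · have := hbu _ hx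
          rw [e] at this
          exact this.mp hwu
        · have h6 := hbk _ hx
          have h7 := hbu _ hx
          rw [e] at h6 h7
          (clear * - hwk hwu h6 h7; tauto)
    have e2 : Set.ncard {x | x ∈ X₁ ∧ ¬ Bad N z x k} = Set.ncard {x | x ∈ X₁ ∧ Bad N z x k} := by
      rw [← e1]
      exact Set.ncard_image_of_injective _ (fun a b hab => by simpa only [_root_.mul_left_inj, _root_.mul_right_inj] using hab)
    have e3 : X₁ = {x | x ∈ X₁ ∧ Bad N z x k} ∪ {x | x ∈ X₁ ∧ ¬ Bad N z x k} := by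
      ext x
      constructor
      · intro hx
        by_cases hb : Bad N z x k
        · exact Or.inl ⟨hx, hb⟩
        · exact Or.inr ⟨hx, hb⟩
      · rintro (hx | hx) <;> exact hx.1
    rw [e3, Set.ncard_union_eq, e2]
    · rw [← e3]; ring
    · rw [Set.disjoint_left]
      rintro x hx hx'
      exact hx'.2 hx.2
  have h6 : 2 ∣ Set.ncard {x | x ∈ X ∧ ¬ Bad N z x u ∧ Bad N z x k} := by
    refine dvd_ncard (K := zpowers y) ?_ ?_
    · have key : ∀ x ∈ {x | x ∈ X ∧ ¬ Bad N z x u ∧ Bad N z x k},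
          y * x * y⁻¹ ∈ {x | x ∈ X ∧ ¬ Bad N z x u ∧ Bad N z x k} := by
        rintro x ⟨hx, hxu, hxk⟩
        refine ⟨hXc y hy x hx, fun hcon => hxu ((hbu x hx).mp hcon), ?_⟩
        rw [hbk x hx]
        (clear * - hxu hxk; tauto)
      intro x hx w hw
      obtain ⟨n, rfl⟩ := (mem_powers_iff_mem_zpowers (x := y)).mpr hw
      induction n with
      | zero => simpa using hx
      | succ n ih =>
        have h7 := key _ (ih (by exact npow_mem_zpowers y n))
        have e : y * (y ^ n * x * (y ^ n)⁻¹) * y⁻¹ = y ^ (n + 1) * x * (y ^ (n + 1))⁻¹ := by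
          rw [pow_succ']; group
        rwa [e] at h7
    · rintro x ⟨hx, -, -⟩
      have h7 : (centralizer ({x} : Set G)).relIndex (zpowers y) ≠ 1 := by
        intro h8
        rw [relIndex_eq_one] at h8
        have h9 := h8 (mem_zpowers y)
        refine hyK (h.rho y hy x hx.2.1 hx.2.2 ?_)
        rw [mul_assoc, ← mem_centralizer_singleton_iff.mp h9, inv_mul_cancel_left]
      obtain ⟨n, hn⟩ := h.K_two ⟨_, h.Q_sq y hy⟩
      have hn' : (y * y) ^ 2 ^ n = 1 := by simpa only [_root_.SubmonoidClass.mk_pow, _root_.OneMemClass.coe_one] using congrArg Subtype.val hn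
      rw [← pow_two, ← pow_mul, ← pow_succ'] at hn'
      have h10 : (centralizer ({x} : Set G)).relIndex (zpowers y) ∣ 2 ^ (n + 1) := by
        refine (relIndex_dvd_card _ _).trans ?_
        rw [Nat.card_zpowers]
        exact orderOf_dvd_of_pow_eq_one hn'
      obtain ⟨j, -, hj⟩ := (Nat.dvd_prime_pow Nat.prime_two).mp h10
      rw [hj]
      rcases Nat.eq_zero_or_pos j with rfl | hj0
      · rw [hj, pow_zero] at h7
        exact absurd rfl h7
      · exact dvd_pow_self 2 hj0.ne'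
  have h7 : {x | x ∈ Pt z ∧ x ∈ K ∧ x ∉ U ∧ Bad N z x k} =
      {x | x ∈ X₁ ∧ Bad N z x k} ∪ {x | x ∈ X ∧ ¬ Bad N z x u ∧ Bad N z x k} := by
    ext x
    constructor
    · rintro ⟨h1, h2, h3, h8⟩
      by_cases hb : Bad N z x u
      · exact Or.inl ⟨⟨⟨h1, h2, h3⟩, hb⟩, h8⟩
      · exact Or.inr ⟨⟨h1, h2, h3⟩, hb, h8⟩
    · rintro (hx | hx)
      · exact ⟨hx.1.1.1, hx.1.1.2.1, hx.1.1.2.2, hx.2⟩
      · exact ⟨hx.1.1, hx.1.2.1, hx.1.2.2, hx.2.2⟩
  rw [h7, Set.ncard_union_eq]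
  · rw [Nat.even_iff]
    omega
  · rw [Set.disjoint_left]
    rintro x hx hx'
    exact hx'.2.1 hx.1.2

/-- **The end of the case `²F₄(2)`.** -/
theorem false_of (h : Data z N K U Q) (hG : ∀ M : Subgroup G, M.index ≠ 2) : False := by
  obtain ⟨k, hk, hkU⟩ := h.exists_k
  have hk4 : k ^ 4 = 1 := by
    have e : k ^ 4 = (k * k) * (k * k) := by rw [← pow_two, ← pow_two, ← pow_mul]
    rw [e]
    rcases h.K_sq k hk with h1 | h1
    · rw [h1, one_mul]
    · rw [h1, h.z_sq]
  have h1 := h.half.parity hG hk4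
  -- the second set
  have h2 : 4 ∣ Set.ncard {x | x ∈ Pt z ∧ k ^ 2 * x = x * k ^ 2 ∧ Bad N z x (k ^ 2)} := by
    rcases h.K_sq k hk with h3 | h3
    · have : {x | x ∈ Pt z ∧ k ^ 2 * x = x * k ^ 2 ∧ Bad N z x (k ^ 2)} = ∅ := by
        rw [Set.eq_empty_iff_forall_notMem]
        rintro x ⟨-, -, t, -, h4⟩
        apply h4
        rw [pow_two, h3]
        simp [one_mem]
      rw [this, Set.ncard_empty]
      exact dvd_zero 4
    · refine dvd_ncard (K := K) ?_ ?_
      · rintro x ⟨hx1, hx2, hx3⟩ l hl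
        have hkl : l⁻¹ * k ^ 2 * l = k ^ 2 := by
          rw [mul_assoc, h.K_comm _ (K.pow_mem hk 2) l hl, inv_mul_cancel_left]
        refine ⟨pt_conj hx1, ?_, ?_⟩
        · have hx2' : (l⁻¹ * k ^ 2 * l) * x = x * (l⁻¹ * k ^ 2 * l) := by rw [hkl]; exact hx2
          calc k ^ 2 * (l * x * l⁻¹) = l * ((l⁻¹ * k ^ 2 * l) * x) * l⁻¹ := by group
            _ = l * (x * (l⁻¹ * k ^ 2 * l)) * l⁻¹ := by rw [hx2']
            _ = l * x * l⁻¹ * k ^ 2 := by group
        · rw [bad_conj, hkl]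
          exact hx3
      · rintro x ⟨hx1, hx2, hx3⟩
        have hxK : x ∉ K := fun hxK => h.half.not_bad_sq (h.K_comm k hk x hxK) hx3
        have hzx : z * x = x * z := by
          rw [← h3, ← pow_two]
          exact hx2
        have h4 := h.pt_orb ⟨k, hk, h3⟩ x hx1 hzx hxK
        obtain ⟨n, hn⟩ := IsPGroup.iff_card.mp h.K_two
        have h5 : (centralizer ({x} : Set G)).relIndex K ∣ 2 ^ n := by
          rw [← hn]; exact relIndex_dvd_card _ _
        obtain ⟨j, -, hj⟩ := (Nat.dvd_prime_pow Nat.prime_two).mp h5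
        rw [hj] at h4 ⊢
        match j, h4 with
        | 0, h4 => norm_num at h4
        | 1, h4 => norm_num at h4
        | j + 2, _ => exact ⟨2 ^ j, by rw [pow_add]; ring⟩
  -- the first set
  have h3 : Even (Set.ncard {x | x ∈ Pt z ∧ k * x = x * k ∧ Bad N z x k}) := by
    rw [Nat.even_iff]
    omega
  have hinv : ∀ x ∈ {x | x ∈ Pt z ∧ k * x = x * k ∧ Bad N z x k}, ∀ l ∈ K,
      l * x * l⁻¹ ∈ {x | x ∈ Pt z ∧ k * x = x * k ∧ Bad N z x k} := by
    rintro x ⟨hx1, hx2, hx3⟩ l hl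
    have hkl : l⁻¹ * k * l = k := by
      rw [mul_assoc, h.K_comm _ hk l hl, inv_mul_cancel_left]
    refine ⟨pt_conj hx1, ?_, ?_⟩
    · have hx2' : (l⁻¹ * k * l) * x = x * (l⁻¹ * k * l) := by rw [hkl]; exact hx2
      calc k * (l * x * l⁻¹) = l * ((l⁻¹ * k * l) * x) * l⁻¹ := by group
        _ = l * (x * (l⁻¹ * k * l)) * l⁻¹ := by rw [hx2']
        _ = l * x * l⁻¹ * k := by group
    · rw [bad_conj, hkl]
      exact hx3
  rw [even_iff_of_pGroup h.K_two hinv] at h3
  have e : {x | x ∈ Pt z ∧ k * x = x * k ∧ Bad N z x k} ∩ (centralizer (K : Set G) : Set G) =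
      {x | x ∈ Pt z ∧ x ∈ U ∧ Bad N z x k} ∪ {x | x ∈ Pt z ∧ x ∈ K ∧ x ∉ U ∧ Bad N z x k} := by
    ext x
    constructor
    · rintro ⟨⟨hx1, -, hx3⟩, hx4⟩
      have hxK : x ∈ K := h.K_cent hx4
      by_cases hxU : x ∈ U
      · exact Or.inl ⟨hx1, hxU, hx3⟩
      · exact Or.inr ⟨hx1, hxK, hxU, hx3⟩
    · rintro (⟨hx1, hx2, hx3⟩ | ⟨hx1, hx2, -, hx3⟩)
      · exact ⟨⟨hx1, h.K_comm k hk x (h.U_le hx2), hx3⟩, mem_centralizer_iff.mpr fun a ha =>
          h.K_comm a ha x (h.U_le hx2)⟩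
      · exact ⟨⟨hx1, h.K_comm k hk x hx2, hx3⟩, mem_centralizer_iff.mpr fun a ha =>
          h.K_comm a ha x hx2⟩
  rw [e, Set.ncard_union_eq, Nat.even_add] at h3
  · exact h.odd_U hk hkU (h3.mpr (h.even_K hk))
  · rw [Set.disjoint_left]
    rintro x hx hx'
    exact hx'.2.2.1 hx.2.1

end

end Data

end Cfsg.Agent.Classification.TitsFin.TwoFEnd
end

-- part: Classification/TitsFin/TriBSec
section
/-!
# Abelian sections with automorphisms, elementwise
-/

set_option autoImplicit false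

namespace Cfsg.Agent.Classification.TitsFin.TriBSec

universe u

variable {G : Type u} [Group G]

/-- `μ : A → M` is (elementwise) a surjective homomorphism with kernel `B` -/
structure Sec (A B : Subgroup G) {M : Type u} [CommGroup M] (μ : G → M) : Prop where
  mul : ∀ x ∈ A, ∀ y ∈ A, μ (x * y) = μ x * μ y
  ker : ∀ x ∈ A, (μ x = 1 ↔ x ∈ B)
  surj : ∀ m, ∃ x ∈ A, μ x = m
  card : Nat.card M = B.relIndex A

/-- An abelian section as a commutative group. -/
theorem exists_section (A B : Subgroup G) (hc : ∀ x ∈ A, ∀ y ∈ A, x * y * x⁻¹ * y⁻¹ ∈ B) :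
    ∃ (M : Type u) (_ : CommGroup M) (μ : G → M), Sec A B μ := by
  classical
  have hn : (B.subgroupOf A).Normal := by
    refine ⟨fun b hb a => ?_⟩
    rw [Subgroup.mem_subgroupOf] at hb ⊢
    have h1 := hc a a.2 b b.2
    have h2 := mul_mem h1 hb
    have e : (a : G) * b * (a : G)⁻¹ * (b : G)⁻¹ * b = a * b * (a : G)⁻¹ := by group
    rw [e] at h2
    exact h2
  let inst : CommGroup (A ⧸ B.subgroupOf A) :=
    { (inferInstance : Group (A ⧸ B.subgroupOf A)) with
      mul_comm := by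
        intro x y
        induction x using QuotientGroup.induction_on with | H x =>
        induction y using QuotientGroup.induction_on with | H y =>
        rw [← QuotientGroup.mk_mul, ← QuotientGroup.mk_mul, QuotientGroup.eq, Subgroup.mem_subgroupOf]
        have h1 := hc (y : G)⁻¹ (inv_mem y.2) (x : G)⁻¹ (inv_mem x.2)
        have e : ((x * y)⁻¹ * (y * x) : A) = (y : G)⁻¹ * (x : G)⁻¹ * (y : G)⁻¹⁻¹ * (x : G)⁻¹⁻¹ := by
          push_cast
          group
        rw [e]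
        exact h1 }
  refine ⟨A ⧸ B.subgroupOf A, inst, fun x => if h : x ∈ A then QuotientGroup.mk ⟨x, h⟩ else 1,
    ⟨?_, ?_, ?_, rfl⟩⟩
  · intro x hx y hy
    rw [dif_pos hx, dif_pos hy, dif_pos (mul_mem hx hy)]
    rfl
  · intro x hx
    rw [dif_pos hx]
    rw [QuotientGroup.eq_one_iff, Subgroup.mem_subgroupOf]
  · intro m
    induction m using QuotientGroup.induction_on with | H x =>
    refine ⟨x, x.2, ?_⟩
    rw [dif_pos x.2]

namespace Sec

variable {A B : Subgroup G} {M : Type u} [CommGroup M] {μ : G → M}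

theorem one (h : Sec A B μ) : μ 1 = 1 := (h.ker 1 (one_mem _)).mpr (one_mem _)

theorem inv (h : Sec A B μ) {x : G} (hx : x ∈ A) : μ x⁻¹ = (μ x)⁻¹ := by
  rw [eq_inv_iff_mul_eq_one, ← h.mul _ (inv_mem hx) _ hx, inv_mul_cancel, h.one]

theorem eq_iff (h : Sec A B μ) {x y : G} (hx : x ∈ A) (hy : y ∈ A) : μ x = μ y ↔ x⁻¹ * y ∈ B := by
  rw [← h.ker _ (mul_mem (inv_mem hx) hy), h.mul _ (inv_mem hx) _ hy, h.inv hx, inv_mul_eq_one]

/-- the automorphism induced by conjugation with `c` -/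
theorem exists_aut (h : Sec A B μ) {c : G} (hA : ∀ x ∈ A, c * x * c⁻¹ ∈ A)
    (hA' : ∀ x ∈ A, c⁻¹ * x * c ∈ A) (hB : ∀ x ∈ B, c * x * c⁻¹ ∈ B) (hB' : ∀ x ∈ B, c⁻¹ * x * c ∈ B) :
    ∃ s : MulAut M, ∀ x ∈ A, s (μ x) = μ (c * x * c⁻¹) := by
  choose sec hsecA hsec using h.surj
  have dep : ∀ x ∈ A, ∀ y ∈ A, μ x = μ y → μ (c * x * c⁻¹) = μ (c * y * c⁻¹) := by
    intro x hx y hy hxy
    rw [h.eq_iff (hA x hx) (hA y hy)]
    have h1 := hB _ ((h.eq_iff hx hy).mp hxy)
    have e : c * (x⁻¹ * y) * c⁻¹ = (c * x * c⁻¹)⁻¹ * (c * y * c⁻¹) := by group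
    rwa [e] at h1
  have dep' : ∀ x ∈ A, ∀ y ∈ A, μ x = μ y → μ (c⁻¹ * x * c) = μ (c⁻¹ * y * c) := by
    intro x hx y hy hxy
    rw [h.eq_iff (hA' x hx) (hA' y hy)]
    have h1 := hB' _ ((h.eq_iff hx hy).mp hxy)
    have e : c⁻¹ * (x⁻¹ * y) * c = (c⁻¹ * x * c)⁻¹ * (c⁻¹ * y * c) := by group
    rwa [e] at h1
  refine ⟨{ toFun := fun m => μ (c * sec m * c⁻¹)
            invFun := fun m => μ (c⁻¹ * sec m * c)
            left_inv := fun m => ?_
            right_inv := fun m => ?_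
            map_mul' := fun m m' => ?_ }, fun x hx => ?_⟩
  · change μ (c⁻¹ * sec (μ (c * sec m * c⁻¹)) * c) = m
    rw [dep' _ (hsecA _) _ (hA _ (hsecA m)) (hsec _)]
    have e : c⁻¹ * (c * sec m * c⁻¹) * c = sec m := by group
    rw [e, hsec]
  · change μ (c * sec (μ (c⁻¹ * sec m * c)) * c⁻¹) = m
    rw [dep _ (hsecA _) _ (hA' _ (hsecA m)) (hsec _)]
    have e : c * (c⁻¹ * sec m * c) * c⁻¹ = sec m := by group
    rw [e, hsec]
  · change μ (c * sec (m * m') * c⁻¹) = μ (c * sec m * c⁻¹) * μ (c * sec m' * c⁻¹)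
    rw [← h.mul _ (hA _ (hsecA m)) _ (hA _ (hsecA m'))]
    have e : c * sec m * c⁻¹ * (c * sec m' * c⁻¹) = c * (sec m * sec m') * c⁻¹ := by group
    rw [e]
    apply dep _ (hsecA _) _ (mul_mem (hsecA m) (hsecA m'))
    rw [hsec, h.mul _ (hsecA m) _ (hsecA m'), hsec, hsec]
  · change μ (c * sec (μ x) * c⁻¹) = _
    exact dep _ (hsecA _) _ hx (hsec _)

end Sec

end Cfsg.Agent.Classification.TitsFin.TriBSec
end
end

-- part: OddCyclic/GamBase
section
prune_inst 0x400410000000000001020000000100000000000000000000004000800000000000000000400100200000004006002cc0420401000000a000000002007290000020000400000000000000004080c00000000000000000000000000000000000400000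
set_option linter.all false
open scoped Cfsg.Agent.FastGrp

-- part: OddCyclic/GamMod
section
/-!
# The natural `ΓL₂(4)`-module

`Nat5 ρ M`: the group `C` acts on `M` (order 16, exponent 2) through `ρ : C → S₅`, the image contains `A₅`, elements
of order three act fixed-point-freely.

* `P ρ M i`: fixed points of the four-group of the stabiliser of `i` (the five `F₄`-points);
* `card_fix`, `mem_fix_iff`: involutions; `exists_P`, `P_inf`; `exists_cyc`: every two-dimensional subspace is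
  normalised by an element of order three; `irr`; `k4_of_fix`, `k4_of_quot`.
-/

set_option autoImplicit false
set_option linter.dupNamespace false
set_option linter.unusedSectionVars false

namespace Cfsg.Agent.OddCyclic.GamMod

open GamPerm

universe u v

variable {C : Type u} [Group C] {M : Type v} [AddCommGroup M] [DistribMulAction C M]

structure Nat5 (ρ : C →* S5) (M : Type v) [AddCommGroup M] [DistribMulAction C M] : Prop where
  even : ∀ g : S5, Equiv.Perm.sign g = 1 → ∃ c, ρ c = g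
  ker : ∀ c, ρ c = 1 → ∀ m : M, c • m = m
  card : Nat.card M = 16
  add_self : ∀ m : M, m + m = 0
  fpf : ∀ c, O3 (ρ c) → ∀ m : M, c • m = m → m = 0

/-- fixed points of `c` -/
def fx (M : Type v) [AddCommGroup M] [DistribMulAction C M] (c : C) : AddSubgroup M where
  carrier := {m | c • m = m}
  zero_mem' := smul_zero c
  add_mem' := by
    intro a b ha hb
    change c • (a + b) = a + b
    rw [smul_add, show c • a = a from ha, show c • b = b from hb]
  neg_mem' := by
    intro a ha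
    change c • (-a) = -a
    rw [smul_neg, show c • a = a from ha]

theorem mem_fx {c : C} {m : M} : m ∈ fx M c ↔ c • m = m := Iff.rfl

/-- fixed points of the four-group of the stabiliser of `i` -/
def P (ρ : C →* S5) (M : Type v) [AddCommGroup M] [DistribMulAction C M] (i : Fin 5) : AddSubgroup M where
  carrier := {m | ∀ c, K4 i (ρ c) → c • m = m}
  zero_mem' := fun c _ => smul_zero c
  add_mem' := by
    intro a b ha hb c hc
    rw [smul_add, ha c hc, hb c hc]
  neg_mem' := by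
    intro a ha c hc
    rw [smul_neg, ha c hc]

variable {ρ : C →* S5}

namespace Nat5

theorem neg_eq (h : Nat5 ρ M) (m : M) : -m = m := neg_eq_of_add_eq_zero_left (h.add_self m)

theorem eq_of_add (h : Nat5 ρ M) {a b : M} (hab : a + b = 0) : a = b := by
  rw [eq_neg_of_add_eq_zero_left hab, h.neg_eq]

theorem finite (h : Nat5 ρ M) : Finite M := Nat.finite_of_card_ne_zero (by rw [h.card]; norm_num)

theorem congr (h : Nat5 ρ M) {c d : C} (hcd : ρ c = ρ d) (m : M) : c • m = d • m := by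
  have h1 : ρ (d⁻¹ * c) = 1 := by rw [map_mul, map_inv, hcd, inv_mul_cancel]
  have h2 := h.ker _ h1 m
  calc c • m = d • ((d⁻¹ * c) • m) := by rw [smul_smul, mul_inv_cancel_left]
    _ = d • m := by rw [h2]

theorem smul_mem_P (_ : Nat5 ρ M) {i : Fin 5} {m : M} (hm : m ∈ P ρ M i) (c : C) : c • m ∈ P ρ M (ρ c i) := by
  intro d hd
  have h1 : K4 i (ρ (c⁻¹ * d * c)) := by
    have h2 := hd.conj (ρ c)⁻¹
    have e1 : (ρ c)⁻¹ (ρ c i) = i := by simp
    have e2 : (ρ c)⁻¹ * ρ d * ((ρ c)⁻¹)⁻¹ = ρ (c⁻¹ * d * c) := by simp only [_root_.inv_inv, _root_.map_mul, _root_.map_inv]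
    rwa [e1, e2] at h2
  have h2 := hm _ h1
  calc d • c • m = c • ((c⁻¹ * d * c) • m) := by
        rw [smul_smul, smul_smul]; congr 1; group
    _ = c • m := by rw [h2]

theorem smul_mem_P' (h : Nat5 ρ M) {i : Fin 5} {m : M} (hm : m ∈ P ρ M i) {c : C} (hc : ρ c i = i) :
    c • m ∈ P ρ M i := by
  have := h.smul_mem_P hm c
  rwa [hc] at this

theorem P_inf (h : Nat5 ρ M) {i j : Fin 5} (hij : i ≠ j) {m : M} (hi : m ∈ P ρ M i) (hj : m ∈ P ρ M j) :
    m = 0 := by
  obtain ⟨g, k, hg, hk, h3⟩ := exists_mul_o3 i j hij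
  obtain ⟨c, rfl⟩ := h.even g hg.2.1
  obtain ⟨d, rfl⟩ := h.even k hk.2.1
  rw [← map_mul] at h3
  refine h.fpf _ h3 m ?_
  rw [mul_smul, hj d hk, hi c hg]

theorem idx_fix (h : Nat5 ρ M) {i : Fin 5} {m : M} (hm : m ∈ P ρ M i) (hm0 : m ≠ 0) {c : C}
    (hc : c • m = m) : ρ c i = i := by
  by_contra hne
  refine hm0 (h.P_inf hne ?_ hm)
  have := h.smul_mem_P hm c
  rwa [hc] at this

theorem k4_of_fix (h : Nat5 ρ M) {i : Fin 5} {m : M} (hm : m ∈ P ρ M i) (hm0 : m ≠ 0) {c : C}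
    (hc : c • m = m) (hs : Equiv.Perm.sign (ρ c) = 1) : K4 i (ρ c) := by
  rcases even_fix i (ρ c) (h.idx_fix hm hm0 hc) hs with h1 | h1
  · exact h1
  · exact absurd (h.fpf c h1 m hc) hm0

/-- `d m = c m + m` -/
def dd (M : Type v) [AddCommGroup M] [DistribMulAction C M] (c : C) : M →+ M where
  toFun m := c • m + m
  map_zero' := by simp
  map_add' := by
    intro a b
    rw [smul_add]; abel

theorem dd_apply {c : C} {m : M} : dd M c m = c • m + m := rfl

theorem ker_dd (h : Nat5 ρ M) (c : C) : (dd M c).ker = fx M c := by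
  ext m
  rw [AddMonoidHom.mem_ker, dd_apply, mem_fx]
  constructor
  · exact h.eq_of_add
  · intro e; rw [e, h.add_self]

theorem card_dd (h : Nat5 ρ M) (c : C) : Nat.card (dd M c).range * Nat.card (fx M c) = 16 := by
  have := h.finite
  rw [← h.card, ← h.ker_dd c]
  have h1 := AddSubgroup.card_eq_card_quotient_mul_card_addSubgroup (dd M c).ker
  rw [h1]
  congr 1
  exact Nat.card_congr (QuotientAddGroup.quotientKerEquivRange (dd M c)).symm.toEquiv

theorem smul_fx (c d : C) {m : M} (hm : m ∈ fx M c) : d • m ∈ fx M (d * c * d⁻¹) := by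
  rw [mem_fx] at hm ⊢
  rw [smul_smul, inv_mul_cancel_right, mul_smul, hm]

theorem card_fx_conj (c d : C) : Nat.card (fx M (d * c * d⁻¹)) = Nat.card (fx M c) := by
  refine Nat.card_congr ⟨fun m => ⟨d⁻¹ • (m : M), ?_⟩, fun m => ⟨d • (m : M), smul_fx c d m.2⟩, ?_, ?_⟩
  · have := smul_fx (d * c * d⁻¹) d⁻¹ m.2
    have e : d⁻¹ * (d * c * d⁻¹) * d⁻¹⁻¹ = c := by group
    rwa [e] at this
  · intro m; ext; simp
  · intro m; ext; simp

theorem card_add_le (h : Nat5 ρ M) {A B : AddSubgroup M} (hAB : ∀ m, m ∈ A → m ∈ B → m = 0) :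
    Nat.card A * Nat.card B ≤ 16 := by
  have := h.finite
  rw [← Nat.card_prod, ← h.card]
  refine Nat.card_le_card_of_injective (fun p : A × B => (p.1 : M) + p.2) ?_
  rintro ⟨a, b⟩ ⟨a', b'⟩ he
  have he' : (a : M) + b = a' + b' := he
  have h1 : (a : M) - a' = b' - b := by
    rw [sub_eq_sub_iff_add_eq_add, he', add_comm]
  have h2 : (a : M) - a' = 0 := hAB _ (A.sub_mem a.2 a'.2) (by rw [h1]; exact B.sub_mem b'.2 b.2)
  have h3 : (b' : M) - b = 0 := by rw [← h1]; exact h2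
  rw [sub_eq_zero] at h2 h3
  exact Prod.ext (Subtype.ext h2) (Subtype.ext h3.symm)

theorem range_dd_le (h : Nat5 ρ M) {c : C} (hc : ρ c * ρ c = 1) : (dd M c).range ≤ fx M c := by
  rintro _ ⟨m, rfl⟩
  rw [mem_fx, dd_apply, smul_add, smul_smul]
  rw [h.ker (c * c) (by rw [map_mul, hc]), add_comm]

theorem card_fix_ge (h : Nat5 ρ M) {c : C} {n : ℕ} (hn : Nat.card (dd M c).range ≤ n) :
    16 ≤ n * Nat.card (fx M c) := by
  rw [← h.card_dd c]
  exact Nat.mul_le_mul_right _ hn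

theorem card_fx (h : Nat5 ρ M) {c : C} (hc : ρ c * ρ c = 1) (hc1 : ρ c ≠ 1) : Nat.card (fx M c) = 4 := by
  have := h.finite
  have h1 : Nat.card (dd M c).range ≤ Nat.card (fx M c) :=
    AddSubgroup.card_le_of_le (h.range_dd_le hc)
  have h2 := h.card_fix_ge h1
  have h3 : Nat.card (fx M c) * Nat.card (fx M c) ≤ 16 := by
    obtain ⟨g, hg, h3⟩ := exists_conj_o3 (ρ c) hc hc1
    obtain ⟨d, rfl⟩ := h.even g hg
    conv_lhs => rw [← card_fx_conj c d, card_fx_conj c d]
    conv_lhs => arg 2; rw [← card_fx_conj c d]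
    refine h.card_add_le fun m hm1 hm2 => ?_
    have h4 : O3 (ρ (c * (d * c * d⁻¹))) := by simpa only [_root_.map_mul, _root_.map_inv] using h3
    refine h.fpf _ h4 m ?_
    rw [mul_smul, mem_fx.mp hm2, mem_fx.mp hm1]
  nlinarith only [h2, h3]

theorem fx_eq_range (h : Nat5 ρ M) {c : C} (hc : ρ c * ρ c = 1) (hc1 : ρ c ≠ 1) :
    (dd M c).range = fx M c := by
  have := h.finite
  have h1 := h.card_fx hc hc1
  have h2 := h.card_dd c
  refine AddSubgroup.eq_of_le_of_card_ge (h.range_dd_le hc) ?_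
  rw [h1] at h2 ⊢
  omega

/-- involutions: `C_M(c) = [M,c]` -/
theorem mem_fx_iff (h : Nat5 ρ M) {c : C} (hc : ρ c * ρ c = 1) (hc1 : ρ c ≠ 1) {m : M} :
    c • m = m ↔ ∃ n : M, m = c • n + n := by
  rw [← mem_fx, ← h.fx_eq_range hc hc1, AddMonoidHom.mem_range]
  constructor
  · rintro ⟨n, rfl⟩; exact ⟨n, rfl⟩
  · rintro ⟨n, rfl⟩; exact ⟨n, rfl⟩

theorem three_sum (h : Nat5 ρ M) {c : C} (hc : O3 (ρ c)) (m : M) : m + c • m + c • c • m = 0 := by
  refine h.fpf c hc _ ?_
  have h1 : c • c • c • m = m := by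
    rw [smul_smul, smul_smul]
    exact h.ker _ (by rw [map_mul, map_mul]; simpa only [mul_assoc] using hc.1) m
  rw [smul_add, smul_add, h1]; abel

/-- a subgroup invariant under an element of order three -/
theorem card_mod_three (h : Nat5 ρ M) {c : C} (hc : O3 (ρ c)) {U : AddSubgroup M}
    (hU : ∀ m ∈ U, c • m ∈ U) : Nat.card U % 3 = 1 := by
  classical
  have := h.finite
  have := Fintype.ofFinite U
  let f : Function.End U := fun m => ⟨c • (m : M), hU m m.2⟩
  have hf : f ^ 3 ^ 1 = 1 := by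
    rw [pow_one, pow_succ, pow_succ, pow_one]
    funext m
    ext
    change c • c • c • (m : M) = m
    rw [smul_smul, smul_smul]
    exact h.ker _ (by rw [map_mul, map_mul]; simpa only [mul_assoc] using hc.1) _
  have h1 := Equiv.Perm.card_fixedPoints_modEq (p := 3) (n := 1) hf
  have h2 : Fintype.card (Function.fixedPoints f) = 1 := by
    rw [Fintype.card_eq_one_iff]
    refine ⟨⟨0, ?_⟩, ?_⟩
    · apply Subtype.ext
      change c • (0 : M) = 0
      exact smul_zero c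
    · rintro ⟨m, hm⟩
      apply Subtype.ext
      apply Subtype.ext
      have hm' : f m = m := hm
      exact h.fpf c hc m (congrArg Subtype.val hm')
  rw [h2] at h1
  rw [Nat.card_eq_fintype_card]
  exact h1

theorem P_le_fx (_ : Nat5 ρ M) {i : Fin 5} {c : C} (hc : K4 i (ρ c)) : P ρ M i ≤ fx M c := fun _ hm => hm c hc

theorem exists_ne_zero (h : Nat5 ρ M) (i : Fin 5) : ∃ m ∈ P ρ M i, m ≠ 0 := by
  classical
  have := h.finite
  obtain ⟨g, k, hg, hk, hg1, hk1, hgk, hall⟩ := exists_gen i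
  obtain ⟨a, ha⟩ := h.even g hg.2.1
  obtain ⟨b, hb⟩ := h.even k hk.2.1
  have hc1 : Nat.card (fx M a) = 4 := h.card_fx (by rw [ha]; exact hg.2.2) (by rw [ha]; exact hg1)
  have hab : ρ (a * b) = ρ (b * a) := by
    rw [map_mul, map_mul, ha, hb]
    have h1 := (K4_mul i g hg k hk).2.2
    have e1 : g⁻¹ = g := inv_eq_of_mul_eq_one_left hg.2.2
    have e2 : k⁻¹ = k := inv_eq_of_mul_eq_one_left hk.2.2
    calc g * k = (g * k)⁻¹ := (inv_eq_of_mul_eq_one_left h1).symm
      _ = k⁻¹ * g⁻¹ := by group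
      _ = k * g := by rw [e1, e2]
  have hinv : ∀ m ∈ fx M a, b • m ∈ fx M a := by
    intro m hm
    rw [mem_fx] at hm ⊢
    rw [smul_smul, h.congr hab, mul_smul, hm]
  have := Fintype.ofFinite (fx M a)
  let f : Function.End (fx M a) := fun m => ⟨b • (m : M), hinv m m.2⟩
  have hf : f ^ 2 ^ 1 = 1 := by
    rw [pow_one, pow_two]
    funext m
    ext
    change b • b • (m : M) = m
    rw [smul_smul]
    exact h.ker _ (by rw [map_mul, hb]; exact hk.2.2) _
  have h1 := Equiv.Perm.card_fixedPoints_modEq (p := 2) (n := 1) hf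
  rw [← Nat.card_eq_fintype_card (α := fx M a), hc1] at h1
  have h0 : (0 : fx M a) ∈ Function.fixedPoints f := by
    apply Subtype.ext
    change b • (0 : M) = 0
    exact smul_zero b
  have h2 : ∃ m : Function.fixedPoints f, m ≠ ⟨0, h0⟩ := by
    by_contra hcon
    push Not at hcon
    have h3 : Fintype.card (Function.fixedPoints f) = 1 := Fintype.card_eq_one_iff.mpr ⟨_, hcon⟩
    rw [h3] at h1
    exact absurd h1 (by decide)
  obtain ⟨⟨m, hm⟩, hm0⟩ := h2
  have hm' : f m = m := hm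
  have hbm : b • (m : M) = m := congrArg Subtype.val hm'
  refine ⟨m, ?_, fun e => hm0 (Subtype.ext (Subtype.ext e))⟩
  intro c hc
  rcases hall _ hc with e | e | e | e
  · exact h.ker c e m
  · rw [h.congr (e.trans ha.symm)]; exact m.2
  · rw [h.congr (e.trans hb.symm)]; exact hbm
  · rw [h.congr (d := a * b) (by rw [map_mul, ha, hb]; exact e), mul_smul, hbm]; exact m.2

theorem card_P (h : Nat5 ρ M) (i : Fin 5) : Nat.card (P ρ M i) = 4 := by
  have := h.finite
  obtain ⟨g, hg, hg1⟩ := exists_k4_ne i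
  obtain ⟨a, rfl⟩ := h.even g hg.2.1
  have h1 : Nat.card (P ρ M i) ∣ 4 := by
    rw [← h.card_fx hg.2.2 hg1]
    exact AddSubgroup.card_dvd_of_le (h.P_le_fx hg)
  obtain ⟨x, hx, hxi⟩ := exists_o3_fix i
  obtain ⟨d, rfl⟩ := h.even x hx.sign
  have h2 := h.card_mod_three hx (U := P ρ M i) (fun m hm => h.smul_mem_P' hm hxi)
  have h3 : Nat.card (P ρ M i) ≠ 1 := by
    intro e
    obtain ⟨m, hm, hm0⟩ := h.exists_ne_zero i
    rw [AddSubgroup.card_eq_one] at e
    rw [e] at hm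
    exact hm0 hm
  have h4 : Nat.card (P ρ M i) ≤ 4 := Nat.le_of_dvd (by norm_num) h1
  have h5 : Nat.card (P ρ M i) ≠ 0 := Nat.card_pos.ne'
  interval_cases (Nat.card (P ρ M i)) <;> simp_all

theorem fx_eq_P (h : Nat5 ρ M) {i : Fin 5} {c : C} (hc : K4 i (ρ c)) (hc1 : ρ c ≠ 1) : fx M c = P ρ M i := by
  have := h.finite
  symm
  refine AddSubgroup.eq_of_le_of_card_ge (h.P_le_fx hc) ?_
  rw [h.card_P, h.card_fx hc.2.2 hc1]

theorem exists_P (h : Nat5 ρ M) (m : M) : ∃ i, m ∈ P ρ M i := by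
  classical
  have := h.finite
  have := Fintype.ofFinite M
  by_contra hcon
  push Not at hcon
  have hm0 : m ≠ 0 := fun e => hcon 0 (by rw [e]; exact zero_mem _)
  let S : Fin 5 → Finset M := fun i => (Finset.univ.filter (fun x => x ∈ P ρ M i)).erase 0
  have hS : ∀ i, (S i).card = 3 := by
    intro i
    have h1 : (Finset.univ.filter (fun x => x ∈ P ρ M i)).card = 4 := by
      rw [← h.card_P i, Nat.card_eq_fintype_card, Fintype.card_subtype]
    rw [Finset.card_erase_of_mem (by simp only [zero_mem, _root_.Finset.mem_filter, _root_.Finset.mem_univ, _root_.and_self]), h1]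
  have hd : ∀ i ∈ (Finset.univ : Finset (Fin 5)), ∀ j ∈ (Finset.univ : Finset (Fin 5)), i ≠ j →
      Disjoint (S i) (S j) := by
    intro i _ j _ hij
    rw [Finset.disjoint_left]
    intro x hx hx'
    simp only [S, Finset.mem_erase, Finset.mem_filter, Finset.mem_univ, true_and] at hx hx'
    exact hx.1 (h.P_inf hij hx.2 hx'.2)
  have h1 : (Finset.univ.biUnion S).card = 15 := by
    rw [Finset.card_biUnion hd]
    simp [hS]
  have h2 : Finset.univ.biUnion S ⊆ (Finset.univ.erase (0 : M)).erase m := by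
    intro x hx
    rw [Finset.mem_biUnion] at hx
    obtain ⟨i, _, hx⟩ := hx
    simp only [S, Finset.mem_erase, Finset.mem_filter, Finset.mem_univ, true_and] at hx
    rw [Finset.mem_erase, Finset.mem_erase]
    exact ⟨fun e => hcon i (e ▸ hx.2), hx.1, Finset.mem_univ _⟩
  have h3 := Finset.card_le_card h2
  rw [h1, Finset.card_erase_of_mem (Finset.mem_erase.mpr ⟨hm0, Finset.mem_univ _⟩),
    Finset.card_erase_of_mem (Finset.mem_univ _), Finset.card_univ, ← Nat.card_eq_fintype_card, h.card] at h3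
  omega

/-- inside `P i` a 3-element is transitive -/
theorem P_cases (h : Nat5 ρ M) {i : Fin 5} {c : C} (hc : O3 (ρ c)) (hci : ρ c i = i) {m n : M}
    (hm : m ∈ P ρ M i) (hm0 : m ≠ 0) (hn : n ∈ P ρ M i) (hn0 : n ≠ 0) :
    n = m ∨ n = c • m ∨ n = c • c • m := by
  classical
  have := h.finite
  have := Fintype.ofFinite (P ρ M i)
  by_contra hcon
  push Not at hcon
  obtain ⟨h1, h2, h3⟩ := hcon
  have hcm : c • m ≠ m := fun e => hm0 (h.fpf c hc m e)
  have hcm0 : c • m ≠ 0 := fun e => hm0 ((smul_eq_zero_iff_eq c).mp e)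
  have hccm0 : c • c • m ≠ 0 := fun e => hcm0 ((smul_eq_zero_iff_eq c).mp e)
  have hccm : c • c • m ≠ c • m := fun e => hcm (by simpa using e)
  have hccm' : c • c • m ≠ m := by
    intro e
    have h4 := h.three_sum hc m
    rw [e, add_right_comm, h.add_self, zero_add] at h4
    exact hcm0 h4
  let S : Finset M := {0, m, c • m, c • c • m, n}
  have hS : S.card = 5 := by
    simp only [S]
    rw [Finset.card_insert_of_notMem, Finset.card_insert_of_notMem, Finset.card_insert_of_notMem,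
      Finset.card_insert_of_notMem, Finset.card_singleton]
    · simpa using fun e => h3 e.symm
    · simp only [Finset.mem_insert, Finset.mem_singleton, not_or]
      exact ⟨hccm.symm, fun e => h2 e.symm⟩
    · simp only [Finset.mem_insert, Finset.mem_singleton, not_or]
      exact ⟨hcm.symm, hccm'.symm, fun e => h1 e.symm⟩
    · simp only [Finset.mem_insert, Finset.mem_singleton, not_or]
      exact ⟨hm0.symm, hcm0.symm, hccm0.symm, hn0.symm⟩
  have h5 : (S : Set M) ⊆ (P ρ M i : Set M) := by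
    intro x hx
    simp only [S, Finset.coe_insert, Finset.coe_singleton, Set.mem_insert_iff, Set.mem_singleton_iff] at hx
    rcases hx with rfl | rfl | rfl | rfl | rfl
    · exact zero_mem _
    · exact hm
    · exact h.smul_mem_P' hm hci
    · exact h.smul_mem_P' (h.smul_mem_P' hm hci) hci
    · exact hn
  have h6 := Set.ncard_le_ncard h5 (Set.toFinite _)
  rw [Set.ncard_coe_finset, hS] at h6
  have h7 : (P ρ M i : Set M).ncard = 4 := by rw [← h.card_P i]; rfl
  omega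

theorem trans (h : Nat5 ρ M) {m n : M} (hm : m ≠ 0) (hn : n ≠ 0) :
    ∃ c, Equiv.Perm.sign (ρ c) = 1 ∧ c • m = n := by
  obtain ⟨i, hi⟩ := h.exists_P m
  obtain ⟨j, hj⟩ := h.exists_P n
  obtain ⟨g, hg, hgi⟩ := exists_even_move i j
  obtain ⟨d, rfl⟩ := h.even g hg
  obtain ⟨x, hx, hxj⟩ := exists_o3_fix j
  obtain ⟨c, rfl⟩ := h.even x hx.sign
  have hdm : d • m ∈ P ρ M j := by
    have := h.smul_mem_P hi d
    rwa [hgi] at this
  have hdm0 : d • m ≠ 0 := fun e => hm ((smul_eq_zero_iff_eq d).mp e)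
  rcases h.P_cases hx hxj hdm hdm0 hj hn with e | e | e
  · exact ⟨d, hg, e.symm⟩
  · exact ⟨c * d, by rw [map_mul, Equiv.Perm.sign_mul, hg, hx.sign, one_mul], by rw [mul_smul, e]⟩
  · exact ⟨c * (c * d), by rw [map_mul, Equiv.Perm.sign_mul, map_mul, Equiv.Perm.sign_mul, hg, hx.sign]; rfl,
      by rw [mul_smul, mul_smul, e]⟩

/-- irreducibility under the even part -/
theorem irr (h : Nat5 ρ M) {U : AddSubgroup M}
    (hU : ∀ c, Equiv.Perm.sign (ρ c) = 1 → ∀ m ∈ U, c • m ∈ U) {m : M} (hm : m ∈ U) (hm0 : m ≠ 0) (n : M) :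
    n ∈ U := by
  by_cases hn : n = 0
  · rw [hn]; exact zero_mem _
  · obtain ⟨c, hc, rfl⟩ := h.trans hm0 hn
    exact hU c hc m hm

/-- the pointwise stabiliser of `P i` is the four-group -/
theorem k4_of_P (h : Nat5 ρ M) {i : Fin 5} {c : C} (hc : ∀ m ∈ P ρ M i, c • m = m) : K4 i (ρ c) := by
  obtain ⟨m, hm, hm0⟩ := h.exists_ne_zero i
  have hci := h.idx_fix hm hm0 (hc m hm)
  by_contra hK
  rcases exists_comm_o3 i _ hci hK with h1 | ⟨g, hgi, hg, h3⟩
  · exact hm0 (h.fpf c h1 m (hc m hm))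
  · obtain ⟨d, rfl⟩ := h.even g hg
    have h4 : O3 (ρ (c * d * c⁻¹ * d⁻¹)) := by simpa only [_root_.map_mul, _root_.map_inv] using h3
    refine hm0 (h.fpf _ h4 m ?_)
    have hdi : ρ d⁻¹ i = i := by
      rw [map_inv]
      calc (ρ d)⁻¹ i = (ρ d)⁻¹ (ρ d i) := by rw [hgi]
        _ = i := by simp
    have hc' : ∀ m ∈ P ρ M i, c⁻¹ • m = m := fun m hm => by
      calc c⁻¹ • m = c⁻¹ • c • m := by rw [hc m hm]
        _ = m := by simp
    have h5 := h.smul_mem_P' hm hdi
    rw [mul_smul, mul_smul, mul_smul, hc' _ h5, smul_inv_smul, hc m hm]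

/-- elements acting trivially on `M / P i` are in the four-group -/
theorem k4_of_quot (h : Nat5 ρ M) {i : Fin 5} {c : C} (hci : ρ c i = i)
    (hc : ∀ m : M, c • m + m ∈ P ρ M i) : K4 i (ρ c) := by
  have := h.finite
  have hr : (dd M c).range ≤ P ρ M i := by
    rintro _ ⟨m, rfl⟩
    exact hc m
  have h1 : Nat.card (dd M c).range ≤ 4 := by
    rw [← h.card_P i]; exact AddSubgroup.card_le_of_le hr
  have h2 := h.card_fix_ge h1
  refine h.k4_of_P fun m hm => ?_
  rcases k4_sq i _ hci with h3 | h3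
  · exfalso
    have h4 : Nat.card (fx M c) = 1 := by
      rw [AddSubgroup.card_eq_one, eq_bot_iff]
      intro x hx
      exact h.fpf c h3 x hx
    omega
  by_cases h4 : ρ c * ρ c = 1
  · by_cases h5 : ρ c = 1
    · exact h.ker c h5 m
    · have h6 := h.card_fx h4 h5
      have h7 : fx M c = P ρ M i := by
        rw [← h.fx_eq_range h4 h5] at h6 ⊢
        exact AddSubgroup.eq_of_le_of_card_ge hr (by rw [h6, h.card_P])
      rw [← h7] at hm
      exact hm
  · have h5 : fx M (c * c) = P ρ M i := h.fx_eq_P (by rw [map_mul]; exact h3) (by rw [map_mul]; exact h4)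
    have h6 : fx M c ≤ P ρ M i := by
      rw [← h5]
      intro x hx
      rw [mem_fx] at hx ⊢
      rw [mul_smul, hx, hx]
    have h7 : fx M c = P ρ M i := AddSubgroup.eq_of_le_of_card_ge h6 (by rw [h.card_P]; omega)
    rw [← h7] at hm
    exact hm

/-- elements of the four-group act trivially on `M / P i` -/
theorem quot_of_k4 (h : Nat5 ρ M) {i : Fin 5} {c : C} (hc : K4 i (ρ c)) (m : M) :
    c • m + m ∈ P ρ M i := by
  by_cases h1 : ρ c = 1
  · rw [h.ker c h1, h.add_self]; exact zero_mem _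
  · rw [← h.fx_eq_P hc h1, ← h.fx_eq_range hc.2.2 h1]
    exact ⟨m, rfl⟩

/-- every two-dimensional subspace is normalised by an element of order three -/
theorem exists_cyc (h : Nat5 ρ M) {m n : M} (hm : m ≠ 0) (hn : n ≠ 0) (hmn : m ≠ n) :
    ∃ c, O3 (ρ c) ∧ c • m = n ∧ c • n = m + n := by
  classical
  have := h.finite
  obtain ⟨i, hi⟩ := h.exists_P m
  -- it is enough to find `c` with `c • m = n`
  have key : (∃ c, O3 (ρ c) ∧ c • m = n) → ∃ c, O3 (ρ c) ∧ c • m = n ∧ c • n = m + n := by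
    rintro ⟨c, hc, h1⟩
    refine ⟨c, hc, h1, ?_⟩
    have h2 := h.three_sum hc m
    rw [h1] at h2
    exact (h.eq_of_add h2).symm
  apply key
  by_cases hni : n ∈ P ρ M i
  · obtain ⟨x, hx, hxi⟩ := exists_o3_fix i
    obtain ⟨c, rfl⟩ := h.even x hx.sign
    rcases h.P_cases hx hxi hi hm hni hn with e | e | e
    · exact absurd e.symm hmn
    · exact ⟨c, hx, e.symm⟩
    · refine ⟨c * c, ⟨?_, ?_⟩, by rw [mul_smul, e]⟩
      · rw [map_mul]
        calc ρ c * ρ c * (ρ c * ρ c) * (ρ c * ρ c) = (ρ c * ρ c * ρ c) * (ρ c * ρ c * ρ c) := by group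
          _ = 1 := by rw [hx.1, one_mul]
      · rw [map_mul]
        intro e2
        apply hx.2
        calc ρ c = ρ c * ρ c * ρ c := by rw [e2, one_mul]
          _ = 1 := hx.1
  · -- counting
    let T := {g : S5 // O3 g ∧ g i ≠ i}
    let N := {x : M // x ∉ P ρ M i}
    have hl : ∀ g : T, ∃ c, ρ c = g.1 := fun g => h.even g.1 g.2.1.sign
    choose l hl using hl
    have hmem : ∀ g : T, l g • m ∉ P ρ M i := by
      intro g hg
      have h1 := h.smul_mem_P hi (l g)
      have h2 : l g • m = 0 := h.P_inf (by rw [hl g]; exact g.2.2) h1 hg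
      exact hm ((smul_eq_zero_iff_eq _).mp h2)
    let f : T → N := fun g => ⟨l g • m, hmem g⟩
    have hT : Nat.card T = 12 := by rw [Nat.card_eq_fintype_card]; exact card_o3 i
    have hN : Nat.card N = 12 := by
      have h1 : Nat.card (P ρ M i) + Nat.card N = 16 := by
        rw [← h.card]
        have := Fintype.ofFinite M
        have h2 := Nat.card_congr (Equiv.sumCompl (fun x : M => x ∈ P ρ M i))
        rw [Nat.card_sum] at h2
        exact h2
      rw [h.card_P] at h1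
      omega
    have hinj : Function.Injective f := by
      intro g k hgk
      have h1 : l g • m = l k • m := congrArg Subtype.val hgk
      have hg3 : O3 (ρ (l g)) := by rw [hl g]; exact g.2.1
      have hk3 : O3 (ρ (l k)) := by rw [hl k]; exact k.2.1
      have h2 : l g • l g • m = l k • l k • m := by
        have e1 := h.three_sum hg3 m
        have e2 := h.three_sum hk3 m
        rw [← h.eq_of_add e1, ← h.eq_of_add e2, h1]
      obtain ⟨j, hj⟩ := h.exists_P (l g • m)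
      have hji : j ≠ i := fun e => hmem g (e ▸ hj)
      have hs : Equiv.Perm.sign (ρ ((l g)⁻¹ * l k)) = 1 := by
        rw [map_mul, map_inv, Equiv.Perm.sign_mul, Equiv.Perm.sign_inv, hg3.sign, hk3.sign, one_mul]
      have e1 : ((l g)⁻¹ * l k) • m = m := by rw [mul_smul, ← h1, inv_smul_smul]
      have e2 : ((l g)⁻¹ * l k) • (l g • m) = l g • m := by
        conv_lhs => rw [h1]
        rw [mul_smul, ← h2, inv_smul_smul]
      have hm0' : l g • m ≠ 0 := fun e => hm ((smul_eq_zero_iff_eq _).mp e)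
      have k1 := h.k4_of_fix hi hm e1 hs
      have k2 := h.k4_of_fix hj hm0' e2 hs
      -- the intersection of the four-groups is trivial
      have h3 : ρ ((l g)⁻¹ * l k) = 1 := by
        by_contra hne
        have h4 := h.fx_eq_P k1 hne
        have h5 := h.fx_eq_P k2 hne
        rw [h4] at h5
        obtain ⟨y, hy, hy0⟩ := h.exists_ne_zero i
        exact hy0 (h.P_inf hji (h5 ▸ hy) hy)
      have h6 : ρ (l g) = ρ (l k) := by
        rw [map_mul, map_inv] at h3
        exact (inv_mul_eq_one.mp h3)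
      apply Subtype.ext
      rw [← hl g, ← hl k, h6]
    have hbij : Function.Bijective f := by
      have : Finite N := Subtype.finite
      rw [Nat.bijective_iff_injective_and_card]
      exact ⟨hinj, by rw [hT, hN]⟩
    obtain ⟨g, hg⟩ := hbij.2 ⟨n, hni⟩
    exact ⟨l g, by rw [hl g]; exact g.2.1, congrArg Subtype.val hg⟩

end Nat5

end Cfsg.Agent.OddCyclic.GamMod
end

-- part: OddCyclic/GamLoc
section
/-!
# An elementary abelian group of order 32 with `ΓL₂(4)` on the quotient by `⟨x⟩`, inside a group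

`Loc W x ρ`: `W` is elementary abelian of order 32, normalised by `C_G(x)`, `x ∈ W`, and `ρ : C_G(x) → S₅` makes
`W/⟨x⟩` the natural `ΓL₂(4)`-module. All consequences of `GamMod` are transferred to statements on elements of `G`.
-/

set_option autoImplicit false
set_option linter.dupNamespace false
set_option linter.unusedSectionVars false

namespace Cfsg.Agent.OddCyclic.GamLoc

open Subgroup Cfsg.Agent.MinSimple Cfsg.Agent.MinSimple.Sec GamPerm GamMod

universe u

variable {G : Type u} [Group G]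

/-- `a` and `b` agree modulo `⟨x⟩` -/
def Cg (x a b : G) : Prop := a = b ∨ a = b * x

structure Loc (W : Subgroup G) (x : G) (ρ : centralizer ({x} : Set G) →* S5) : Prop where
  x_ne : x ≠ 1
  x_mem : x ∈ W
  comm : ∀ a ∈ W, ∀ b ∈ W, a * b = b * a
  sq : ∀ a ∈ W, a * a = 1
  norm : ∀ c ∈ centralizer ({x} : Set G), ∀ w ∈ W, c * w * c⁻¹ ∈ W
  card : Nat.card W = 32
  even : ∀ g : S5, Equiv.Perm.sign g = 1 → ∃ c, ρ c = g
  ker : ∀ c, ρ c = 1 ↔ ∀ w ∈ W, Cg x ((c : G) * w * (c : G)⁻¹) w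
  fpf : ∀ c, O3 (ρ c) → ∀ w ∈ W, Cg x ((c : G) * w * (c : G)⁻¹) w → w = 1 ∨ w = x

namespace Loc

variable {W : Subgroup G} {x : G} {ρ : centralizer ({x} : Set G) →* S5}

theorem xx (h : Loc W x ρ) : x * x = 1 := h.sq x h.x_mem

theorem inv (h : Loc W x ρ) {a : G} (ha : a ∈ W) : a⁻¹ = a := inv_eq_of_mul_eq_one_left (h.sq a ha)

theorem le_centralizer (h : Loc W x ρ) : W ≤ centralizer ({x} : Set G) := fun a ha =>
  mem_centralizer_singleton_iff.mpr (h.comm a ha x h.x_mem)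

theorem sec (h : Loc W x ρ) : Sec W (centralizer ({x} : Set G)) x where
  zN := h.x_mem
  zz := h.xx
  NC := h.le_centralizer
  zC := fun _ hc => mem_centralizer_singleton_iff.mp hc
  CN := h.norm
  sq := fun n hn => Or.inl (h.sq n hn)

theorem mk_eq_iff (h : Loc W x ρ) {a b : G} (ha : a ∈ W) (hb : b ∈ W) :
    Sec.Mod.mk h.sec a ha = Sec.Mod.mk h.sec b hb ↔ Cg x a b := by
  rw [Sec.Mod.mk_eq, mem_zpowers h.xx]
  unfold Cg
  constructor
  · rintro (e | e)
    · left; exact (inv_mul_eq_one.mp e)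
    · right
      rw [inv_mul_eq_iff_eq_mul] at e
      rw [e, mul_assoc, h.xx, mul_one]
  · rintro (e | e)
    · left; rw [e, inv_mul_cancel]
    · right
      rw [e]
      have h1 : b * x = x * b := h.comm b hb x h.x_mem
      calc (b * x)⁻¹ * b = x⁻¹ * (b⁻¹ * b) := by group
        _ = x := by rw [inv_mul_cancel, mul_one, h.inv h.x_mem]

theorem mk_eq_zero_iff (h : Loc W x ρ) {a : G} (ha : a ∈ W) :
    Sec.Mod.mk h.sec a ha = 0 ↔ a = 1 ∨ a = x := by
  rw [Sec.Mod.mk_eq_zero, mem_zpowers h.xx]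

theorem finite_W (h : Loc W x ρ) : Finite W := Nat.finite_of_card_ne_zero (by rw [h.card]; norm_num)

theorem card_zpowers (h : Loc W x ρ) : Nat.card (zpowers x) = 2 := by
  rw [Nat.card_zpowers]
  exact orderOf_eq_prime (by rw [pow_two]; exact h.xx) h.x_ne

/-- the cardinality of a preimage -/
theorem card_eq (h : Loc W x ρ) {U : Subgroup G} (hU : U ≤ W) (hx : x ∈ U) :
    Nat.card U = 2 * Nat.card (Sec.Mod.sub h.sec U) := by
  have := h.finite_W
  -- the map `U → sub U`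
  have hfin : Finite U := Finite.of_injective (Subgroup.inclusion hU) (Subgroup.inclusion_injective hU)
  let f : U →* Multiplicative (Sec.Mod.sub h.sec U) :=
    { toFun := fun u => Multiplicative.ofAdd ⟨Sec.Mod.mk h.sec u (hU u.2), (Sec.Mod.mem_sub hx (hU u.2)).mpr u.2⟩
      map_one' := rfl
      map_mul' := fun a b => rfl }
  have hf : Function.Surjective f := by
    intro y
    obtain ⟨m, hm⟩ : ∃ m, Multiplicative.ofAdd m = y := ⟨Multiplicative.toAdd y, rfl⟩
    obtain ⟨u, hu, hu', e⟩ := m.2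
    refine ⟨⟨u, hu⟩, ?_⟩
    rw [← hm]
    change Multiplicative.ofAdd _ = _
    congr 1
    exact Subtype.ext e
  have hk : Nat.card f.ker = 2 := by
    rw [← h.card_zpowers]
    refine Nat.card_congr ⟨fun u => ⟨u.1.1, ?_⟩, fun y => ⟨⟨y.1, ?_⟩, ?_⟩, ?_, ?_⟩
    · have h1 : f u.1 = 1 := u.2
      have h2 : Sec.Mod.mk h.sec u.1.1 (hU u.1.2) = 0 := congrArg (fun t => (Multiplicative.toAdd t).1) h1
      rwa [Sec.Mod.mk_eq_zero] at h2
    · exact (zpowers_le.mpr hx) y.2
    · change f _ = 1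
      change Multiplicative.ofAdd _ = Multiplicative.ofAdd _
      congr 1
      apply Subtype.ext
      change Sec.Mod.mk h.sec y.1 _ = 0
      rw [Sec.Mod.mk_eq_zero]; exact y.2
    · intro u; rfl
    · intro y; rfl
  have h1 := Subgroup.card_eq_card_quotient_mul_card_subgroup f.ker
  rw [h1, hk, mul_comm]
  congr 1
  have h2 := Nat.card_congr (QuotientGroup.quotientKerEquivOfSurjective f hf).toEquiv
  rw [h2]
  exact Nat.card_congr Multiplicative.toAdd

theorem sub_W (h : Loc W x ρ) : Sec.Mod.sub h.sec W = ⊤ := by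
  rw [eq_top_iff]
  intro m _
  obtain ⟨n, hn, rfl⟩ := Sec.Mod.mk_surj m
  exact (Sec.Mod.mem_sub h.x_mem hn).mpr hn

theorem card_mod (h : Loc W x ρ) : Nat.card (Sec.Mod h.sec) = 16 := by
  have h1 := h.card_eq le_rfl h.x_mem
  rw [h.card, h.sub_W] at h1
  have h2 : Nat.card (⊤ : AddSubgroup (Sec.Mod h.sec)) = Nat.card (Sec.Mod h.sec) := AddSubgroup.card_top
  omega

theorem nat5 (h : Loc W x ρ) : Nat5 ρ (Sec.Mod h.sec) where
  even := h.even
  ker := by
    intro c hc m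
    obtain ⟨n, hn, rfl⟩ := Sec.Mod.mk_surj m
    rw [Sec.Mod.smul_mk, h.mk_eq_iff]
    exact (h.ker c).mp hc n hn
  card := h.card_mod
  add_self := Sec.Mod.add_self
  fpf := by
    intro c hc m hm
    obtain ⟨n, hn, rfl⟩ := Sec.Mod.mk_surj m
    rw [Sec.Mod.smul_mk, h.mk_eq_iff] at hm
    rw [h.mk_eq_zero_iff]
    exact h.fpf c hc n hn hm

/-- the five planes on `x` in `W` -/
def pg (h : Loc W x ρ) (i : Fin 5) : Subgroup G where
  carrier := {w | ∃ hw : w ∈ W, Sec.Mod.mk h.sec w hw ∈ P ρ (Sec.Mod h.sec) i}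
  one_mem' := ⟨one_mem _, zero_mem _⟩
  mul_mem' := by
    rintro a b ⟨ha, ha'⟩ ⟨hb, hb'⟩
    exact ⟨mul_mem ha hb, by rw [Sec.Mod.mk_mul ha hb]; exact add_mem ha' hb'⟩
  inv_mem' := by
    rintro a ⟨ha, ha'⟩
    exact ⟨inv_mem ha, by rw [Sec.Mod.mk_inv]; exact ha'⟩

theorem pg_le (h : Loc W x ρ) (i : Fin 5) : h.pg i ≤ W := fun _ hw => hw.1

theorem mem_pg (h : Loc W x ρ) {i : Fin 5} {w : G} (hw : w ∈ W) :
    w ∈ h.pg i ↔ Sec.Mod.mk h.sec w hw ∈ P ρ (Sec.Mod h.sec) i := ⟨fun h => h.2, fun h => ⟨hw, h⟩⟩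

theorem x_mem_pg (h : Loc W x ρ) (i : Fin 5) : x ∈ h.pg i := by
  rw [h.mem_pg h.x_mem, (h.mk_eq_zero_iff h.x_mem).mpr (Or.inr rfl)]
  exact zero_mem _

theorem sub_pg (h : Loc W x ρ) (i : Fin 5) : Sec.Mod.sub h.sec (h.pg i) = P ρ (Sec.Mod h.sec) i := by
  ext m
  obtain ⟨n, hn, rfl⟩ := Sec.Mod.mk_surj m
  rw [Sec.Mod.mem_sub (h.x_mem_pg i) hn, h.mem_pg hn]

theorem card_pg (h : Loc W x ρ) (i : Fin 5) : Nat.card (h.pg i) = 8 := by
  rw [h.card_eq (h.pg_le i) (h.x_mem_pg i), h.sub_pg, h.nat5.card_P]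

theorem exists_pg (h : Loc W x ρ) {w : G} (hw : w ∈ W) : ∃ i, w ∈ h.pg i := by
  obtain ⟨i, hi⟩ := h.nat5.exists_P (Sec.Mod.mk h.sec w hw)
  exact ⟨i, hw, hi⟩

theorem pg_inf (h : Loc W x ρ) {i j : Fin 5} (hij : i ≠ j) {w : G} (hi : w ∈ h.pg i) (hj : w ∈ h.pg j) :
    w = 1 ∨ w = x := by
  rw [← h.mk_eq_zero_iff hi.1]
  exact h.nat5.P_inf hij hi.2 hj.2

theorem conj_mem_pg (h : Loc W x ρ) {i : Fin 5} {w : G} (hw : w ∈ h.pg i)
    (c : centralizer ({x} : Set G)) : (c : G) * w * (c : G)⁻¹ ∈ h.pg (ρ c i) := by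
  have h1 := h.nat5.smul_mem_P hw.2 c
  exact ⟨h.norm c c.2 w hw.1, h1⟩

/-- the fixed points of `c` modulo `⟨x⟩` -/
def cx (h : Loc W x ρ) (c : centralizer ({x} : Set G)) : Subgroup G where
  carrier := {w | ∃ hw : w ∈ W, Sec.Mod.mk h.sec w hw ∈ fx (Sec.Mod h.sec) c}
  one_mem' := ⟨one_mem _, zero_mem _⟩
  mul_mem' := by
    rintro a b ⟨ha, ha'⟩ ⟨hb, hb'⟩
    exact ⟨mul_mem ha hb, by rw [Sec.Mod.mk_mul ha hb]; exact add_mem ha' hb'⟩
  inv_mem' := by
    rintro a ⟨ha, ha'⟩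
    exact ⟨inv_mem ha, by rw [Sec.Mod.mk_inv]; exact ha'⟩

theorem cx_le (h : Loc W x ρ) (c : centralizer ({x} : Set G)) : h.cx c ≤ W := fun _ hw => hw.1

theorem mem_cx (h : Loc W x ρ) {c : centralizer ({x} : Set G)} {w : G} :
    w ∈ h.cx c ↔ w ∈ W ∧ Cg x ((c : G) * w * (c : G)⁻¹) w := by
  constructor
  · rintro ⟨hw, h1⟩
    refine ⟨hw, ?_⟩
    rw [mem_fx, Sec.Mod.smul_mk, h.mk_eq_iff] at h1
    exact h1
  · rintro ⟨hw, h1⟩
    refine ⟨hw, ?_⟩
    rw [mem_fx, Sec.Mod.smul_mk, h.mk_eq_iff]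
    exact h1

theorem x_mem_cx (h : Loc W x ρ) (c : centralizer ({x} : Set G)) : x ∈ h.cx c := by
  rw [h.mem_cx]
  refine ⟨h.x_mem, Or.inl ?_⟩
  rw [mem_centralizer_singleton_iff.mp c.2, mul_inv_cancel_right]

theorem sub_cx (h : Loc W x ρ) (c : centralizer ({x} : Set G)) :
    Sec.Mod.sub h.sec (h.cx c) = fx (Sec.Mod h.sec) c := by
  ext m
  obtain ⟨n, hn, rfl⟩ := Sec.Mod.mk_surj m
  rw [Sec.Mod.mem_sub (h.x_mem_cx c) hn]
  exact ⟨fun h => h.2, fun h => ⟨hn, h⟩⟩

theorem card_cx (h : Loc W x ρ) {c : centralizer ({x} : Set G)} (hc : ρ c * ρ c = 1) (hc1 : ρ c ≠ 1) :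
    Nat.card (h.cx c) = 8 := by
  rw [h.card_eq (h.cx_le c) (h.x_mem_cx c), h.sub_cx, h.nat5.card_fx hc hc1]

theorem cx_eq_pg (h : Loc W x ρ) {i : Fin 5} {c : centralizer ({x} : Set G)} (hc : K4 i (ρ c))
    (hc1 : ρ c ≠ 1) : h.cx c = h.pg i := by
  have h1 := h.nat5.fx_eq_P hc hc1
  ext w
  constructor
  · rintro ⟨hw, h2⟩
    rw [h1] at h2
    exact ⟨hw, h2⟩
  · rintro ⟨hw, h2⟩
    rw [← h1] at h2
    exact ⟨hw, h2⟩

theorem comm_mem (h : Loc W x ρ) {c : G} (hc : c ∈ centralizer ({x} : Set G)) {w : G} (hw : w ∈ W) :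
    c * w * c⁻¹ * w ∈ W := mul_mem (h.norm c hc w hw) hw

/-- ... and conversely -/
theorem exists_comm (h : Loc W x ρ) {c : centralizer ({x} : Set G)} (hc : ρ c * ρ c = 1) (hc1 : ρ c ≠ 1)
    {w : G} (hw : w ∈ h.cx c) : ∃ v ∈ W, Cg x w ((c : G) * v * (c : G)⁻¹ * v) := by
  obtain ⟨m, hm⟩ := (h.nat5.mem_fx_iff hc hc1).mp hw.2
  obtain ⟨v, hv, rfl⟩ := Sec.Mod.mk_surj m
  rw [Sec.Mod.smul_mk, ← Sec.Mod.mk_mul, h.mk_eq_iff] at hm
  exact ⟨v, hv, hm⟩

theorem idx_fix (h : Loc W x ρ) {i : Fin 5} {w : G} (hw : w ∈ h.pg i) (hw1 : w ≠ 1) (hwx : w ≠ x)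
    {c : centralizer ({x} : Set G)} (hc : Cg x ((c : G) * w * (c : G)⁻¹) w) : ρ c i = i := by
  refine h.nat5.idx_fix hw.2 ?_ (c := c) ?_
  · rw [Ne, h.mk_eq_zero_iff]
    tauto
  · rw [Sec.Mod.smul_mk, h.mk_eq_iff]
    exact hc

theorem k4_of_fix (h : Loc W x ρ) {i : Fin 5} {w : G} (hw : w ∈ h.pg i) (hw1 : w ≠ 1) (hwx : w ≠ x)
    {c : centralizer ({x} : Set G)} (hc : Cg x ((c : G) * w * (c : G)⁻¹) w)
    (hs : Equiv.Perm.sign (ρ c) = 1) : K4 i (ρ c) := by
  refine h.nat5.k4_of_fix hw.2 ?_ (c := c) ?_ hs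
  · rw [Ne, h.mk_eq_zero_iff]
    tauto
  · rw [Sec.Mod.smul_mk, h.mk_eq_iff]
    exact hc

theorem k4_of_pg (h : Loc W x ρ) {i : Fin 5} {c : centralizer ({x} : Set G)}
    (hc : ∀ w ∈ h.pg i, Cg x ((c : G) * w * (c : G)⁻¹) w) : K4 i (ρ c) := by
  refine h.nat5.k4_of_P fun m hm => ?_
  obtain ⟨w, hw, rfl⟩ := Sec.Mod.mk_surj m
  rw [Sec.Mod.smul_mk, h.mk_eq_iff]
  exact hc w ⟨hw, hm⟩

theorem k4_of_quot (h : Loc W x ρ) {i : Fin 5} {c : centralizer ({x} : Set G)} (hci : ρ c i = i)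
    (hc : ∀ w ∈ W, (c : G) * w * (c : G)⁻¹ * w ∈ h.pg i) : K4 i (ρ c) := by
  refine h.nat5.k4_of_quot hci fun m => ?_
  obtain ⟨w, hw, rfl⟩ := Sec.Mod.mk_surj m
  rw [Sec.Mod.smul_mk, ← Sec.Mod.mk_mul]
  exact (hc w hw).2

theorem quot_of_k4 (h : Loc W x ρ) {i : Fin 5} {c : centralizer ({x} : Set G)} (hc : K4 i (ρ c))
    {w : G} (hw : w ∈ W) : (c : G) * w * (c : G)⁻¹ * w ∈ h.pg i := by
  have h1 := h.nat5.quot_of_k4 hc (Sec.Mod.mk h.sec w hw)
  rw [Sec.Mod.smul_mk, ← Sec.Mod.mk_mul] at h1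
  exact ⟨_, h1⟩

theorem fix_of_k4 (h : Loc W x ρ) {i : Fin 5} {c : centralizer ({x} : Set G)} (hc : K4 i (ρ c))
    {w : G} (hw : w ∈ h.pg i) : Cg x ((c : G) * w * (c : G)⁻¹) w := by
  have h1 := hw.2 c hc
  rw [Sec.Mod.smul_mk, h.mk_eq_iff] at h1
  exact h1

theorem exists_cyc (h : Loc W x ρ) {p q : G} (hp : p ∈ W) (hq : q ∈ W) (hp1 : p ≠ 1) (hpx : p ≠ x)
    (hq1 : q ≠ 1) (hqx : q ≠ x) (hpq : p ≠ q) (hpqx : p * q ≠ x) :
    ∃ c, O3 (ρ c) ∧ Cg x ((c : G) * p * (c : G)⁻¹) q ∧ Cg x ((c : G) * q * (c : G)⁻¹) (p * q) := by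
  have hpm : Sec.Mod.mk h.sec p hp ≠ 0 := by rw [Ne, h.mk_eq_zero_iff]; tauto
  have hqm : Sec.Mod.mk h.sec q hq ≠ 0 := by rw [Ne, h.mk_eq_zero_iff]; (clear * - G x q hq1 hqx; tauto)
  have hne : Sec.Mod.mk h.sec p hp ≠ Sec.Mod.mk h.sec q hq := by
    rw [Ne, h.mk_eq_iff]
    rintro (e | e)
    · exact hpq e
    · apply hpqx
      rw [e, mul_assoc, h.comm x h.x_mem q hq, ← mul_assoc, h.sq q hq, one_mul]
  obtain ⟨c, hc, h1, h2⟩ := h.nat5.exists_cyc hpm hqm hne
  refine ⟨c, hc, ?_, ?_⟩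
  · rwa [Sec.Mod.smul_mk, h.mk_eq_iff] at h1
  · rwa [Sec.Mod.smul_mk, ← Sec.Mod.mk_mul, h.mk_eq_iff] at h2

theorem trans (h : Loc W x ρ) {p q : G} (hp : p ∈ W) (hq : q ∈ W) (hp1 : p ≠ 1) (hpx : p ≠ x)
    (hq1 : q ≠ 1) (hqx : q ≠ x) :
    ∃ c, Equiv.Perm.sign (ρ c) = 1 ∧ Cg x ((c : G) * p * (c : G)⁻¹) q := by
  have hpm : Sec.Mod.mk h.sec p hp ≠ 0 := by rw [Ne, h.mk_eq_zero_iff]; tauto
  have hqm : Sec.Mod.mk h.sec q hq ≠ 0 := by rw [Ne, h.mk_eq_zero_iff]; tauto
  obtain ⟨c, hc, h1⟩ := h.nat5.trans hpm hqm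
  refine ⟨c, hc, ?_⟩
  rwa [Sec.Mod.smul_mk, h.mk_eq_iff] at h1

theorem irr (h : Loc W x ρ) {U : Subgroup G} (hxU : x ∈ U)
    (hinv : ∀ c ∈ centralizer ({x} : Set G), ∀ w ∈ U, c * w * c⁻¹ ∈ U) {u : G} (hu : u ∈ U) (huW : u ∈ W)
    (hu1 : u ≠ 1) (hux : u ≠ x) {w : G} (hw : w ∈ W) : w ∈ U := by
  by_cases hw1 : w = 1
  · rw [hw1]; exact one_mem _
  by_cases hwx : w = x
  · rw [hwx]; exact hxU
  obtain ⟨c, _, hc⟩ := h.trans huW hw hu1 hux hw1 hwx
  have h1 := hinv c c.2 u hu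
  rcases hc with e | e
  · rw [← e]; exact h1
  · have : w = (c : G) * u * (c : G)⁻¹ * x := by rw [e, mul_assoc, h.xx, mul_one]
    rw [this]; exact mul_mem h1 hxU

/-- the sum of an orbit of an element of order three -/
theorem three_sum (h : Loc W x ρ) {c : centralizer ({x} : Set G)} (hc : O3 (ρ c)) {w : G} (hw : w ∈ W) :
    w * ((c : G) * w * (c : G)⁻¹) * ((c : G) * ((c : G) * w * (c : G)⁻¹) * (c : G)⁻¹) = 1 ∨
    w * ((c : G) * w * (c : G)⁻¹) * ((c : G) * ((c : G) * w * (c : G)⁻¹) * (c : G)⁻¹) = x := by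
  have h1 := h.nat5.three_sum hc (Sec.Mod.mk h.sec w hw)
  have hcw := h.norm c c.2 w hw
  have hccw := h.norm c c.2 _ hcw
  rw [Sec.Mod.smul_mk, Sec.Mod.smul_mk, ← Sec.Mod.mk_mul, ← Sec.Mod.mk_mul, h.mk_eq_zero_iff] at h1
  exact h1

theorem cyc_of (h : Loc W x ρ) {c : centralizer ({x} : Set G)} (hc : O3 (ρ c)) {p q : G} (hp : p ∈ W)
    (hq : q ∈ W) (h1 : Cg x ((c : G) * p * (c : G)⁻¹) q) : Cg x ((c : G) * q * (c : G)⁻¹) (p * q) := by
  have h2 := h.nat5.three_sum hc (Sec.Mod.mk h.sec p hp)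
  have h3 : c • Sec.Mod.mk h.sec p hp = Sec.Mod.mk h.sec q hq := by
    rw [Sec.Mod.smul_mk, h.mk_eq_iff]; exact h1
  rw [h3] at h2
  have h4 := (h.nat5.eq_of_add h2).symm
  rw [Sec.Mod.smul_mk, ← Sec.Mod.mk_mul, h.mk_eq_iff] at h4
  exact h4

/-- elements with the same image act in the same way modulo `⟨x⟩` -/
theorem congr (h : Loc W x ρ) {c d : centralizer ({x} : Set G)} (hcd : ρ c = ρ d) {w : G} (hw : w ∈ W) :
    Cg x ((c : G) * w * (c : G)⁻¹) ((d : G) * w * (d : G)⁻¹) := by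
  have h1 := h.nat5.congr hcd (Sec.Mod.mk h.sec w hw)
  rw [Sec.Mod.smul_mk, Sec.Mod.smul_mk, h.mk_eq_iff] at h1
  exact h1

end Loc

end Cfsg.Agent.OddCyclic.GamLoc
end

-- part: OddCyclic/GamBase
section
/-!
# (E1) with `C_G(z)` acting as (a group containing `A₅` in) `S₅ = ΓL₂(4)` on the natural module `ws V z / ⟨z⟩`

* structure `Gam V z`, `Gam.conj`, `Gam.loc_pt`;
* `exists_neg`, `exists_hom`: the kernel induces all of `Hom(ws V x/⟨x⟩, ⟨x⟩)`;
* `exists_three`: lifts of order three; `star`; `noThree`.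
-/

set_option autoImplicit false
set_option linter.dupNamespace false
set_option linter.unusedSectionVars false

namespace Cfsg.Agent.OddCyclic.GamBase

open Subgroup Cfsg Cfsg.Agent.ZN Cfsg.Agent.MinSimple.Geo Cfsg.Agent.MinSimple.OddBase
open Cfsg.Agent.OddCyclic.T1Defs GamPerm GamMod GamLoc
open Cfsg.Agent.ZN.Block (conj_mem_of_normalizer conj_mem_of_normalizer' le_normalizer_of_forall
  mem_normalizer_of)

universe u

variable {G : Type u} [Group G]

theorem lines_cj' (V : Subgroup G) (g x : G) : lines (cj g V) x = lines V x := by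
  ext L
  constructor
  · rintro ⟨⟨k, rfl⟩, hx⟩
    exact ⟨⟨k * g, cj_cj _ _ _⟩, hx⟩
  · rintro ⟨⟨k, rfl⟩, hx⟩
    refine ⟨⟨k * g⁻¹, ?_⟩, hx⟩
    rw [cj_cj, inv_mul_cancel_right]

theorem ws_cj' (V : Subgroup G) (g x : G) : ws (cj g V) x = ws V x := by
  unfold ws; rw [lines_cj']

/-- `C_G(g x g⁻¹) → C_G(x)` -/
def cc (g x : G) : centralizer ({g * x * g⁻¹} : Set G) →* centralizer ({x} : Set G) where
  toFun c := ⟨g⁻¹ * c * g, by
    have h := mem_centralizer_singleton_iff.mp c.2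
    rw [mem_centralizer_singleton_iff]
    calc g⁻¹ * c * g * x = g⁻¹ * (c * (g * x * g⁻¹)) * g := by group
      _ = g⁻¹ * (g * x * g⁻¹ * c) * g := by rw [h]
      _ = x * (g⁻¹ * c * g) := by group⟩
  map_one' := by ext; simp only [_root_.OneMemClass.coe_one, _root_.mul_one, _root_.inv_mul_cancel]
  map_mul' := by
    intro a b; ext
    change g⁻¹ * (a * b) * g = g⁻¹ * a * g * (g⁻¹ * b * g)
    group

theorem cc_surj (g x : G) (c : centralizer ({x} : Set G)) : ∃ d, cc g x d = c := by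
  refine ⟨⟨g * c * g⁻¹, ?_⟩, ?_⟩
  · have h := mem_centralizer_singleton_iff.mp c.2
    rw [mem_centralizer_singleton_iff]
    calc g * c * g⁻¹ * (g * x * g⁻¹) = g * (c * x) * g⁻¹ := by group
      _ = g * (x * c) * g⁻¹ := by rw [h]
      _ = g * x * g⁻¹ * (g * c * g⁻¹) := by group
  · ext
    change g⁻¹ * (g * c * g⁻¹) * g = c
    group

theorem cg_conj {x a b : G} (g : G) : Cg (g * x * g⁻¹) a b ↔ Cg x (g⁻¹ * a * g) (g⁻¹ * b * g) := by
  unfold Cg
  constructor
  · rintro (e | e)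
    · left; rw [e]
    · right; rw [e]; group
  · rintro (e | e)
    · left
      calc a = g * (g⁻¹ * a * g) * g⁻¹ := by group
        _ = b := by rw [e]; group
    · right
      calc a = g * (g⁻¹ * a * g) * g⁻¹ := by group
        _ = b * (g * x * g⁻¹) := by rw [e]; group

theorem loc_conj {W : Subgroup G} {x : G} {ρ : centralizer ({x} : Set G) →* S5} (h : Loc W x ρ) (g : G) :
    Loc (cj g W) (g * x * g⁻¹) (ρ.comp (cc g x)) where
  x_ne := conj_ne_one h.x_ne
  x_mem := conj_mem_cj h.x_mem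
  comm := by
    intro a ha b hb
    rw [mem_cj] at ha hb
    have := h.comm _ ha _ hb
    calc a * b = g * (g⁻¹ * a * g * (g⁻¹ * b * g)) * g⁻¹ := by group
      _ = g * (g⁻¹ * b * g * (g⁻¹ * a * g)) * g⁻¹ := by rw [this]
      _ = b * a := by group
  sq := by
    intro a ha
    rw [mem_cj] at ha
    calc a * a = g * (g⁻¹ * a * g * (g⁻¹ * a * g)) * g⁻¹ := by group
      _ = 1 := by rw [h.sq _ ha]; group
  norm := by
    intro c hc w hw
    rw [mem_cj] at hw ⊢
    have := h.norm _ (cc g x ⟨c, hc⟩).2 _ hw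
    have e : ((cc g x ⟨c, hc⟩ : centralizer ({x} : Set G)) : G) = g⁻¹ * c * g := rfl
    rw [e] at this
    convert this using 1; group
  card := by rw [card_cj]; exact h.card
  even := by
    intro k hk
    obtain ⟨c, rfl⟩ := h.even k hk
    obtain ⟨d, rfl⟩ := cc_surj g x c
    exact ⟨d, rfl⟩
  ker := by
    intro c
    have h1 := h.ker (cc g x c)
    rw [MonoidHom.comp_apply, h1]
    constructor
    · intro h2 w hw
      rw [mem_cj] at hw
      rw [cg_conj]
      have h3 := h2 _ hw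
      have e : ((cc g x c : centralizer ({x} : Set G)) : G) = g⁻¹ * c * g := rfl
      rw [e] at h3
      convert h3 using 1; group
    · intro h2 w hw
      have h3 := h2 (g * w * g⁻¹) (conj_mem_cj hw)
      rw [cg_conj] at h3
      have e : ((cc g x c : centralizer ({x} : Set G)) : G) = g⁻¹ * c * g := rfl
      rw [e]
      convert h3 using 1 <;> group
  fpf := by
    intro c hc w hw hcg
    rw [mem_cj] at hw
    rw [cg_conj] at hcg
    have e : ((cc g x c : centralizer ({x} : Set G)) : G) = g⁻¹ * c * g := rfl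
    have h1 := h.fpf (cc g x c) hc _ hw (by rw [e]; convert hcg using 1; group)
    rcases h1 with h1 | h1
    · left
      calc w = g * (g⁻¹ * w * g) * g⁻¹ := by group
        _ = 1 := by rw [h1]; group
    · right
      calc w = g * (g⁻¹ * w * g) * g⁻¹ := by group
        _ = g * x * g⁻¹ := by rw [h1]

/-- The situation (E1), `|V| = 4`, `ws V z` abelian of order 32, `C_G(z)` induces `A₅` or `S₅ = ΓL₂(4)` on the natural
module `ws V z/⟨z⟩`. -/
structure Gam (V : Subgroup G) (z : G) : Prop where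
  cyc : OddCyc G
  card_V : Nat.card V = 4
  sq : ∀ v ∈ V, v * v = 1
  z_mem : z ∈ V
  trans : ∀ v ∈ V, v ≠ 1 → ∃ g ∈ normalizer (V : Set G), g * z * g⁻¹ = v
  move : ∃ t ∈ centralizer ({z} : Set G), ∃ v ∈ V, t * v * t⁻¹ = v * z ∧ v ≠ 1 ∧ v ≠ z
  loc : ∃ ρ, Loc (ws V z) z ρ
  core : ∀ U : Subgroup G, IsPGroup 2 U → normalizer (V : Set G) ≤ normalizer (U : Set G) →
    centralizer ({z} : Set G) ≤ normalizer (U : Set G) → U = ⊥
  three : ∀ g ∈ centralizer (V : Set G), orderOf g ≠ 3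

namespace Gam

variable {V : Subgroup G} {z : G}

theorem z_ne (h : Gam V z) : z ≠ 1 := by
  obtain ⟨ρ, hρ⟩ := h.loc
  exact hρ.x_ne

theorem conj (h : Gam V z) (g : G) : Gam (cj g V) (g * z * g⁻¹) where
  cyc := h.cyc
  card_V := by rw [card_cj]; exact h.card_V
  sq := by
    intro v hv
    rw [mem_cj] at hv
    have := h.sq _ hv
    have e : v * v = g * (g⁻¹ * v * g * (g⁻¹ * v * g)) * g⁻¹ := by group
    rw [e, this]; group
  z_mem := conj_mem_cj h.z_mem
  trans := by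
    intro v hv hv1
    rw [mem_cj] at hv
    obtain ⟨k, hk, hk2⟩ := h.trans _ hv (fun e => hv1 (by
      have : v = g * (g⁻¹ * v * g) * g⁻¹ := by group
      rw [this, e]; group))
    refine ⟨g * k * g⁻¹, ?_, ?_⟩
    · rw [← cj_normalizer]; exact conj_mem_cj hk
    · calc g * k * g⁻¹ * (g * z * g⁻¹) * (g * k * g⁻¹)⁻¹ = g * (k * z * k⁻¹) * g⁻¹ := by group
        _ = v := by rw [hk2]; group
  move := by
    obtain ⟨t, ht, v, hv, h1, h2, h3⟩ := h.move
    refine ⟨g * t * g⁻¹, ?_, g * v * g⁻¹, conj_mem_cj hv, ?_, conj_ne_one h2, fun e => h3 (conj_inj e)⟩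
    · rw [← cj_centralizer_singleton]; exact conj_mem_cj ht
    · calc g * t * g⁻¹ * (g * v * g⁻¹) * (g * t * g⁻¹)⁻¹ = g * (t * v * t⁻¹) * g⁻¹ := by group
        _ = g * v * g⁻¹ * (g * z * g⁻¹) := by rw [h1]; group
  loc := by
    obtain ⟨ρ, hρ⟩ := h.loc
    refine ⟨ρ.comp (cc g z), ?_⟩
    rw [ws_cj', ← cj_ws]
    exact loc_conj hρ g
  core := by
    intro U hU h1 h2
    have h3 := h.core (cj g⁻¹ U) (hU.map _) (by
      rw [← cj_normalizer, ← cj_le_iff, cj_normalizer]; exact h1) (by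
      rw [← cj_normalizer, ← cj_le_iff, cj_centralizer_singleton]; exact h2)
    have := congrArg (cj g) h3
    rw [cj_cj_inv] at this
    rw [this]
    exact Subgroup.map_bot _
  three := by
    intro k hk hk3
    apply h.three (g⁻¹ * k * g)
    · rw [mem_centralizer_iff] at hk ⊢
      intro v hv
      have := hk (g * v * g⁻¹) (conj_mem_cj hv)
      calc v * (g⁻¹ * k * g) = g⁻¹ * (g * v * g⁻¹ * k) * g := by group
        _ = g⁻¹ * (k * (g * v * g⁻¹)) * g := by rw [this]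
        _ = g⁻¹ * k * g * v := by group
    · rw [← hk3]
      have e : g⁻¹ * k * g = MulAut.conj g⁻¹ k := by simp only [_root_.map_inv, _root_.MulAut.inv_apply, _root_.MulAut.conj_symm_apply]
      rw [e]
      exact orderOf_injective (MulAut.conj g⁻¹).toMonoidHom (MulAut.conj g⁻¹).injective k

/-- every point is the point of a flag conjugate to `(z, V)` -/
theorem exists_gam (h : Gam V z) {x : G} (hx : Pt z x) :
    ∃ g : G, x = g * z * g⁻¹ ∧ Gam (cj g V) x := by
  obtain ⟨g, rfl⟩ := hx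
  exact ⟨g, rfl, h.conj g⟩

theorem loc_pt (h : Gam V z) {x : G} (hx : Pt z x) : ∃ ρ, Loc (ws V x) x ρ := by
  obtain ⟨g, rfl⟩ := hx
  have := (h.conj g).loc
  rwa [ws_cj'] at this

theorem ne_one (h : Gam V z) {x : G} (hx : Pt z x) : x ≠ 1 := by
  obtain ⟨ρ, hρ⟩ := h.loc_pt hx
  exact hρ.x_ne

theorem self_mem (h : Gam V z) {x : G} (hx : Pt z x) : x ∈ ws V x := by
  obtain ⟨ρ, hρ⟩ := h.loc_pt hx
  exact hρ.x_mem

theorem comm (h : Gam V z) {x : G} (hx : Pt z x) {a b : G} (ha : a ∈ ws V x) (hb : b ∈ ws V x) :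
    a * b = b * a := by
  obtain ⟨ρ, hρ⟩ := h.loc_pt hx
  exact hρ.comm a ha b hb

theorem sq_ws (h : Gam V z) {x : G} (hx : Pt z x) {a : G} (ha : a ∈ ws V x) : a * a = 1 := by
  obtain ⟨ρ, hρ⟩ := h.loc_pt hx
  exact hρ.sq a ha

theorem xx (h : Gam V z) {x : G} (hx : Pt z x) : x * x = 1 := h.sq_ws hx (h.self_mem hx)

theorem inv_ws (h : Gam V z) {x : G} (hx : Pt z x) {a : G} (ha : a ∈ ws V x) : a⁻¹ = a :=
  inv_eq_of_mul_eq_one_left (h.sq_ws hx ha)

theorem ws_le (h : Gam V z) {x : G} (hx : Pt z x) : ws V x ≤ centralizer ({x} : Set G) := by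
  obtain ⟨ρ, hρ⟩ := h.loc_pt hx
  exact hρ.le_centralizer

theorem pt_of_mem_line (h : Gam V z) {L : Subgroup G} {x y : G} (hL : L ∈ lines V x) (hy : y ∈ L)
    (hy1 : y ≠ 1) : Pt z y := by
  obtain ⟨⟨g, rfl⟩, _⟩ := hL
  rw [mem_cj] at hy
  obtain ⟨k, _, hk⟩ := h.trans _ hy (fun e => hy1 (by
    have : y = g * (g⁻¹ * y * g) * g⁻¹ := by group
    rw [this, e]; group))
  refine ⟨g * k, ?_⟩
  have : y = g * (g⁻¹ * y * g) * g⁻¹ := by group
  rw [this, ← hk]; group

theorem norm (h : Gam V z) {x : G} (hx : Pt z x) {c w : G} (hc : c * x = x * c) (hw : w ∈ ws V x) :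
    c * w * c⁻¹ ∈ ws V x := by
  obtain ⟨ρ, hρ⟩ := h.loc_pt hx
  exact hρ.norm c (mem_centralizer_singleton_iff.mpr hc) w hw

/-- all elements of `ws V x` outside `⟨x⟩` are on lines through `x` -/
theorem exists_line (h : Gam V z) {x u : G} (hx : Pt z x) (hu : u ∈ ws V x) (hu1 : u ≠ 1) (hux : u ≠ x) :
    ∃ L ∈ lines V x, u ∈ L := by
  obtain ⟨g, hg, hG⟩ := h.exists_gam hx
  obtain ⟨ρ, hρ⟩ := h.loc_pt hx
  obtain ⟨t, _, v, hv, _, hv1, hvx⟩ := hG.move
  have hVx : cj g V ∈ lines V x := ⟨⟨g, rfl⟩, hG.z_mem⟩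
  have hvW : v ∈ ws V x := le_ws hVx hv
  obtain ⟨c, _, hc⟩ := hρ.trans hvW hu hv1 hvx hu1 hux
  have hcx : (c : G) * x = x * c := mem_centralizer_singleton_iff.mp c.2
  have hL := mem_lines_cj (g := (c : G)) hVx
  rw [hcx, mul_inv_cancel_right] at hL
  refine ⟨_, hL, ?_⟩
  have h1 : (c : G) * v * (c : G)⁻¹ ∈ cj (c : G) (cj g V) := conj_mem_cj hv
  rcases hc with e | e
  · rw [← e]; exact h1
  · have : u = (c : G) * v * (c : G)⁻¹ * x := by rw [e, mul_assoc, hρ.xx, mul_one]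
    rw [this]; exact mul_mem h1 hL.2

theorem col (h : Gam V z) {x u : G} (hx : Pt z x) (hu : u ∈ ws V x) (hu1 : u ≠ 1) (hux : u ≠ x) :
    Col V x u := by
  obtain ⟨L, hL, huL⟩ := h.exists_line hx hu hu1 hux
  exact ⟨h.ne_one hx, hu1, hux.symm, L, hL, huL⟩

theorem pt (h : Gam V z) {x u : G} (hx : Pt z x) (hu : u ∈ ws V x) (hu1 : u ≠ 1) : Pt z u := by
  by_cases hux : u = x
  · rw [hux]; exact hx
  · obtain ⟨L, hL, huL⟩ := h.exists_line hx hu hu1 hux
    exact h.pt_of_mem_line hL huL hu1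

theorem mem_symm (h : Gam V z) {x u : G} (hx : Pt z x) (hu : u ∈ ws V x) (hu1 : u ≠ 1) : x ∈ ws V u := by
  by_cases hux : u = x
  · rw [hux]; exact h.self_mem hx
  · exact (h.col hx hu hu1 hux).symm.mem_ws

/-! ### the kernel -/

theorem fix_of_ker {W : Subgroup G} {x : G} {ρ : centralizer ({x} : Set G) →* S5} (h : Loc W x ρ)
    (hK : ∀ k, ρ k = 1 → ∀ w ∈ W, (k : G) * w * (k : G)⁻¹ = w) {c : centralizer ({x} : Set G)}
    (hc : ρ c * ρ c = 1) {v : G} (hv : v ∈ W) (hcv : Cg x ((c : G) * v * (c : G)⁻¹) v) :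
    (c : G) * v * (c : G)⁻¹ = v := by
  by_cases hc1 : ρ c = 1
  · exact hK c hc1 v hv
  · obtain ⟨w, hw, hvw⟩ := h.exists_comm hc hc1 (h.mem_cx.mpr ⟨hv, hcv⟩)
    have h1 : (c : G) * ((c : G) * w * (c : G)⁻¹ * w) * (c : G)⁻¹ = (c : G) * w * (c : G)⁻¹ * w := by
      have h2 := hK (c * c) (by rw [map_mul, hc]) w hw
      have e : ((c * c : centralizer ({x} : Set G)) : G) = c * c := rfl
      rw [e] at h2
      calc (c : G) * ((c : G) * w * (c : G)⁻¹ * w) * (c : G)⁻¹ =
          ((c : G) * c * w * ((c : G) * c)⁻¹) * ((c : G) * w * (c : G)⁻¹) := by group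
        _ = w * ((c : G) * w * (c : G)⁻¹) := by rw [h2]
        _ = (c : G) * w * (c : G)⁻¹ * w := h.comm w hw _ (h.norm c c.2 w hw)
    rcases hvw with e | e
    · rw [e]; exact h1
    · have h3 : (c : G) * x * (c : G)⁻¹ = x := by
        rw [mem_centralizer_singleton_iff.mp c.2, mul_inv_cancel_right]
      rw [e]
      calc (c : G) * ((c : G) * w * (c : G)⁻¹ * w * x) * (c : G)⁻¹ =
          ((c : G) * ((c : G) * w * (c : G)⁻¹ * w) * (c : G)⁻¹) * ((c : G) * x * (c : G)⁻¹) := by group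
        _ = (c : G) * w * (c : G)⁻¹ * w * x := by rw [h1, h3]

/-- the kernel moves every element of `ws V x` outside `⟨x⟩` -/
theorem exists_neg (h : Gam V z) {x : G} (hx : Pt z x) {ρ : centralizer ({x} : Set G) →* S5}
    (hρ : Loc (ws V x) x ρ) {u : G} (hu : u ∈ ws V x) (hu1 : u ≠ 1) (hux : u ≠ x) :
    ∃ k, ρ k = 1 ∧ (k : G) * u * (k : G)⁻¹ = u * x := by
  by_contra hcon
  push Not at hcon
  have hfix : ∀ k, ρ k = 1 → (k : G) * u * (k : G)⁻¹ = u := by
    intro k hk
    rcases (hρ.ker k).mp hk u hu with e | e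
    · exact e
    · exact absurd e (hcon k hk)
  let U : Subgroup G :=
    { carrier := {w | w ∈ ws V x ∧ ∀ k, ρ k = 1 → (k : G) * w * (k : G)⁻¹ = w}
      one_mem' := ⟨one_mem _, fun k _ => by group⟩
      mul_mem' := by
        rintro a b ⟨ha, ha'⟩ ⟨hb, hb'⟩
        refine ⟨mul_mem ha hb, fun k hk => ?_⟩
        calc (k : G) * (a * b) * (k : G)⁻¹ = (k : G) * a * (k : G)⁻¹ * ((k : G) * b * (k : G)⁻¹) := by group
          _ = a * b := by rw [ha' k hk, hb' k hk]
      inv_mem' := by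
        rintro a ⟨ha, ha'⟩
        refine ⟨inv_mem ha, fun k hk => ?_⟩
        calc (k : G) * a⁻¹ * (k : G)⁻¹ = ((k : G) * a * (k : G)⁻¹)⁻¹ := by group
          _ = a⁻¹ := by rw [ha' k hk] }
  have hxU : x ∈ U := ⟨hρ.x_mem, fun k _ => by
    rw [mem_centralizer_singleton_iff.mp k.2, mul_inv_cancel_right]⟩
  have hinv : ∀ c ∈ centralizer ({x} : Set G), ∀ w ∈ U, c * w * c⁻¹ ∈ U := by
    rintro c hc w ⟨hw, hw'⟩
    refine ⟨hρ.norm c hc w hw, fun k hk => ?_⟩
    have h1 := hw' (⟨c, hc⟩⁻¹ * k * ⟨c, hc⟩) (by rw [map_mul, map_mul, hk, mul_one, map_inv, inv_mul_cancel])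
    have e : (((⟨c, hc⟩⁻¹ * k * ⟨c, hc⟩ : centralizer ({x} : Set G))) : G) = c⁻¹ * k * c := rfl
    rw [e] at h1
    calc (k : G) * (c * w * c⁻¹) * (k : G)⁻¹ = c * (c⁻¹ * k * c * w * (c⁻¹ * k * c)⁻¹) * c⁻¹ := by group
      _ = c * w * c⁻¹ := by rw [h1]
  have hK : ∀ k, ρ k = 1 → ∀ w ∈ ws V x, (k : G) * w * (k : G)⁻¹ = w := by
    intro k hk w hw
    have : w ∈ U := hρ.irr hxU hinv (u := u) ⟨hu, hfix⟩ hu hu1 hux hw
    exact this.2 k hk
  obtain ⟨g, hg, hG⟩ := h.exists_gam hx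
  obtain ⟨t, ht, v, hv, htv, hv1, hvx⟩ := hG.move
  have hvW : v ∈ ws V x := le_ws (⟨⟨g, rfl⟩, hG.z_mem⟩ : cj g V ∈ lines V x) hv
  obtain ⟨i, hi⟩ := hρ.exists_pg hvW
  have hti : ρ ⟨t, ht⟩ i = i := hρ.idx_fix hi hv1 hvx (c := ⟨t, ht⟩) (Or.inr htv)
  rcases exists_k4_mul i _ hti with h3 | ⟨k, hk4, hk⟩
  · rcases hρ.fpf ⟨t, ht⟩ h3 v hvW (Or.inr htv) with e | e
    · exact hv1 e
    · exact hvx e
  · obtain ⟨d, rfl⟩ := hρ.even k hk4.2.1
    have hd := hρ.fix_of_k4 hk4 hi
    have h1 := fix_of_ker hρ hK hk4.2.2 hvW hd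
    have hdx : (d : G) * x * (d : G)⁻¹ = x := by
      rw [mem_centralizer_singleton_iff.mp d.2, mul_inv_cancel_right]
    have e : ((d * ⟨t, ht⟩ : centralizer ({x} : Set G)) : G) = d * t := rfl
    have h2 : (d : G) * t * v * ((d : G) * t)⁻¹ = v * x := by
      calc (d : G) * t * v * ((d : G) * t)⁻¹ = (d : G) * (t * v * t⁻¹) * (d : G)⁻¹ := by group
        _ = ((d : G) * v * (d : G)⁻¹) * ((d : G) * x * (d : G)⁻¹) := by rw [htv]; group
        _ = v * x := by rw [h1, hdx]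
    have h4 := fix_of_ker hρ hK (c := d * ⟨t, ht⟩) (by rw [map_mul]; exact hk) hvW (by
      rw [e, h2]; exact Or.inr rfl)
    rw [e, h2] at h4
    exact hρ.x_ne (by simpa using h4)

theorem hom_aux (h : Gam V z) {x : G} (hx : Pt z x) {ρ : centralizer ({x} : Set G) →* S5}
    (hρ : Loc (ws V x) x ρ) {p q : G} (hp : p ∈ ws V x) (hq : q ∈ ws V x) (hp1 : p ≠ 1) (hpx : p ≠ x)
    (hpq : p ≠ q) (hpqx : p * q ≠ x) :
    ∃ k, ρ k = 1 ∧ (k : G) * p * (k : G)⁻¹ = p * x ∧ (k : G) * q * (k : G)⁻¹ = q := by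
  have hxc : ∀ k : centralizer ({x} : Set G), (k : G) * x * (k : G)⁻¹ = x := fun k => by
    rw [mem_centralizer_singleton_iff.mp k.2, mul_inv_cancel_right]
  have hpq1 : p * q ≠ 1 := fun e => hpq (by rw [mul_eq_one_iff_eq_inv.mp e, hρ.inv hq])
  obtain ⟨k, hk, h1⟩ := h.exists_neg hx hρ hp hp1 hpx
  rcases (hρ.ker k).mp hk q hq with h2 | h2
  · exact ⟨k, hk, h1, h2⟩
  · obtain ⟨l, hl, h3⟩ := h.exists_neg hx hρ (mul_mem hp hq) hpq1 hpqx
    have h3' : (l : G) * p * (l : G)⁻¹ * ((l : G) * q * (l : G)⁻¹) = p * q * x := by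
      rw [← h3]; group
    rcases (hρ.ker l).mp hl p hp with h4 | h4
    · -- `l` fixes `p`, moves `q`
      rw [h4] at h3'
      have h5 : (l : G) * q * (l : G)⁻¹ = q * x := by
        have := congrArg (fun t => p⁻¹ * t) h3'
        simpa only [mul_assoc, _root_.inv_mul_cancel_left] using this
      refine ⟨k * l, by rw [map_mul, hk, hl, one_mul], ?_, ?_⟩
      · change (k : G) * l * p * ((k : G) * l)⁻¹ = _
        calc (k : G) * l * p * ((k : G) * l)⁻¹ = (k : G) * ((l : G) * p * (l : G)⁻¹) * (k : G)⁻¹ := by group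
          _ = p * x := by rw [h4, h1]
      · change (k : G) * l * q * ((k : G) * l)⁻¹ = _
        calc (k : G) * l * q * ((k : G) * l)⁻¹ = (k : G) * ((l : G) * q * (l : G)⁻¹) * (k : G)⁻¹ := by group
          _ = ((k : G) * q * (k : G)⁻¹) * ((k : G) * x * (k : G)⁻¹) := by rw [h5]; group
          _ = q := by rw [h2, hxc, mul_assoc, hρ.xx, mul_one]
    · rw [h4] at h3'
      have h5 : (l : G) * q * (l : G)⁻¹ = q := by
        have h6 : p * x * ((l : G) * q * (l : G)⁻¹) = p * x * q := by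
          rw [h3', mul_assoc, mul_assoc, hρ.comm q hq x hρ.x_mem]
        exact mul_left_cancel h6
      exact ⟨l, hl, h4, h5⟩

/-- the kernel induces all of `Hom(W/⟨x⟩, ⟨x⟩)` (on two-dimensional subspaces) -/
theorem exists_hom (h : Gam V z) {x : G} (hx : Pt z x) {ρ : centralizer ({x} : Set G) →* S5}
    (hρ : Loc (ws V x) x ρ) {p q : G} (hp : p ∈ ws V x) (hq : q ∈ ws V x) (hp1 : p ≠ 1) (hpx : p ≠ x)
    (hq1 : q ≠ 1) (hqx : q ≠ x) (hpq : p ≠ q) (hpqx : p * q ≠ x) {e f : G} (he : e = 1 ∨ e = x)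
    (hf : f = 1 ∨ f = x) :
    ∃ k, ρ k = 1 ∧ (k : G) * p * (k : G)⁻¹ = p * e ∧ (k : G) * q * (k : G)⁻¹ = q * f := by
  have hxc : ∀ k : centralizer ({x} : Set G), (k : G) * x * (k : G)⁻¹ = x := fun k => by
    rw [mem_centralizer_singleton_iff.mp k.2, mul_inv_cancel_right]
  obtain ⟨k, hk, h1, h2⟩ := h.hom_aux hx hρ hp hq hp1 hpx hpq hpqx
  obtain ⟨l, hl, h3, h4⟩ := h.hom_aux hx hρ hq hp hq1 hqx hpq.symm (by rwa [hρ.comm q hq p hp])
  rcases he with rfl | rfl
  · rcases hf with rfl | rfl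
    · exact ⟨1, map_one _, by simp only [_root_.OneMemClass.coe_one, _root_.one_mul, _root_.inv_one, _root_.mul_one], by simp⟩
    · exact ⟨l, hl, by rw [h4, mul_one], h3⟩
  · rcases hf with rfl | hf
    · exact ⟨k, hk, h1, by rw [h2, mul_one]⟩
    · rw [hf]
      refine ⟨k * l, by rw [map_mul, hk, hl, one_mul], ?_, ?_⟩
      · change (k : G) * l * p * ((k : G) * l)⁻¹ = _
        calc (k : G) * l * p * ((k : G) * l)⁻¹ = (k : G) * ((l : G) * p * (l : G)⁻¹) * (k : G)⁻¹ := by group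
          _ = _ := by rw [h4, h1]
      · change (k : G) * l * q * ((k : G) * l)⁻¹ = _
        calc (k : G) * l * q * ((k : G) * l)⁻¹ = (k : G) * ((l : G) * q * (l : G)⁻¹) * (k : G)⁻¹ := by group
          _ = ((k : G) * q * (k : G)⁻¹) * ((k : G) * e * (k : G)⁻¹) := by rw [h3]; group
          _ = _ := by rw [h2, hxc]

/-- `C_G(x)` is transitive on `ws V x` minus `⟨x⟩` -/
theorem trans_ws (h : Gam V z) {x : G} (hx : Pt z x) {u v : G} (hu : u ∈ ws V x) (hv : v ∈ ws V x)
    (hu1 : u ≠ 1) (hux : u ≠ x) (hv1 : v ≠ 1) (hvx : v ≠ x) :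
    ∃ c : G, c * x = x * c ∧ c * u * c⁻¹ = v := by
  obtain ⟨ρ, hρ⟩ := h.loc_pt hx
  obtain ⟨c, _, hc⟩ := hρ.trans hu hv hu1 hux hv1 hvx
  rcases hc with e | e
  · exact ⟨c, mem_centralizer_singleton_iff.mp c.2, e⟩
  · obtain ⟨k, _, hk⟩ := h.exists_neg hx hρ hv hv1 hvx
    refine ⟨k * c, mem_centralizer_singleton_iff.mp (k * c).2, ?_⟩
    have hxk : (k : G) * x * (k : G)⁻¹ = x := by
      rw [mem_centralizer_singleton_iff.mp k.2, mul_inv_cancel_right]
    calc (k : G) * c * u * ((k : G) * c)⁻¹ = (k : G) * ((c : G) * u * (c : G)⁻¹) * (k : G)⁻¹ := by group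
      _ = ((k : G) * v * (k : G)⁻¹) * ((k : G) * x * (k : G)⁻¹) := by rw [e]; group
      _ = v := by rw [hk, hxk, mul_assoc, hρ.xx, mul_one]

/-- the kernel has no elements of order three -/
theorem ker_three (h : Gam V z) {x : G} (hx : Pt z x) {ρ : centralizer ({x} : Set G) →* S5}
    (hρ : Loc (ws V x) x ρ) {k : centralizer ({x} : Set G)} (hk : ρ k = 1) (hk3 : (k : G) ^ 3 = 1) :
    (k : G) = 1 := by
  have hfix : ∀ w ∈ ws V x, (k : G) * w * (k : G)⁻¹ = w := by
    intro w hw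
    rcases (hρ.ker k).mp hk w hw with e | e
    · exact e
    · exfalso
      have hxk : (k : G) * x * (k : G)⁻¹ = x := by
        rw [mem_centralizer_singleton_iff.mp k.2, mul_inv_cancel_right]
      have e2 : (k : G) * ((k : G) * w * (k : G)⁻¹) * (k : G)⁻¹ = w := by
        rw [e]
        calc (k : G) * (w * x) * (k : G)⁻¹ = ((k : G) * w * (k : G)⁻¹) * ((k : G) * x * (k : G)⁻¹) := by group
          _ = w := by rw [e, hxk, mul_assoc, hρ.xx, mul_one]
      have e3 : (k : G) * ((k : G) * ((k : G) * w * (k : G)⁻¹) * (k : G)⁻¹) * (k : G)⁻¹ = w := by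
        calc (k : G) * ((k : G) * ((k : G) * w * (k : G)⁻¹) * (k : G)⁻¹) * (k : G)⁻¹ =
            (k : G) ^ 3 * w * ((k : G) ^ 3)⁻¹ := by simp only [pow_succ, pow_zero, one_mul]; group
          _ = w := by rw [hk3]; group
      rw [e2, e] at e3
      exact hρ.x_ne (by simpa using e3)
  obtain ⟨g, hg, hG⟩ := h.exists_gam hx
  by_contra hne
  refine hG.three k ?_ (orderOf_eq_prime hk3 hne)
  rw [mem_centralizer_iff]
  intro v hv
  have hvW : v ∈ ws V x := le_ws (⟨⟨g, rfl⟩, hG.z_mem⟩ : cj g V ∈ lines V x) hv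
  have := hfix v hvW
  calc v * (k : G) = ((k : G) * v * (k : G)⁻¹) * k := by rw [this]
    _ = k * v := by group

variable [Finite G]

/-- lifts of order three -/
theorem exists_three (h : Gam V z) {x : G} (hx : Pt z x) {ρ : centralizer ({x} : Set G) →* S5}
    (hρ : Loc (ws V x) x ρ) {c : centralizer ({x} : Set G)} (hc : O3 (ρ c)) :
    ∃ m : ℕ, (c : G) ^ ((3 * m + 1) * 3) = 1 ∧ ρ (c ^ (3 * m + 1)) = ρ c := by
  have hcop : Nat.Coprime (Nat.card ρ.ker) 3 := by
    rw [Nat.coprime_comm, Nat.Prime.coprime_iff_not_dvd Nat.prime_three]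
    intro hd
    have : Fact (Nat.Prime 3) := ⟨Nat.prime_three⟩
    obtain ⟨k, hk⟩ := exists_prime_orderOf_dvd_card' (G := ρ.ker) 3 hd
    have h1 : ((k : centralizer ({x} : Set G)) : G) ^ 3 = 1 := by
      have := pow_orderOf_eq_one k
      rw [hk] at this
      exact congrArg (fun t : ρ.ker => ((t : centralizer ({x} : Set G)) : G)) this
    have h2 := h.ker_three hx hρ (k := k.1) k.2 h1
    have h3 : k = 1 := Subtype.ext (Subtype.ext h2)
    rw [h3, orderOf_one] at hk
    exact absurd hk (by norm_num)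
  obtain ⟨e, he1, he2⟩ := Nat.chineseRemainder hcop 0 1
  obtain ⟨m, rfl⟩ : ∃ m, e = 3 * m + 1 := by
    have : e % 3 = 1 := he2
    exact ⟨e / 3, by omega⟩
  have hc3 : ρ c ^ 3 = 1 := by rw [pow_succ, pow_two]; exact hc.1
  refine ⟨m, ?_, ?_⟩
  · have h1 : c ^ 3 ∈ ρ.ker := by rw [MonoidHom.mem_ker, map_pow, hc3]
    have h2 : Nat.card ρ.ker ∣ 3 * m + 1 := (Nat.modEq_zero_iff_dvd.mp he1)
    have h3 : (⟨c ^ 3, h1⟩ : ρ.ker) ^ (3 * m + 1) = 1 := by
      obtain ⟨k, hk⟩ := h2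
      rw [hk, pow_mul, pow_card_eq_one', one_pow]
    have h4 : (c ^ 3) ^ (3 * m + 1) = 1 := congrArg Subtype.val h3
    have h5 : ((c : G) ^ 3) ^ (3 * m + 1) = 1 := congrArg Subtype.val h4
    rw [mul_comm, pow_mul]; exact h5
  · rw [map_pow, pow_succ, pow_mul, hc3, one_pow, one_mul]

/-- powers acting as the element itself -/
theorem conj_pow {c p : G} (hc : c ^ 3 * p = p * c ^ 3) (m : ℕ) :
    c ^ (3 * m + 1) * p * (c ^ (3 * m + 1))⁻¹ = c * p * c⁻¹ := by
  have h1 : (c ^ 3) ^ m * p = p * (c ^ 3) ^ m := by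
    have : Commute (c ^ 3) p := hc
    exact this.pow_left m
  have e : c ^ (3 * m + 1) = c * (c ^ 3) ^ m := by rw [← pow_mul, pow_succ']
  rw [e, mul_inv_rev, mul_assoc c, h1]
  group

/-- an element of order three modulo the kernel which rotates `p, q, pq` modulo `r` lifts to an element of order three
which rotates `p, q, pq` -/
theorem star' (h : Gam V z) {r : G} (hr : Pt z r) {ρ : centralizer ({r} : Set G) →* S5}
    (hρ : Loc (ws V r) r ρ) {p q : G} (hp : p ∈ ws V r) (hq : q ∈ ws V r)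
    (hp1 : p ≠ 1) (hpr : p ≠ r) (hq1 : q ≠ 1) (hqr : q ≠ r) (hpq : p ≠ q) (hpqr : p * q ≠ r)
    {c : centralizer ({r} : Set G)} (hc : O3 (ρ c)) (h1 : Cg r ((c : G) * p * (c : G)⁻¹) q)
    (h2 : Cg r ((c : G) * q * (c : G)⁻¹) (p * q)) :
    ∃ d : centralizer ({r} : Set G), ρ d = ρ c ∧ (d : G) ^ 3 = 1 ∧ (d : G) * p * (d : G)⁻¹ = q ∧
      (d : G) * q * (d : G)⁻¹ = p * q := by
  have hrc : ∀ k : centralizer ({r} : Set G), (k : G) * r * (k : G)⁻¹ = r := fun k => by
    rw [mem_centralizer_singleton_iff.mp k.2, mul_inv_cancel_right]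
  obtain ⟨e, he, h1'⟩ : ∃ e, (e = 1 ∨ e = r) ∧ (c : G) * p * (c : G)⁻¹ = q * e := by
    rcases h1 with h1 | h1
    · exact ⟨1, Or.inl rfl, by rw [h1, mul_one]⟩
    · exact ⟨r, Or.inr rfl, h1⟩
  obtain ⟨f, hf, h2'⟩ : ∃ f, (f = 1 ∨ f = r) ∧ (c : G) * q * (c : G)⁻¹ = p * q * f := by
    rcases h2 with h2 | h2
    · exact ⟨1, Or.inl rfl, by rw [h2, mul_one]⟩
    · exact ⟨r, Or.inr rfl, h2⟩
  have hpq1 : p * q ≠ 1 := fun e => hpq (by rw [mul_eq_one_iff_eq_inv.mp e, hρ.inv hq])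
  have hqpq : q * (p * q) = p := by
    rw [hρ.comm p hp q hq, ← mul_assoc, hρ.sq q hq, one_mul]
  obtain ⟨k, hk, h3, h4⟩ := h.exists_hom hr hρ hq (mul_mem hp hq) hq1 hqr hpq1 hpqr
    (fun e => hp1 (by simpa using e.symm)) (by rw [hqpq]; exact hpr) he hf
  have hee : ∀ e : G, (e = 1 ∨ e = r) → e * e = 1 ∧ (k : G) * e * (k : G)⁻¹ = e := by
    rintro e (rfl | rfl)
    · simp
    · exact ⟨hρ.xx, hrc k⟩
  have a1 : (k : G) * c * p * ((k : G) * c)⁻¹ = q := by
    calc (k : G) * c * p * ((k : G) * c)⁻¹ = (k : G) * ((c : G) * p * (c : G)⁻¹) * (k : G)⁻¹ := by group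
      _ = ((k : G) * q * (k : G)⁻¹) * ((k : G) * e * (k : G)⁻¹) := by rw [h1']; group
      _ = q := by rw [h3, (hee e he).2, mul_assoc, (hee e he).1, mul_one]
  have a2 : (k : G) * c * q * ((k : G) * c)⁻¹ = p * q := by
    calc (k : G) * c * q * ((k : G) * c)⁻¹ = (k : G) * ((c : G) * q * (c : G)⁻¹) * (k : G)⁻¹ := by group
      _ = ((k : G) * (p * q) * (k : G)⁻¹) * ((k : G) * f * (k : G)⁻¹) := by rw [h2']; group
      _ = p * q := by rw [h4, (hee f hf).2, mul_assoc, (hee f hf).1, mul_one]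
  have hO : O3 (ρ (k * c)) := by rw [map_mul, hk, one_mul]; exact hc
  obtain ⟨m, hm, hm2⟩ := h.exists_three hr hρ hO
  have e1 : ((k * c : centralizer ({r} : Set G)) : G) = (k : G) * c := rfl
  rw [e1] at hm
  set d : G := (k : G) * c with hd
  have a3 : d * (p * q) * d⁻¹ = p := by
    calc d * (p * q) * d⁻¹ = (d * p * d⁻¹) * (d * q * d⁻¹) := by group
      _ = p := by rw [a1, a2, hqpq]
  have d3 : ∀ t : G, d ^ 3 * t * (d ^ 3)⁻¹ = d * (d * (d * t * d⁻¹) * d⁻¹) * d⁻¹ := fun t => by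
    simp only [pow_succ, pow_zero, one_mul]; group
  have c1 : d ^ 3 * p = p * d ^ 3 := by
    have := d3 p
    rw [a1, a2, a3] at this
    exact mul_inv_eq_iff_eq_mul.mp this
  have c2 : d ^ 3 * q = q * d ^ 3 := by
    have := d3 q
    rw [a2, a3, a1] at this
    exact mul_inv_eq_iff_eq_mul.mp this
  have e2 : (((k * c) ^ (3 * m + 1) : centralizer ({r} : Set G)) : G) = d ^ (3 * m + 1) := rfl
  refine ⟨(k * c) ^ (3 * m + 1), ?_, ?_, ?_, ?_⟩
  · rw [hm2, map_mul, hk, one_mul]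
  · rw [e2, ← pow_mul]; exact hm
  · rw [e2, conj_pow c1, a1]
  · rw [e2, conj_pow c2, a2]

/-- a four-subgroup of `ws V r` avoiding `r` is rotated by an element of order three of `C_G(r)` -/
theorem star (h : Gam V z) {r : G} (hr : Pt z r) {p q : G} (hp : p ∈ ws V r) (hq : q ∈ ws V r)
    (hp1 : p ≠ 1) (hpr : p ≠ r) (hq1 : q ≠ 1) (hqr : q ≠ r) (hpq : p ≠ q) (hpqr : p * q ≠ r) :
    ∃ c : G, c * r = r * c ∧ c ^ 3 = 1 ∧ c * p * c⁻¹ = q ∧ c * q * c⁻¹ = p * q := by
  obtain ⟨ρ, hρ⟩ := h.loc_pt hr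
  obtain ⟨c, hc, h1, h2⟩ := hρ.exists_cyc hp hq hp1 hpr hq1 hqr hpq hpqr
  obtain ⟨d, _, h3, h4, h5⟩ := h.star' hr hρ hp hq hp1 hpr hq1 hqr hpq hpqr hc h1 h2
  exact ⟨d, mem_centralizer_singleton_iff.mp d.2, h3, h4, h5⟩

/-- (P1) -/
theorem noThree (h : Gam V z) {c p q g : G} (hc3 : c ^ 3 = 1) (h1 : c * p * c⁻¹ = q)
    (h2 : c * q * c⁻¹ = p * q) (hpq : p ≠ q) (hg3 : g ^ 3 = 1) (hgp : g * p = p * g) (hgq : g * q = q * g) :
    g = 1 := by
  by_contra hg1
  have hc1 : c ≠ 1 := by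
    rintro rfl
    apply hpq; rw [← h1]; group
  set A : Subgroup G := _root_.Subgroup.closure {p, q} with hA
  have hpA : p ∈ A := _root_.Subgroup.subset_closure (Or.inl rfl)
  have hqA : q ∈ A := _root_.Subgroup.subset_closure (Or.inr rfl)
  have hcA : c ∈ normalizer (A : Set G) := by
    rw [mem_normalizer_iff_cj]
    have hle : cj c A ≤ A := by
      rw [cj_le_iff, hA, closure_le]
      rintro t (rfl | ht)
      · rw [SetLike.mem_coe, mem_cj, inv_inv, h1]; exact hqA
      · rw [Set.mem_singleton_iff] at ht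
        rw [ht, SetLike.mem_coe, mem_cj, inv_inv, h2]; exact mul_mem hpA hqA
    exact Subgroup.eq_of_le_of_card_ge hle (by rw [card_cj])
  have hgA : g ∈ centralizer (A : Set G) := by
    rw [hA, centralizer_closure, mem_centralizer_iff]
    rintro t (rfl | ht)
    · exact hgp.symm
    · rw [Set.mem_singleton_iff] at ht; rw [ht]; exact hgq.symm
  have hCN : centralizer (A : Set G) ≤ normalizer (A : Set G) := centralizer_le_normalizer _
  have hpr : Fact (Nat.Prime 3) := ⟨Nat.prime_three⟩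
  have hor : orderOf g = 3 := orderOf_eq_prime hg3 hg1
  have hor' : orderOf c = 3 := orderOf_eq_prime hc3 hc1
  have hcyc := CompBasic.oddCyc_subgroup h.cyc (normalizer (A : Set G))
  have hdvd : 3 ∣ Nat.card ((centralizer (A : Set G)).subgroupOf (normalizer (A : Set G))) := by
    have h3 : (⟨g, hCN hgA⟩ : normalizer (A : Set G)) ∈
        (centralizer (A : Set G)).subgroupOf (normalizer (A : Set G)) := mem_subgroupOf.mpr hgA
    have h4 : orderOf (⟨⟨g, hCN hgA⟩, h3⟩ :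
        (centralizer (A : Set G)).subgroupOf (normalizer (A : Set G))) = 3 := by
      rw [Subgroup.orderOf_mk, Subgroup.orderOf_mk, hor]
    rw [← h4]; exact _root_.orderOf_dvd_natCard _
  have hn : ((centralizer (A : Set G)).subgroupOf (normalizer (A : Set G))).Normal := by
    constructor
    rintro ⟨t, ht⟩ ht' ⟨n, hn⟩
    rw [mem_subgroupOf] at ht' ⊢
    change n * t * n⁻¹ ∈ centralizer (A : Set G)
    change t ∈ centralizer (A : Set G) at ht'
    rw [mem_centralizer_iff] at ht' ⊢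
    intro a ha
    have h3 := ht' (n⁻¹ * a * n) (conj_mem_of_normalizer' le_rfl hn ha)
    calc a * (n * t * n⁻¹) = n * (n⁻¹ * a * n * t) * n⁻¹ := by group
      _ = n * (t * (n⁻¹ * a * n)) * n⁻¹ := by rw [h3]
      _ = n * t * n⁻¹ * a := by group
  have h4 := CompBasic.mem_of_orderOf hcyc Nat.prime_three (by norm_num) hn hdvd
    (x := ⟨c, hcA⟩) (by rw [Subgroup.orderOf_mk, hor'])
  rw [mem_subgroupOf] at h4
  have h5 := mem_centralizer_iff.mp h4 p hpA
  apply hpq
  have h6 : p * c = c * p := h5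
  rw [← h1, ← h6]; group

end Gam

end Cfsg.Agent.OddCyclic.GamBase
end
end

-- part: OddCyclic/GamFar
section
prune_inst 0xc0100400512200000000001020003c4292000000002b0001c140010605888d4000000720882016001002a00400340068135404604010000020000000413807a9000082028048a000010000008004080c00000000000000000000000000000000000400000
set_option linter.all false
open scoped Cfsg.Agent.FastGrp

/-!
# `Gam`: there are collinear points `x`, `y` with `[ws V x, ws V y] ≠ 1`

* `far_core`: no two points at distance `≥ 2` as in the critical case;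
* `exists_noncomm`: the critical distance is one; `pair_trans`; `act_ne`: `ws V u` acts nontrivially on
  `ws V x/⟨x⟩` for all collinear `x ≠ u`.
-/

set_option autoImplicit false
set_option linter.dupNamespace false
set_option linter.unusedSectionVars false

namespace Cfsg.Agent.OddCyclic.GamBase

open Subgroup Cfsg Cfsg.Agent.ZN Cfsg.Agent.MinSimple.Geo Cfsg.Agent.MinSimple.OddBase
open Cfsg.Agent.OddCyclic.T1Defs GamPerm GamMod GamLoc
open Cfsg.Agent.ZN.Block (conj_mem_of_normalizer conj_mem_of_normalizer' le_normalizer_of_forall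
  mem_normalizer_of)

universe u

variable {G : Type u} [Group G]

/-- the elements of a four-group -/
theorem mem_four {R : Subgroup G} (hcard : Nat.card R = 4) {r s t : G} (hr : r ∈ R) (hs : s ∈ R)
    (hr2 : r * r = 1) (hs2 : s * s = 1)
    (hr1 : r ≠ 1) (hs1 : s ≠ 1) (hrs : r ≠ s) (ht : t ∈ R) : t = 1 ∨ t = r ∨ t = s ∨ t = r * s := by
  have hfin : Finite R := Nat.finite_of_card_ne_zero (by rw [hcard]; norm_num)
  have hpq1 : r * s ≠ 1 := fun e => hrs (by
    rw [mul_eq_one_iff_eq_inv.mp e]; exact inv_eq_of_mul_eq_one_left hs2)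
  have hpqp : r * s ≠ r := fun e => hs1 (by simpa using e)
  have hpqq : r * s ≠ s := fun e => hr1 (by simpa using e)
  have h1 : ({1, r, s, r * s} : Set G) ⊆ (R : Set G) := by
    rintro x (rfl | rfl | rfl | rfl)
    · exact R.one_mem
    · exact hr
    · exact hs
    · exact R.mul_mem hr hs
  have h2 : ({1, r, s, r * s} : Set G).ncard = 4 := by
    rw [Set.ncard_insert_of_notMem, Set.ncard_insert_of_notMem, Set.ncard_pair (Ne.symm hpqq)]
    · rintro (e | e)
      · exact hrs e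
      · exact hpqp e.symm
    · rintro (e | e | e)
      · exact hr1 e.symm
      · exact hs1 e.symm
      · exact hpq1 e.symm
  have h3 : (R : Set G).ncard = 4 := by rw [← hcard]; rfl
  have h4 : ({1, r, s, r * s} : Set G) = R := Set.eq_of_subset_of_ncard_le h1 (by rw [h2, h3])
    (Set.toFinite _)
  have : t ∈ ({1, r, s, r * s} : Set G) := by rw [h4]; exact ht
  simpa using this

/-- a subgroup of order four contains two different nontrivial elements -/
theorem exists_two {R : Subgroup G} (hcard : Nat.card R = 4) : ∃ r ∈ R, ∃ s ∈ R, r ≠ 1 ∧ s ≠ 1 ∧ r ≠ s := by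
  have hfin : Finite R := Nat.finite_of_card_ne_zero (by rw [hcard]; norm_num)
  have h3 : (R : Set G).ncard = 4 := by rw [← hcard]; rfl
  have h1 : ∃ r ∈ R, r ≠ 1 := by
    by_contra hcon
    push Not at hcon
    have : (R : Set G) ⊆ {1} := fun x hx => hcon x hx
    have := Set.ncard_le_ncard this (Set.toFinite _)
    rw [h3, Set.ncard_singleton] at this
    omega
  obtain ⟨r, hr, hr1⟩ := h1
  by_contra hcon
  push Not at hcon
  have : (R : Set G) ⊆ {1, r} := by
    intro x hx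
    by_cases hx1 : x = 1
    · exact Or.inl hx1
    · exact Or.inr (hcon r hr x hx hr1 hx1).symm
  have := Set.ncard_le_ncard this (Set.toFinite _)
  rw [h3, Set.ncard_pair hr1.symm] at this
  omega

namespace Gam

variable {V : Subgroup G} {z : G} [Finite G]

/-- elements of `ws V p` acting on `ws V q` -/
def el {p q : G} (hpq : ∀ a ∈ ws V p, a * q = q * a) {a : G} (ha : a ∈ ws V p) :
    centralizer ({q} : Set G) := ⟨a, mem_centralizer_singleton_iff.mpr (hpq a ha)⟩

theorem far_core (h : Gam V z) {p q : G} (hp : Pt z p) (hq : Pt z q)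
    (hpq : ∀ a ∈ ws V p, a * q = q * a) (hqp : ∀ b ∈ ws V q, b * p = p * b) (hp' : p ∉ ws V q)
    (hq' : q ∉ ws V p) {ρ : centralizer ({q} : Set G) →* S5} (hρ : Loc (ws V q) q ρ) {a : G}
    (ha : a ∈ ws V p) (hne : ρ (el hpq ha) ≠ 1) : False := by
  set c := el hpq ha with hc
  have hca : (c : G) = a := rfl
  have hcc : ρ c * ρ c = 1 := by
    rw [← map_mul]
    have : c * c = 1 := Subtype.ext (h.sq_ws hp ha)
    rw [this, map_one]
  set R : Subgroup G := ws V p ⊓ ws V q with hR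
  have hRc : R ≤ hρ.cx c := by
    rintro r ⟨hrp, hrq⟩
    rw [hρ.mem_cx]
    refine ⟨hrq, Or.inl ?_⟩
    rw [hca, h.comm hp ha hrp, mul_inv_cancel_right]
  have hcxR : ∀ w ∈ hρ.cx c, w ∈ R ∨ w * q ∈ R := by
    intro w hw
    obtain ⟨v, hv, hwv⟩ := hρ.exists_comm hcc hne hw
    have h1 : (c : G) * v * (c : G)⁻¹ * v ∈ R := by
      refine ⟨?_, mul_mem (hρ.norm c c.2 v hv) hv⟩
      have h2 : v * a⁻¹ * v⁻¹ ∈ ws V p := h.norm hp (hqp v hv) (inv_mem ha)
      rw [h.inv_ws hq hv] at h2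
      rw [hca]
      have : a * v * a⁻¹ * v = a * (v * a⁻¹ * v) := by group
      rw [this]; exact mul_mem ha h2
    rcases hwv with e | e
    · left; rw [e]; exact h1
    · right
      rw [e, mul_assoc, hρ.xx, mul_one]; exact h1
  have hcard8 := hρ.card_cx hcc hne
  have hcard : Nat.card R = 4 := by
    have h1 : Nat.card R ∣ 8 := by rw [← hcard8]; exact card_dvd_of_le hRc
    have h2 : Nat.card R ≠ 8 := by
      intro e
      have : R = hρ.cx c := Subgroup.eq_of_le_of_card_ge hRc (by rw [e, hcard8])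
      have hqR : q ∈ R := by rw [this]; exact hρ.x_mem_cx c
      exact hq' hqR.1
    have h3 : 8 ≤ 2 * Nat.card R := by
      rw [← hcard8]
      have : Nat.card (hρ.cx c) ≤ Nat.card (Bool × R) := by
        refine Nat.card_le_card_of_surjective
          (fun t : Bool × R => (if t.1 then ⟨(t.2 : G), hRc t.2.2⟩ else
            ⟨(t.2 : G) * q, mul_mem (hRc t.2.2) (hρ.x_mem_cx c)⟩ : hρ.cx c)) ?_
        rintro ⟨w, hw⟩
        rcases hcxR w hw with h4 | h4
        · exact ⟨(true, ⟨w, h4⟩), by simp⟩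
        · refine ⟨(false, ⟨w * q, h4⟩), ?_⟩
          simp only [Bool.false_eq_true, if_false]
          apply Subtype.ext
          change w * q * q = w
          rw [mul_assoc, hρ.xx, mul_one]
      rw [Nat.card_prod] at this
      simpa using this
    have h4 : Nat.card R ≤ 8 := Nat.le_of_dvd (by norm_num) h1
    interval_cases (Nat.card R) <;> omega
  obtain ⟨r, hr, s, hs, hr1, hs1, hrs⟩ := exists_two hcard
  have hnp : ∀ t ∈ R, t ≠ p := fun t ht e => hp' (e ▸ ht.2)
  have hnq : ∀ t ∈ R, t ≠ q := fun t ht e => hq' (e ▸ ht.1)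
  have hp1 := h.ne_one hp
  have hq1 := h.ne_one hq
  have hpqne : p ≠ q := fun e => hq' (e ▸ h.self_mem hp)
  have key : ∀ t ∈ R, t ≠ 1 → Pt z t ∧ p ∈ ws V t ∧ q ∈ ws V t := fun t ht ht1 =>
    ⟨h.pt hp ht.1 ht1, h.mem_symm hp ht.1 ht1, h.mem_symm hq ht.2 ht1⟩
  obtain ⟨hrpt, hpr, hqr⟩ := key r hr hr1
  have hpqr : p * q ≠ r := by
    intro e
    apply hq'
    have : q = p * r := by rw [← e, ← mul_assoc, h.xx hp, one_mul]
    rw [this]; exact mul_mem (h.self_mem hp) hr.1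
  obtain ⟨g, hgr, hg3, hgp, hgq⟩ := h.star hrpt hpr hqr hp1 (hnp r hr).symm hq1 (hnq r hr).symm hpqne hpqr
  have hpq1 : p * q ≠ 1 := fun e => hpqne (by
    rw [mul_eq_one_iff_eq_inv.mp e]; exact inv_eq_of_mul_eq_one_left (h.xx hq))
  have hRpq : R ≤ ws V (p * q) := by
    intro t ht
    by_cases ht1 : t = 1
    · rw [ht1]; exact one_mem _
    · obtain ⟨h1, h2, h3⟩ := key t ht ht1
      exact h.mem_symm h1 (mul_mem h2 h3) hpq1
  have hcj : cj g R = R := by
    have h1 : cj g R = ws V q ⊓ ws V (p * q) := by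
      rw [hR, cj_inf, cj_ws, cj_ws, hgp, hgq]
    have h2 : R ≤ cj g R := by rw [h1]; exact le_inf inf_le_right hRpq
    exact (Subgroup.eq_of_le_of_card_ge h2 (by rw [card_cj])).symm
  have hr2 : r * r = 1 := h.sq_ws hp hr.1
  have hs2 : s * s = 1 := h.sq_ws hp hs.1
  have hgr' : g * r * g⁻¹ = r := by rw [hgr, mul_inv_cancel_right]
  have hsR : g * s * g⁻¹ ∈ R := by
    have : g * s * g⁻¹ ∈ cj g R := conj_mem_cj hs
    rwa [hcj] at this
  have hgs : g * s = s * g := by
    rcases mem_four hcard hr hs hr2 hs2 hr1 hs1 hrs hsR with e | e | e | e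
    · exact absurd e (conj_ne_one hs1)
    · exact absurd (conj_inj (hgr'.trans e.symm)) hrs
    · calc g * s = (g * s * g⁻¹) * g := by group
        _ = s * g := by rw [e]
    · exfalso
      have e2 : g * (r * s) * g⁻¹ = s := by
        calc g * (r * s) * g⁻¹ = (g * r * g⁻¹) * (g * s * g⁻¹) := by group
          _ = s := by rw [hgr', e, ← mul_assoc, hr2, one_mul]
      have e3 : g ^ 3 * s * (g ^ 3)⁻¹ = g * (g * (g * s * g⁻¹) * g⁻¹) * g⁻¹ := by
        simp only [pow_succ, pow_zero, one_mul]; group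
      rw [hg3, e, e2, e] at e3
      apply hr1
      have e4 : s = r * s := by simpa using e3
      exact right_eq_mul.mp e4
  -- `g` centralises `R`
  have hrs_p : r * s ≠ p := hnp _ (mul_mem hr hs)
  obtain ⟨d, _, hd3, hdr, hds⟩ := h.star hp hr.1 hs.1 hr1 (hnp r hr) hs1 (hnp s hs) hrs hrs_p
  have hg1 := h.noThree hd3 hdr hds hrs hg3 hgr hgs
  apply hpqne
  rw [← hgp, hg1]; group

theorem walk_pt (h : Gam V z) {n : ℕ} {x y : G} (hx : Pt z x) (hw : Walk V n x y) : Pt z y := by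
  induction n generalizing y with
  | zero =>
    have e : x = y := hw
    rwa [← e]
  | succ n ih =>
    obtain ⟨w, hw, h1⟩ := hw
    rcases h1 with rfl | h1
    · exact ih hw
    · obtain ⟨_, h2, _, L, hL, hy⟩ := h1
      exact h.pt_of_mem_line hL hy h2

/-- one of two noncommuting groups acts nontrivially -/
theorem act_or (h : Gam V z) {p q : G} (hp : Pt z p) (hq : Pt z q) (hne : p ≠ q)
    {a b : G} (ha : a ∈ ws V p) (hb : b ∈ ws V q) (hab : a * b ≠ b * a) :
    ¬ Cg q (a * b * a⁻¹) b ∨ ¬ Cg p (b * a * b⁻¹) a := by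
  by_contra hcon
  push Not at hcon
  obtain ⟨h1, h2⟩ := hcon
  rcases h1 with e | e
  · exact hab (mul_inv_eq_iff_eq_mul.mp e)
  rcases h2 with e' | e'
  · exact hab (mul_inv_eq_iff_eq_mul.mp e').symm
  · -- `a b a⁻¹ = b q`, `b a b⁻¹ = a p`
    apply hne
    have ha' := h.inv_ws hp ha
    have hb' := h.inv_ws hq hb
    have e1 : a * b * a⁻¹ * b⁻¹ = q := by
      rw [e]
      have : b * q = q * b := h.comm hq hb (h.self_mem hq)
      rw [this, mul_inv_cancel_right]
    have e2 : b * a * b⁻¹ * a⁻¹ = p := by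
      rw [e']
      have : a * p = p * a := h.comm hp ha (h.self_mem hp)
      rw [this, mul_inv_cancel_right]
    have e3 : b * a * b⁻¹ * a⁻¹ = (a * b * a⁻¹ * b⁻¹)⁻¹ := by group
    rw [e2, e1] at e3
    rw [e3]
    exact inv_eq_of_mul_eq_one_left (h.xx hq)

theorem not_far (h : Gam V z) {n : ℕ} (hn : 2 ≤ n)
    (hlt : ∀ x y m, m < n → Pt z x → Walk V m x y → ∀ a ∈ ws V x, ∀ b ∈ ws V y, a * b = b * a) {p q : G}
    (hp : Pt z p) (hw : Walk V n p q) {a b : G} (ha : a ∈ ws V p) (hb : b ∈ ws V q)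
    (hab : a * b ≠ b * a) : False := by
  have hq : Pt z q := h.walk_pt hp hw
  obtain ⟨m, rfl⟩ : ∃ m, n = m + 1 := ⟨n - 1, by omega⟩
  have h1 : ∀ {p q : G}, Pt z p → Walk V (m + 1) p q → ∀ {a b : G}, a ∈ ws V p → b ∈ ws V q → a * b ≠ b * a →
      ∀ a ∈ ws V p, a * q = q * a := by
    intro p q hp hw a b ha hb hab c hc
    obtain ⟨w, hw1, hw2⟩ := hw
    rcases hw2 with rfl | hw2
    · exact absurd (hlt p w m (Nat.lt_succ_self m) hp hw1 a ha b hb) hab
    · exact hlt p w m (Nat.lt_succ_self m) hp hw1 c hc q hw2.mem_ws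
  have hpq := h1 hp hw ha hb hab
  have hqp := h1 hq hw.symm hb ha (fun e => hab e.symm)
  have h2 : ∀ {p q : G}, Pt z p → Pt z q → (∃ a ∈ ws V p, ∃ b ∈ ws V q, a * b ≠ b * a) → p ∉ ws V q := by
    intro p q hp hq ⟨a, ha, b, hb, hab⟩ hpq
    by_cases he : p = q
    · rw [he] at ha; exact hab (h.comm hq ha hb)
    · have := h.col hq hpq (h.ne_one hp) he
      exact hab (hlt q p 1 (by omega) hq this.walk b hb a ha).symm
  have hp' := h2 hp hq ⟨a, ha, b, hb, hab⟩
  have hq' := h2 hq hp ⟨b, hb, a, ha, fun e => hab e.symm⟩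
  have hne : p ≠ q := fun e => hp' (e ▸ h.self_mem hp)
  rcases h.act_or hp hq hne ha hb hab with h3 | h3
  · obtain ⟨ρ, hρ⟩ := h.loc_pt hq
    refine h.far_core hp hq hpq hqp hp' hq' hρ ha ?_
    intro e
    exact h3 ((hρ.ker _).mp e b hb)
  · obtain ⟨ρ, hρ⟩ := h.loc_pt hp
    refine h.far_core hq hp hqp hpq hq' hp' hρ hb ?_
    intro e
    exact h3 ((hρ.ker _).mp e a ha)

theorem walk_of_mem_normalizer (h : Gam V z) {g : G} (hg : g ∈ normalizer (V : Set G)) :
    Walk V 1 z (g * z * g⁻¹) := by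
  rw [walk_one]
  by_cases e : z = g * z * g⁻¹
  · exact Or.inl e
  · exact Or.inr ⟨h.z_ne, conj_ne_one h.z_ne, e, V, ⟨⟨1, (cj_one V).symm⟩, h.z_mem⟩,
      (mem_normalizer_iff.mp hg z).mp h.z_mem⟩

/-- some `ws V x`, `ws V y` do not commute -/
theorem exists_walk (h : Gam V z) : ∃ m, ∃ x y, Pt z x ∧ Walk V m x y ∧ ∃ a ∈ ws V x, ∃ b ∈ ws V y,
    a * b ≠ b * a := by
  by_contra hex
  push Not at hex
  -- the group generated by all `ws V w`, `w` connected with `z`
  let S : Set (Subgroup G) := {U | ∃ m w, Walk V m z w ∧ U = ws V w}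
  let U : Subgroup G := sSup S
  have hle : ∀ {m w}, Walk V m z w → ws V w ≤ U := fun {m w} hw => le_sSup ⟨m, w, hw, rfl⟩
  have hUle : ∀ {K : Subgroup G}, (∀ m w, Walk V m z w → ws V w ≤ K) → U ≤ K := fun {K} hK =>
    sSup_le (by rintro _ ⟨m, w, hw, rfl⟩; exact hK m w hw)
  have hpt : ∀ {m w}, Walk V m z w → Pt z w := fun {m w} hw => h.walk_pt (Pt.refl z) hw
  have hcomm1 : ∀ {m w}, Walk V m z w → U ≤ centralizer (ws V w : Set G) := by
    intro m w hw
    refine hUle fun m' w' hw' => fun b hb => mem_centralizer_iff.mpr fun a ha => ?_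
    exact hex (m + m') w w' (hpt hw) (hw.symm.trans hw') a ha b hb
  have hcomm : U ≤ centralizer (U : Set G) := by
    rw [Subgroup.le_centralizer_iff]
    exact hUle fun m w hw => by
      rw [Subgroup.le_centralizer_iff]
      exact hcomm1 hw
  have hUU : ∀ a ∈ U, ∀ b ∈ U, a * b = b * a := fun a ha b hb =>
    (mem_centralizer_iff.mp (hcomm hb)) a ha
  let A : Subgroup G :=
    { carrier := {w | w ∈ U ∧ w * w = 1}
      mul_mem' := by
        rintro a b ⟨ha, ha1⟩ ⟨hb, hb1⟩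
        refine ⟨mul_mem ha hb, ?_⟩
        calc a * b * (a * b) = a * (b * a) * b := by group
          _ = (a * a) * (b * b) := by rw [hUU b hb a ha]; group
          _ = 1 := by rw [ha1, hb1, one_mul]
      one_mem' := ⟨one_mem _, one_mul 1⟩
      inv_mem' := by
        rintro a ⟨ha, ha1⟩
        refine ⟨inv_mem ha, ?_⟩
        have : a⁻¹ * a⁻¹ = (a * a)⁻¹ := by group
        rw [this, ha1, inv_one] }
  have hUA : U ≤ A := hUle fun m w hw => fun a ha => ⟨hle hw ha, h.sq_ws (hpt hw) ha⟩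
  have h2 : IsPGroup 2 U := by
    rintro ⟨a, ha⟩
    refine ⟨1, ?_⟩
    ext
    change a ^ 2 ^ 1 = 1
    rw [pow_one, pow_two]
    exact (hUA ha).2
  have hnorm : ∀ g : G, Walk V 1 z (g * z * g⁻¹) → ∀ u ∈ U, g * u * g⁻¹ ∈ U := by
    intro g hg u hu
    have : U ≤ cj g⁻¹ U := hUle fun m w hw => by
      rw [← cj_le_iff, cj_ws]
      exact hle (hg.trans (hw.conj g))
    have h3 := this hu
    rw [mem_cj, inv_inv] at h3
    exact h3
  have hbot := h.core U h2 (le_normalizer_of_forall fun g hg u hu =>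
    hnorm g (h.walk_of_mem_normalizer hg) u hu) (le_normalizer_of_forall fun g hg u hu =>
    hnorm g (by
      have : g * z * g⁻¹ = z := by rw [mem_centralizer_singleton_iff.mp hg]; group
      rw [this]; exact Walk.refl V 1 z) u hu)
  have hzU : z ∈ U := hle (Walk.refl V 0 z) (h.self_mem (Pt.refl z))
  rw [hbot, mem_bot] at hzU
  exact h.z_ne hzU

/-- the critical distance is one -/
theorem exists_noncomm (h : Gam V z) : ∃ x y, Pt z x ∧ y ∈ ws V x ∧ y ≠ 1 ∧ y ≠ x ∧
    ∃ a ∈ ws V x, ∃ b ∈ ws V y, a * b ≠ b * a := by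
  classical
  have hex := h.exists_walk
  have hlt : ∀ x y m, m < Nat.find hex → Pt z x → Walk V m x y → ∀ a ∈ ws V x, ∀ b ∈ ws V y,
      a * b = b * a := by
    intro x y m hm hx hw a ha b hb
    by_contra hab
    exact Nat.find_min hex hm ⟨x, y, hx, hw, a, ha, b, hb, hab⟩
  obtain ⟨x, y, hx, hw, a, ha, b, hb, hab⟩ := Nat.find_spec hex
  by_cases h2 : 2 ≤ Nat.find hex
  · exact (h.not_far h2 hlt hx hw ha hb hab).elim
  · have hw1 : Walk V 1 x y := hw.mono (by omega)
    rcases walk_one.mp hw1 with rfl | hc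
    · exact absurd (h.comm hx ha hb) hab
    · exact ⟨x, y, hx, hc.mem_ws, hc.2.1, hc.2.2.1.symm, a, ha, b, hb, hab⟩

/-- `G` is transitive on ordered pairs of collinear points -/
theorem pair_trans (h : Gam V z) {x u x' u' : G} (hx : Pt z x) (hu : u ∈ ws V x) (hu1 : u ≠ 1)
    (hux : u ≠ x) (hx' : Pt z x') (hu' : u' ∈ ws V x') (hu1' : u' ≠ 1) (hux' : u' ≠ x') :
    ∃ g : G, g * x * g⁻¹ = x' ∧ g * u * g⁻¹ = u' := by
  obtain ⟨k, hk⟩ := hx.symm.trans hx'
  have hku : k * u * k⁻¹ ∈ ws V x' := by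
    rw [hk, ← cj_ws]; exact conj_mem_cj hu
  obtain ⟨c, hc, hcu⟩ := h.trans_ws hx' hku hu' (conj_ne_one hu1) (fun e => hux (conj_inj (e.trans hk)))
    hu1' hux'
  refine ⟨c * k, ?_, ?_⟩
  · calc c * k * x * (c * k)⁻¹ = c * (k * x * k⁻¹) * c⁻¹ := by group
      _ = x' := by rw [← hk, hc, mul_inv_cancel_right]
  · calc c * k * u * (c * k)⁻¹ = c * (k * u * k⁻¹) * c⁻¹ := by group
      _ = u' := hcu

/-- `ws V u` acts nontrivially on `ws V x/⟨x⟩` for all collinear `x ≠ u` -/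
theorem act_ne (h : Gam V z) {x u : G} (hx : Pt z x) (hu : u ∈ ws V x) (hu1 : u ≠ 1) (hux : u ≠ x) :
    ∃ b ∈ ws V u, ∃ w ∈ ws V x, ¬ Cg x (b * w * b⁻¹) w := by
  have key : ∃ x u, Pt z x ∧ u ∈ ws V x ∧ u ≠ 1 ∧ u ≠ x ∧ ∃ b ∈ ws V u, ∃ w ∈ ws V x,
      ¬ Cg x (b * w * b⁻¹) w := by
    obtain ⟨x, y, hx, hy, hy1, hyx, a, ha, b, hb, hab⟩ := h.exists_noncomm
    have hyp := h.pt hx hy hy1
    have hxy : x ∈ ws V y := h.mem_symm hx hy hy1
    rcases h.act_or hx hyp hyx.symm ha hb hab with h3 | h3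
    · exact ⟨y, x, hyp, hxy, h.ne_one hx, hyx.symm, a, ha, b, hb, h3⟩
    · exact ⟨x, y, hx, hy, hy1, hyx, b, hb, a, ha, h3⟩
  obtain ⟨x', u', hx', hu', hu1', hux', b, hb, w, hw, hn⟩ := key
  obtain ⟨g, rfl, rfl⟩ := h.pair_trans hx' hu' hu1' hux' hx hu hu1 hux
  refine ⟨g * b * g⁻¹, ?_, g * w * g⁻¹, ?_, ?_⟩
  · rw [← cj_ws]; exact conj_mem_cj hb
  · rw [← cj_ws]; exact conj_mem_cj hw
  · intro hc
    apply hn
    rw [cg_conj] at hc
    convert hc using 1 <;> group

end Gam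

end Cfsg.Agent.OddCyclic.GamBase

private theorem dce_2bcc63a6a667 : _root_.True := by
  try have : _root_.True := by simp only [_root_.Cfsg.Agent.OddCyclic.GamLoc.Loc.cx.congr_simp]
  exact _root_.True.intro
end
end
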