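import Mathlib
import Cfsg.Agent.OddCyclic.CompStandard
import Cfsg.Agent.OddCyclic.T1SzFacts
import Cfsg.Agent.OddCyclic.ZTSz
import Cfsg.Agent.ThreePrime.SzDataExists
import Cfsg.Agent.Lib.AutSL2
import Cfsg.Agent.OddCyclic.T1SzComp
import Cfsg.Agent.S1162
set_option linter.all false

/-!
# S0342, component type, case E: the facts on `K ≅ Sz(q)` in the ambient group `G`

`M = N(K)`, `Y = C(K)`. `SzB K Q Z H q`: `Q` a Sylow 2-subgroup of `K`, `Z = Z(Q)`, `H` a complement of `Q` in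
`N_K(Q)`. `SzK K q`: all the facts. `szK`: they hold if `K ≅ Sz(q)`.
-/

set_option autoImplicit false

namespace Cfsg.Agent.OddCyclic.CaseESz

open Subgroup
open Cfsg.Agent.LieExceptional.CITDefs
open Cfsg.Agent.OddCyclic.CompStandard
open Cfsg.Agent.LieRecognition Cfsg.Agent.ThreePrime Cfsg.Agent.ThreePrime.SzRel
open Cfsg.Agent.OddCyclic

variable {G : Type*} [Group G]

/-- `Q` a Sylow 2-subgroup of `K ≅ Sz(q)`, `Z = Z(Q)`, `H` a complement of `Q` in `N_K(Q)` -/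
structure SzB (K Q Z H : Subgroup G) (q : ℕ) : Prop where
  leQ : Q ≤ K
  leH : H ≤ K
  leZ : Z ≤ Q
  two : IsPGroup 2 Q
  mem_Z : ∀ x ∈ Q, x ∈ Z ↔ x * x = 1
  central : ∀ z ∈ Z, ∀ x ∈ Q, z * x = x * z
  sq_mem : ∀ x ∈ Q, x * x ∈ Z
  /-- squaring is injective on `Q/Z` -/
  sq_inj : ∀ x ∈ Q, ∀ y ∈ Q, x * x = y * y → x⁻¹ * y ∈ Z
  sq_surj : ∀ z ∈ Z, ∃ x ∈ Q, x * x = z
  cardQ : Nat.card Q = q ^ 2
  cardZ : Nat.card Z = q
  cardH : Nat.card H = q - 1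
  cyc : IsCyclic H
  norm : ∀ h ∈ H, ∀ x ∈ Q, h * x * h⁻¹ ∈ Q
  fpf : ∀ h ∈ H, ∀ x ∈ Q, h * x = x * h → h = 1 ∨ x = 1
  /-- `H` is transitive on `Z#` -/
  trans : ∀ z ∈ Z, ∀ z' ∈ Z, z ≠ 1 → z' ≠ 1 → ∃ h ∈ H, h * z * h⁻¹ = z'
  /-- `H` is transitive on `(Q/Z)#` -/
  trans' : ∀ x ∈ Q, ∀ y ∈ Q, x ∉ Z → y ∉ Z → ∃ h ∈ H, ∃ z ∈ Z, h * x * h⁻¹ = y * z
  /-- centralisers in `Q` of elements outside `Z` are abelian -/
  abel : ∀ u ∈ Q, u ∉ Z → ∀ x ∈ Q, ∀ y ∈ Q, x * u = u * x → y * u = u * y → x * y = y * x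
  /-- `C_Q(u) = ⟨u⟩Z` for `u ∈ Q - Z` -/
  centQ : ∀ u ∈ Q, u ∉ Z → ∀ x ∈ Q, x * u = u * x → x ∈ Z ∨ u⁻¹ * x ∈ Z
  comm : ⁅Q, Q⁆ = Z
  /-- `C_K(x) ≤ Q` for `1 ≠ x ∈ Q` -/
  cent : ∀ x ∈ Q, x ≠ 1 → ∀ k ∈ K, k * x = x * k → k ∈ Q
  /-- `Q` is a TI-subgroup of `K` -/
  ti : ∀ x ∈ Q, x ≠ 1 → ∀ k ∈ K, k * x * k⁻¹ ∈ Q → ∀ y ∈ Q, k * y * k⁻¹ ∈ Q
  /-- `N_K(Q) = QH` -/
  nK : ∀ k ∈ K, (∀ x ∈ Q, k * x * k⁻¹ ∈ Q) → ∃ x ∈ Q, ∃ h ∈ H, k = x * h

/-- all the facts on `K ≅ Sz(q)` -/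
structure SzK (K : Subgroup G) (q : ℕ) : Prop where
  eight : 8 ≤ q
  pow : ∃ m : ℕ, 1 ≤ m ∧ q = 2 ^ (2 * m + 1)
  inf : K ⊓ centralizer (K : Set G) = ⊥
  borel : ∀ Q : Subgroup G, IsSyl2 K Q → ∃ Z H : Subgroup G, SzB K Q Z H q
  /-- 2-elements of `M` lie in `KY` -/
  inner : ∀ x ∈ normalizer (K : Set G), (∃ n : ℕ, x ^ 2 ^ n = 1) →
    x ∈ K ⊔ centralizer (K : Set G)
  /-- `C_M(Z) = Y Q` -/
  centZ : ∀ Q Z H : Subgroup G, IsSyl2 K Q → SzB K Q Z H q → ∀ x ∈ normalizer (K : Set G),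
    (∀ z ∈ Z, x * z = z * x) → ∃ y ∈ centralizer (K : Set G), ∃ u ∈ Q, x = y * u
  card : Nat.card K = (q ^ 2 + 1) * q ^ 2 * (q - 1)
  three : ¬ 3 ∣ Nat.card K
  five : 5 ∣ Nat.card K
  sylow : ∀ Q Q' : Subgroup G, IsSyl2 K Q → IsSyl2 K Q' → Q ≠ Q' → Q ⊓ Q' = ⊥ ∧ Q ⊔ Q' = K

section rel

variable {K : Subgroup G} {F : Type*} [Field F]

/-- the subgroup of `G` given by a subgroup of `K` -/
theorem mem_map_subtype {A : Subgroup K} {x : G} : x ∈ A.map K.subtype ↔ ∃ h : x ∈ K, ⟨x, h⟩ ∈ A := by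
  rw [Subgroup.mem_map]
  constructor
  · rintro ⟨k, hk, rfl⟩
    exact ⟨k.2, hk⟩
  · rintro ⟨h, hx⟩
    exact ⟨⟨x, h⟩, hx, rfl⟩

/-- the central subgroup of `R.T` -/
def cen {J : Type*} [Group J] (R : SzRel.Rel J F) : Subgroup J where
  carrier := {g | ∃ b : F, g = R.u 0 b}
  mul_mem' := by
    rintro _ _ ⟨b, rfl⟩ ⟨c, rfl⟩
    exact ⟨b + c, by rw [R.u_mul]; congr 1 <;> simp⟩
  one_mem' := ⟨0, R.u_zero.symm⟩
  inv_mem' := by
    rintro _ ⟨b, rfl⟩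
    exact ⟨b, by rw [R.u_inv]; congr 1; simp⟩

theorem mem_cen {J : Type*} [Group J] (R : SzRel.Rel J F) {g : J} : g ∈ cen R ↔ ∃ b : F, g = R.u 0 b := Iff.rfl

theorem mul_theta_inj {J : Type*} [Group J] [Finite F] (R : SzRel.Rel J F) {a c : F}
    (h : a * R.θ a = c * R.θ c) : a = c := by
  by_cases ha : a = 0
  · rw [ha, zero_mul] at h
    rcases mul_eq_zero.mp h.symm with h1 | h1
    · rw [ha, h1]
    · rw [ha, (map_eq_zero R.θ).mp h1]
  · have hc : c ≠ 0 := by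
      rintro rfl
      rw [zero_mul] at h
      rcases mul_eq_zero.mp h with h1 | h1
      · exact ha h1
      · exact ha ((map_eq_zero R.θ).mp h1)
    let f : Fˣ → Fˣ := fun k => k * Units.map (R.θ : F →* F) k
    have hf : Function.Surjective f := by
      intro x
      obtain ⟨k, hk⟩ := R.exists_mul_theta x
      exact ⟨k, Units.ext hk⟩
    have hi : Function.Injective f := Finite.injective_iff_surjective.mpr hf
    have h1 : f (Units.mk0 a ha) = f (Units.mk0 c hc) := Units.ext h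
    exact congrArg Units.val (hi h1)

/-- the torus as a homomorphism -/
def dHom {J : Type*} [Group J] (R : SzRel.Rel J F) : Fˣ →* J where
  toFun := R.d
  map_one' := R.d_one
  map_mul' k l := (R.d_mul k l).symm

theorem dHom_injective {J : Type*} [Group J] (R : SzRel.Rel J F) : Function.Injective (dHom R) :=
  fun _ _ h => R.d_inj h

theorem dHom_range {J : Type*} [Group J] (R : SzRel.Rel J F) : (dHom R).range = R.D := by
  ext x
  constructor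
  · rintro ⟨k, rfl⟩
    exact R.d_mem k
  · rintro ⟨k, rfl⟩
    exact ⟨k, rfl⟩

theorem cen_eq {J : Type*} [Group J] [Finite F] (R : SzRel.Rel J F) (h8 : 8 ≤ Nat.card F) :
    cen R = R.T ⊓ Subgroup.centralizer (R.T : Set J) := by
  ext x
  rw [R.mem_center_iff h8]
  exact Iff.rfl

theorem szB_of_rel [Finite F] [Finite K] (R : SzRel.Rel K F) {m : ℕ}
    (hm : 1 ≤ m) (hF : Nat.card F = 2 ^ (2 * m + 1)) :
    SzB K (R.T.map K.subtype) ((cen R).map K.subtype) (R.D.map K.subtype) (Nat.card F) := by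
  have := Fintype.ofFinite F
  have hF' : Fintype.card F = 2 ^ (2 * m + 1) := by rw [← Nat.card_eq_fintype_card, hF]
  have h8 : 8 ≤ Nat.card F := by
    rw [Nat.card_eq_fintype_card, hF']
    exact SzRel.Rel.eight_le hm
  have hcoe : ∀ x y : K, ((x * y : K) : G) = (x : G) * y := fun _ _ => rfl
  have hinvc : ∀ x : K, ((x⁻¹ : K) : G) = (x : G)⁻¹ := fun _ => rfl
  have htr : ∀ (x y : K), x ∈ R.T → y ∈ R.T → x * x ≠ 1 → y * y ≠ 1 →
      ∃ h ∈ R.D, ∃ z ∈ cen R, h * x * h⁻¹ = y * z := by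
    rintro _ _ ⟨a, b, rfl⟩ ⟨c, e, rfl⟩ hx hy
    have ha : a ≠ 0 := fun h => hx ((R.u_sq_iff a b).mpr h)
    have hc : c ≠ 0 := fun h => hy ((R.u_sq_iff c e).mpr h)
    obtain ⟨k, hk⟩ := R.exists_sq_div (Units.mk0 (c / a) (div_ne_zero hc ha))
    refine ⟨R.d k, R.d_mem k, R.u 0 (b * R.θ k - e), ⟨_, rfl⟩, ?_⟩
    rw [R.conj_d, R.u_mul]
    congr 1
    · rw [add_zero, mul_assoc, hk, Units.val_mk0]
      field_simp
    · rw [map_zero, mul_zero]; ring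
  refine
    { leQ := map_subtype_le _
      leH := map_subtype_le _
      leZ := Subgroup.map_mono ?_
      two := R.isPGroup.map _
      mem_Z := ?_
      central := ?_
      sq_mem := ?_
      sq_inj := ?_
      sq_surj := ?_
      cardQ := ?_
      cardZ := ?_
      cardH := ?_
      cyc := ?_
      norm := ?_
      fpf := ?_
      trans := ?_
      trans' := ?_
      abel := ?_
      centQ := ?_
      comm := ?_
      cent := ?_
      ti := ?_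
      nK := ?_ }
  · rintro _ ⟨b, rfl⟩
    exact R.u_mem 0 b
  · rintro _ ⟨x, ⟨a, b, rfl⟩, rfl⟩
    constructor
    · rintro ⟨y, ⟨c, rfl⟩, hy⟩
      have h1 : R.u a b = R.u 0 c := K.subtype_injective hy.symm
      rw [h1]
      have h2 : R.u 0 c * R.u 0 c = 1 := (R.u_sq_iff 0 c).mpr rfl
      exact congrArg K.subtype h2
    · intro h
      have h1 : R.u a b * R.u a b = 1 := K.subtype_injective h
      rw [(R.u_sq_iff a b).mp h1]
      exact ⟨R.u 0 b, ⟨b, rfl⟩, rfl⟩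
  · rintro _ ⟨x, ⟨b, rfl⟩, rfl⟩ _ ⟨y, ⟨c, e, rfl⟩, rfl⟩
    have h1 : R.u 0 b * R.u c e = R.u c e * R.u 0 b := by
      rw [R.comm_iff, zero_mul, map_zero, mul_zero]
    exact congrArg K.subtype h1
  · rintro _ ⟨x, ⟨a, b, rfl⟩, rfl⟩
    exact ⟨R.u a b * R.u a b, ⟨_, R.u_mul_self a b⟩, rfl⟩
  · rintro _ ⟨x, ⟨a, b, rfl⟩, rfl⟩ _ ⟨y, ⟨c, e, rfl⟩, rfl⟩ h
    have h1 : R.u a b * R.u a b = R.u c e * R.u c e := K.subtype_injective h
    rw [R.u_mul_self, R.u_mul_self] at h1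
    have h2 := (R.u_inj h1).2
    have h3 : a = c := mul_theta_inj R h2
    refine ⟨(R.u a b)⁻¹ * R.u c e, ?_, rfl⟩
    rw [h3, R.u_inv, R.u_mul]
    exact ⟨_, by rw [R.add_self]⟩
  · rintro _ ⟨x, ⟨b, rfl⟩, rfl⟩
    by_cases hb : b = 0
    · subst hb
      refine ⟨1, one_mem _, ?_⟩
      rw [mul_one, R.u_zero]
      rfl
    · obtain ⟨k, hk⟩ := R.exists_mul_theta (Units.mk0 b hb)
      refine ⟨R.u k 0, ⟨R.u k 0, R.u_mem _ _, rfl⟩, ?_⟩
      have h1 : R.u (k : F) 0 * R.u (k : F) 0 = R.u 0 b := by rw [R.u_mul_self, hk, Units.val_mk0]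
      exact congrArg K.subtype h1
  · rw [Subgroup.card_map_of_injective K.subtype_injective, T1SzFacts.card_T]
  · rw [Subgroup.card_map_of_injective K.subtype_injective, cen_eq R h8, T1SzFacts.card_Z R h8]
  · rw [Subgroup.card_map_of_injective K.subtype_injective, ← dHom_range,
      ← Nat.card_congr (MonoidHom.ofInjective (dHom_injective R)).toEquiv]
    classical
    rw [Nat.card_eq_fintype_card, Fintype.card_units, Nat.card_eq_fintype_card]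
  · rw [← dHom_range, ← MonoidHom.range_comp]
    exact isCyclic_of_surjective _ (MonoidHom.rangeRestrict_surjective _)
  · rintro _ ⟨x, hx, rfl⟩ _ ⟨y, hy, rfl⟩
    have h1 := R.D_le hx
    exact ⟨x * y * x⁻¹, (mem_normalizer_iff.mp h1 y).mp hy, rfl⟩
  · rintro _ ⟨x, hx, rfl⟩ _ ⟨y, hy, rfl⟩ h
    have h1 : x * y = y * x := K.subtype_injective h
    rcases R.fpf' x hx y hy (by rw [h1, mul_inv_cancel_right]) with h2 | h2
    · exact Or.inl (by rw [h2]; rfl)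
    · exact Or.inr (by rw [h2]; rfl)
  · rintro _ ⟨x, ⟨b, rfl⟩, rfl⟩ _ ⟨y, ⟨c, rfl⟩, rfl⟩ h1 h2
    obtain ⟨d, hd, hdx⟩ := R.trans (R.u 0 b) (R.u_mem 0 b) (R.u 0 c) (R.u_mem 0 c)
      (fun h => h1 (congrArg K.subtype h)) (fun h => h2 (congrArg K.subtype h))
      ((R.u_sq_iff 0 b).mpr rfl) ((R.u_sq_iff 0 c).mpr rfl)
    exact ⟨d, ⟨d, hd, rfl⟩, congrArg K.subtype hdx⟩
  · rintro _ ⟨x, hx, rfl⟩ _ ⟨y, hy, rfl⟩ h1 h2
    have key : ∀ x ∈ R.T, K.subtype x ∉ (cen R).map K.subtype → x * x ≠ 1 := by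
      rintro _ ⟨a, b, rfl⟩ h h3
      rw [R.u_sq_iff] at h3
      exact h ⟨R.u 0 b, ⟨b, rfl⟩, by rw [h3]⟩
    obtain ⟨h, hh, z, hz, hxz⟩ := htr x y hx hy (key x hx h1) (key y hy h2)
    exact ⟨h, ⟨h, hh, rfl⟩, z, ⟨z, hz, rfl⟩, congrArg K.subtype hxz⟩
  · rintro _ ⟨v, hv, rfl⟩ hvZ _ ⟨x, hx, rfl⟩ _ ⟨y, hy, rfl⟩ h1 h2
    have hv2 : v * v ≠ 1 := by
      obtain ⟨a, b, rfl⟩ := hv
      intro h3
      rw [R.u_sq_iff] at h3
      exact hvZ ⟨R.u 0 b, ⟨b, rfl⟩, by rw [h3]⟩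
    exact congrArg K.subtype (R.abel v hv hv2 x hx y hy (K.subtype_injective h1)
      (K.subtype_injective h2))
  · rintro _ ⟨v, ⟨a, b, rfl⟩, rfl⟩ hvZ _ ⟨x, ⟨c, e, rfl⟩, rfl⟩ h1
    have h2 : R.u c e * R.u a b = R.u a b * R.u c e := K.subtype_injective h1
    rw [R.comm_iff] at h2
    have ha : a ≠ 0 := fun h => hvZ ⟨R.u 0 b, ⟨b, rfl⟩, by rw [h]⟩
    have ha' : R.θ a ≠ 0 := fun h => ha ((map_eq_zero R.θ).mp h)
    rcases R.fix_theta (x := c / a) (by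
      rw [map_div₀, div_eq_div_iff ha' ha, mul_comm, ← h2]) with h3 | h3
    · left
      rw [div_eq_zero_iff, or_iff_left ha] at h3
      exact ⟨R.u 0 e, ⟨e, rfl⟩, by rw [h3]⟩
    · right
      rw [div_eq_one_iff_eq ha] at h3
      refine ⟨(R.u a b)⁻¹ * R.u c e, ?_, rfl⟩
      rw [h3, R.u_inv, R.u_mul]
      exact ⟨_, by rw [R.add_self]⟩
  · rw [← Subgroup.map_commutator, R.comm_eq h8, ← cen_eq R h8]
  · rintro _ ⟨x, hx, rfl⟩ hx1 k hk h
    have h1 : (⟨k, hk⟩ : K) * x * (⟨k, hk⟩ : K)⁻¹ = x := by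
      apply Subtype.ext
      change k * (x : G) * k⁻¹ = x
      rw [show k * (x : G) = x * k from h, mul_inv_cancel_right]
    have hx1' : x ≠ 1 := fun h' => hx1 (by rw [h']; rfl)
    obtain ⟨a, b, l, hkl⟩ := R.exists_ud hx hx1' (by rw [h1]; exact hx)
    rw [hkl] at h1
    -- `l = 1`
    have hl : l = 1 := by
      obtain ⟨c, e, rfl⟩ := hx
      have h2 : R.u a b * R.d l * R.u c e * (R.u a b * R.d l)⁻¹ =
          R.u a b * (R.d l * R.u c e * (R.d l)⁻¹) * (R.u a b)⁻¹ := by group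
      rw [h2, R.conj_d, R.conj_u] at h1
      obtain ⟨h3, h4⟩ := R.u_inj h1
      rcases R.fpf (k := l) (a := c) (b := 0) (by rw [R.conj_d, h3, zero_mul]) with h5 | h5
      · exact h5
      · have hc := h5.1
        rw [hc, zero_mul, zero_mul, map_zero, mul_zero, zero_mul, add_zero, add_zero] at h4
        rcases R.fpf (k := l) (a := 0) (b := e) (by
          rw [R.conj_d, zero_mul, zero_mul, h4]) with h6 | h6
        · exact h6
        · exfalso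
          apply hx1'
          rw [hc, h6.2, R.u_zero]
    refine ⟨⟨k, hk⟩, ?_, rfl⟩
    rw [hkl, hl, R.d_one, mul_one]
    exact R.u_mem a b
  · rintro _ ⟨x, hx, rfl⟩ hx1 k hk h _ ⟨y, hy, rfl⟩
    have hx1' : x ≠ 1 := fun h' => hx1 (by rw [h']; rfl)
    have h1 : (⟨k, hk⟩ : K) * x * (⟨k, hk⟩ : K)⁻¹ ∈ R.T := by
      obtain ⟨z, hz, hzx⟩ := h
      have h2 : (⟨k, hk⟩ : K) * x * (⟨k, hk⟩ : K)⁻¹ = z := Subtype.ext hzx.symm
      rw [h2]; exact hz
    have h2 := R.ti hx hx1' h1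
    exact ⟨_, (mem_normalizer_iff.mp h2 y).mp hy, rfl⟩
  · intro k hk h
    have h1 : (⟨k, hk⟩ : K) * R.u 0 1 * (⟨k, hk⟩ : K)⁻¹ ∈ R.T := by
      obtain ⟨z, hz, hzx⟩ := h _ ⟨R.u 0 1, R.u_mem 0 1, rfl⟩
      have h2 : (⟨k, hk⟩ : K) * R.u 0 1 * (⟨k, hk⟩ : K)⁻¹ = z := Subtype.ext hzx.symm
      rw [h2]; exact hz
    obtain ⟨a, b, l, hkl⟩ := R.exists_ud (R.u_mem 0 1) (R.u_ne_one one_ne_zero) h1
    exact ⟨_, ⟨R.u a b, R.u_mem a b, rfl⟩, _, ⟨R.d l, R.d_mem l, rfl⟩, congrArg K.subtype hkl⟩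

end rel

section main

variable [Finite G] {K : Subgroup G}

omit [Finite G] in
/-- a subgroup of `K` as a Sylow subgroup -/
theorem exists_sylow {K Q : Subgroup G} (hQ : IsSyl2 K Q) :
    ∃ P : Sylow 2 K, Q = (P : Subgroup K).map K.subtype := by
  have h1 : IsPGroup 2 (Q.subgroupOf K) := hQ.two.comap_of_injective K.subtype K.subtype_injective
  obtain ⟨P, hP⟩ := h1.exists_le_sylow
  refine ⟨P, ?_⟩
  refine (hQ.max _ (map_subtype_le _) (P.isPGroup'.map _) ?_).symm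
  intro x hx
  exact ⟨⟨x, hQ.le hx⟩, hP hx, rfl⟩

/-- the Suzuki relations adapted to a Sylow subgroup -/
theorem exists_rel_eq {J : Type*} [Group J] [Finite J] (h : Cfsg.Lie.IsoSuzuki J) (P : Sylow 2 J) :
    ∃ (F : Type) (_ : Field F) (_ : Fintype F) (m : ℕ) (R : SzRel.Rel J F), 1 ≤ m ∧
      Fintype.card F = 2 ^ (2 * m + 1) ∧ R.T = (P : Subgroup J) := by
  have : Fact (Nat.Prime 2) := ⟨Nat.prime_two⟩
  obtain ⟨F, iF, iF', m, hm, hF, ⟨R₀⟩⟩ := exists_rel h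
  obtain ⟨P₀, hP₀⟩ := R₀.exists_sylow_eq hm hF
  obtain ⟨g, hg⟩ := MulAction.exists_smul_eq J P₀ P
  let R : SzRel.Rel J F := R₀.map (MulAut.conj g)
  have hT : R.T = (P : Subgroup J) := by
    rw [← hg]
    ext x
    rw [Sylow.coe_subgroup_smul, Subgroup.mem_pointwise_smul_iff_inv_smul_mem, hP₀]
    constructor
    · rintro ⟨a, b, rfl⟩
      refine ⟨a, b, ?_⟩
      show (MulAut.conj g)⁻¹ (MulAut.conj g (R₀.u a b)) = _
      rw [MulAut.inv_apply_self]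
    · rintro ⟨a, b, hx⟩
      refine ⟨a, b, ?_⟩
      show x = MulAut.conj g (R₀.u a b)
      rw [← hx]
      show x = MulAut.conj g ((MulAut.conj g)⁻¹ x)
      rw [MulAut.apply_inv_self]
  exact ⟨F, iF, iF', m, R, hm, hF, hT⟩

omit [Finite G] in
theorem mem_sup_iff (x : G) : x ∈ K ⊔ centralizer (K : Set G) ↔
    ∃ k ∈ K, ∃ c ∈ centralizer (K : Set G), x = k * c := by
  constructor
  · intro hx
    rw [← SetLike.mem_coe, Subgroup.coe_mul_of_right_le_normalizer_left] at hx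
    · obtain ⟨k, hk, c, hc, rfl⟩ := hx
      exact ⟨k, hk, c, hc, rfl⟩
    · exact Subgroup.centralizer_le_normalizer _
  · rintro ⟨k, hk, c, hc, rfl⟩
    exact mul_mem (mem_sup_left hk) (mem_sup_right hc)

omit [Finite G] in
theorem normHom_apply (x : normalizer (K : Set G)) (k : K) :
    ((K.normalizerMonoidHom x k : K) : G) = x.1 * k.1 * x.1⁻¹ := rfl

omit [Finite G] in
/-- an element acting as `conj j` -/
theorem eq_mul_of_conj {x : normalizer (K : Set G)} {j : K}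
    (h : K.normalizerMonoidHom x = MulAut.conj j) : ∃ c ∈ centralizer (K : Set G), x.1 = j.1 * c := by
  refine ⟨j.1⁻¹ * x.1, ?_, by group⟩
  rw [mem_centralizer_iff]
  intro k hk
  have h1 : K.normalizerMonoidHom x ⟨k, hk⟩ = j * ⟨k, hk⟩ * j⁻¹ := by rw [h]; rfl
  have h2 : x.1 * k * x.1⁻¹ = j.1 * k * j.1⁻¹ := congrArg Subtype.val h1
  calc k * (j.1⁻¹ * x.1) = j.1⁻¹ * (j.1 * k * j.1⁻¹) * x.1 := by group
    _ = j.1⁻¹ * (x.1 * k * x.1⁻¹) * x.1 := by rw [h2]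
    _ = j.1⁻¹ * x.1 * k := by group

theorem inner (h : Cfsg.Lie.IsoSuzuki K) {x : G} (hx : x ∈ normalizer (K : Set G))
    (h2 : ∃ n : ℕ, x ^ 2 ^ n = 1) : x ∈ K ⊔ centralizer (K : Set G) := by
  have : Fact (Nat.Prime 2) := ⟨Nat.prime_two⟩
  obtain ⟨P⟩ : Nonempty (Sylow 2 K) := inferInstance
  obtain ⟨D, hD⟩ := exists_szData h P
  obtain ⟨n, hn⟩ := h2
  obtain ⟨j, hj⟩ := hD.inner (K.normalizerMonoidHom ⟨x, hx⟩) ⟨n, by
    rw [← map_pow]
    have : (⟨x, hx⟩ : normalizer (K : Set G)) ^ 2 ^ n = 1 := Subtype.ext hn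
    rw [this, map_one]⟩
  obtain ⟨c, hc, h1⟩ := eq_mul_of_conj hj
  exact (mem_sup_iff x).mpr ⟨j.1, j.2, c, hc, h1⟩

/-- `C_M(Z) = Y Q` -/
theorem centZ (h : Cfsg.Lie.IsoSuzuki K) {Q Z H : Subgroup G} {q : ℕ} (h8 : 8 ≤ q) (hQ : IsSyl2 K Q)
    (hB : SzB K Q Z H q) {x : G} (hx : x ∈ normalizer (K : Set G)) (hc : ∀ z ∈ Z, x * z = z * x) :
    ∃ y ∈ centralizer (K : Set G), ∃ u ∈ Q, x = y * u := by
  have : Fact (Nat.Prime 2) := ⟨Nat.prime_two⟩
  obtain ⟨P, hP⟩ := exists_sylow hQ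
  obtain ⟨D, hD⟩ := exists_szData h P
  obtain ⟨X, hX⟩ : ∃ X : normalizer (K : Set G), X = ⟨x, hx⟩ := ⟨_, rfl⟩
  obtain ⟨φ, hφ⟩ : ∃ φ, φ = K.normalizerMonoidHom X := ⟨_, rfl⟩
  have hφa : ∀ k : K, ((φ k : K) : G) = x * k * x⁻¹ := by
    intro k; rw [hφ, hX]; rfl
  -- a nontrivial element of `Z`
  obtain ⟨z, hz, hz1⟩ : ∃ z ∈ Z, z ≠ 1 := by
    by_contra hno
    push Not at hno
    have h1 : Z = ⊥ := (Subgroup.eq_bot_iff_forall Z).mpr hno
    have h2 := hB.cardZ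
    rw [h1, Subgroup.card_bot] at h2
    omega
  have hmemQ : ∀ k : K, (k : G) ∈ Q ↔ k ∈ P := by
    intro k
    rw [hP, mem_map_subtype]
    exact ⟨fun ⟨_, h⟩ => h, fun h => ⟨k.2, h⟩⟩
  -- `φ` normalises `P`
  have hφP : ∀ k ∈ P, φ k ∈ P := by
    obtain ⟨g, hg⟩ := MulAction.exists_smul_eq K P (φ • P)
    have hzK : z ∈ K := hB.leQ (hB.leZ hz)
    have hzP : (⟨z, hzK⟩ : K) ∈ P := (hmemQ _).mp (hB.leZ hz)
    have hφz : φ ⟨z, hzK⟩ = ⟨z, hzK⟩ := by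
      apply Subtype.ext
      rw [hφa]
      change x * z * x⁻¹ = z
      rw [hc z hz, mul_inv_cancel_right]
    have h1 : (⟨z, hzK⟩ : K) ∈ φ • P := by
      have h2 := Cfsg.Agent.Lib.AutSL2.mem_aut_smul_sylow P φ hzP
      rwa [hφz] at h2
    rw [← hg, Cfsg.Agent.Lib.AutSL2.mem_smul_sylow] at h1
    have h2 := hD.ti g⁻¹ ⟨z, hzK⟩ hzP (fun h' => hz1 (congrArg Subtype.val h')) (by
      rw [inv_inv]; exact h1)
    have h3 : φ • P = P := by
      rw [← hg]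
      exact Sylow.smul_eq_iff_mem_normalizer.mpr (by
        have := inv_mem h2
        rwa [inv_inv] at this)
    intro k hk
    have h4 := Cfsg.Agent.Lib.AutSL2.mem_aut_smul_sylow P φ hk
    rwa [h3] at h4
  -- `φ` acts trivially on `P/Z`
  have hstep : ∀ k ∈ P, ∃ w ∈ Z, ((φ k : K) : G) = k * w := by
    intro k hk
    have h1 : (k : G) ∈ Q := (hmemQ k).mpr hk
    have h2 : ((φ k : K) : G) ∈ Q := (hmemQ _).mpr (hφP k hk)
    have h3 : ((φ k : K) : G) * (φ k : K) = (k : G) * k := by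
      have h4 := hc _ (hB.sq_mem _ h1)
      rw [hφa]
      calc x * (k : G) * x⁻¹ * (x * k * x⁻¹) = x * (k * k) * x⁻¹ := by group
        _ = (k : G) * k := by rw [h4, mul_inv_cancel_right]
    refine ⟨(k : G)⁻¹ * (φ k : K), hB.sq_inj _ h1 _ h2 h3.symm, by group⟩
  have hφZ : ∀ w ∈ Z, ∀ hw : w ∈ K, φ ⟨w, hw⟩ = ⟨w, hw⟩ := by
    intro w hw hwK
    apply Subtype.ext
    rw [hφa]
    change x * w * x⁻¹ = w
    rw [hc w hw, mul_inv_cancel_right]
  -- the order of `φ` is a power of two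
  have hφ2 : ∃ n : ℕ, φ ^ 2 ^ n = 1 := by
    obtain ⟨a, m, hm, ham⟩ := Nat.exists_eq_pow_mul_and_not_dvd (orderOf_pos φ).ne' 2 (by norm_num)
    refine ⟨a, ?_⟩
    have hodd : Odd m := Nat.odd_iff.mpr (by omega)
    -- `ψ = φ ^ 2 ^ a` has odd order and fixes `P`
    have hψP : ∀ (n : ℕ), ∀ k ∈ P, ∃ w ∈ Z, (((φ ^ n) k : K) : G) = k * w ∧ (φ ^ n) k ∈ P := by
      intro n
      induction n with
      | zero =>
        intro k hk
        refine ⟨1, one_mem _, ?_, ?_⟩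
        · rw [pow_zero, mul_one]; rfl
        · rw [pow_zero]; exact hk
      | succ n ih =>
        intro k hk
        obtain ⟨w, hw, h1, h2⟩ := ih k hk
        obtain ⟨w', hw', h3⟩ := hstep _ h2
        refine ⟨w * w', mul_mem hw hw', ?_, ?_⟩
        · rw [pow_succ', MulAut.mul_apply, h3, h1, mul_assoc]
        · rw [pow_succ', MulAut.mul_apply]
          exact hφP _ h2
    have hψZ : ∀ (n : ℕ), ∀ w ∈ Z, ∀ hw : w ∈ K, (φ ^ n) ⟨w, hw⟩ = ⟨w, hw⟩ := by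
      intro n
      induction n with
      | zero => intro w _ hwK; rw [pow_zero]; rfl
      | succ n ih => intro w hw hwK; rw [pow_succ, MulAut.mul_apply, hφZ w hw hwK, ih w hw hwK]
    apply hD.cent (φ ^ 2 ^ a)
    · have h1 : (φ ^ 2 ^ a) ^ m = 1 := by rw [← pow_mul, ← ham, pow_orderOf_eq_one]
      exact Odd.of_dvd_nat hodd (orderOf_dvd_of_pow_eq_one h1)
    · intro k hk
      obtain ⟨ψ, hψ⟩ : ∃ ψ, ψ = φ ^ 2 ^ a := ⟨_, rfl⟩
      rw [← hψ]
      have hψm : ψ ^ m = 1 := by rw [hψ, ← pow_mul, ← ham, pow_orderOf_eq_one]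
      obtain ⟨w, hw, h1, -⟩ := hψP (2 ^ a) k hk
      rw [← hψ] at h1
      have hwK : w ∈ K := hB.leQ (hB.leZ hw)
      have hψw : ψ ⟨w, hwK⟩ = ⟨w, hwK⟩ := by rw [hψ]; exact hψZ _ w hw hwK
      have h2 : ∀ n : ℕ, (ψ ^ n) k = k * ⟨w, hwK⟩ ^ n := by
        intro n
        induction n with
        | zero => rw [pow_zero, pow_zero, mul_one]; rfl
        | succ n ih =>
          have h3 : ψ k = k * ⟨w, hwK⟩ := Subtype.ext h1
          rw [pow_succ', MulAut.mul_apply, ih, map_mul, map_pow, hψw, h3, pow_succ', mul_assoc]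
      have h3 := h2 m
      rw [hψm] at h3
      have h4 : (⟨w, hwK⟩ : K) ^ m = 1 := by
        have h5 : k = k * ⟨w, hwK⟩ ^ m := h3
        exact (mul_eq_left.mp h5.symm)
      have h5 : (⟨w, hwK⟩ : K) ^ 2 = 1 := by
        apply Subtype.ext
        have h6 := (hB.mem_Z w (hB.leZ hw)).mp hw
        change w ^ 2 = 1
        rw [pow_two, h6]
      have h6 : orderOf (⟨w, hwK⟩ : K) = 1 :=
        Nat.eq_one_of_dvd_coprimes (Nat.coprime_two_left.mpr hodd)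
          (orderOf_dvd_of_pow_eq_one h5) (orderOf_dvd_of_pow_eq_one h4)
      have h7 := h2 1
      rw [orderOf_eq_one_iff.mp h6, pow_one, pow_one, mul_one] at h7
      exact h7
  obtain ⟨j, hj⟩ := hD.inner φ hφ2
  rw [hφ] at hj
  obtain ⟨c, hcc, h1⟩ := eq_mul_of_conj hj
  rw [hX] at h1
  change x = j.1 * c at h1
  refine ⟨c, hcc, j.1, ?_, ?_⟩
  · have hzK : z ∈ K := hB.leQ (hB.leZ hz)
    apply hB.cent z (hB.leZ hz) hz1 j.1 j.2
    have h2 := hc z hz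
    rw [h1] at h2
    have h3 : z * c = c * z := mem_centralizer_iff.mp hcc z hzK
    have h4 : j.1 * z * c = z * j.1 * c := by
      calc j.1 * z * c = j.1 * (z * c) := by group
        _ = j.1 * c * z := by rw [h3]; group
        _ = z * (j.1 * c) := h2
        _ = z * j.1 * c := by group
    exact mul_right_cancel h4
  · rw [h1]
    exact mem_centralizer_iff.mp hcc j.1 j.2

theorem inf_centralizer (h : Cfsg.Lie.IsoSuzuki K) : K ⊓ centralizer (K : Set G) = ⊥ := by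
  have : Fact (Nat.Prime 2) := ⟨Nat.prime_two⟩
  obtain ⟨P⟩ : Nonempty (Sylow 2 K) := inferInstance
  obtain ⟨F, iF, iF', m, R, hm, hF, hT⟩ := exists_rel_eq h P
  have hB := szB_of_rel R hm (by rw [Nat.card_eq_fintype_card, hF])
  rw [eq_bot_iff]
  rintro x ⟨hxK, hx⟩
  -- `x` centralises `Q` and `H`
  have hx' := mem_centralizer_iff.mp hx
  have h8 : 8 ≤ Nat.card F := by
    rw [Nat.card_eq_fintype_card, hF]
    exact SzRel.Rel.eight_le hm
  obtain ⟨y, hy, hy1⟩ : ∃ y ∈ R.T.map K.subtype, y ≠ 1 := by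
    by_contra hno
    push Not at hno
    have h1 : R.T.map K.subtype = ⊥ := (Subgroup.eq_bot_iff_forall _).mpr hno
    have h2 := hB.cardQ
    rw [h1, Subgroup.card_bot] at h2
    nlinarith
  have hxQ : x ∈ R.T.map K.subtype := hB.cent y hy hy1 x hxK (hx' y (hB.leQ hy)).symm
  obtain ⟨d, hd, hd1⟩ : ∃ d ∈ R.D.map K.subtype, d ≠ 1 := by
    by_contra hno
    push Not at hno
    have h1 : R.D.map K.subtype = ⊥ := (Subgroup.eq_bot_iff_forall _).mpr hno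
    have h2 := hB.cardH
    rw [h1, Subgroup.card_bot] at h2
    omega
  rcases hB.fpf d hd x hxQ (hx' d (hB.leH hd)) with h1 | h1
  · exact absurd h1 hd1
  · rw [h1]; exact one_mem _

/-- **Facts on Suzuki groups in the ambient group.** -/
theorem szK (h : Cfsg.Lie.IsoSuzuki K) : ∃ q : ℕ, SzK K q := by
  have h2f : Fact (Nat.Prime 2) := ⟨Nat.prime_two⟩
  obtain ⟨P₀⟩ : Nonempty (Sylow 2 K) := inferInstance
  obtain ⟨F₀, iF₀, iF₀', m₀, R₀, hm₀, hF₀, hT₀⟩ := exists_rel_eq h P₀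
  obtain ⟨m, hm, hZT⟩ := Zass.isZT_suzuki h
  have hcardK := hZT.card
  have hlt : ∀ m : ℕ, 1 ≤ m → 8 ≤ 2 ^ (2 * m + 1) := by
    intro m hm
    calc 8 = 2 ^ 3 := rfl
      _ ≤ 2 ^ (2 * m + 1) := Nat.pow_le_pow_right (by norm_num) (by omega)
  -- the order of a Sylow subgroup determines `q`
  have hq : ∀ (F : Type) (_ : Field F) (_ : Fintype F) (m' : ℕ) (R : SzRel.Rel K F)
      (P : Sylow 2 K), R.T = (P : Subgroup K) → Nat.card F = 2 ^ (2 * m + 1) := by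
    intro F iF iF' m' R P hT
    have h1 := T1SzFacts.card_T R
    rw [hT, hZT.sylow P] at h1
    exact (Nat.pow_left_injective (n := 2) (by norm_num) h1).symm
  refine ⟨2 ^ (2 * m + 1), ?_⟩
  have h8 := hlt m hm
  refine
    { eight := h8
      pow := ⟨m, hm, rfl⟩
      inf := inf_centralizer h
      borel := ?_
      inner := fun x hx h2 => inner h hx h2
      centZ := fun Q Z H hQ hB x hx hc => centZ h h8 hQ hB hx hc
      card := hcardK
      three := ?_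
      five := T1SzComp.five_dvd h
      sylow := ?_ }
  · intro Q hQ
    obtain ⟨P, hP⟩ := exists_sylow hQ
    obtain ⟨F, iF, iF', m', R, hm', hF, hT⟩ := exists_rel_eq h P
    have hcF := hq F iF iF' m' R P hT
    have hB := szB_of_rel R hm' (by rw [Nat.card_eq_fintype_card, hF])
    rw [hcF, hT, ← hP] at hB
    exact ⟨_, _, hB⟩
  · intro h3
    rw [hcardK] at h3
    have h4 : ((2 ^ (2 * m + 1)) ^ 2 + 1) * (2 ^ (2 * m + 1)) ^ 2 * (2 ^ (2 * m + 1) - 1) % 3 = 0 :=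
      Nat.mod_eq_zero_of_dvd h3
    have h5 : 2 ^ (2 * m + 1) % 3 = 2 := by
      rw [pow_succ, pow_mul, Nat.mul_mod, Nat.pow_mod]
      norm_num
    have h6 : (2 ^ (2 * m + 1) - 1) % 3 = 1 := by omega
    rw [Nat.mul_mod, h6, Nat.mul_mod ((2 ^ (2 * m + 1)) ^ 2 + 1), Nat.add_mod,
      Nat.pow_mod (2 ^ (2 * m + 1)) 2, h5] at h4
    norm_num at h4
  · intro Q Q' hQ hQ' hne
    obtain ⟨P, hP⟩ := exists_sylow hQ
    obtain ⟨P', hP'⟩ := exists_sylow hQ'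
    have hPP : P ≠ P' := by
      rintro rfl
      exact hne (by rw [hP, hP'])
    obtain ⟨D, hD⟩ := exists_szData h P
    have hs : IsSimpleGroup K := by
      obtain ⟨F, iF, iF', m', hm', hF, ⟨e⟩⟩ := h
      have := Cfsg.Agent.S1162.result hm' hF
      exact (e.isSimpleGroup_congr).mpr this
    constructor
    · rw [eq_bot_iff]
      rintro x ⟨hx, hx'⟩
      have hx0 : x ∈ (P : Subgroup K).map K.subtype := by rw [← hP]; exact hx
      have hx0' : x ∈ (P' : Subgroup K).map K.subtype := by rw [← hP']; exact hx'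
      obtain ⟨hxK, hx1⟩ := mem_map_subtype.mp hx0
      have hx1' : (⟨x, hxK⟩ : K) ∈ (P' : Subgroup K) := by
        obtain ⟨_, h3⟩ := mem_map_subtype.mp hx0'
        exact h3
      obtain ⟨g, hg⟩ := MulAction.exists_smul_eq K P P'
      rw [Subgroup.mem_bot]
      by_contra hxne
      have h1 : (⟨x, hxK⟩ : K) ∈ g • P := by rw [hg]; exact hx1'
      rw [Cfsg.Agent.Lib.AutSL2.mem_smul_sylow] at h1
      have h2 := hD.ti g⁻¹ ⟨x, hxK⟩ hx1 (fun h' => hxne (congrArg Subtype.val h')) (by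
        rw [inv_inv]; exact h1)
      apply hPP
      rw [← hg]
      exact (Sylow.smul_eq_iff_mem_normalizer.mpr (by
        have := inv_mem h2
        rwa [inv_inv] at this)).symm
    · have h1 := hZT.sup_eq_top hPP
      rw [hP, hP', ← Subgroup.map_sup, h1, ← MonoidHom.range_eq_map, Subgroup.range_subtype]

end main

end Cfsg.Agent.OddCyclic.CaseESz
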