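import Cfsg.Agent.StdAlt.Six.Aut
set_option linter.all false

/-!
# Automorphisms of `A₅` are induced by permutations
-/

set_option autoImplicit false
set_option maxRecDepth 100000

namespace Cfsg.Agent.OddCyclic.EmpFFAlt

open Equiv Equiv.Perm Subgroup
open Cfsg.Agent.StandardComponent.AltAut Cfsg.Agent.SporadicRecognition.AltCover

theorem five_three : ∀ x : Perm (Fin 5), x * x * x = 1 → x ≠ 1 → x.support.card = 3 := by
  decide +kernel

theorem exists_conj (e : MulAut (alternatingGroup (Fin 5))) : ∃ σ : Perm (Fin 5),
    ∀ x : alternatingGroup (Fin 5), (e x : Perm (Fin 5)) = σ * x * σ⁻¹ := by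
  apply Cfsg.Agent.StdAlt.Six.exists_conj_of (m := 3) (by norm_num) e
  intro i hi
  have h1 : ((cy 3 i hi : alternatingGroup (Fin 5)) : Perm (Fin 5)).IsThreeCycle :=
    isThreeCycle_cyc hi
  have h2 : (cy 3 i hi : alternatingGroup (Fin 5)) * cy 3 i hi * cy 3 i hi = 1 := by
    apply Subtype.ext
    have := cube_eq_one h1
    rw [pow_succ, pow_two] at this
    exact this
  have h3 : (cy 3 i hi : alternatingGroup (Fin 5)) ≠ 1 := by
    intro h4
    rw [h4] at h1
    have := h1.card_support
    simp at this
  apply card_support_eq_three_iff.1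
  apply five_three
  · have := congrArg (fun x : alternatingGroup (Fin 5) => (x : Perm (Fin 5))) (congrArg e h2)
    rw [map_mul, map_mul, map_one] at this
    exact this
  · intro h4
    apply h3
    apply e.injective
    rw [map_one]
    exact Subtype.ext h4

end Cfsg.Agent.OddCyclic.EmpFFAlt
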