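import Mathlib
import Cfsg.Agent.OddCyclic.T1Defs
import Cfsg.Agent.ThreePrime.SzDataExists
import Cfsg.Agent.S0044
import Cfsg.Agent.Lib.Cores
import Cfsg.Agent.FastGrp
import Cfsg.Agent.Prune
set_option linter.all false
prune_inst 0x7f00000000000000000000000000000000000000000000000000000000000000000000000000000000000000000000000000000000000000000000000000000000000000000000000000000000000000003fffffffffffffffffffffffffffbeffbdffffffff
open scoped Cfsg.Agent.FastGrp

/-!
# T1-F1 (1.2 of blueprints/S0342-T0eq1.md): normal `3'`-subgroups are odd and centralised by the elements of order 3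

`solvable`: a normal `3'`-subgroup of a group with elements of order 3, cyclic odd Sylow subgroups, sections in `K1` and
no elements of order 6 is solvable. `commute_of_abelian`: an element of order 3 centralises the abelian subgroups of odd
order it normalises. `core_centralised`: F1.
-/

set_option autoImplicit false

open scoped commutatorElement

namespace Cfsg.Agent.OddCyclic.T1Core

open Cfsg.Agent.OddCyclic.T1Defs

/-! ### `3` divides the order of `PSL₂` -/

theorem three_dvd_psl {F : Type*} [Field F] [Fintype F] :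
    3 ∣ Nat.card (Matrix.ProjectiveSpecialLinearGroup (Fin 2) F) := by
  classical
  let M : Matrix (Fin 2) (Fin 2) F := !![0, 1; -1, -1]
  have hM : M.det = 1 := by simp [M, Matrix.det_fin_two]
  let g : Matrix.SpecialLinearGroup (Fin 2) F := ⟨M, hM⟩
  have hg3 : g ^ 3 = 1 := by
    apply Subtype.ext
    rw [Matrix.SpecialLinearGroup.coe_pow]
    show M ^ 3 = 1
    rw [pow_succ, pow_two]
    ext i j
    (revert i j; simp only [M, Matrix.mul_apply, Fin.sum_univ_two, _root_.Fin.forall_fin_succ, _root_.Matrix.cons_mul, _root_.Nat.succ_eq_add_one, Nat.reduceAdd, _root_.Matrix.vecMul_cons, _root_.Matrix.head_cons, _root_.zero_smul, _root_.Matrix.tail_cons, _root_.one_smul, _root_.Matrix.empty_vecMul, _root_.add_zero, _root_.zero_add, _root_.neg_smul, _root_.Matrix.neg_cons, _root_.neg_zero, _root_.Matrix.neg_empty, _root_.neg_neg, _root_.Matrix.add_cons, _root_.neg_add_cancel, _root_.Matrix.empty_add_empty, _root_.Matrix.empty_mul, _root_.Equiv.symm_apply_apply,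 _root_.Matrix.of_apply, _root_.Matrix.cons_val', _root_.Matrix.cons_val_fin_one, Fin.isValue, _root_.Matrix.cons_val_zero, _root_.Matrix.cons_val_one, _root_.MulZeroClass.mul_zero, _root_.mul_neg, _root_.mul_one, _root_.Matrix.cons_val_succ, _root_.IsEmpty.forall_iff, _root_.and_true, _root_.Matrix.one_apply_eq, _root_.Fin.succ_zero_eq_one, _root_.ne_eq, _root_.zero_ne_one, _root_.not_false_eq_true, _root_.Matrix.one_apply_ne, _root_.and_self, _root_.Fin.succ_ne_zero, _root_.true_and])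
  have hg : g ∉ Subgroup.center (Matrix.SpecialLinearGroup (Fin 2) F) := by
    intro h
    rw [Matrix.SpecialLinearGroup.mem_center_iff] at h
    obtain ⟨r, -, hr⟩ := h
    have := congrFun (congrFun hr 0) 1
    simp [g, M, Matrix.scalar_apply] at this
  have h1 : orderOf (QuotientGroup.mk' (Subgroup.center (Matrix.SpecialLinearGroup (Fin 2) F)) g) = 3 := by
    apply orderOf_eq_prime
    · rw [← map_pow, hg3, map_one]
    · intro h
      exact hg ((QuotientGroup.eq_one_iff g).mp h)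
  rw [← h1]
  exact orderOf_dvd_natCard (G := Matrix.ProjectiveSpecialLinearGroup (Fin 2) F) _

theorem isoSuzuki_of_K1 {K : Type*} [Group K] [Finite K] (h : K1 K) (h3 : ¬ 3 ∣ Nat.card K) :
    Cfsg.Lie.IsoSuzuki K := by
  rcases h with ⟨F, iF, iF', -, -, ⟨e⟩⟩ | ⟨F, iF, iF', f, -, -, ⟨e⟩⟩ | h | ⟨g, hg⟩
  · exact absurd (by rw [Nat.card_congr e.toEquiv]; exact three_dvd_psl) h3
  · exact absurd (by rw [Nat.card_congr e.toEquiv]; exact three_dvd_psl) h3
  · exact h
  · exfalso
    apply h3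
    have h1 := orderOf_dvd_natCard g
    rw [hg] at h1
    exact (by norm_num : 3 ∣ 6).trans h1

/-! ### the lifting lemma -/

/-- An element of order dividing 3 acting on a coset `tK`. -/
theorem exists_six {H : Type*} [Group H] [Finite H] {K : Subgroup H} (h3 : ¬ 3 ∣ Nat.card K) {x t : H}
    (hx : x ^ 3 = 1) (hn : ∀ k ∈ K, x * k * x⁻¹ ∈ K) (ht : t ∉ K) (htt : t * t ∈ K)
    (hnt : ∀ k ∈ K, t⁻¹ * k * t ∈ K)
    (hxt : t⁻¹ * (x * t * x⁻¹) ∈ K) : ∃ s : H, orderOf s = 2 ∧ x * s = s * x ∧ ∃ k ∈ K, ∃ n : ℕ, s = (t * k) ^ n := by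
  classical
  have : Fintype K := Fintype.ofFinite _
  let f : K → K := fun k => ⟨t⁻¹ * x * t * k * x⁻¹, by
    have := K.mul_mem hxt (hn k k.2)
    have h : t⁻¹ * (x * t * x⁻¹) * (x * (k : H) * x⁻¹) = t⁻¹ * x * t * k * x⁻¹ := by group
    rw [h] at this
    exact this⟩
  have hf : ∀ k, (f k : H) = t⁻¹ * x * t * k * x⁻¹ := fun k => rfl
  have hx0 : x * x * x = 1 := by rw [← hx, pow_succ, pow_two]
  have hx' : x⁻¹ * x⁻¹ * x⁻¹ = 1 := by
    have h : x⁻¹ * x⁻¹ * x⁻¹ = (x * x * x)⁻¹ := by group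
    rw [h, hx0, inv_one]
  have hfff : ∀ k, f (f (f k)) = k := by
    intro k
    apply Subtype.ext
    rw [hf, hf, hf]
    have h : t⁻¹ * x * t * (t⁻¹ * x * t * (t⁻¹ * x * t * k * x⁻¹) * x⁻¹) * x⁻¹ =
        t⁻¹ * (x * x * x) * t * k * (x⁻¹ * x⁻¹ * x⁻¹) := by group
    rw [h, hx0, hx']
    group
  let σ : Equiv.Perm K :=
    { toFun := f
      invFun := fun k => f (f k)
      left_inv := fun k => hfff k
      right_inv := fun k => hfff k }
  have hσ : σ ^ 3 ^ 1 = 1 := by
    ext k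
    rw [pow_one, pow_succ, pow_two, Equiv.Perm.mul_apply, Equiv.Perm.mul_apply]
    show ((f (f (f k)) : K) : H) = k
    rw [hfff]
  have : Fact (Nat.Prime 3) := ⟨Nat.prime_three⟩
  obtain ⟨k, hk⟩ := Equiv.Perm.exists_fixed_point_of_prime (p := 3) (n := 1)
    (by rw [← Nat.card_eq_fintype_card]; exact h3) hσ
  have hk' : t⁻¹ * x * t * k * x⁻¹ = (k : H) := congrArg Subtype.val hk
  have hc : x * (t * k) = (t * k) * x := by
    have h : x * (t * k) = t * (t⁻¹ * x * t * k * x⁻¹) * x := by group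
    rw [h, hk']
  have hsq : (t * k) ^ 2 ∈ K := by
    have h : (t * (k : H)) * (t * k) = (t * t) * (t⁻¹ * k * t) * k := by group
    rw [pow_two, h]
    exact K.mul_mem (K.mul_mem htt (hnt k k.2)) k.2
  have hs : t * (k : H) ∉ K := by
    intro h
    apply ht
    have := K.mul_mem h (K.inv_mem k.2)
    rwa [mul_inv_cancel_right] at this
  have he : Even (orderOf (t * (k : H))) := by
    by_contra ho
    rw [Nat.not_even_iff_odd] at ho
    obtain ⟨m, hm⟩ := ho
    apply hs
    have h1 : (t * (k : H)) ^ (2 * (m + 1)) = t * k := by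
      have : 2 * (m + 1) = orderOf (t * (k : H)) + 1 := by omega
      rw [this, pow_succ, pow_orderOf_eq_one, one_mul]
    rw [← h1, pow_mul]
    exact K.pow_mem hsq _
  obtain ⟨m, hm⟩ := he
  have hpos : 0 < orderOf (t * (k : H)) := orderOf_pos _
  refine ⟨(t * k) ^ m, ?_, ?_, k, k.2, m, rfl⟩
  · have h2 : orderOf (t * (k : H)) = 2 * m := by omega
    rw [orderOf_pow' _ (by omega), h2, Nat.gcd_eq_right (Dvd.intro_left 2 rfl)]
    exact Nat.mul_div_cancel _ (by omega)
  · have : Commute x (t * k) := hc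
    exact this.pow_right m

theorem orderOf_six {H : Type*} [Group H] {x s : H} (hx : orderOf x = 3) (hs : orderOf s = 2)
    (h : x * s = s * x) : orderOf (x * s) = 6 := by
  have hc : Commute x s := h
  rw [hc.orderOf_mul_eq_mul_orderOf_of_coprime (by rw [hx, hs]; norm_num), hx, hs]


/-! ### the number of involutions of a Suzuki group is prime to 3 -/

theorem exists_fixed_involution {J : Type*} [Group J] [Finite J] (h : Cfsg.Lie.IsoSuzuki J)
    (h3 : ¬ 3 ∣ Nat.card J) (φ : MulAut J) (hφ : φ ^ 3 = 1) : ∃ t : J, t ≠ 1 ∧ t * t = 1 ∧ φ t = t := by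
  classical
  have : Fact (Nat.Prime 2) := ⟨Nat.prime_two⟩
  have : Fact (Nat.Prime 3) := ⟨Nat.prime_three⟩
  let P : Sylow 2 J := default
  obtain ⟨D, hD⟩ := Cfsg.Agent.ThreePrime.SzRel.exists_szData h P
  -- an involution of `P`
  have hne : (P : Subgroup J) ≠ ⊥ := by
    intro hb
    have h8 := hD.card
    rw [hb, bot_inf_eq, Subgroup.card_bot] at h8
    omega
  obtain ⟨t₀, ht₀P, ht₀, ht₀2⟩ : ∃ t ∈ (P : Subgroup J), t ≠ 1 ∧ t * t = 1 := by
    obtain ⟨⟨y, hyP⟩, hy'⟩ := (Subgroup.ne_bot_iff_exists_ne_one).mp hne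
    have hy : y ≠ 1 := fun h1 => hy' (Subtype.ext h1)
    by_cases h2 : y * y = 1
    · exact ⟨y, hyP, hy, h2⟩
    · exact ⟨y * y, (P : Subgroup J).mul_mem hyP hyP, h2, hD.sq_sq y hyP⟩
  -- all involutions are conjugate
  have hconj : ∀ s : J, s ≠ 1 → s * s = 1 → ∃ g : J, g * t₀ * g⁻¹ = s := by
    intro s hs hs2
    have hz : IsPGroup 2 (Subgroup.zpowers s) := by
      apply IsPGroup.of_card (n := 1)
      rw [Nat.card_zpowers, pow_one]
      exact orderOf_eq_prime (by rw [pow_two, hs2]) hs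
    obtain ⟨Q, hQ⟩ := hz.exists_le_sylow
    obtain ⟨g, hg⟩ := MulAction.exists_smul_eq J P Q
    have hsQ : s ∈ (Q : Subgroup J) := hQ (Subgroup.mem_zpowers s)
    rw [← hg, Sylow.coe_subgroup_smul, Subgroup.mem_pointwise_smul_iff_inv_smul_mem] at hsQ
    have h1 : g⁻¹ * s * g ∈ (P : Subgroup J) := by
      have h2 : (MulAut.conj g)⁻¹ • s = g⁻¹ * s * g := by
        rw [← map_inv, MulAut.smul_def, MulAut.conj_apply, inv_inv]
      rwa [h2] at hsQ
    have h2 : g⁻¹ * s * g ≠ 1 := by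
      intro h2
      apply hs
      have : s = g * (g⁻¹ * s * g) * g⁻¹ := by group
      rw [this, h2]
      group
    have h3 : g⁻¹ * s * g * (g⁻¹ * s * g) = 1 := by
      have : g⁻¹ * s * g * (g⁻¹ * s * g) = g⁻¹ * (s * s) * g := by group
      rw [this, hs2]
      group
    obtain ⟨d, -, hd⟩ := hD.trans t₀ ht₀P _ h1 ht₀ h2 ht₀2 h3
    refine ⟨g * d, ?_⟩
    have : g * d * t₀ * (g * d)⁻¹ = g * (d * t₀ * d⁻¹) * g⁻¹ := by group
    rw [this, hd]
    group
  -- the class of `t₀`
  let X : Set J := MulAction.orbit (ConjAct J) t₀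
  have hX : ∀ s : J, s ∈ X ↔ s ≠ 1 ∧ s * s = 1 := by
    intro s
    constructor
    · rintro ⟨g, rfl⟩
      show g • t₀ ≠ 1 ∧ (g • t₀) * (g • t₀) = 1
      rw [ConjAct.smul_def]
      constructor
      · intro h2
        apply ht₀
        have : t₀ = (ConjAct.ofConjAct g)⁻¹ * (ConjAct.ofConjAct g * t₀ * (ConjAct.ofConjAct g)⁻¹) * ConjAct.ofConjAct g := by
          group
        rw [this, h2]
        group
      · have : ConjAct.ofConjAct g * t₀ * (ConjAct.ofConjAct g)⁻¹ * (ConjAct.ofConjAct g * t₀ * (ConjAct.ofConjAct g)⁻¹) =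
          ConjAct.ofConjAct g * (t₀ * t₀) * (ConjAct.ofConjAct g)⁻¹ := by group
        rw [this, ht₀2]
        group
    · rintro ⟨hs, hs2⟩
      obtain ⟨g, hg⟩ := hconj s hs hs2
      exact ⟨ConjAct.toConjAct g, by
        show ConjAct.toConjAct g • t₀ = s
        rw [ConjAct.smul_def, ConjAct.ofConjAct_toConjAct, hg]⟩
  have hcard : Nat.card X ∣ Nat.card J := by
    have h1 : Nat.card X * Nat.card (MulAction.stabilizer (ConjAct J) t₀) = Nat.card (ConjAct J) := by
      classical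
      have : Finite (ConjAct J) := Finite.of_equiv J ConjAct.toConjAct.toEquiv
      have : Fintype (ConjAct J) := Fintype.ofFinite _
      have : Fintype (MulAction.orbit (ConjAct J) t₀) := Fintype.ofFinite _
      have : Fintype (MulAction.stabilizer (ConjAct J) t₀) := Fintype.ofFinite _
      have h0 := MulAction.card_orbit_mul_card_stabilizer_eq_card_group (ConjAct J) t₀
      rw [← Nat.card_eq_fintype_card, ← Nat.card_eq_fintype_card, ← Nat.card_eq_fintype_card] at h0
      exact h0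
    have h2 : Nat.card (ConjAct J) = Nat.card J := Nat.card_congr ConjAct.ofConjAct.toEquiv
    rw [← h2, ← h1]
    exact Dvd.intro _ rfl
  have hφX : ∀ s ∈ X, φ s ∈ X := by
    intro s hs
    rw [hX] at hs ⊢
    refine ⟨?_, ?_⟩
    · intro h1
      exact hs.1 ((map_eq_one_iff φ φ.injective).mp h1)
    · rw [← map_mul, hs.2, map_one]
  have h3φ : ∀ s, φ (φ (φ s)) = s := by
    intro s
    have h1 : (φ ^ 3) s = s := by rw [hφ]; rfl
    rw [pow_succ, pow_two] at h1
    exact h1
  have : Fintype X := Fintype.ofFinite _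
  let σ : Equiv.Perm X :=
    { toFun := fun s => ⟨φ s, hφX s s.2⟩
      invFun := fun s => ⟨φ (φ s), hφX _ (hφX s s.2)⟩
      left_inv := fun s => Subtype.ext (h3φ s)
      right_inv := fun s => Subtype.ext (h3φ s) }
  have hσ : σ ^ 3 ^ 1 = 1 := by
    ext s
    rw [pow_one, pow_succ, pow_two, Equiv.Perm.mul_apply, Equiv.Perm.mul_apply]
    exact h3φ s
  obtain ⟨s, hs⟩ := Equiv.Perm.exists_fixed_point_of_prime (p := 3) (n := 1)
    (by
      rw [← Nat.card_eq_fintype_card]
      exact fun h => h3 (h.trans hcard)) hσ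
  exact ⟨s, ((hX s).mp s.2).1, ((hX s).mp s.2).2, congrArg Subtype.val hs⟩

/-! ### groups with cyclic Sylow `r`-subgroups -/

theorem not_both_dvd {D : Type*} [Group D] [Finite D] {r : ℕ} [hr : Fact r.Prime]
    (hc : ∀ P : Sylow r D, IsCyclic P) {K₁ K₂ : Subgroup D} [K₁.Normal] [K₂.Normal] (h : K₁ ⊔ K₂ = ⊤)
    (h1 : r ∣ Nat.card (D ⧸ K₁)) (h2 : r ∣ Nat.card (D ⧸ K₂)) : False := by
  classical
  let f : D →* (D ⧸ K₁) × (D ⧸ K₂) := (QuotientGroup.mk' K₁).prod (QuotientGroup.mk' K₂)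
  have hf : Function.Surjective f := by
    rintro ⟨a, b⟩
    obtain ⟨a, rfl⟩ := QuotientGroup.mk'_surjective K₁ a
    obtain ⟨b, rfl⟩ := QuotientGroup.mk'_surjective K₂ b
    have hab : a⁻¹ * b ∈ K₁ ⊔ K₂ := by rw [h]; trivial
    rw [Subgroup.mem_sup_of_normal_right] at hab
    obtain ⟨k₁, hk₁, k₂, hk₂, hk⟩ := hab
    refine ⟨a * k₁, Prod.ext ?_ ?_⟩
    · show QuotientGroup.mk' K₁ (a * k₁) = QuotientGroup.mk' K₁ a
      rw [map_mul, (QuotientGroup.eq_one_iff k₁).mpr hk₁ |> fun h => (show QuotientGroup.mk' K₁ k₁ = 1 from h), mul_one]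
    · show QuotientGroup.mk' K₂ (a * k₁) = QuotientGroup.mk' K₂ b
      have h3 : a * k₁ = b * k₂⁻¹ := by
        have : b = a * (k₁ * k₂) := by rw [hk]; group
        rw [this]
        group
      have h4 : QuotientGroup.mk' K₂ k₂⁻¹ = 1 := (QuotientGroup.eq_one_iff _).mpr (K₂.inv_mem hk₂)
      rw [h3, map_mul, h4, mul_one]
  have hc' : ∀ Q : Sylow r ((D ⧸ K₁) × (D ⧸ K₂)), IsCyclic Q := by
    intro Q
    obtain ⟨P, rfl⟩ := Sylow.mapSurjective_surjective hf r Q
    have := hc P
    rw [Sylow.coe_mapSurjective]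
    exact isCyclic_of_surjective ((f.subgroupMap P)) (f.subgroupMap_surjective P)
  obtain ⟨x₁, hx₁⟩ := exists_prime_orderOf_dvd_card' r h1
  obtain ⟨x₂, hx₂⟩ := exists_prime_orderOf_dvd_card' r h2
  let E : Subgroup ((D ⧸ K₁) × (D ⧸ K₂)) := (Subgroup.zpowers x₁).prod (Subgroup.zpowers x₂)
  have hE : Nat.card E = r ^ 2 := by
    rw [Nat.card_congr ((Subgroup.zpowers x₁).prodEquiv (Subgroup.zpowers x₂)).toEquiv, Nat.card_prod, Nat.card_zpowers,
      Nat.card_zpowers, hx₁, hx₂, pow_two]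
  obtain ⟨Q, hQ⟩ := (IsPGroup.of_card hE).exists_le_sylow
  have := hc' Q
  have hEc : IsCyclic E := isCyclic_of_injective (Subgroup.inclusion hQ) (Subgroup.inclusion_injective hQ)
  have hexp : Monoid.exponent E ∣ r := by
    rw [Monoid.exponent_dvd_iff_forall_pow_eq_one]
    rintro ⟨⟨a, b⟩, hab⟩
    rw [Subgroup.mem_prod] at hab
    obtain ⟨⟨i, hi⟩, ⟨j, hj⟩⟩ := hab
    apply Subtype.ext
    apply Prod.ext
    · show a ^ r = 1
      have hi' : x₁ ^ i = a := hi
      rw [← hi', ← zpow_natCast, ← zpow_mul, mul_comm, zpow_mul, zpow_natCast, ← hx₁, pow_orderOf_eq_one, one_zpow]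
    · show b ^ r = 1
      have hj' : x₂ ^ j = b := hj
      rw [← hj', ← zpow_natCast, ← zpow_mul, mul_comm, zpow_mul, zpow_natCast, ← hx₂, pow_orderOf_eq_one, one_zpow]
  rw [IsCyclic.exponent_eq_card, hE] at hexp
  have := Nat.le_of_dvd hr.out.pos hexp
  have h2 := hr.out.two_le
  nlinarith only [this, h2]

theorem isCyclic_sylow_subgroup {H : Type*} [Group H] [Finite H] {r : ℕ} [Fact r.Prime]
    (hc : ∀ P : Sylow r H, IsCyclic P) (D : Subgroup H) (P : Sylow r D) : IsCyclic P := by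
  have h1 : IsPGroup r ((P : Subgroup D).map D.subtype) := P.isPGroup'.map _
  obtain ⟨Q, hQ⟩ := h1.exists_le_sylow
  have := hc Q
  have h2 : IsCyclic ((P : Subgroup D).map D.subtype) :=
    isCyclic_of_injective (Subgroup.inclusion hQ) (Subgroup.inclusion_injective hQ)
  exact (MulEquiv.isCyclic (Subgroup.equivMapOfInjective (P : Subgroup D) D.subtype D.subtype_injective)).mpr h2

/-! ### normal `3'`-subgroups are solvable -/

theorem exists_min_nonsolvable {H : Type*} [Group H] [Finite H] {Y : Subgroup H} (hY : Y.Normal)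
    (hns : ¬ Group.IsSolvable Y) : ∃ D : Subgroup H, D.Normal ∧ D ≤ Y ∧ ¬ Group.IsSolvable D ∧ commutator D = ⊤ := by
  obtain ⟨D, ⟨hDn, hDY, hDs⟩, hmin⟩ := (Set.toFinite {N : Subgroup H | N.Normal ∧ N ≤ Y ∧ ¬ Group.IsSolvable N}).exists_minimal
    ⟨Y, hY, le_rfl, hns⟩
  refine ⟨D, hDn, hDY, hDs, ?_⟩
  have h1 : ⁅D, D⁆ ≤ D := Subgroup.commutator_le_self D
  have h2 : ¬ Group.IsSolvable ↥(⁅D, D⁆ : Subgroup H) := by
    intro hs
    apply hDs
    have : Group.IsSolvable (Abelianization D) := inferInstance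
    refine Group.isSolvable_of_ker_le_range (Subgroup.inclusion h1) (Abelianization.of : D →* Abelianization D) ?_
    rw [Abelianization.ker_of]
    intro d hd
    have h3 : (d : H) ∈ ⁅D, D⁆ := by
      rw [← Subgroup.map_subtype_commutator]
      exact ⟨d, hd, rfl⟩
    exact ⟨⟨d, h3⟩, Subtype.ext rfl⟩
  have h3 : D ≤ ⁅D, D⁆ := hmin ⟨inferInstance, h1.trans hDY, h2⟩ h1
  rw [eq_top_iff]
  intro d _
  have h4 : (d : H) ∈ (commutator D).map D.subtype := by
    rw [Subgroup.map_subtype_commutator]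
    exact h3 d.2
  obtain ⟨e, he, hed⟩ := h4
  rwa [← Subtype.ext hed]

theorem exists_max_normal {D : Type*} [Group D] [Finite D] [Nontrivial D] (hD : commutator D = ⊤) :
    ∃ (K : Subgroup D) (_ : K.Normal), IsSimpleGroup (D ⧸ K) ∧ (∃ a b : D ⧸ K, a * b ≠ b * a) ∧
      ∀ K' : Subgroup D, K'.Normal → K ≤ K' → K' = K ∨ K' = ⊤ := by
  obtain ⟨K, ⟨hKn, hKt⟩, hmax⟩ := (Set.toFinite {K : Subgroup D | K.Normal ∧ K ≠ ⊤}).exists_maximal
    ⟨⊥, inferInstance, bot_ne_top⟩
  have hm : ∀ K' : Subgroup D, K'.Normal → K ≤ K' → K' = K ∨ K' = ⊤ := by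
    intro K' hn hle
    by_cases h : K' = ⊤
    · exact Or.inr h
    · exact Or.inl (le_antisymm (hmax ⟨hn, h⟩ hle) hle)
  refine ⟨K, hKn, ?_, ?_, hm⟩
  · have : Nontrivial (D ⧸ K) := QuotientGroup.nontrivial_iff.mpr hKt
    refine ⟨fun N hN => ?_⟩
    have h1 : (N.comap (QuotientGroup.mk' K)).Normal := inferInstance
    have h2 : K ≤ N.comap (QuotientGroup.mk' K) := by
      intro k hk
      rw [Subgroup.mem_comap]
      have : QuotientGroup.mk' K k = 1 := (QuotientGroup.eq_one_iff k).mpr hk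
      rw [this]
      exact N.one_mem
    rcases hm _ h1 h2 with h | h
    · left
      rw [eq_bot_iff]
      intro n hn
      obtain ⟨d, rfl⟩ := QuotientGroup.mk'_surjective K n
      have : d ∈ K := by
        rw [← h]
        exact hn
      exact (QuotientGroup.eq_one_iff d).mpr this
    · right
      rw [eq_top_iff]
      intro n _
      obtain ⟨d, rfl⟩ := QuotientGroup.mk'_surjective K n
      have : d ∈ N.comap (QuotientGroup.mk' K) := by
        rw [h]
        trivial
      exact this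
  · by_contra hcon
    push Not at hcon
    apply hKt
    rw [eq_top_iff, ← hD]
    rw [commutator_def, Subgroup.commutator_le]
    intro a _ b _
    have h1 := hcon (QuotientGroup.mk' K a) (QuotientGroup.mk' K b)
    rw [← QuotientGroup.eq_one_iff]
    show QuotientGroup.mk' K ⁅a, b⁆ = 1
    rw [map_commutatorElement, commutatorElement_eq_one_iff_mul_comm]
    exact h1

theorem exists_odd_prime {X : Type*} [Group X] [Finite X] [IsSimpleGroup X] (h : ∃ a b : X, a * b ≠ b * a) :
    ∃ r : ℕ, r.Prime ∧ r ≠ 2 ∧ r ∣ Nat.card X := by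
  by_contra hcon
  push Not at hcon
  have h2 : ∃ k, Nat.card X = 2 ^ k := by
    refine ⟨_, Nat.eq_prime_pow_of_unique_prime_dvd Nat.card_pos.ne' ?_⟩
    intro d hd hdv
    by_contra hd2
    exact hcon d hd hd2 hdv
  obtain ⟨k, hk⟩ := h2
  have : Fact (Nat.Prime 2) := ⟨Nat.prime_two⟩
  have h3 : IsPGroup 2 X := IsPGroup.of_card hk
  have h4 : Group.IsNilpotent X := h3.isNilpotent
  obtain ⟨a, b, hab⟩ := h
  exact hab (IsSimpleGroup.comm_iff_isSolvable.mpr inferInstance a b)

theorem solvable {H : Type*} [Group H] [Finite H] (hc : OddCyc H) (hK : KSec H) (hsix : NoSix H) {Y : Subgroup H}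
    (hY : Y.Normal) (hY3 : ¬ 3 ∣ Nat.card Y) (h3 : 3 ∣ Nat.card H) : Group.IsSolvable Y := by
  classical
  by_contra hns
  have : Fact (Nat.Prime 3) := ⟨Nat.prime_three⟩
  obtain ⟨D, hDn, hDY, hDs, hperf⟩ := exists_min_nonsolvable hY hns
  have hDnt : Nontrivial D := by
    by_contra hcon
    rw [not_nontrivial_iff_subsingleton] at hcon
    exact hDs inferInstance
  have hD3 : ¬ 3 ∣ Nat.card D := fun h => hY3 (h.trans (Subgroup.card_dvd_of_le hDY))
  obtain ⟨K, hKn, hKs, hKna, hKmax⟩ := exists_max_normal hperf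
  have hQ3 : ¬ 3 ∣ Nat.card (D ⧸ K) := fun h => hD3 (h.trans (Subgroup.card_quotient_dvd_card K))
  have hSz : Cfsg.Lie.IsoSuzuki (D ⧸ K) := isoSuzuki_of_K1 (hK D K hKs hKna) hQ3
  obtain ⟨r, hr, hr2, hrd⟩ := exists_odd_prime hKna
  have : Fact r.Prime := ⟨hr⟩
  -- `K` is invariant
  have hinv : ∀ h : H, K.map (MulAut.conjNormal h : MulAut D).toMonoidHom = K := by
    intro h
    set K' : Subgroup D := K.map (MulAut.conjNormal h : MulAut D).toMonoidHom with hK'
    have hK'n : K'.Normal := hKn.map _ (MulAut.conjNormal h : MulAut D).surjective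
    have hcard : Nat.card K' = Nat.card K :=
      Nat.card_congr (K.equivMapOfInjective _ (MulAut.conjNormal h : MulAut D).injective).symm.toEquiv
    rcases hKmax (K ⊔ K') inferInstance le_sup_left with h1 | h1
    · have h2 : K' ≤ K := by
        rw [← h1]
        exact le_sup_right
      exact Subgroup.eq_of_le_of_card_ge h2 hcard.ge
    · exfalso
      refine not_both_dvd (r := r) (isCyclic_sylow_subgroup (fun P => hc r P hr hr2) D) h1 hrd ?_
      have h2 : Nat.card (D ⧸ K') = Nat.card (D ⧸ K) := by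
        have h3 := K.card_eq_card_quotient_mul_card_subgroup
        have h4 := K'.card_eq_card_quotient_mul_card_subgroup
        rw [hcard] at h4
        exact Nat.eq_of_mul_eq_mul_right Nat.card_pos (h4.symm.trans h3)
      rw [h2]
      exact hrd
  obtain ⟨x, hx⟩ := exists_prime_orderOf_dvd_card' 3 h3
  have hx3 : x ^ 3 = 1 := by rw [← hx, pow_orderOf_eq_one]
  let φ : MulAut (D ⧸ K) := QuotientGroup.congr K K (MulAut.conjNormal x : MulAut D) (hinv x)
  have hφ : ∀ d : D, φ (QuotientGroup.mk' K d) = QuotientGroup.mk' K ((MulAut.conjNormal x : MulAut D) d) := fun d => rfl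
  have hφ3 : φ ^ 3 = 1 := by
    ext y
    obtain ⟨d, rfl⟩ := QuotientGroup.mk'_surjective K y
    rw [pow_succ, pow_two, MulAut.mul_apply, MulAut.mul_apply, hφ, hφ, hφ, ← MulAut.mul_apply, ← MulAut.mul_apply,
      ← map_mul, ← map_mul]
    have : x * x * x = 1 := by rw [← hx3, pow_succ, pow_two]
    rw [this, map_one]
    rfl
  obtain ⟨t', ht1, ht2, ht3⟩ := exists_fixed_involution hSz hQ3 φ hφ3
  obtain ⟨t, rfl⟩ := QuotientGroup.mk'_surjective K t'
  have htK : t ∉ K := fun h => ht1 ((QuotientGroup.eq_one_iff t).mpr h)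
  have httK : t * t ∈ K := by
    rw [← QuotientGroup.eq_one_iff]
    exact ht2
  have hxtK : t⁻¹ * (MulAut.conjNormal x : MulAut D) t ∈ K := by
    rw [hφ] at ht3
    rw [← QuotientGroup.eq]
    exact ht3.symm
  -- in the ambient group
  let K₀ : Subgroup H := K.map D.subtype
  have hmem : ∀ d : D, (d : H) ∈ K₀ ↔ d ∈ K := by
    intro d
    constructor
    · rintro ⟨e, he, hed⟩
      rwa [← Subtype.ext hed]
    · intro hd
      exact ⟨d, hd, rfl⟩
  have hK₀3 : ¬ 3 ∣ Nat.card K₀ := by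
    intro h
    apply hD3
    have h1 : K₀ ≤ D := Subgroup.map_subtype_le K
    exact h.trans (Subgroup.card_dvd_of_le h1)
  have hK₀n : ∀ h : H, ∀ k ∈ K₀, h * k * h⁻¹ ∈ K₀ := by
    rintro h _ ⟨k, hk, rfl⟩
    have h1 : (MulAut.conjNormal h : MulAut D) k ∈ K := by
      rw [← hinv h]
      exact ⟨k, hk, rfl⟩
    rw [← hmem] at h1
    rwa [MulAut.conjNormal_apply] at h1
  obtain ⟨s, hs, hxs, -⟩ := exists_six (K := K₀) hK₀3 (x := x) (t := (t : H)) hx3 (fun k hk => hK₀n x k hk)
    (fun h => htK ((hmem t).mp h)) ((hmem (t * t)).mpr httK)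
    (fun k hk => by
      have := hK₀n (t : H)⁻¹ k hk
      rwa [inv_inv] at this)
    (by
      have := (hmem _).mpr hxtK
      rwa [Subgroup.coe_mul, MulAut.conjNormal_apply, Subgroup.coe_inv] at this)
  exact hsix _ (orderOf_six hx hs hxs)

/-! ### an element of order 3 centralises the abelian subgroups of odd order which it normalises -/

theorem commute_of_abelian {H : Type*} [Group H] [Finite H] {V : Type*} [CommGroup V]
    (hV : ∀ v : V, v * v = 1) (ρ : H →* MulAut V) (hρ : Function.Injective ρ)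
    (hfpf : ∀ x, orderOf x = 3 → ∀ v, ρ x v = v → v = 1) {F : Subgroup H}
    (hF : ∀ a ∈ F, ∀ b ∈ F, a * b = b * a) (hodd : Odd (Nat.card F)) {x : H} (hx : orderOf x = 3)
    (hn : ∀ a ∈ F, x * a * x⁻¹ ∈ F) {f : H} (hf : f ∈ F) : x * f = f * x := by
  classical
  have hx3 : x ^ 3 = 1 := by rw [← hx, pow_orderOf_eq_one]
  have hxxx : x * x * x = 1 := by rw [← hx3, pow_succ, pow_two]
  -- the relation `1 + y + y² = 0` for elements of order 3
  have hrel : ∀ y : H, orderOf y = 3 → ∀ v : V, v * ρ y v * ρ (y * y) v = 1 := by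
    intro y hy v
    apply hfpf y hy
    have hy3 : y * (y * y) = 1 := by
      rw [← mul_assoc, ← pow_two, ← pow_succ]
      rw [show 2 + 1 = orderOf y by rw [hy], pow_orderOf_eq_one]
    rw [map_mul, map_mul]
    have h1 : ρ y (ρ y v) = ρ (y * y) v := by rw [map_mul, MulAut.mul_apply]
    have h2 : ρ y (ρ (y * y) v) = v := by
      rw [← MulAut.mul_apply, ← map_mul, hy3, map_one, MulAut.one_apply]
    rw [h1, h2, mul_comm (ρ y v * ρ (y * y) v) v, mul_assoc]
  -- the subgroup `[F, x]`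
  let δ : F →* F :=
    { toFun := fun a => ⟨(a : H)⁻¹ * (x * a * x⁻¹), F.mul_mem (F.inv_mem a.2) (hn a a.2)⟩
      map_one' := by
        apply Subtype.ext
        show (1 : H)⁻¹ * (x * 1 * x⁻¹) = 1
        group
      map_mul' := by
        intro a b
        apply Subtype.ext
        show ((a : H) * b)⁻¹ * (x * (a * b) * x⁻¹) = (a : H)⁻¹ * (x * a * x⁻¹) * ((b : H)⁻¹ * (x * b * x⁻¹))
        have h1 : ((a : H) * b)⁻¹ * (x * (a * b) * x⁻¹) = (b : H)⁻¹ * ((a : H)⁻¹ * (x * a * x⁻¹)) * (x * b * x⁻¹) := by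
          group
        rw [h1, hF _ (F.inv_mem b.2) _ (F.mul_mem (F.inv_mem a.2) (hn a a.2)), mul_assoc] }
  let D : Subgroup F := δ.range
  have hD : ∀ d ∈ D, orderOf ((d : H) * x) = 3 := by
    rintro _ ⟨a, rfl⟩
    have h1 : ((δ a : F) : H) * x = (a : H)⁻¹ * x * ((a : H)⁻¹)⁻¹ := by
      show (a : H)⁻¹ * (x * a * x⁻¹) * x = _
      group
    rw [h1]
    have h2 := orderOf_injective (MulAut.conj (a : H)⁻¹ : H ≃* H).toMonoidHom (MulAut.conj (a : H)⁻¹).injective x
    rw [← hx, ← h2]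
    rfl
  have hDx : ∀ d ∈ D, ∃ e ∈ D, (e : H) = x * d * x⁻¹ := by
    rintro _ ⟨a, rfl⟩
    refine ⟨δ ⟨x * a * x⁻¹, hn a a.2⟩, ⟨_, rfl⟩, ?_⟩
    show (x * (a : H) * x⁻¹)⁻¹ * (x * (x * a * x⁻¹) * x⁻¹) = x * ((a : H)⁻¹ * (x * a * x⁻¹)) * x⁻¹
    group
  -- the bijection `d ↦ d * (x d x⁻¹)` of `D`
  have hφm : ∀ d : D, ∃ e : D, ((e : F) : H) = (d : F) * (x * (d : F) * x⁻¹) := by
    intro d
    obtain ⟨e, he, hee⟩ := hDx d d.2
    exact ⟨⟨d * e, D.mul_mem d.2 he⟩, by
      show (((d : F) * e : F) : H) = _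
      rw [Subgroup.coe_mul, hee]⟩
  choose φ hφ using hφm
  have hφinj : Function.Injective φ := by
    have key : ∀ c ∈ D, (c : H) * (x * c * x⁻¹) = 1 → c = 1 := by
      intro c hc h1
      have h3 : ((c : H) * x) ^ 3 = 1 := by rw [← hD c hc, pow_orderOf_eq_one]
      have h4 : ((c : H) * x) ^ 3 = ((c : H) * (x * c * x⁻¹)) * (x * x) * c * x := by
        rw [pow_succ, pow_two]
        group
      rw [h4, h1, one_mul] at h3
      have h5 : (c : H) = (x * x)⁻¹ * x⁻¹ := by
        calc (c : H) = (x * x)⁻¹ * (x * x * c * x) * x⁻¹ := by group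
          _ = (x * x)⁻¹ * x⁻¹ := by rw [h3, mul_one]
      have h6 : (x * x)⁻¹ * x⁻¹ = (x * x * x)⁻¹ := by group
      rw [h6, hxxx, inv_one] at h5
      exact Subtype.ext h5
    intro d e hde
    have h1 : ((φ d : F) : H) = (φ e : F) := by rw [hde]
    rw [hφ, hφ] at h1
    have h2 : ((((d : F) * (e : F)⁻¹ : F)) : H) * (x * (((d : F) * (e : F)⁻¹ : F) : H) * x⁻¹) = 1 := by
      rw [Subgroup.coe_mul, Subgroup.coe_inv]
      have hxd := hn d (d : F).2
      have hxe := hn e (e : F).2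
      have h3 : ((d : F) : H) * (((e : F) : H))⁻¹ * (x * (((d : F) : H) * (((e : F) : H))⁻¹) * x⁻¹) =
          ((d : F) : H) * ((((e : F) : H))⁻¹ * (x * ((d : F) : H) * x⁻¹)) * (x * (((e : F) : H)) * x⁻¹)⁻¹ := by
        group
      rw [h3, hF _ (F.inv_mem (e : F).2) _ hxd, ← mul_assoc, h1]
      have h4 : ((e : F) : H) * (x * (e : F) * x⁻¹) = (x * (e : F) * x⁻¹) * (e : F) := hF _ (e : F).2 _ hxe
      rw [h4]
      group
    have h3 := key ((d : F) * (e : F)⁻¹) (D.mul_mem d.2 (D.inv_mem e.2)) h2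
    exact Subtype.ext (mul_inv_eq_one.mp h3)
  have hφbij : Function.Bijective φ := Finite.injective_iff_bijective.mp hφinj
  have : Fintype D := Fintype.ofFinite _
  let N : V → V := fun v => ∏ d : D, ρ ((d : F) : H) v
  have hNmul : ∀ v w, N (v * w) = N v * N w := by
    intro v w
    show ∏ d : D, ρ ((d : F) : H) (v * w) = _
    rw [← Finset.prod_mul_distrib]
    exact Finset.prod_congr rfl (fun d _ => map_mul _ _ _)
  have hDodd : Odd (Fintype.card D) := by
    rw [← Nat.card_eq_fintype_card]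
    exact Odd.of_dvd_nat hodd (Subgroup.card_subgroup_dvd_card D)
  have hN : ∀ v, N v = v := by
    intro v
    have h1 : ∏ d : D, (v * ρ ((d : F) * x) v * ρ (((d : F) * x) * ((d : F) * x)) v) = 1 :=
      Finset.prod_eq_one (fun d _ => hrel _ (hD d d.2) v)
    rw [Finset.prod_mul_distrib, Finset.prod_mul_distrib, Finset.prod_const, Finset.card_univ] at h1
    have h2 : v ^ Fintype.card D = v := by
      obtain ⟨m, hm⟩ := hDodd
      rw [hm, pow_succ, pow_mul, pow_two, hV, one_pow, one_mul]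
    have h3 : ∏ d : D, ρ ((d : F) * x) v = N (ρ x v) :=
      Finset.prod_congr rfl (fun d _ => by rw [map_mul, MulAut.mul_apply])
    have h4 : ∏ d : D, ρ (((d : F) * x) * ((d : F) * x)) v = N (ρ (x * x) v) := by
      have h5 : ∀ d : D, ρ (((d : F) * x) * ((d : F) * x)) v = ρ ((φ d : F) : H) (ρ (x * x) v) := by
        intro d
        rw [← MulAut.mul_apply, ← map_mul, hφ]
        congr 2
        group
      rw [Finset.prod_congr rfl (fun d _ => h5 d)]
      exact hφbij.prod_comp (fun e : D => ρ ((e : F) : H) (ρ (x * x) v))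
    rw [h2, h3, h4, mul_assoc, ← hNmul] at h1
    have h5 : ρ x v * ρ (x * x) v = v := by
      have h6 := hrel x hx v
      rw [mul_assoc] at h6
      have h7 : v * (v * (ρ x v * ρ (x * x) v)) = v := by rw [h6, mul_one]
      rwa [← mul_assoc, hV, one_mul] at h7
    rw [h5] at h1
    have h8 : v * (v * N v) = v := by rw [h1, mul_one]
    rwa [← mul_assoc, hV, one_mul] at h8
  have hDtriv : ∀ d ∈ D, d = 1 := by
    intro d hd
    have h1 : ρ (d : H) = 1 := by
      ext v
      rw [MulAut.one_apply]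
      calc ρ (d : H) v = ρ (d : H) (N v) := by rw [hN]
        _ = ∏ e : D, ρ (d : H) (ρ ((e : F) : H) v) := map_prod _ _ _
        _ = ∏ e : D, ρ (((((⟨d, hd⟩ : D) * e : D) : F) : H)) v := by
            refine Finset.prod_congr rfl (fun e _ => ?_)
            rw [← MulAut.mul_apply, ← map_mul]
            rfl
        _ = N v := (Group.mulLeft_bijective (⟨d, hd⟩ : D)).prod_comp (fun e : D => ρ ((e : F) : H) v)
        _ = v := hN v
    have h2 : (d : H) = 1 := hρ (by rw [h1, map_one])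
    exact Subtype.ext h2
  have h1 := hDtriv (δ ⟨f, hf⟩) ⟨_, rfl⟩
  have h2 : (f : H)⁻¹ * (x * f * x⁻¹) = 1 := congrArg Subtype.val h1
  have h3 : x * f * x⁻¹ = f := by
    have := (inv_mul_eq_one.mp h2).symm
    exact this
  calc x * f = x * f * x⁻¹ * x := by group
    _ = f * x := by rw [h3]

/-- F1 (1.2) -/
theorem core_centralised {H : Type*} [Group H] [Finite H] {V : Type*} [CommGroup V] [Finite V]
    (hV : ∀ v : V, v * v = 1) (_hV1 : Nontrivial V) (ρ : H →* MulAut V) (hρ : Function.Injective ρ)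
    (hO2 : ∀ N : Subgroup H, N.Normal → IsPGroup 2 N → N = ⊥) (hfpf : ∀ x, orderOf x = 3 → ∀ v, ρ x v = v → v = 1)
    (hc : OddCyc H) (hK : KSec H) (hsix : NoSix H) (Y : Subgroup H) (hY : Y.Normal) (hY3 : ¬ 3 ∣ Nat.card Y)
    (h3 : 3 ∣ Nat.card H) : Odd (Nat.card Y) ∧ ∀ x : H, orderOf x = 3 → ∀ y ∈ Y, x * y = y * x := by
  classical
  have hs : Group.IsSolvable Y := solvable hc hK hsix hY hY3 h3
  have h2p : Fact (Nat.Prime 2) := ⟨Nat.prime_two⟩
  have h3p : Fact (Nat.Prime 3) := ⟨Nat.prime_three⟩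
  have hFchar : (Cfsg.fittingSubgroup Y).Characteristic := Cfsg.Agent.Lib.Cores.fittingSubgroup_characteristic
  have hFnil : Group.IsNilpotent (Cfsg.fittingSubgroup Y) := Cfsg.Agent.Lib.Cores.fittingSubgroup_isNilpotent
  let F : Subgroup H := (Cfsg.fittingSubgroup Y).map Y.subtype
  have hFn : F.Normal := ConjAct.normal_of_characteristic_of_normal
  have hmem : ∀ y : Y, (y : H) ∈ F ↔ y ∈ Cfsg.fittingSubgroup Y := by
    intro y
    constructor
    · rintro ⟨e, he, hed⟩
      rwa [← Subtype.ext hed]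
    · intro hd
      exact ⟨y, hd, rfl⟩
  have hFY : F ≤ Y := Subgroup.map_subtype_le _
  have hFnil' : Group.IsNilpotent F := by
    have e := Subgroup.equivMapOfInjective (Cfsg.fittingSubgroup Y) Y.subtype Y.subtype_injective
    exact Group.isNilpotent_congr e |>.mp hFnil
  -- the Sylow `2`-subgroup of `F` is trivial
  have hF2 : ∀ P : Sylow 2 F, (P : Subgroup F) = ⊥ := by
    intro P
    have hPn : (P : Subgroup F).Normal := inferInstance
    have hPc : (P : Subgroup F).Characteristic := P.characteristic_of_normal hPn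
    have h1 : ((P : Subgroup F).map F.subtype).Normal := ConjAct.normal_of_characteristic_of_normal
    have h2 := hO2 _ h1 (P.isPGroup'.map _)
    exact (Subgroup.map_eq_bot_iff_of_injective _ F.subtype_injective).mp h2
  have hFodd : Odd (Nat.card F) := by
    rw [← Nat.not_even_iff_odd, even_iff_two_dvd]
    intro h
    obtain ⟨P⟩ : Nonempty (Sylow 2 F) := inferInstance
    exact P.ne_bot_of_dvd_card h (hF2 P)
  have hZ : IsZGroup F := by
    rw [isZGroup_iff]
    intro p hp P
    have : Fact p.Prime := ⟨hp⟩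
    by_cases h2 : p = 2
    · subst h2
      rw [hF2 P]
      infer_instance
    · exact isCyclic_sylow_subgroup (fun Q => hc p Q hp h2) F P
  have hFc : IsCyclic F := inferInstance
  have hFcomm : ∀ a ∈ F, ∀ b ∈ F, a * b = b * a := by
    intro a ha b hb
    have := IsCyclic.isMulCommutative (α := F)
    exact congrArg Subtype.val (mul_comm' (⟨a, ha⟩ : F) ⟨b, hb⟩)
  have hxF : ∀ x : H, orderOf x = 3 → ∀ f ∈ F, x * f = f * x := fun x hx f hf =>
    commute_of_abelian hV ρ hρ hfpf hFcomm hFodd hx (fun a ha => hFn.conj_mem a ha x) hf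
  have hmain : ∀ x : H, orderOf x = 3 → ∀ y ∈ Y, x * y = y * x := by
    intro x hx y hy
    have hx3 : x ^ 3 = 1 := by rw [← hx, pow_orderOf_eq_one]
    have hxxx : x * x * x = 1 := by rw [← hx3, pow_succ, pow_two]
    set c : H := y⁻¹ * (x⁻¹ * y * x) with hcdef
    have hcY : c ∈ Y := Y.mul_mem (Y.inv_mem hy) (by
      have := hY.conj_mem y hy x⁻¹
      rwa [inv_inv] at this)
    have hcF : c ∈ F := by
      have h1 : (⟨c, hcY⟩ : Y) ∈ Subgroup.centralizer (Cfsg.fittingSubgroup Y : Set Y) := by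
        rw [Subgroup.mem_centralizer_iff]
        intro f hf
        apply Subtype.ext
        show (f : H) * c = c * f
        have hfF : (f : H) ∈ F := (hmem f).mpr hf
        have h2 : x * (f : H) = f * x := hxF x hx f hfF
        have hf' : y * (f : H) * y⁻¹ ∈ F := hFn.conj_mem _ hfF y
        have h3 : x * (y * (f : H) * y⁻¹) = (y * f * y⁻¹) * x := hxF x hx _ hf'
        symm
        calc c * (f : H) = y⁻¹ * x⁻¹ * y * (x * f) := by rw [hcdef]; group
          _ = y⁻¹ * x⁻¹ * y * (f * x) := by rw [h2]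
          _ = y⁻¹ * (x⁻¹ * ((y * f * y⁻¹) * x) * x⁻¹) * y * x := by group
          _ = y⁻¹ * (x⁻¹ * (x * (y * f * y⁻¹)) * x⁻¹) * y * x := by rw [h3]
          _ = y⁻¹ * ((y * f * y⁻¹) * x⁻¹) * y * x := by group
          _ = f * c := by rw [hcdef]; group
      have h4 := Cfsg.Agent.S0044.result h1
      exact (hmem _).mpr h4
    clear_value c
    have hxc : x * c = c * x := hxF x hx c hcF
    have hxc' : x⁻¹ * c * x = c := by
      rw [mul_assoc, ← hxc]
      group
    have h1 : x⁻¹ * y * x = y * c := by rw [hcdef]; group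
    have h2 : x⁻¹ * (x⁻¹ * y * x) * x = y * c * c := by
      rw [h1]
      calc x⁻¹ * (y * c) * x = (x⁻¹ * y * x) * (x⁻¹ * c * x) := by group
        _ = y * c * c := by rw [h1, hxc']
    have h3' : x⁻¹ * (x⁻¹ * (x⁻¹ * y * x) * x) * x = y * c * c * c := by
      rw [h2]
      calc x⁻¹ * (y * c * c) * x = (x⁻¹ * y * x) * (x⁻¹ * c * x) * (x⁻¹ * c * x) := by group
        _ = y * c * c * c := by rw [h1, hxc']
    have h4 : x⁻¹ * (x⁻¹ * (x⁻¹ * y * x) * x) * x = (x * x * x)⁻¹ * y * (x * x * x) := by group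
    rw [h4, hxxx, inv_one, one_mul, mul_one] at h3'
    have h5 : c ^ 3 = 1 := by
      rw [pow_succ, pow_two]
      have : y * (c * c * c) = y * 1 := by
        rw [mul_one, ← mul_assoc, ← mul_assoc]
        exact h3'.symm
      exact mul_left_cancel this
    have h6 : c = 1 := by
      have h7 : orderOf c ∣ 3 := orderOf_dvd_of_pow_eq_one h5
      rcases (Nat.dvd_prime Nat.prime_three).mp h7 with h8 | h8
      · exact orderOf_eq_one_iff.mp h8
      · exfalso
        apply hY3
        have h9 := orderOf_dvd_natCard (⟨c, hcY⟩ : Y)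
        rw [← Subgroup.orderOf_coe] at h9
        rwa [h8] at h9
    rw [h6, mul_one] at h1
    calc x * y = x * (x⁻¹ * y * x) := by rw [h1]
      _ = y * x := by group
  refine ⟨?_, hmain⟩
  rw [← Nat.not_even_iff_odd, even_iff_two_dvd]
  intro h
  obtain ⟨s, hs2⟩ := exists_prime_orderOf_dvd_card' 2 h
  obtain ⟨x, hx⟩ := exists_prime_orderOf_dvd_card' 3 h3
  have hs2' : orderOf (s : H) = 2 := by rw [Subgroup.orderOf_coe, hs2]
  exact hsix _ (orderOf_six hx hs2' (hmain x hx s s.2))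

end Cfsg.Agent.OddCyclic.T1Core
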