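import Mathlib
import Cfsg.Agent.OddCyclic.ZT
import Cfsg.Agent.Lib.PSL2Recog
import Cfsg.Agent.ClassicalGeometry.PSL2Basic
set_option linter.all false

/-!
# `PSL₂(F)` acts on its Sylow `ℓ`-subgroups (`ℓ` the characteristic) as a Zassenhaus group
-/

set_option autoImplicit false

namespace Cfsg.Agent.OddCyclic.Zass

open Matrix OnePoint
open Cfsg.Agent.Lib.PSL2Recog Cfsg.Agent.ClassicalGeometry.PSL2Basic

section Psl

variable {F : Type*} [Field F]

/-- a matrix of determinant one -/
def mk (a b c d : F) (h : a * d - b * c = 1) : SpecialLinearGroup (Fin 2) F :=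
  ⟨!![a, b; c, d], by rw [Matrix.det_fin_two_of, h]⟩

@[simp] theorem mk00 (a b c d : F) (h : a * d - b * c = 1) : mk a b c d h 0 0 = a := rfl
@[simp] theorem mk01 (a b c d : F) (h : a * d - b * c = 1) : mk a b c d h 0 1 = b := rfl
@[simp] theorem mk10 (a b c d : F) (h : a * d - b * c = 1) : mk a b c d h 1 0 = c := rfl
@[simp] theorem mk11 (a b c d : F) (h : a * d - b * c = 1) : mk a b c d h 1 1 = d := rfl

theorem ext2 {g h : SpecialLinearGroup (Fin 2) F} (h00 : g 0 0 = h 0 0) (h01 : g 0 1 = h 0 1)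
    (h10 : g 1 0 = h 1 0) (h11 : g 1 1 = h 1 1) : g = h := by
  apply Subtype.ext
  ext i j
  fin_cases i <;> fin_cases j
  · exact h00
  · exact h01
  · exact h10
  · exact h11

theorem mul00 (g h : SpecialLinearGroup (Fin 2) F) : (g * h) 0 0 = g 0 0 * h 0 0 + g 0 1 * h 1 0 := by
  simp [SpecialLinearGroup.coe_mul, Matrix.mul_apply, Fin.sum_univ_two]

theorem mul01 (g h : SpecialLinearGroup (Fin 2) F) : (g * h) 0 1 = g 0 0 * h 0 1 + g 0 1 * h 1 1 := by
  simp [SpecialLinearGroup.coe_mul, Matrix.mul_apply, Fin.sum_univ_two]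

theorem mul10 (g h : SpecialLinearGroup (Fin 2) F) : (g * h) 1 0 = g 1 0 * h 0 0 + g 1 1 * h 1 0 := by
  simp [SpecialLinearGroup.coe_mul, Matrix.mul_apply, Fin.sum_univ_two]

theorem mul11 (g h : SpecialLinearGroup (Fin 2) F) : (g * h) 1 1 = g 1 0 * h 0 1 + g 1 1 * h 1 1 := by
  simp [SpecialLinearGroup.coe_mul, Matrix.mul_apply, Fin.sum_univ_two]

theorem det_eq (g : SpecialLinearGroup (Fin 2) F) : g 0 0 * g 1 1 - g 0 1 * g 1 0 = 1 := by
  have := g.2
  rwa [Matrix.det_fin_two] at this

/-- transvections -/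
def up (t : F) : SpecialLinearGroup (Fin 2) F := mk 1 t 0 1 (by ring)

theorem up_mul (s t : F) : up s * up t = up (s + t) := by
  apply ext2
  · rw [mul00]; simp [up]
  · rw [mul01]; simp [up, add_comm]
  · rw [mul10]; simp [up]
  · rw [mul11]; simp [up]

theorem conj_up (g : SpecialLinearGroup (Fin 2) F) (h : g 1 0 = 0) (t : F) :
    g * up t = up (g 0 0 * g 0 0 * t) * g := by
  have hd := det_eq g
  rw [h, mul_zero, sub_zero] at hd
  apply ext2
  · rw [mul00, mul00]; simp [up, h]
  · rw [mul01, mul01]; simp [up]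
    linear_combination (- g 0 0 * t) * hd
  · rw [mul10, mul10]; simp [up, h]
  · rw [mul11, mul11]; simp [up, h]

variable [DecidableEq F]

theorem smul_infty' (A : SpecialLinearGroup (Fin 2) F) :
    A.toGL • (∞ : OnePoint F) = if A 1 0 = 0 then ∞ else ((A 0 0 / A 1 0 : F) : OnePoint F) :=
  smul_infty_eq_ite _

theorem smul_coe' (A : SpecialLinearGroup (Fin 2) F) (x : F) :
    A.toGL • (x : OnePoint F) = if A 1 0 * x + A 1 1 = 0 then ∞
      else (((A 0 0 * x + A 0 1) / (A 1 0 * x + A 1 1) : F) : OnePoint F) :=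
  smul_some_eq_ite

theorem up_smul (t x : F) : (up t).toGL • (x : OnePoint F) = ((x + t : F) : OnePoint F) := by
  rw [smul_coe']
  simp [up]

theorem up_infty (t : F) : (up t).toGL • (∞ : OnePoint F) = ∞ := by
  rw [smul_infty']
  simp [up]

theorem two_fix (A : SpecialLinearGroup (Fin 2) F) (hi : A.toGL • (∞ : OnePoint F) = ∞)
    (h0 : A.toGL • ((0 : F) : OnePoint F) = ((0 : F) : OnePoint F)) {c : F} (hc : c ≠ 0)
    (h : A.toGL • (c : OnePoint F) = (c : OnePoint F)) (x : OnePoint F) : A.toGL • x = x := by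
  have hd := det_eq A
  have h10 : A 1 0 = 0 := by
    by_contra h'
    rw [smul_infty', if_neg h'] at hi
    exact OnePoint.coe_ne_infty _ hi
  rw [h10, mul_zero, sub_zero] at hd
  have h11 : A 1 1 ≠ 0 := fun h' => by rw [h', mul_zero] at hd; exact zero_ne_one hd
  rw [smul_coe', h10, mul_zero, zero_add, if_neg h11, mul_zero, zero_add, OnePoint.coe_eq_coe] at h0
  have h01 : A 0 1 = 0 := by
    rcases div_eq_zero_iff.1 h0 with h | h
    · exact h
    · exact absurd h h11
  rw [smul_coe', h10, zero_mul, zero_add, if_neg h11, h01, add_zero, OnePoint.coe_eq_coe,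
    div_eq_iff h11, mul_comm c] at h
  have h00 : A 0 0 = A 1 1 := mul_right_cancel₀ hc h
  apply scalar_smul A (A 1 1)
  ext i j
  fin_cases i <;> fin_cases j
  · simpa using h00
  · simpa using h01
  · simpa using h10
  · simp

/-- the action of `PSL₂(F)` on the projective line -/
noncomputable def pslHom (F : Type*) [Field F] [DecidableEq F] :
    ProjectiveSpecialLinearGroup (Fin 2) F →* Equiv.Perm (OnePoint F) :=
  QuotientGroup.lift (Subgroup.center (SpecialLinearGroup (Fin 2) F)) (slHom F) (by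
    rw [← ker_slHom])

theorem pslHom_mk (A : SpecialLinearGroup (Fin 2) F) (x : OnePoint F) :
    pslHom F (QuotientGroup.mk A) x = A.toGL • x := rfl

theorem pslHom_injective : Function.Injective (pslHom F) := by
  rw [injective_iff_map_eq_one]
  intro b hb
  obtain ⟨A, rfl⟩ := QuotientGroup.mk_surjective b
  have h1 : A ∈ (slHom F).ker := hb
  rw [ker_slHom] at h1
  exact (QuotientGroup.eq_one_iff A).2 h1

/-- unipotent elements -/
noncomputable def uHom (F : Type*) [Field F] :
    Multiplicative F →* ProjectiveSpecialLinearGroup (Fin 2) F where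
  toFun t := QuotientGroup.mk (up (Multiplicative.toAdd t))
  map_one' := by
    have : up (0 : F) = 1 := by
      apply ext2 <;> simp [up]
    show QuotientGroup.mk (up (0 : F)) = 1
    rw [this]; rfl
  map_mul' s t := by
    rw [toAdd_mul, ← up_mul]; rfl

theorem uHom_apply (t : Multiplicative F) : uHom F t = QuotientGroup.mk (up (Multiplicative.toAdd t)) := rfl

theorem uHom_injective : Function.Injective (uHom F) := by
  intro s t h
  have h1 := congrArg (fun b => pslHom F b ((0 : F) : OnePoint F)) h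
  simp only [uHom_apply, pslHom_mk, up_smul, zero_add, OnePoint.coe_eq_coe] at h1
  exact h1

theorem isZT_psl2 [Fintype F] {l k t : ℕ} (hl : l.Prime) (hF : Fintype.card F = l ^ k)
    (hcop : ¬ l ∣ t)
    (hcard : Nat.card (ProjectiveSpecialLinearGroup (Fin 2) F) = (Fintype.card F + 1) * Fintype.card F * t) :
    IsZT (ProjectiveSpecialLinearGroup (Fin 2) F) l (Fintype.card F) t := by
  have : Finite (OnePoint F) := inferInstanceAs (Finite (Option F))
  have : Finite (ProjectiveSpecialLinearGroup (Fin 2) F) := Finite.of_injective _ (pslHom_injective (F := F))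
  have hinf : ∀ b : ProjectiveSpecialLinearGroup (Fin 2) F, pslHom F b ∞ = ∞ →
      ∃ A : SpecialLinearGroup (Fin 2) F, A 1 0 = 0 ∧ b = QuotientGroup.mk A := by
    intro b hb
    obtain ⟨A, rfl⟩ := QuotientGroup.mk_surjective b
    refine ⟨A, ?_, rfl⟩
    rw [pslHom_mk, smul_infty'] at hb
    by_contra h
    rw [if_neg h] at hb
    exact OnePoint.coe_ne_infty _ hb
  have hmul : ∀ (a b : ProjectiveSpecialLinearGroup (Fin 2) F) (x : OnePoint F),
      pslHom F (a * b) x = pslHom F a (pslHom F b x) := fun a b x => by rw [map_mul]; rfl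
  have hinv : ∀ (a : ProjectiveSpecialLinearGroup (Fin 2) F) (x : OnePoint F),
      pslHom F a⁻¹ (pslHom F a x) = x := fun a x => by rw [← hmul, inv_mul_cancel, map_one]; rfl
  have htr : ∀ x : OnePoint F, ∃ b, pslHom F b ∞ = x := by
    intro x
    induction x using OnePoint.rec with
    | infty => exact ⟨1, by rw [map_one]; rfl⟩
    | coe x =>
      refine ⟨QuotientGroup.mk (mk x (-1) 1 0 (by ring)), ?_⟩
      rw [pslHom_mk, smul_infty']
      simp
  have hUtr : ∀ a b : OnePoint F, a ≠ ∞ → b ≠ ∞ → ∃ x ∈ (uHom F).range, pslHom F x a = b := by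
    intro a b ha hb
    induction a using OnePoint.rec with
    | infty => exact absurd rfl ha
    | coe a =>
      induction b using OnePoint.rec with
      | infty => exact absurd rfl hb
      | coe b =>
        refine ⟨uHom F (Multiplicative.ofAdd (b - a)), ⟨_, rfl⟩, ?_⟩
        rw [uHom_apply, pslHom_mk, toAdd_ofAdd, up_smul, add_sub_cancel]
  have hufix : ∀ x ∈ (uHom F).range, pslHom F x ∞ = ∞ := by
    rintro x ⟨t, rfl⟩
    rw [uHom_apply, pslHom_mk, up_infty]
  refine IsZT.of_hom (pslHom F) hl (by exact Fintype.one_lt_card) ?_ ∞ (uHom F).range ?_ ⟨k, hF⟩ hcop hcard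
    ?_ hufix hUtr htr ?_
  · rw [← Nat.card_eq_fintype_card]
    exact Finite.card_option
  · rw [← Nat.card_eq_fintype_card, ← Nat.card_congr (MonoidHom.ofInjective (uHom_injective (F := F))).toEquiv]
    exact Nat.card_congr Multiplicative.toAdd
  · rintro b hb x ⟨t, rfl⟩
    obtain ⟨A, hA, rfl⟩ := hinf b hb
    refine ⟨Multiplicative.ofAdd (A 0 0 * A 0 0 * Multiplicative.toAdd t), ?_⟩
    rw [eq_mul_inv_iff_mul_eq, uHom_apply, uHom_apply, toAdd_ofAdd, ← QuotientGroup.mk_mul,
      ← QuotientGroup.mk_mul, conj_up A hA]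
  · intro b x y z hxy hyz hxz hx hy hz
    obtain ⟨g, hg⟩ := htr x
    have hne : pslHom F g⁻¹ y ≠ ∞ := by
      intro h
      apply hxy
      have h1 := congrArg (pslHom F g) h
      rw [← hmul, mul_inv_cancel, map_one, hg] at h1
      exact h1.symm
    obtain ⟨v, hv, hvy⟩ := hUtr ((0 : F) : OnePoint F) _ (OnePoint.coe_ne_infty _) hne
    set w := g * v with hw
    have hwi : pslHom F w ∞ = x := by rw [hw, hmul, hufix v hv, hg]
    have hw0 : pslHom F w ((0 : F) : OnePoint F) = y := by
      rw [hw, hmul, hvy, ← hmul, mul_inv_cancel, map_one]; rfl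
    have hcx : ∀ p q : OnePoint F, pslHom F w p = q → pslHom F b q = q → pslHom F (w⁻¹ * b * w) p = p := by
      intro p q h1 h2
      rw [hmul, hmul, h1, h2, ← h1, hinv]
    obtain ⟨z', hz'⟩ : ∃ z', pslHom F w z' = z := (pslHom F w).surjective z
    have hzi : z' ≠ ∞ := by
      rintro rfl
      exact hxz (hwi.symm.trans hz')
    induction z' using OnePoint.rec with
    | infty => exact absurd rfl hzi
    | coe c =>
      have hc0 : c ≠ 0 := by
        rintro rfl
        exact hyz (hw0.symm.trans hz')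
      obtain ⟨A, hA⟩ := QuotientGroup.mk_surjective (w⁻¹ * b * w)
      have h1 := hcx _ _ hwi hx
      have h2 := hcx _ _ hw0 hy
      have h3 := hcx _ _ hz' hz
      rw [← hA, pslHom_mk] at h1 h2 h3
      have h4 := two_fix A h1 h2 hc0 h3
      have h5 : w⁻¹ * b * w = 1 := by
        apply pslHom_injective
        rw [map_one, ← hA]
        ext p
        rw [pslHom_mk, h4]; rfl
      have h6 : b = w * (w⁻¹ * b * w) * w⁻¹ := by group
      rw [h6, h5, mul_one, mul_inv_cancel]

end Psl

end Cfsg.Agent.OddCyclic.Zass
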