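import Mathlib
import Cfsg.Agent.LieExceptional.CITDefs
import Cfsg.Agent.Blocks.SylowIn
import Cfsg.Agent.Lib.NormalAbelian
import Cfsg.Agent.GH.L2AutSyl_m3
import Cfsg.Agent.OddCyclic.FFThree_m3
import Cfsg.Agent.ClassicalGeometry.PSL2Basic
import Cfsg.Agent.OddCyclic.CompJOneTools
import Cfsg.Agent.Lib.PSL2Torus
import Cfsg.Agent.Lib.PSL2Inv
import Cfsg.Agent.Lib.AutSL2Out
import Cfsg.Agent.LieClassical.SmallIso
import Cfsg.Agent.S0265
import Cfsg.Agent.OddCyclic.CompStandard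
import Cfsg.Agent.OddCyclic.B2Pgl_m3
import Cfsg.Agent.LieExceptional.CITBasic
import Cfsg.Agent.OddCyclic.T1Defs
import Cfsg.Agent.GTwoFour.Tools
import Cfsg.Agent.OddCyclic.CompBasic
import Cfsg.Agent.Lib.PGroupCoprimeAction
import Cfsg.Agent.LieExceptional.CITGlobal
import Cfsg.Agent.S1241
import Cfsg.Agent.Transfer.ThompsonTransfer
import Cfsg.Agent.SporRec.J1.Main
import Cfsg.Agent.SporadicB.J1.Main
import Cfsg.Agent.AschCrit.CommFour.Orbits_m3
import Cfsg.Agent.S0024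
import Cfsg.Agent.S0025
import Cfsg.Agent.SporRec.J1.Pair
import Cfsg.Agent.S0082
import Cfsg.Agent.S0112
import Cfsg.Agent.Lib.FastPerm
import Cfsg.Agent.OddCyclic.T1SzComp
import Cfsg.Agent.SmallSimple.SylowEight
import Cfsg.Agent.SmallSimple.TransferInvol
import Cfsg.Agent.OddCyclic.CoverTrans
import Cfsg.Agent.OddCyclic.CoverSz
import Cfsg.Agent.OddCyclic.T1Socle
import Cfsg.Agent.FastGrp
import Cfsg.Agent.Prune
set_option linter.all false

section
prune_inst 0x7ffcfcfa8ff8addedfff7e7fffdddffe29d4dfffffdffb43ffe4e9ef8fdf03023be5fb8f1de058ff0ec260b630b87813f97eceffee6bdc7ffffd5ff45ffb4e1fe5f7bd80519698340fbc0fff03f07f8a7f3fffffffffffffffffffffffffffbeffffffffffff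

-- part: OddCyclic/A4ELayer
section
prune_inst 0x10301700452212000000000220001d6292000000000b800191210702078fdc4000020e20c8000f0358200804003400281300001040000000000000004b1c01a0802252061240a10427000f80b007580c00000000000000000000000000041000000000000
set_option linter.all false
open scoped Cfsg.Agent.FastGrp

/-!
# S0342, component type, case A4 with `K = A₅`: the Sylow 2-subgroup of `C(E)`

(5b) of blueprints/S0342-caseA.md, last section: an `h`-invariant 2-group `P > V = R × E`,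
`|R| = |E| = 4`, `E` central in `P`, `C_P(t) = V` for `1 ≠ t ∈ R`, `C_P(h) = R`. Then `|P| = 64`,
`P = F R` with `F` abelian of order 16, `F ∩ V = E`.
-/

set_option autoImplicit false

namespace Cfsg.Agent.OddCyclic.A4ELayer

open Subgroup
open Cfsg.Agent.LieExceptional.CITDefs

variable {G : Type*} [Group G]

theorem card_mul_relIndex {V S : Subgroup G} (h : V ≤ S) :
    Nat.card V * V.relIndex S = Nat.card S := by
  rw [← Nat.card_congr (Subgroup.subgroupOfEquivOfLe h).toEquiv]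
  exact (V.subgroupOf S).card_mul_index

/-- An element of order three permuting a coset of a 2-group has a fixed point in it. -/
theorem exists_fixed [Finite G] {h x : G} (h3 : h * h * h = 1) {K : Subgroup G} (hK : IsPGroup 2 K)
    (hh : ∀ y ∈ K, h * y * h⁻¹ ∈ K) (hx : x⁻¹ * (h * x * h⁻¹) ∈ K) :
    ∃ k ∈ K, h * (x * k) = (x * k) * h := by
  classical
  have hpf : Fact (Nat.Prime 2) := ⟨Nat.prime_two⟩
  have hpf3 : Fact (Nat.Prime 3) := ⟨Nat.prime_three⟩
  let _ : Fintype K := Fintype.ofFinite K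
  let τ : K → K := fun y => ⟨(x⁻¹ * (h * x * h⁻¹)) * (h * y * h⁻¹), K.mul_mem hx (hh y y.2)⟩
  have hτ : ∀ y : K, (τ y : G) = x⁻¹ * (h * (x * y) * h⁻¹) := by
    intro y
    show (x⁻¹ * (h * x * h⁻¹)) * (h * y * h⁻¹) = _
    group
  have h33 : ∀ z : G, h * (h * (h * z * h⁻¹) * h⁻¹) * h⁻¹ = z := by
    intro z
    calc h * (h * (h * z * h⁻¹) * h⁻¹) * h⁻¹ = (h * h * h) * z * (h * h * h)⁻¹ := by group
      _ = z := by rw [h3]; group
  have hτ3 : ∀ y : K, τ (τ (τ y)) = y := by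
    intro y
    apply Subtype.ext
    rw [hτ, hτ, hτ]
    simp only [mul_inv_cancel_left]
    rw [h33]
    group
  let σ : Equiv.Perm K :=
    { toFun := τ
      invFun := fun y => τ (τ y)
      left_inv := fun y => hτ3 y
      right_inv := fun y => hτ3 y }
  have hσ : σ ^ 3 ^ 1 = 1 := by
    ext y
    show ((σ ^ 3) y : K) = (y : G)
    rw [show (σ ^ 3) y = σ (σ (σ y)) by rfl]
    exact congrArg Subtype.val (hτ3 y)
  have hcard : ¬ 3 ∣ Fintype.card K := by
    rw [← Nat.card_eq_fintype_card]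
    obtain ⟨n, hn⟩ := IsPGroup.iff_card.mp hK
    rw [hn]
    intro hd
    have := Nat.prime_three.dvd_of_dvd_pow hd
    omega
  obtain ⟨k, hk⟩ := Equiv.Perm.exists_fixed_point_of_prime hcard hσ
  refine ⟨k, k.2, ?_⟩
  have h1 : (τ k : G) = k := congrArg Subtype.val hk
  rw [hτ] at h1
  have h2 : h * (x * k) * h⁻¹ = x * k := by
    calc h * (x * k) * h⁻¹ = x * (x⁻¹ * (h * (x * k) * h⁻¹)) := by group
      _ = x * k := by rw [h1]
  calc h * (x * k) = (h * (x * k) * h⁻¹) * h := by group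
    _ = x * k * h := by rw [h2]

/-- The data: `V = R × E`, `E ≤ Z(P)`. -/
structure Lay (P V R E : Subgroup G) (h : G) : Prop where
  two : IsPGroup 2 P
  VP : V ≤ P
  elemR : Elem R
  elemE : Elem E
  cardR : Nat.card R = 4
  cardE : Nat.card E = 4
  memV : ∀ v, v ∈ V ↔ ∃ r ∈ R, ∃ e ∈ E, v = r * e
  EP : ∀ e ∈ E, ∀ x ∈ P, e * x = x * e
  h3 : h * h * h = 1
  hP : ∀ x ∈ P, h * x * h⁻¹ ∈ P
  hE : ∀ e ∈ E, h * e * h⁻¹ ∈ E
  hR : ∀ r ∈ R, h * r = r * h
  fpE : ∀ e ∈ E, h * e = e * h → e = 1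
  fix : ∀ x ∈ P, h * x = x * h → x ∈ R
  cent : ∀ t ∈ R, t ≠ 1 → ∀ x ∈ P, x * t = t * x → x ∈ V
  ne : V ≠ P

section

variable [Finite G] {P V R E : Subgroup G} {h : G}

omit [Finite G] in
theorem Lay.RV (L : Lay P V R E h) : R ≤ V := fun r hr =>
  (L.memV r).mpr ⟨r, hr, 1, E.one_mem, (mul_one r).symm⟩

omit [Finite G] in
theorem Lay.EV (L : Lay P V R E h) : E ≤ V := fun e he =>
  (L.memV e).mpr ⟨1, R.one_mem, e, he, (one_mul e).symm⟩

omit [Finite G] in
theorem Lay.EP' (L : Lay P V R E h) : E ≤ P := L.EV.trans L.VP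

omit [Finite G] in
theorem Lay.RP (L : Lay P V R E h) : R ≤ P := L.RV.trans L.VP

omit [Finite G] in
theorem Lay.inf (L : Lay P V R E h) {x : G} (hR : x ∈ R) (hE : x ∈ E) : x = 1 :=
  L.fpE x hE (L.hR x hR)

omit [Finite G] in
theorem Lay.h33 (L : Lay P V R E h) (z : G) : h * (h * (h * z * h⁻¹) * h⁻¹) * h⁻¹ = z := by
  calc h * (h * (h * z * h⁻¹) * h⁻¹) * h⁻¹ = (h * h * h) * z * (h * h * h)⁻¹ := by group
    _ = z := by rw [L.h3]; group

omit [Finite G] in
theorem Lay.hr (L : Lay P V R E h) {r : G} (hr : r ∈ R) : h * r * h⁻¹ = r := by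
  rw [L.hR r hr]; group

omit [Finite G] in
theorem Lay.hV (L : Lay P V R E h) : ∀ v ∈ V, h * v * h⁻¹ ∈ V := by
  intro v hv
  obtain ⟨r, hr, e, he, rfl⟩ := (L.memV v).mp hv
  have e1 : h * (r * e) * h⁻¹ = (h * r * h⁻¹) * (h * e * h⁻¹) := by group
  rw [e1, L.hr hr]
  exact V.mul_mem (L.RV hr) (L.EV (L.hE e he))

omit [Finite G] in
theorem Lay.elemV (L : Lay P V R E h) : Elem V := by
  intro v hv
  obtain ⟨r, hr, e, he, rfl⟩ := (L.memV v).mp hv
  calc r * e * (r * e) = r * (e * r) * e := by group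
    _ = r * (r * e) * e := by rw [L.EP e he r (L.RP hr)]
    _ = (r * r) * (e * e) := by group
    _ = 1 := by rw [L.elemR r hr, L.elemE e he, one_mul]

/-- Subgroups covering `X` modulo the fixed points of `h` -/
theorem Lay.le_of_fix (L : Lay P V R E h) {X K : Subgroup G} (hX : X ≤ P)
    (hK : K ≤ X) (hhK : ∀ x ∈ K, h * x * h⁻¹ ∈ K) (hRK : ∀ r ∈ R, r ∈ X → r ∈ K)
    (hfix : ∀ x ∈ X, x⁻¹ * (h * x * h⁻¹) ∈ K) : X ≤ K := by
  intro x hx
  obtain ⟨k, hk, hc⟩ := exists_fixed L.h3 (L.two.to_le (hK.trans hX)) hhK (hfix x hx)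
  have h1 : x * k ∈ X := X.mul_mem hx (hK hk)
  have h2 : x * k ∈ R := L.fix _ (hX h1) hc
  have h3 := hRK _ h2 h1
  have e : x = (x * k) * k⁻¹ := by group
  rw [e]
  exact K.mul_mem h3 (K.inv_mem hk)

/-- if `X` normalises `A` and `AR` then `[X, R] ≤ A` -/
theorem Lay.comm_mem (L : Lay P V R E h) {X A : Subgroup G} (hX : X ≤ P)
    (hhX : ∀ x ∈ X, h * x * h⁻¹ ∈ X) (hXA : ∀ x ∈ X, ∀ a ∈ A, x * a * x⁻¹ ∈ A)
    (hhA : ∀ a ∈ A, h * a * h⁻¹ ∈ A) (hRX : R ≤ X)
    (hR : ∀ x ∈ X, ∀ t ∈ R, ∃ t' ∈ R, ∃ a ∈ A, x * t * x⁻¹ = t' * a) :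
    ∀ x ∈ X, ∀ t ∈ R, x * t * x⁻¹ * t⁻¹ ∈ A := by
  let K : Subgroup G :=
    { carrier := {x | x ∈ X ∧ ∀ t ∈ R, x * t * x⁻¹ * t⁻¹ ∈ A}
      one_mem' := ⟨X.one_mem, fun t _ => by
        have : (1 : G) * t * 1⁻¹ * t⁻¹ = 1 := by group
        rw [this]; exact A.one_mem⟩
      mul_mem' := by
        rintro x y ⟨hx, hxt⟩ ⟨hy, hyt⟩
        refine ⟨X.mul_mem hx hy, fun t ht => ?_⟩
        have : x * y * t * (x * y)⁻¹ * t⁻¹ =
            (x * (y * t * y⁻¹ * t⁻¹) * x⁻¹) * (x * t * x⁻¹ * t⁻¹) := by group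
        rw [this]
        exact A.mul_mem (hXA x hx _ (hyt t ht)) (hxt t ht)
      inv_mem' := by
        rintro x ⟨hx, hxt⟩
        refine ⟨X.inv_mem hx, fun t ht => ?_⟩
        have : x⁻¹ * t * x⁻¹⁻¹ * t⁻¹ = x⁻¹ * (x * t * x⁻¹ * t⁻¹)⁻¹ * x⁻¹⁻¹ := by group
        rw [this]
        exact hXA _ (X.inv_mem hx) _ (A.inv_mem (hxt t ht)) }
  have hK : ∀ x, x ∈ K ↔ x ∈ X ∧ ∀ t ∈ R, x * t * x⁻¹ * t⁻¹ ∈ A := fun x => Iff.rfl
  have hle : X ≤ K := by
    refine L.le_of_fix hX (fun x hx => hx.1) ?_ ?_ ?_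
    · rintro x ⟨hx, hxt⟩
      refine ⟨hhX x hx, fun t ht => ?_⟩
      have e : h * x * h⁻¹ * t * (h * x * h⁻¹)⁻¹ * t⁻¹ = h * (x * t * x⁻¹ * t⁻¹) * h⁻¹ := by
        have h1 : h⁻¹ * t * h = t := by
          calc h⁻¹ * t * h = h⁻¹ * (t * h) := by group
            _ = h⁻¹ * (h * t) := by rw [L.hR t ht]
            _ = t := by group
        have h2 : h⁻¹ * t⁻¹ * h = t⁻¹ := by
          calc h⁻¹ * t⁻¹ * h = (h⁻¹ * t * h)⁻¹ := by group
            _ = t⁻¹ := by rw [h1]
        calc h * x * h⁻¹ * t * (h * x * h⁻¹)⁻¹ * t⁻¹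
            = h * x * (h⁻¹ * t * h) * x⁻¹ * (h⁻¹ * t⁻¹ * h) * h⁻¹ := by group
          _ = h * (x * t * x⁻¹ * t⁻¹) * h⁻¹ := by rw [h1, h2]; group
      rw [e]
      exact hhA _ (hxt t ht)
    · intro r hr hrX
      refine ⟨hrX, fun t ht => ?_⟩
      have : r * t * r⁻¹ * t⁻¹ = 1 := by
        rw [L.elemR.comm hr ht]; group
      rw [this]; exact A.one_mem
    · intro x hx
      refine ⟨X.mul_mem (X.inv_mem hx) (hhX x hx), fun t ht => ?_⟩
      obtain ⟨t', ht', a, ha, hxt⟩ := hR x hx t ht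
      have h1 : (h * x * h⁻¹) * t * (h * x * h⁻¹)⁻¹ = t' * (h * a * h⁻¹) := by
        have h2 : h⁻¹ * t * h = t := by
          calc h⁻¹ * t * h = h⁻¹ * (t * h) := by group
            _ = h⁻¹ * (h * t) := by rw [L.hR t ht]
            _ = t := by group
        calc (h * x * h⁻¹) * t * (h * x * h⁻¹)⁻¹ = h * (x * (h⁻¹ * t * h) * x⁻¹) * h⁻¹ := by group
          _ = h * (t' * a) * h⁻¹ := by rw [h2, hxt]
          _ = (h * t' * h⁻¹) * (h * a * h⁻¹) := by group
          _ = t' * (h * a * h⁻¹) := by rw [L.hr ht']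
      have h3 : t' = x * t * x⁻¹ * a⁻¹ := by rw [hxt]; group
      have h4 : x⁻¹ * (h * x * h⁻¹) * t * (x⁻¹ * (h * x * h⁻¹))⁻¹ * t⁻¹ =
          t * (x⁻¹ * (a⁻¹ * (h * a * h⁻¹)) * x⁻¹⁻¹) * t⁻¹ := by
        calc x⁻¹ * (h * x * h⁻¹) * t * (x⁻¹ * (h * x * h⁻¹))⁻¹ * t⁻¹
            = x⁻¹ * ((h * x * h⁻¹) * t * (h * x * h⁻¹)⁻¹) * x * t⁻¹ := by group
          _ = x⁻¹ * (t' * (h * a * h⁻¹)) * x * t⁻¹ := by rw [h1]
          _ = x⁻¹ * (x * t * x⁻¹ * a⁻¹ * (h * a * h⁻¹)) * x * t⁻¹ := by rw [← h3]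
          _ = t * (x⁻¹ * (a⁻¹ * (h * a * h⁻¹)) * x⁻¹⁻¹) * t⁻¹ := by group
      rw [h4]
      exact hXA t (hRX ht) _ (hXA _ (X.inv_mem hx) _ (A.mul_mem (A.inv_mem ha) (hhA a ha)))
  exact fun x hx => (hle hx).2

omit [Finite G] in
/-- the order of a group `X` acting on `Et` -/
theorem card_eq_of_comm {X E : Subgroup G} {t : G} (hE : Elem E)
    (hEX : ∀ e ∈ E, ∀ x ∈ X, e * x = x * e) (hc : ∀ x ∈ X, x * t * x⁻¹ * t⁻¹ ∈ E) :
    ∃ m, m ∣ Nat.card E ∧ Nat.card X = m * Nat.card (X ⊓ centralizer ({t} : Set G) : Subgroup G) := by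
  let φ : X →* E := MonoidHom.mk' (fun x => ⟨x * t * (x : G)⁻¹ * t⁻¹, hc x x.2⟩) (by
    intro x y
    apply Subtype.ext
    show (x * y : G) * t * ((x : G) * y)⁻¹ * t⁻¹ =
      (x * t * (x : G)⁻¹ * t⁻¹) * (y * t * (y : G)⁻¹ * t⁻¹)
    have h1 := hEX _ (hc y y.2) x x.2
    calc (x * y : G) * t * ((x : G) * y)⁻¹ * t⁻¹
        = x * ((y * t * (y : G)⁻¹ * t⁻¹)) * (t * (x : G)⁻¹ * t⁻¹) := by group
      _ = ((y * t * (y : G)⁻¹ * t⁻¹) * x) * (t * (x : G)⁻¹ * t⁻¹) := by rw [h1]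
      _ = (y * t * (y : G)⁻¹ * t⁻¹) * (x * t * (x : G)⁻¹ * t⁻¹) := by group
      _ = (x * t * (x : G)⁻¹ * t⁻¹) * (y * t * (y : G)⁻¹ * t⁻¹) :=
        hE.comm (hc y y.2) (hc x x.2))
  have hker : (φ.ker).map X.subtype = X ⊓ centralizer ({t} : Set G) := by
    ext x
    rw [mem_inf, mem_centralizer_singleton_iff]
    constructor
    · rintro ⟨y, hy, rfl⟩
      refine ⟨y.2, ?_⟩
      have h1 : (y : G) * t * (y : G)⁻¹ * t⁻¹ = 1 := congrArg Subtype.val hy
      have h2 : (y : G) * t * (y : G)⁻¹ = t := mul_inv_eq_one.mp h1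
      exact mul_inv_eq_iff_eq_mul.mp h2
    · rintro ⟨hx, hxt⟩
      refine ⟨⟨x, hx⟩, ?_, rfl⟩
      apply Subtype.ext
      show x * t * x⁻¹ * t⁻¹ = 1
      rw [hxt]; group
  refine ⟨Nat.card φ.range, Subgroup.card_subgroup_dvd_card _, ?_⟩
  rw [← hker, Subgroup.card_map_of_injective X.subtype_injective, ← Subgroup.index_ker, mul_comm,
    Subgroup.card_mul_index]

theorem four_cases {E : Subgroup G} (h4 : Nat.card E = 4) {a b c d f : G} (ha : a ∈ E)
    (hb : b ∈ E) (hc : c ∈ E) (hd : d ∈ E) (hf : f ∈ E) (hab : a ≠ b) (hac : a ≠ c) (had : a ≠ d)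
    (hbc : b ≠ c) (hbd : b ≠ d) (hcd : c ≠ d) : f = a ∨ f = b ∨ f = c ∨ f = d := by
  classical
  let _ : Fintype E := Fintype.ofFinite E
  let s : Finset E := {⟨a, ha⟩, ⟨b, hb⟩, ⟨c, hc⟩, ⟨d, hd⟩}
  have hs : s.card = 4 := by
    simp only [s]
    rw [Finset.card_insert_of_notMem, Finset.card_insert_of_notMem, Finset.card_insert_of_notMem,
      Finset.card_singleton]
    · simpa using hcd
    · simpa using ⟨hbc, hbd⟩
    · simpa using ⟨hab, hac, had⟩
  have hu : s = Finset.univ := by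
    rw [← Finset.card_eq_iff_eq_univ, hs, ← Nat.card_eq_fintype_card, h4]
  have hfs : (⟨f, hf⟩ : E) ∈ s := by rw [hu]; exact Finset.mem_univ _
  simpa only [s, _root_.Finset.mem_insert, _root_.Subtype.mk.injEq, _root_.Finset.mem_singleton] using hfs

omit [Finite G] in
theorem Lay.exists_ne (L : Lay P V R E h) : ∃ t ∈ R, t ≠ 1 := by
  by_contra hno
  push Not at hno
  have h1 : R = ⊥ := (Subgroup.eq_bot_iff_forall R).mpr hno
  have := L.cardR
  rw [h1, Subgroup.card_bot] at this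
  omega

/-- `E = {1, e, e^h, e^(h²)}` -/
theorem Lay.E_cases (L : Lay P V R E h) {e f : G} (he : e ∈ E) (he1 : e ≠ 1) (hf : f ∈ E) :
    f = 1 ∨ f = e ∨ f = h * e * h⁻¹ ∨ f = h * (h * e * h⁻¹) * h⁻¹ := by
  have h1 := L.hE e he
  have h2 := L.hE _ h1
  have key : ∀ a : G, a ∈ E → a ≠ 1 → h * a * h⁻¹ ≠ a := by
    intro a ha ha1 hh
    apply ha1
    apply L.fpE a ha
    calc h * a = (h * a * h⁻¹) * h := by group
      _ = a * h := by rw [hh]
  have hne1 : h * e * h⁻¹ ≠ 1 := fun hh => he1 (by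
    have : e = h⁻¹ * (h * e * h⁻¹) * h := by group
    rw [this, hh]; group)
  have hne2 : h * (h * e * h⁻¹) * h⁻¹ ≠ 1 := fun hh => hne1 (by
    have : h * e * h⁻¹ = h⁻¹ * (h * (h * e * h⁻¹) * h⁻¹) * h := by group
    rw [this, hh]; group)
  have hne3 : h * (h * e * h⁻¹) * h⁻¹ ≠ e := by
    intro hh
    have h3 := L.h33 e
    rw [hh] at h3
    exact key e he he1 h3
  exact four_cases L.cardE E.one_mem he h1 h2 hf he1.symm hne1.symm hne2.symm
    (key e he he1).symm hne3.symm (key _ h1 hne1).symm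

/-! ### the first layer -/

omit [Finite G] in
theorem Lay.hV' (L : Lay P V R E h) : ∀ v ∈ V, h⁻¹ * v * h ∈ V := by
  intro v hv
  have h1 := L.hV _ (L.hV v hv)
  have h2 : h * (h * v * h⁻¹) * h⁻¹ = h⁻¹ * v * h := by
    calc h * (h * v * h⁻¹) * h⁻¹ = h⁻¹ * (h * (h * (h * v * h⁻¹) * h⁻¹) * h⁻¹) * h := by group
      _ = h⁻¹ * v * h := by rw [L.h33]
  rwa [h2] at h1

omit [Finite G] in
theorem Lay.h_norm (L : Lay P V R E h) : h ∈ normalizer (V : Set G) := by
  rw [mem_normalizer_iff]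
  intro x
  refine ⟨fun hx => L.hV x hx, fun hx => ?_⟩
  have h1 := L.hV' _ hx
  have e : h⁻¹ * (h * x * h⁻¹) * h = x := by group
  rwa [e] at h1

/-- `N_P(V)` -/
def S1 (P V : Subgroup G) : Subgroup G := normalizer (V : Set G) ⊓ P

omit [Finite G] in
theorem Lay.V_le_S1 (L : Lay P V R E h) : V ≤ S1 P V := le_inf Subgroup.le_normalizer L.VP

omit [Finite G] in
theorem Lay.h_S1 (L : Lay P V R E h) : ∀ x ∈ S1 P V, h * x * h⁻¹ ∈ S1 P V := fun x hx =>
  ⟨Subgroup.mul_mem _ (Subgroup.mul_mem _ L.h_norm hx.1) (Subgroup.inv_mem _ L.h_norm),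
    L.hP x hx.2⟩

omit [Finite G] in
theorem Lay.E_conj (L : Lay P V R E h) {x e : G} (hx : x ∈ P) (he : e ∈ E) : x * e * x⁻¹ = e := by
  rw [← L.EP e he x hx]; group

theorem Lay.comm_E (L : Lay P V R E h) : ∀ x ∈ S1 P V, ∀ t ∈ R, x * t * x⁻¹ * t⁻¹ ∈ E := by
  refine L.comm_mem inf_le_right L.h_S1 ?_ L.hE (L.RV.trans L.V_le_S1) ?_
  · intro x hx a ha
    rw [L.E_conj hx.2 ha]; exact ha
  · intro x hx t ht
    have h1 : x * t * x⁻¹ ∈ V := (mem_normalizer_iff.mp hx.1 t).mp (L.RV ht)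
    obtain ⟨r, hr, e, he, hre⟩ := (L.memV _).mp h1
    exact ⟨r, hr, e, he, hre⟩

omit [Finite G] in
theorem Lay.cent_inf (L : Lay P V R E h) {t : G} (ht : t ∈ R) (ht1 : t ≠ 1) {X : Subgroup G}
    (hX : X ≤ P) (hVX : V ≤ X) : X ⊓ centralizer ({t} : Set G) = V := by
  apply le_antisymm
  · intro x hx
    exact L.cent t ht ht1 x (hX hx.1) (mem_centralizer_singleton_iff.mp hx.2)
  · intro v hv
    exact ⟨hVX hv, mem_centralizer_singleton_iff.mpr (L.elemV.comm hv (L.RV ht))⟩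

omit [Finite G] in
theorem Lay.card_V (L : Lay P V R E h) : Nat.card V = 16 := by
  have h1 : Function.Bijective (fun x : R × E => (⟨x.1 * x.2, (L.memV _).mpr
      ⟨x.1, x.1.2, x.2, x.2.2, rfl⟩⟩ : V)) := by
    constructor
    · rintro ⟨r, e⟩ ⟨r', e'⟩ hh
      have h2 : (r : G) * e = r' * e' := congrArg Subtype.val hh
      have h3 : (r' : G)⁻¹ * r = e' * (e : G)⁻¹ := by
        calc (r' : G)⁻¹ * r = (r' : G)⁻¹ * (r * e) * (e : G)⁻¹ := by group
          _ = e' * (e : G)⁻¹ := by rw [h2]; group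
      have h4 : (r' : G)⁻¹ * r = 1 := by
        apply L.inf (R.mul_mem (R.inv_mem r'.2) r.2)
        rw [h3]; exact E.mul_mem e'.2 (E.inv_mem e.2)
      have h5 : r = r' := Subtype.ext (by
        calc (r : G) = r' * ((r' : G)⁻¹ * r) := by group
          _ = r' := by rw [h4, mul_one])
      have h6 : e = e' := Subtype.ext (by
        rw [h4] at h3
        exact (mul_inv_eq_one.mp h3.symm).symm)
      rw [h5, h6]
    · rintro ⟨v, hv⟩
      obtain ⟨r, hr, e, he, rfl⟩ := (L.memV v).mp hv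
      exact ⟨(⟨r, hr⟩, ⟨e, he⟩), rfl⟩
  rw [← Nat.card_congr (Equiv.ofBijective _ h1), Nat.card_prod, L.cardR, L.cardE]

theorem Lay.exists_S1 (L : Lay P V R E h) : ∃ x ∈ S1 P V, x ∉ V := by
  have hpf : Fact (Nat.Prime 2) := ⟨Nat.prime_two⟩
  by_contra hno
  push Not at hno
  exact L.ne (Cfsg.Agent.Blocks.SylowIn.eq_of_normalizer_inf_le (p := 2) L.two L.VP hno).symm

theorem Lay.card_S1 (L : Lay P V R E h) : Nat.card (S1 P V) = 64 := by
  obtain ⟨t, ht, ht1⟩ := L.exists_ne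
  obtain ⟨m, hm, hc⟩ := card_eq_of_comm (X := S1 P V) (t := t) L.elemE
    (fun e he x hx => L.EP e he x hx.2) (fun x hx => L.comm_E x hx t ht)
  rw [L.cent_inf (X := S1 P V) ht ht1 inf_le_right L.V_le_S1, L.card_V] at hc
  rw [L.cardE] at hm
  have h4 : m = 1 ∨ m = 2 ∨ m = 4 := by
    have := Nat.le_of_dvd (by norm_num) hm
    interval_cases m <;> simp_all only [_root_.ne_eq, _root_.zero_dvd_iff, _root_.OfNat.ofNat_ne_zero, _root_.isUnit_iff_eq_one, _root_.IsUnit.dvd, _root_.one_mul, _root_.Nat.one_le_ofNat, _root_.OfNat.one_ne_ofNat, _root_.or_self, _root_.or_false, _root_.Nat.reduceDvd, _root_.Nat.reduceMul, _root_.Nat.reduceLeDiff, _root_.OfNat.ofNat_ne_one, _root_.Nat.reduceEqDiff, _root_.or_true, _root_.dvd_refl, _root_.Std.le_refl]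
  rcases h4 with rfl | rfl | rfl
  · exfalso
    obtain ⟨x, hx, hxV⟩ := L.exists_S1
    have : V = S1 P V := Subgroup.eq_of_le_of_card_ge L.V_le_S1 (by rw [hc, L.card_V])
    rw [← this] at hx
    exact hxV hx
  · exfalso
    have h2 : V.relIndex (S1 P V) = 2 := by
      have := card_mul_relIndex L.V_le_S1
      rw [hc, L.card_V] at this
      omega
    obtain ⟨x, hx, hxV⟩ := L.exists_S1
    apply hxV
    refine L.le_of_fix inf_le_right L.V_le_S1 L.hV (fun r hr _ => L.RV hr) ?_ hx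
    intro y hy
    by_cases hyV : y ∈ V
    · exact V.mul_mem (V.inv_mem hyV) (L.hV y hyV)
    · have h3 : h * y * h⁻¹ ∉ V := by
        intro hh
        apply hyV
        have := L.hV' _ hh
        have e : h⁻¹ * (h * y * h⁻¹) * h = y := by group
        rwa [e] at this
      have h5 : y⁻¹ ∉ V := fun hh => hyV (by rw [← inv_inv y]; exact V.inv_mem hh)
      have := Subgroup.mul_mem_iff_of_index_two (H := V.subgroupOf (S1 P V)) h2
        (a := ⟨y⁻¹, Subgroup.inv_mem _ hy⟩) (b := ⟨_, L.h_S1 y hy⟩)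
      rw [mem_subgroupOf, mem_subgroupOf, mem_subgroupOf] at this
      exact this.mpr (iff_of_false h5 h3)
  · rw [hc]

/-- squares of elements of `N_P(V)` lie in `E` -/
theorem Lay.sq_mem (L : Lay P V R E h) {x : G} (hx : x ∈ S1 P V) : x * x ∈ E := by
  by_cases hxV : x ∈ V
  · rw [L.elemV x hxV]; exact E.one_mem
  obtain ⟨t, ht, ht1⟩ := L.exists_ne
  have hxP : x ∈ P := hx.2
  have h1 : (x * x) * t = t * (x * x) := by
    have h2 := L.comm_E x hx t ht
    have h3 := L.elemE _ h2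
    have h4 := L.E_conj hxP h2
    have h5 : x * t * x⁻¹ = (x * t * x⁻¹ * t⁻¹) * t := by group
    have h6 : (x * x) * t * (x * x)⁻¹ = t := by
      calc (x * x) * t * (x * x)⁻¹ = x * (x * t * x⁻¹) * x⁻¹ := by group
        _ = x * ((x * t * x⁻¹ * t⁻¹) * t) * x⁻¹ := by rw [← h5]
        _ = (x * (x * t * x⁻¹ * t⁻¹) * x⁻¹) * (x * t * x⁻¹) := by group
        _ = (x * t * x⁻¹ * t⁻¹) * ((x * t * x⁻¹ * t⁻¹) * t) := by rw [h4, ← h5]
        _ = ((x * t * x⁻¹ * t⁻¹) * (x * t * x⁻¹ * t⁻¹)) * t := by group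
        _ = t := by rw [h3, one_mul]
    exact mul_inv_eq_iff_eq_mul.mp h6
  have h2 : x * x ∈ V := L.cent t ht ht1 _ (P.mul_mem hxP hxP) h1
  obtain ⟨r, hr, e, he, hre⟩ := (L.memV _).mp h2
  by_cases hr1 : r = 1
  · rw [hre, hr1, one_mul]; exact he
  · exfalso
    apply hxV
    apply L.cent r hr hr1 x hxP
    have h3 : r = x * x * e⁻¹ := by rw [hre]; group
    have h4 : e⁻¹ * x = x * e⁻¹ := L.EP _ (E.inv_mem he) x hxP
    rw [h3]
    calc x * (x * x * e⁻¹) = x * x * (x * e⁻¹) := by group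
      _ = x * x * (e⁻¹ * x) := by rw [h4]
      _ = x * x * e⁻¹ * x := by group

/-- `N_P(V) / E` is abelian -/
theorem Lay.comm_S1 (L : Lay P V R E h) {x y : G} (hx : x ∈ S1 P V) (hy : y ∈ S1 P V) :
    x * y * x⁻¹ * y⁻¹ ∈ E := by
  have h1 := L.sq_mem hx
  have h2 := L.sq_mem hy
  have h3 := L.sq_mem ((S1 P V).mul_mem hx hy)
  have hx' : x⁻¹ = (x * x)⁻¹ * x := by group
  have hy' : y⁻¹ = (y * y)⁻¹ * y := by group
  have h4 := L.EP _ (E.inv_mem h1) (x * y) (P.mul_mem hx.2 hy.2)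
  have h5 := L.EP _ (E.inv_mem h2) (x * y * x) (P.mul_mem (P.mul_mem hx.2 hy.2) hx.2)
  have e : x * y * x⁻¹ * y⁻¹ = (x * x)⁻¹ * ((y * y)⁻¹ * (x * y * (x * y))) := by
    calc x * y * x⁻¹ * y⁻¹ = (x * y * (x * x)⁻¹) * x * ((y * y)⁻¹ * y) := by
          rw [hx', hy']; group
      _ = ((x * x)⁻¹ * (x * y)) * x * ((y * y)⁻¹ * y) := by rw [h4]
      _ = (x * x)⁻¹ * (x * y * x * (y * y)⁻¹) * y := by group
      _ = (x * x)⁻¹ * ((y * y)⁻¹ * (x * y * x)) * y := by rw [h5]
      _ = (x * x)⁻¹ * ((y * y)⁻¹ * (x * y * (x * y))) := by group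
  rw [e]
  exact E.mul_mem (E.inv_mem h1) (E.mul_mem (E.inv_mem h2) h3)

/-- `x x^h x^(h²)` -/
def nm (h x : G) : G := x * (h * x * h⁻¹) * (h * (h * x * h⁻¹) * h⁻¹)

theorem Lay.swap (L : Lay P V R E h) {x y : G} (hx : x ∈ S1 P V) (hy : y ∈ S1 P V) :
    ∃ e ∈ E, y * x = x * y * e := by
  refine ⟨y⁻¹ * x⁻¹ * y⁻¹⁻¹ * x⁻¹⁻¹, L.comm_S1 ((S1 P V).inv_mem hy) ((S1 P V).inv_mem hx), ?_⟩
  group

theorem Lay.nm_mul (L : Lay P V R E h) {x y : G} (hx : x ∈ S1 P V) (hy : y ∈ S1 P V) :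
    ∃ e ∈ E, nm h (x * y) = nm h x * nm h y * e := by
  have hx1 := L.h_S1 x hx
  have hx2 := L.h_S1 _ hx1
  have hy1 := L.h_S1 y hy
  have hy2 := L.h_S1 _ hy1
  set x1 := h * x * h⁻¹ with hx1'
  set x2 := h * x1 * h⁻¹ with hx2'
  set y1 := h * y * h⁻¹ with hy1'
  set y2 := h * y1 * h⁻¹ with hy2'
  have e1 : nm h (x * y) = x * y * (x1 * y1) * (x2 * y2) := by
    show x * y * (h * (x * y) * h⁻¹) * (h * (h * (x * y) * h⁻¹) * h⁻¹) = _
    rw [hx2', hy2', hx1', hy1']; group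
  obtain ⟨a, ha, h1⟩ := L.swap hx1 hy
  obtain ⟨b, hb, h2⟩ := L.swap hx2 hy1
  obtain ⟨c, hc, h3⟩ := L.swap hx2 hy
  have ca := L.EP a ha
  have cb := L.EP b hb
  have cc := L.EP c hc
  refine ⟨a * b * c, E.mul_mem (E.mul_mem ha hb) hc, ?_⟩
  rw [e1]
  show _ = x * x1 * x2 * (y * y1 * y2) * (a * b * c)
  have d1 : y1 * x2 ∈ P := P.mul_mem hy1.2 hx2.2
  calc x * y * (x1 * y1) * (x2 * y2) = x * (y * x1) * (y1 * x2) * y2 := by group
    _ = x * (x1 * y * a) * (x2 * y1 * b) * y2 := by rw [h1, h2]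
    _ = x * x1 * y * (a * x2) * y1 * (b * y2) := by group
    _ = x * x1 * y * (x2 * a) * y1 * (y2 * b) := by rw [ca x2 hx2.2, cb y2 hy2.2]
    _ = x * x1 * (y * x2) * (a * (y1 * y2)) * b := by group
    _ = x * x1 * (x2 * y * c) * ((y1 * y2) * a) * b := by
        rw [h3, ca (y1 * y2) (P.mul_mem hy1.2 hy2.2)]
    _ = x * x1 * x2 * y * (c * (y1 * y2 * a * b)) := by group
    _ = x * x1 * x2 * y * ((y1 * y2 * a * b) * c) := by
        rw [cc _ (P.mul_mem (P.mul_mem (P.mul_mem hy1.2 hy2.2) (L.EP' ha)) (L.EP' hb))]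
    _ = x * x1 * x2 * (y * y1 * y2) * (a * b * c) := by group

omit [Finite G] in
theorem Lay.nm_E (L : Lay P V R E h) {x : G} (hx : x ∈ E) : nm h x ∈ E :=
  E.mul_mem (E.mul_mem hx (L.hE x hx)) (L.hE _ (L.hE x hx))

omit [Finite G] in
theorem nm_one : nm h 1 = 1 := by unfold nm; group

/-- `F = {x ∈ N_P(V) : x x^h x^(h²) ∈ E}` -/
def Lay.F (L : Lay P V R E h) : Subgroup G where
  carrier := {x | x ∈ S1 P V ∧ nm h x ∈ E}
  one_mem' := ⟨(S1 P V).one_mem, by rw [nm_one]; exact E.one_mem⟩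
  mul_mem' := by
    rintro x y ⟨hx, hxE⟩ ⟨hy, hyE⟩
    obtain ⟨e, he, h1⟩ := L.nm_mul hx hy
    exact ⟨(S1 P V).mul_mem hx hy, by rw [h1]; exact E.mul_mem (E.mul_mem hxE hyE) he⟩
  inv_mem' := by
    rintro x ⟨hx, hxE⟩
    refine ⟨(S1 P V).inv_mem hx, ?_⟩
    obtain ⟨e, he, h1⟩ := L.nm_mul hx ((S1 P V).inv_mem hx)
    rw [mul_inv_cancel, nm_one] at h1
    have : nm h x⁻¹ = (nm h x)⁻¹ * e⁻¹ := by
      calc nm h x⁻¹ = (nm h x)⁻¹ * (nm h x * nm h x⁻¹ * e) * e⁻¹ := by group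
        _ = (nm h x)⁻¹ * e⁻¹ := by rw [← h1, mul_one]
    rw [this]
    exact E.mul_mem (E.inv_mem hxE) (E.inv_mem he)

theorem Lay.F_le (L : Lay P V R E h) : L.F ≤ S1 P V := fun _ hx => hx.1

theorem Lay.F_le_P (L : Lay P V R E h) : L.F ≤ P := fun _ hx => hx.1.2

theorem Lay.E_le_F (L : Lay P V R E h) : E ≤ L.F := fun _ hx =>
  ⟨L.V_le_S1 (L.EV hx), L.nm_E hx⟩

theorem Lay.h_F (L : Lay P V R E h) : ∀ x ∈ L.F, h * x * h⁻¹ ∈ L.F := by
  rintro x ⟨hx, hxE⟩
  refine ⟨L.h_S1 x hx, ?_⟩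
  have : nm h (h * x * h⁻¹) = h * nm h x * h⁻¹ := by unfold nm; group
  rw [this]
  exact L.hE _ hxE

/-- `F ∩ V = E` -/
theorem Lay.F_inf_V (L : Lay P V R E h) {x : G} (hF : x ∈ L.F) (hV : x ∈ V) : x ∈ E := by
  obtain ⟨r, hr, e, he, rfl⟩ := (L.memV x).mp hV
  have h1 := hF.2
  obtain ⟨e', he', h2⟩ := L.nm_mul (L.V_le_S1 (L.RV hr)) (L.V_le_S1 (L.EV he))
  rw [h2] at h1
  have h3 : nm h r ∈ E := by
    have : nm h r = nm h r * nm h e * e' * (nm h e * e')⁻¹ := by group
    rw [this]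
    exact E.mul_mem h1 (E.inv_mem (E.mul_mem (L.nm_E he) he'))
  have h4 : nm h r = r := by
    unfold nm
    rw [L.hr hr, L.hr hr, L.elemR r hr, one_mul]
  rw [h4] at h3
  rw [L.inf hr h3, one_mul]; exact he

/-- `N_P(V) = F R` -/
theorem Lay.S1_eq (L : Lay P V R E h) {x : G} (hx : x ∈ S1 P V) :
    ∃ f ∈ L.F, ∃ r ∈ R, x = f * r := by
  have hx1 := L.h_S1 x hx
  have hx2 := L.h_S1 _ hx1
  have hn : nm h x ∈ S1 P V := (S1 P V).mul_mem ((S1 P V).mul_mem hx hx1) hx2
  have h1 : (nm h x)⁻¹ * (h * nm h x * h⁻¹) ∈ E := by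
    have e : h * nm h x * h⁻¹ = x⁻¹ * nm h x * x := by
      have := L.h33 x
      calc h * nm h x * h⁻¹ = x⁻¹ * (x * (h * x * h⁻¹) * (h * (h * x * h⁻¹) * h⁻¹)) *
            (h * (h * (h * x * h⁻¹) * h⁻¹) * h⁻¹) := by unfold nm; group
        _ = x⁻¹ * nm h x * x := by rw [this]; rfl
    rw [e]
    have h2 := L.comm_S1 ((S1 P V).inv_mem hn) ((S1 P V).inv_mem hx)
    have e2 : (nm h x)⁻¹ * (x⁻¹ * nm h x * x) = (nm h x)⁻¹ * x⁻¹ * (nm h x)⁻¹⁻¹ * x⁻¹⁻¹ := by
      group
    rw [e2]; exact h2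
  obtain ⟨e, he, hc⟩ := exists_fixed L.h3 (L.two.to_le L.EP') L.hE h1
  have hr : nm h x * e ∈ R := L.fix _ (P.mul_mem hn.2 (L.EP' he)) hc
  set r := nm h x * e with hrdef
  refine ⟨x * r⁻¹, ⟨(S1 P V).mul_mem hx ((S1 P V).inv_mem (L.V_le_S1 (L.RV hr))), ?_⟩, r, hr,
    by group⟩
  obtain ⟨e', he', h2⟩ := L.nm_mul hx ((S1 P V).inv_mem (L.V_le_S1 (L.RV hr)))
  have h4 : nm h r⁻¹ = r := by
    have hrr := L.elemR r hr
    have hinv : r⁻¹ = r := inv_eq_of_mul_eq_one_left hrr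
    rw [hinv]
    unfold nm
    rw [L.hr hr, L.hr hr, hrr, one_mul]
  rw [h2, h4]
  have h5 : nm h x = r * e⁻¹ := by rw [hrdef]; group
  rw [h5]
  have h6 := L.EP _ (E.inv_mem he) r (L.RP hr)
  have : r * e⁻¹ * r * e' = (r * r) * (e⁻¹ * e') := by
    calc r * e⁻¹ * r * e' = r * (e⁻¹ * r) * e' := by group
      _ = r * (r * e⁻¹) * e' := by rw [h6]
      _ = (r * r) * (e⁻¹ * e') := by group
  rw [this, L.elemR r hr, one_mul]
  exact E.mul_mem (E.inv_mem he) he'

theorem Lay.F_inf_R (L : Lay P V R E h) {x : G} (hF : x ∈ L.F) (hR : x ∈ R) : x = 1 :=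
  L.inf hR (L.F_inf_V hF (L.RV hR))

theorem Lay.card_F (L : Lay P V R E h) : Nat.card L.F = 16 := by
  have h1 : Function.Bijective (fun x : L.F × R => (⟨x.1 * x.2, (S1 P V).mul_mem (L.F_le x.1.2)
      (L.V_le_S1 (L.RV x.2.2))⟩ : S1 P V)) := by
    constructor
    · rintro ⟨f, r⟩ ⟨f', r'⟩ hh
      have h2 : (f : G) * r = f' * r' := congrArg Subtype.val hh
      have h3 : (f' : G)⁻¹ * f = r' * (r : G)⁻¹ := by
        calc (f' : G)⁻¹ * f = (f' : G)⁻¹ * (f * r) * (r : G)⁻¹ := by group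
          _ = r' * (r : G)⁻¹ := by rw [h2]; group
      have h4 : (f' : G)⁻¹ * f = 1 := by
        apply L.F_inf_R (L.F.mul_mem (L.F.inv_mem f'.2) f.2)
        rw [h3]; exact R.mul_mem r'.2 (R.inv_mem r.2)
      have h5 : f = f' := Subtype.ext (by
        calc (f : G) = f' * ((f' : G)⁻¹ * f) := by group
          _ = f' := by rw [h4, mul_one])
      have h6 : r = r' := Subtype.ext (by
        rw [h4] at h3
        exact (mul_inv_eq_one.mp h3.symm).symm)
      rw [h5, h6]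
    · rintro ⟨x, hx⟩
      obtain ⟨f, hf, r, hr, rfl⟩ := L.S1_eq hx
      exact ⟨(⟨f, hf⟩, ⟨r, hr⟩), rfl⟩
  have h2 := Nat.card_congr (Equiv.ofBijective _ h1)
  rw [Nat.card_prod, L.cardR, L.card_S1] at h2
  omega

theorem Lay.exists_F (L : Lay P V R E h) : ∃ u ∈ L.F, u ∉ E := by
  by_contra hno
  push Not at hno
  have h1 := Subgroup.card_le_of_le (show L.F ≤ E from hno)
  rw [L.card_F, L.cardE] at h1
  omega

/-- the cosets of `E` in `F` -/
theorem Lay.F_cases (L : Lay P V R E h) {u v : G} (hu : u ∈ L.F) (huE : u ∉ E) (hv : v ∈ L.F) :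
    ∃ e ∈ E, v = e ∨ v = u * e ∨ v = (h * u * h⁻¹) * e ∨ v = (h * (h * u * h⁻¹) * h⁻¹) * e := by
  obtain ⟨t, ht, ht1⟩ := L.exists_ne
  have hu1 := L.h_F u hu
  have hu2 := L.h_F _ hu1
  have hth : ∀ x : G, (h * x * h⁻¹) * t * (h * x * h⁻¹)⁻¹ * t⁻¹ = h * (x * t * x⁻¹ * t⁻¹) * h⁻¹ := by
    intro x
    have h1 : h⁻¹ * t * h = t := by
      calc h⁻¹ * t * h = h⁻¹ * (t * h) := by group
        _ = h⁻¹ * (h * t) := by rw [L.hR t ht]
        _ = t := by group
    have h2 : h⁻¹ * t⁻¹ * h = t⁻¹ := by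
      calc h⁻¹ * t⁻¹ * h = (h⁻¹ * t * h)⁻¹ := by group
        _ = t⁻¹ := by rw [h1]
    calc (h * x * h⁻¹) * t * (h * x * h⁻¹)⁻¹ * t⁻¹
        = h * x * (h⁻¹ * t * h) * x⁻¹ * (h⁻¹ * t⁻¹ * h) * h⁻¹ := by group
      _ = h * (x * t * x⁻¹ * t⁻¹) * h⁻¹ := by rw [h1, h2]; group
  have ha := L.comm_E u (L.F_le hu) t ht
  have hb := L.comm_E v (L.F_le hv) t ht
  have key : ∀ x ∈ L.F, v * t * v⁻¹ * t⁻¹ = x * t * x⁻¹ * t⁻¹ → x⁻¹ * v ∈ E := by
    intro x hx hh
    refine L.F_inf_V (L.F.mul_mem (L.F.inv_mem hx) hv) ?_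
    refine L.cent t ht ht1 _ (P.mul_mem (P.inv_mem (L.F_le_P hx)) (L.F_le_P hv)) ?_
    have h1 : v * t * v⁻¹ = x * t * x⁻¹ := mul_right_cancel hh
    calc x⁻¹ * v * t = x⁻¹ * (v * t * v⁻¹) * v := by group
      _ = x⁻¹ * (x * t * x⁻¹) * v := by rw [h1]
      _ = t * (x⁻¹ * v) := by group
  have ha1 : u * t * u⁻¹ * t⁻¹ ≠ 1 := by
    intro hh
    apply huE
    refine L.F_inf_V hu (L.cent t ht ht1 u (L.F_le_P hu) ?_)
    exact mul_inv_eq_iff_eq_mul.mp (mul_inv_eq_one.mp hh)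
  rcases L.E_cases ha ha1 hb with h1 | h1 | h1 | h1
  · have h2 := key 1 L.F.one_mem (by rw [h1]; group)
    rw [inv_one, one_mul] at h2
    exact ⟨v, h2, Or.inl rfl⟩
  · exact ⟨u⁻¹ * v, key u hu h1, Or.inr (Or.inl (by group))⟩
  · rw [← hth] at h1
    exact ⟨_, key _ hu1 h1, Or.inr (Or.inr (Or.inl (by group)))⟩
  · rw [← hth, ← hth] at h1
    exact ⟨_, key _ hu2 h1, Or.inr (Or.inr (Or.inr (by group)))⟩

theorem Lay.comm_h (L : Lay P V R E h) {u : G} (hu : u ∈ L.F) :
    u * (h * u * h⁻¹) = (h * u * h⁻¹) * u := by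
  have hu1 := L.h_F u hu
  set u1 := h * u * h⁻¹ with hu1'
  have hc := L.comm_S1 (L.F_le hu) (L.F_le hu1)
  set c := u * u1 * u⁻¹ * u1⁻¹ with hc'
  have hn : nm h u ∈ E := hu.2
  have huP := L.F_le_P hu
  have hu1P := L.F_le_P hu1
  have h2 : h * u1 * h⁻¹ = (u * u1)⁻¹ * nm h u := by
    show _ = (u * u1)⁻¹ * (u * u1 * (h * u1 * h⁻¹))
    group
  have h3 : h * c * h⁻¹ = c := by
    have e1 : h * c * h⁻¹ = u1 * (h * u1 * h⁻¹) * u1⁻¹ * (h * u1 * h⁻¹)⁻¹ := by
      rw [hc']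
      have : h * (u * u1 * u⁻¹ * u1⁻¹) * h⁻¹ = (h * u * h⁻¹) * (h * u1 * h⁻¹) * (h * u * h⁻¹)⁻¹ *
        (h * u1 * h⁻¹)⁻¹ := by group
      rw [this, ← hu1']
    have h4 := L.EP _ hn (u1⁻¹) (P.inv_mem hu1P)
    have h5 : c⁻¹ * (u * u1) = u1 * u := by rw [hc']; group
    have h6 := L.EP _ (E.inv_mem hc) (u * u1) (P.mul_mem huP hu1P)
    rw [e1, h2]
    calc u1 * ((u * u1)⁻¹ * nm h u) * u1⁻¹ * ((u * u1)⁻¹ * nm h u)⁻¹
        = u1 * (u * u1)⁻¹ * (nm h u * u1⁻¹) * (nm h u)⁻¹ * (u * u1) := by group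
      _ = u1 * (u * u1)⁻¹ * (u1⁻¹ * nm h u) * (nm h u)⁻¹ * (u * u1) := by rw [h4]
      _ = (u1 * u)⁻¹ * (u * u1) := by group
      _ = (c⁻¹ * (u * u1))⁻¹ * (u * u1) := by rw [h5]
      _ = ((u * u1) * c⁻¹)⁻¹ * (u * u1) := by rw [h6]
      _ = c := by group
  have h4 : c = 1 := by
    apply L.fpE c hc
    calc h * c = (h * c * h⁻¹) * h := by group
      _ = c * h := by rw [h3]
  rw [hc'] at h4
  exact (mul_inv_eq_iff_eq_mul.mp (mul_inv_eq_one.mp h4))

/-- `F` is abelian -/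
theorem Lay.F_comm (L : Lay P V R E h) {u v : G} (hu : u ∈ L.F) (hv : v ∈ L.F) :
    u * v = v * u := by
  by_cases huE : u ∈ E
  · exact L.EP u huE v (L.F_le_P hv)
  have h1 := L.comm_h hu
  have hn : nm h u ∈ E := hu.2
  have h2 : h * (h * u * h⁻¹) * h⁻¹ = (u * (h * u * h⁻¹))⁻¹ * nm h u := by
    unfold nm; group
  have h3 : Commute u (h * u * h⁻¹) := h1
  have hE : ∀ e ∈ E, Commute u e := fun e he => (L.EP e he u (L.F_le_P hu)).symm
  have h4 : Commute u (h * (h * u * h⁻¹) * h⁻¹) := by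
    rw [h2]
    exact (((Commute.refl u).mul_right h3).inv_right).mul_right (hE _ hn)
  obtain ⟨e, he, rfl | rfl | rfl | rfl⟩ := L.F_cases hu huE hv
  · exact hE _ he
  · exact (Commute.refl u).mul_right (hE _ he)
  · exact h3.mul_right (hE _ he)
  · exact h4.mul_right (hE _ he)

/-! ### `P` normalises `V` -/

/-- `N_P(N_P(V))` -/
def S2 (P V : Subgroup G) : Subgroup G := normalizer (S1 P V : Set G) ⊓ P

omit [Finite G] in
theorem Lay.S1_le_S2 (_L : Lay P V R E h) : S1 P V ≤ S2 P V :=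
  le_inf Subgroup.le_normalizer inf_le_right

omit [Finite G] in
theorem Lay.h_norm1 (L : Lay P V R E h) : h ∈ normalizer (S1 P V : Set G) := by
  rw [mem_normalizer_iff]
  intro x
  refine ⟨fun hx => L.h_S1 x hx, fun hx => ?_⟩
  have h1 := L.h_S1 _ (L.h_S1 _ hx)
  rwa [L.h33] at h1

omit [Finite G] in
theorem Lay.h_S2 (L : Lay P V R E h) : ∀ x ∈ S2 P V, h * x * h⁻¹ ∈ S2 P V := fun x hx =>
  ⟨Subgroup.mul_mem _ (Subgroup.mul_mem _ L.h_norm1 hx.1) (Subgroup.inv_mem _ L.h_norm1),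
    L.hP x hx.2⟩

theorem Lay.lt_S2 (L : Lay P V R E h) (hne : S1 P V ≠ P) : 64 < Nat.card (S2 P V) := by
  have hpf : Fact (Nat.Prime 2) := ⟨Nat.prime_two⟩
  rw [← L.card_S1]
  by_contra hle
  have h1 : S1 P V = S2 P V := Subgroup.eq_of_le_of_card_ge L.S1_le_S2 (not_lt.mp hle)
  exact hne (Cfsg.Agent.Blocks.SylowIn.eq_of_normalizer_inf_le (p := 2) L.two inf_le_right
    (h1 ▸ le_rfl : S2 P V ≤ S1 P V)).symm

omit [Finite G] in
theorem Lay.card_le (L : Lay P V R E h) {X : Subgroup G} (hX : X ≤ P) {t : G} (ht : t ∈ R)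
    (ht1 : t ≠ 1) (hVX : V ≤ X) (hc : ∀ x ∈ X, x * t * x⁻¹ * t⁻¹ ∈ E) : Nat.card X ≤ 64 := by
  obtain ⟨m, hm, h1⟩ := card_eq_of_comm (X := X) (t := t) L.elemE
    (fun e he x hx => L.EP e he x (hX hx)) hc
  rw [L.cent_inf ht ht1 hX hVX, L.card_V] at h1
  rw [L.cardE] at hm
  have := Nat.le_of_dvd (by norm_num) hm
  omega

/-- a normal subgroup above `E` meets the centre modulo `E` -/
theorem exists_central_mod {S N E : Subgroup G} (hS : IsPGroup 2 S) (hNS : N ≤ S)
    (hE : ∀ s ∈ S, ∀ e ∈ E, s * e * s⁻¹ ∈ E) (hN : ∀ s ∈ S, ∀ n ∈ N, s * n * s⁻¹ ∈ N)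
    (hne : ¬ N ≤ E) : ∃ w ∈ N, w ∉ E ∧ ∀ s ∈ S, s * w * s⁻¹ * w⁻¹ ∈ E := by
  have hpf : Fact (Nat.Prime 2) := ⟨Nat.prime_two⟩
  have hEn : (E.subgroupOf S).Normal := ⟨fun e he s => hE s s.2 e he⟩
  have hNn : (N.subgroupOf S).Normal := ⟨fun e he s => hN s s.2 e he⟩
  have h1 : IsPGroup 2 (S ⧸ E.subgroupOf S) := hS.to_quotient _
  have h2 : Group.IsNilpotent (S ⧸ E.subgroupOf S) := h1.isNilpotent
  set π := QuotientGroup.mk' (E.subgroupOf S) with hπ
  have hker : ∀ x : S, π x = 1 ↔ (x : G) ∈ E := by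
    intro x
    rw [← MonoidHom.mem_ker, hπ, QuotientGroup.ker_mk']
    rfl
  have h3 : ((N.subgroupOf S).map π).Normal :=
    hNn.map π (QuotientGroup.mk'_surjective _)
  have h4 : (N.subgroupOf S).map π ≠ ⊥ := by
    intro hb
    apply hne
    intro n hn
    have : π ⟨n, hNS hn⟩ ∈ (N.subgroupOf S).map π := ⟨⟨n, hNS hn⟩, hn, rfl⟩
    rw [hb, mem_bot, hker] at this
    exact this
  have h5 := Cfsg.Agent.Lib.NormalAbelian.normal_inf_center_ne_bot _ h4
  obtain ⟨⟨q, ⟨w, hw, hwq⟩, hqc⟩, hq1'⟩ := Subgroup.ne_bot_iff_exists_ne_one.mp h5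
  have hq1 : q ≠ 1 := fun hh => hq1' (Subtype.ext hh)
  refine ⟨w, hw, fun hwE => hq1 ?_, fun s hs => ?_⟩
  · rw [← hwq]
    exact (hker w).mpr hwE
  · have h6 := mem_center_iff.mp hqc (π ⟨s, hs⟩)
    have h7 : π (⟨s, hs⟩ * w * ⟨s, hs⟩⁻¹ * w⁻¹) = 1 := by
      rw [map_mul, map_mul, map_mul, map_inv, map_inv, hwq, h6]
      group
    rw [hker] at h7
    exact h7

/-- `N_P(V)/E` is centralised by `N_P(N_P(V))` on `F/E` -/
theorem Lay.F_central (L : Lay P V R E h) (hne : S1 P V ≠ P) :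
    ∀ u ∈ L.F, ∀ x ∈ S2 P V, x * u * x⁻¹ * u⁻¹ ∈ E := by
  have hlt := L.lt_S2 hne
  have hS2 : ∀ s ∈ S2 P V, ∀ n ∈ S1 P V, s * n * s⁻¹ ∈ S1 P V := fun s hs n hn =>
    (mem_normalizer_iff.mp hs.1 n).mp hn
  have hE2 : ∀ s ∈ S2 P V, ∀ e ∈ E, s * e * s⁻¹ = e := fun s hs e he => L.E_conj hs.2 he
  let D : Subgroup G :=
    { carrier := {w | w ∈ S1 P V ∧ ∀ x ∈ S2 P V, x * w * x⁻¹ * w⁻¹ ∈ E}
      one_mem' := ⟨(S1 P V).one_mem, fun x _ => by
        have : x * 1 * x⁻¹ * 1⁻¹ = 1 := by group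
        rw [this]; exact E.one_mem⟩
      mul_mem' := by
        rintro w w' ⟨hw, hwx⟩ ⟨hw', hwx'⟩
        refine ⟨(S1 P V).mul_mem hw hw', fun x hx => ?_⟩
        have h1 := L.E_conj hw.2 (hwx' x hx)
        have : x * (w * w') * x⁻¹ * (w * w')⁻¹ =
            (x * w * x⁻¹ * w⁻¹) * (w * (x * w' * x⁻¹ * w'⁻¹) * w⁻¹) := by group
        rw [this, h1]
        exact E.mul_mem (hwx x hx) (hwx' x hx)
      inv_mem' := by
        rintro w ⟨hw, hwx⟩
        refine ⟨(S1 P V).inv_mem hw, fun x hx => ?_⟩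
        have h1 := L.E_conj (P.inv_mem hw.2) (E.inv_mem (hwx x hx))
        have : x * w⁻¹ * x⁻¹ * w⁻¹⁻¹ = w⁻¹ * (x * w * x⁻¹ * w⁻¹)⁻¹ * w⁻¹⁻¹ := by group
        rw [this, h1]
        exact E.inv_mem (hwx x hx) }
  have hD : ∀ w, w ∈ D ↔ w ∈ S1 P V ∧ ∀ x ∈ S2 P V, x * w * x⁻¹ * w⁻¹ ∈ E := fun w => Iff.rfl
  have hED : E ≤ D := by
    intro e he
    refine ⟨L.V_le_S1 (L.EV he), fun x hx => ?_⟩
    rw [hE2 x hx e he, mul_inv_cancel]
    exact E.one_mem
  have hhS2 : ∀ x ∈ S2 P V, h⁻¹ * x * h ∈ S2 P V := by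
    intro x hx
    have h1 := L.h_S2 _ (L.h_S2 _ hx)
    have h2 : h * (h * x * h⁻¹) * h⁻¹ = h⁻¹ * x * h := by
      calc h * (h * x * h⁻¹) * h⁻¹ = h⁻¹ * (h * (h * (h * x * h⁻¹) * h⁻¹) * h⁻¹) * h := by group
        _ = h⁻¹ * x * h := by rw [L.h33]
    rwa [h2] at h1
  have hhD : ∀ w ∈ D, h * w * h⁻¹ ∈ D := by
    rintro w ⟨hw, hwx⟩
    refine ⟨L.h_S1 w hw, fun x hx => ?_⟩
    have h1 := L.hE _ (hwx _ (hhS2 x hx))
    have : h * (h⁻¹ * x * h * w * (h⁻¹ * x * h)⁻¹ * w⁻¹) * h⁻¹ =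
        x * (h * w * h⁻¹) * x⁻¹ * (h * w * h⁻¹)⁻¹ := by group
    rwa [this] at h1
  have hDV : ∀ w ∈ D, w ∈ V → w ∈ E := by
    intro w hw hwV
    obtain ⟨r, hr, e, he, rfl⟩ := (L.memV w).mp hwV
    by_cases hr1 : r = 1
    · rw [hr1, one_mul]; exact he
    exfalso
    have hrD : r ∈ D := by
      have : r = (r * e) * e⁻¹ := by group
      rw [this]
      exact D.mul_mem hw (D.inv_mem (hED he))
    have := L.card_le (X := S2 P V) inf_le_right hr hr1 (L.V_le_S1.trans L.S1_le_S2) hrD.2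
    omega
  obtain ⟨w, hwS1, hwE, hwx⟩ := exists_central_mod (S := S2 P V) (N := S1 P V) (E := E)
    (L.two.to_le inf_le_right) L.S1_le_S2
    (fun s hs e he => by rw [hE2 s hs e he]; exact he) hS2 (by
      intro hle
      have := Subgroup.card_le_of_le hle
      rw [L.card_S1, L.cardE] at this
      omega)
  have hwD : w ∈ D := ⟨hwS1, hwx⟩
  -- `w ∈ F`
  have hwF : w ∈ L.F := by
    obtain ⟨f, hf, r, hr, hwfr⟩ := L.S1_eq hwS1
    have hn : nm h w ∈ D := D.mul_mem (D.mul_mem hwD (hhD w hwD)) (hhD _ (hhD w hwD))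
    obtain ⟨e, he, h1⟩ := L.nm_mul (L.F_le hf) (L.V_le_S1 (L.RV hr))
    have h4 : nm h r = r := by
      unfold nm
      rw [L.hr hr, L.hr hr, L.elemR r hr, one_mul]
    rw [← hwfr, h4] at h1
    have hrD : r ∈ D := by
      have : r = (nm h f)⁻¹ * nm h w * e⁻¹ := by rw [h1]; group
      rw [this]
      exact D.mul_mem (D.mul_mem (D.inv_mem (hED hf.2)) hn) (D.inv_mem (hED he))
    have hr1 := L.inf hr (hDV r hrD (L.RV hr))
    rw [hwfr, hr1, mul_one]; exact hf
  intro u hu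
  have huD : u ∈ D := by
    obtain ⟨e, he, rfl | rfl | rfl | rfl⟩ := L.F_cases hwF hwE hu
    · exact hED he
    · exact D.mul_mem hwD (hED he)
    · exact D.mul_mem (hhD _ hwD) (hED he)
    · exact D.mul_mem (hhD _ (hhD _ hwD)) (hED he)
  exact huD.2

/-- `P` normalises `V` -/
theorem Lay.S1_eq_P (L : Lay P V R E h) : S1 P V = P := by
  by_contra hne
  have hlt := L.lt_S2 hne
  have hFc := L.F_central hne
  have hF2 : ∀ x ∈ S2 P V, ∀ u ∈ L.F, x * u * x⁻¹ ∈ L.F := by
    intro x hx u hu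
    have : x * u * x⁻¹ = (x * u * x⁻¹ * u⁻¹) * u := by group
    rw [this]
    exact L.F.mul_mem (L.E_le_F (hFc u hu x hx)) hu
  have hcm := L.comm_mem (X := S2 P V) (A := L.F) inf_le_right L.h_S2 hF2 L.h_F
    (L.RV.trans (L.V_le_S1.trans L.S1_le_S2)) (by
      intro x hx t ht
      have h1 : x * t * x⁻¹ ∈ S1 P V := (mem_normalizer_iff.mp hx.1 t).mp (L.V_le_S1 (L.RV ht))
      obtain ⟨f, hf, r, hr, hfr⟩ := L.S1_eq h1
      refine ⟨r, hr, r⁻¹ * f * r, ?_, by rw [hfr]; group⟩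
      have h2 := hF2 r⁻¹ (L.S1_le_S2 (L.V_le_S1 (L.RV (R.inv_mem hr)))) f hf
      rwa [inv_inv] at h2)
  -- an element `x` outside
  obtain ⟨x, hx, hx1⟩ : ∃ x ∈ S2 P V, x ∉ S1 P V := by
    by_contra hno
    push Not at hno
    have := Subgroup.card_le_of_le (show S2 P V ≤ S1 P V from hno)
    rw [L.card_S1] at this
    omega
  have hxP : x ∈ P := hx.2
  -- `[x, t] ∉ E`
  have hnot : ∀ t ∈ R, t ≠ 1 → x * t * x⁻¹ * t⁻¹ ∉ E := by
    intro t ht ht1 hxt
    let K : Subgroup G :=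
      { carrier := {y | y ∈ S2 P V ∧ y * t * y⁻¹ * t⁻¹ ∈ E}
        one_mem' := ⟨(S2 P V).one_mem, by
          have : (1 : G) * t * 1⁻¹ * t⁻¹ = 1 := by group
          rw [this]; exact E.one_mem⟩
        mul_mem' := by
          rintro y y' ⟨hy, hyt⟩ ⟨hy', hyt'⟩
          refine ⟨(S2 P V).mul_mem hy hy', ?_⟩
          have h1 := L.E_conj hy.2 hyt'
          have : y * y' * t * (y * y')⁻¹ * t⁻¹ =
              (y * (y' * t * y'⁻¹ * t⁻¹) * y⁻¹) * (y * t * y⁻¹ * t⁻¹) := by group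
          rw [this, h1]
          exact E.mul_mem hyt' hyt
        inv_mem' := by
          rintro y ⟨hy, hyt⟩
          refine ⟨(S2 P V).inv_mem hy, ?_⟩
          have h1 := L.E_conj (P.inv_mem hy.2) (E.inv_mem hyt)
          have : y⁻¹ * t * y⁻¹⁻¹ * t⁻¹ = y⁻¹ * (y * t * y⁻¹ * t⁻¹)⁻¹ * y⁻¹⁻¹ := by group
          rw [this, h1]
          exact E.inv_mem hyt }
    have hK1 : S1 P V ≤ K := fun y hy => ⟨L.S1_le_S2 hy, L.comm_E y hy t ht⟩
    have hK2 : Nat.card K ≤ 64 := L.card_le (X := K) (fun y hy => hy.1.2) ht ht1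
      (L.V_le_S1.trans hK1) (fun y hy => hy.2)
    have hK3 : S1 P V = K := Subgroup.eq_of_le_of_card_ge hK1 (by rw [L.card_S1]; exact hK2)
    apply hx1
    rw [hK3]
    exact ⟨hx, hxt⟩
  -- `t` inverts `F`
  have hinv : ∀ t ∈ R, t ≠ 1 → ∀ u ∈ L.F, t * u * t⁻¹ = u⁻¹ := by
    intro t ht ht1 u hu
    have hz := hcm x hx t ht
    have hzE := hnot t ht ht1
    set z := x * t * x⁻¹ * t⁻¹ with hz'
    have htt := L.elemR t ht
    have ht' : t⁻¹ = t := inv_eq_of_mul_eq_one_left htt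
    have hz1 : t * z * t⁻¹ = z⁻¹ := by
      have h1 : (z * t) * (z * t) = 1 := by
        have h2 : z * t = x * t * x⁻¹ := by rw [hz']; group
        rw [h2]
        calc x * t * x⁻¹ * (x * t * x⁻¹) = x * (t * t) * x⁻¹ := by group
          _ = 1 := by rw [htt]; group
      have h3 : z * (t * z * t⁻¹) = 1 := by
        rw [ht', ← h1]; group
      exact (inv_eq_of_mul_eq_one_right h3).symm
    have hth : ∀ y : G, t * (h * y * h⁻¹) * t⁻¹ = h * (t * y * t⁻¹) * h⁻¹ := by
      intro y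
      have h1 := L.hR t ht
      have h2 : h⁻¹ * t⁻¹ = t⁻¹ * h⁻¹ := by
        rw [← mul_inv_rev, ← mul_inv_rev, h1]
      calc t * (h * y * h⁻¹) * t⁻¹ = (t * h) * y * (h⁻¹ * t⁻¹) := by group
        _ = (h * t) * y * (t⁻¹ * h⁻¹) := by rw [h1, h2]
        _ = h * (t * y * t⁻¹) * h⁻¹ := by group
    have hgen : ∀ y ∈ L.F, t * y * t⁻¹ = y⁻¹ → ∀ e ∈ E, t * (y * e) * t⁻¹ = (y * e)⁻¹ := by
      intro y hy hyt e he
      have h1 := L.E_conj (L.RP ht) he
      have h2 : e⁻¹ = e := inv_eq_of_mul_eq_one_left (L.elemE e he)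
      have h3 := L.EP e he y⁻¹ (P.inv_mem (L.F_le_P hy))
      calc t * (y * e) * t⁻¹ = (t * y * t⁻¹) * (t * e * t⁻¹) := by group
        _ = y⁻¹ * e := by rw [hyt, h1]
        _ = e * y⁻¹ := h3.symm
        _ = (y * e)⁻¹ := by rw [mul_inv_rev, h2]
    have hz2 : t * (h * z * h⁻¹) * t⁻¹ = (h * z * h⁻¹)⁻¹ := by rw [hth, hz1]; group
    have hz3 : t * (h * (h * z * h⁻¹) * h⁻¹) * t⁻¹ = (h * (h * z * h⁻¹) * h⁻¹)⁻¹ := by
      rw [hth, hz2, ← conj_inv]
    obtain ⟨e, he, rfl | rfl | rfl | rfl⟩ := L.F_cases hz hzE hu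
    · have := hgen 1 L.F.one_mem (by group) u he
      rwa [one_mul] at this
    · exact hgen z hz hz1 e he
    · exact hgen _ (L.h_F _ hz) hz2 e he
    · exact hgen _ (L.h_F _ (L.h_F _ hz)) hz3 e he
  -- two elements
  obtain ⟨t, ht, ht1⟩ := L.exists_ne
  obtain ⟨t', ht', ht'1, hne'⟩ : ∃ t' ∈ R, t' ≠ 1 ∧ t' ≠ t := by
    by_contra hno
    push Not at hno
    have h1 : R ≤ zpowers t := by
      intro r hr
      by_cases hr1 : r = 1
      · rw [hr1]; exact one_mem _
      · rw [hno r hr hr1]; exact mem_zpowers t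
    have h2 := Subgroup.card_le_of_le h1
    have h3 : orderOf t ∣ 2 := orderOf_dvd_of_pow_eq_one (by rw [sq]; exact L.elemR t ht)
    have h4 := Nat.le_of_dvd (by norm_num) h3
    rw [L.cardR, Nat.card_zpowers] at h2
    omega
  obtain ⟨u, hu, huE⟩ := L.exists_F
  apply huE
  have htt' : t * t' ≠ 1 := by
    intro hh
    apply hne'
    have h1 : t' = t⁻¹ := (inv_eq_of_mul_eq_one_right hh).symm
    rw [h1]
    exact inv_eq_of_mul_eq_one_left (L.elemR t ht)
  refine L.F_inf_V hu (L.cent _ (R.mul_mem ht ht') htt' u (L.F_le_P hu) ?_)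
  have h1 := hinv t ht ht1 u⁻¹ (L.F.inv_mem hu)
  have h2 := hinv t' ht' ht'1 u hu
  have h3 : (t * t') * u * (t * t')⁻¹ = u := by
    calc (t * t') * u * (t * t')⁻¹ = t * (t' * u * t'⁻¹) * t⁻¹ := by group
      _ = u := by rw [h2, h1, inv_inv]
  exact (mul_inv_eq_iff_eq_mul.mp h3).symm

end

end Cfsg.Agent.OddCyclic.A4ELayer

private theorem dce_be0edc2f9e15 : _root_.True := by
  try have : _root_.True := by simp only [_root_.Cfsg.Agent.OddCyclic.A4ELayer.Lay.F.congr_simp]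
  exact _root_.True.intro
end

-- part: OddCyclic/CompPslTwo
section
prune_inst 0x20120041001200000000022000190282000000000b800191210300068edc0000020e20f8200f0358208004003c00681200001000100000000000004b1801a08002d2061240a10426000f80b804400000000000000000000000000000041000000000000
set_option linter.all false
open scoped Cfsg.Agent.FastGrp

-- part: OddCyclic/CompPsl
section
/-!
# S0342, component type, case B: `K ≅ PSL₂(p)`, `p ≥ 7`; (4.1)

`Std p₀ K`, `D : Data K F`: `K ≃* PSL(2,F)`, `q = |F| ≥ 5` prime. `ac K hx` is the automorphism of `K` induced by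
`x ∈ N(K)`. `exists_gl` (`q ≥ 7`): a 2-subgroup `A ≠ 1` of `C(K)^g ∩ N(K)`, `g ∉ N(K)`, acts on `K` as a
subgroup of a torus of `PGL₂(q)`. In particular `A` is cyclic.
-/

set_option autoImplicit false

namespace Cfsg.Agent.OddCyclic.CompPsl

open Subgroup Cfsg
open Cfsg.Agent.OddCyclic.T1Defs Cfsg.Agent.OddCyclic.CompBasic
open Cfsg.Agent.OddCyclic.CompStandard
open Cfsg.Agent.LieExceptional.CITDefs
open Cfsg.Agent.OddCyclic.PGLTorus

/-! ### the action of the normalizer -/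

section action

variable {G : Type*} [Group G] {K : Subgroup G}

/-- the automorphism of `K` induced by an element of the normalizer -/
def ac (K : Subgroup G) {x : G} (hx : x ∈ normalizer (K : Set G)) : MulAut K :=
  K.normalizerMonoidHom ⟨x, hx⟩

theorem ac_apply {x : G} (hx : x ∈ normalizer (K : Set G)) (k : K) :
    (ac K hx k : G) = x * k * x⁻¹ := rfl

theorem ac_mul {x y : G} (hx : x ∈ normalizer (K : Set G)) (hy : y ∈ normalizer (K : Set G)) :
    ac K (mul_mem hx hy) = ac K hx * ac K hy :=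
  map_mul K.normalizerMonoidHom ⟨x, hx⟩ ⟨y, hy⟩

theorem ac_eq_one {x : G} (hx : x ∈ normalizer (K : Set G)) :
    ac K hx = 1 ↔ x ∈ centralizer (K : Set G) := by
  rw [mem_centralizer_iff]
  constructor
  · intro h k hk
    have h1 : (ac K hx ⟨k, hk⟩ : G) = k := by rw [h]; rfl
    rw [ac_apply] at h1
    exact (mul_inv_eq_iff_eq_mul.1 h1).symm
  · intro h
    ext k
    rw [ac_apply, MulAut.one_apply, ← h k k.2, mul_inv_cancel_right]

theorem ac_of_mem {k : G} (hk : k ∈ K) (hx : k ∈ normalizer (K : Set G)) :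
    ac K hx = MulAut.conj ⟨k, hk⟩ := by
  ext x
  rw [ac_apply, MulAut.conj_apply]
  rfl

theorem ac_fix {x : G} (hx : x ∈ normalizer (K : Set G)) {k : G} (hk : k ∈ K) :
    ac K hx ⟨k, hk⟩ = ⟨k, hk⟩ ↔ x * k = k * x := by
  constructor
  · intro h
    have h1 := congrArg Subtype.val h
    rw [ac_apply] at h1
    exact mul_inv_eq_iff_eq_mul.1 h1
  · intro h
    apply Subtype.ext
    rw [ac_apply]
    exact mul_inv_eq_iff_eq_mul.2 h

theorem ac_congr {x y : G} (h : x = y) (hx : x ∈ normalizer (K : Set G))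
    (hy : y ∈ normalizer (K : Set G)) : ac K hx = ac K hy := by
  subst h; rfl

/-- the inner ones -/
theorem ac_inn {x : G} (hx : x ∈ normalizer (K : Set G)) :
    ac K hx ∈ (MulAut.conj : K →* MulAut K).range ↔
      ∃ k ∈ K, k⁻¹ * x ∈ centralizer (K : Set G) := by
  constructor
  · rintro ⟨⟨k, hk⟩, hk'⟩
    refine ⟨k, hk, ?_⟩
    have hkn : k⁻¹ ∈ normalizer (K : Set G) := le_normalizer (K.inv_mem hk)
    rw [← ac_eq_one (mul_mem hkn hx), ac_mul hkn hx, ← hk', ac_of_mem (K.inv_mem hk) hkn,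
      ← map_mul]
    have : (⟨k⁻¹, K.inv_mem hk⟩ : K) * ⟨k, hk⟩ = 1 := Subtype.ext (inv_mul_cancel k)
    rw [this, map_one]
  · rintro ⟨k, hk, h⟩
    have hkn : k ∈ normalizer (K : Set G) := le_normalizer hk
    refine ⟨⟨k, hk⟩, ?_⟩
    have h1 := (ac_eq_one (mul_mem (inv_mem hkn) hx)).2 h
    have h2 : ac K hx = ac K (mul_mem hkn (mul_mem (inv_mem hkn) hx)) :=
      ac_congr (by group) _ _
    rw [h2, ac_mul hkn (mul_mem (inv_mem hkn) hx), h1, mul_one, ac_of_mem hk hkn]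

end action

/-! ### arithmetic -/

theorem pow_two_or_odd {n : ℕ} (hn : n ≠ 0) :
    (∃ k, n = 2 ^ k) ∨ ∃ r : ℕ, r.Prime ∧ r ≠ 2 ∧ r ∣ n := by
  by_cases h : ∃ r : ℕ, r.Prime ∧ r ≠ 2 ∧ r ∣ n
  · exact Or.inr h
  · left
    push Not at h
    refine ⟨_, Nat.eq_prime_pow_of_unique_prime_dvd hn (p := 2) fun {d} hd hdn => ?_⟩
    by_contra h2
    exact h d hd h2 hdn

variable {G : Type*} [Group G] [Finite G] {K : Subgroup G}

theorem isPGroup_or_odd (H : Subgroup G) :
    IsPGroup 2 H ∨ ∃ r : ℕ, r.Prime ∧ r ≠ 2 ∧ ∃ x ∈ H, orderOf x = r := by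
  rcases pow_two_or_odd (n := Nat.card H) Nat.card_pos.ne' with ⟨k, hk⟩ | ⟨r, hr, hr2, hrH⟩
  · exact Or.inl (IsPGroup.of_card hk)
  · right
    have : Fact r.Prime := ⟨hr⟩
    obtain ⟨⟨x, hx⟩, hxr⟩ := exists_prime_orderOf_dvd_card' (G := H) r hrH
    rw [Subgroup.orderOf_mk] at hxr
    exact ⟨r, hr, hr2, x, hx, hxr⟩

section arith

theorem mu_mod (q : ℕ) (hq : q % 2 = 1) : mu q % 4 = 2 := by
  unfold mu; split_ifs <;> omega

theorem nu_mod (q : ℕ) (hq : q % 2 = 1) : nu q % 4 = 0 := by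
  unfold nu; split_ifs <;> omega

theorem six_le_mu {q : ℕ} (hq : 5 ≤ q) (hq2 : q % 2 = 1) : 6 ≤ mu q := by
  unfold mu; split_ifs <;> omega

theorem eight_le_nu {q : ℕ} (hq : 7 ≤ q) (hq2 : q % 2 = 1) : 8 ≤ nu q := by
  unfold nu; split_ifs <;> omega

theorem mu_or (q : ℕ) (hq : 1 ≤ q) (h2 : q % 2 = 1) :
    (mu q = q + 1 ∧ nu q + 1 = q) ∨ (mu q + 1 = q ∧ nu q = q + 1) := by
  unfold mu nu; split_ifs <;> omega

/-- an odd prime does not divide both -/
theorem eq_two_of_dvd {q r : ℕ} (hq : 1 ≤ q) (h2 : q % 2 = 1) (hr : r.Prime) (h3 : r ∣ mu q)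
    (h4 : r ∣ nu q) : r = 2 := by
  rcases mu_or q hq h2 with ⟨h5, h6⟩ | ⟨h5, h6⟩
  · have h7 : r ∣ mu q - nu q := Nat.dvd_sub h3 h4
    have h8 : mu q - nu q = 2 := by omega
    rw [h8] at h7
    exact (Nat.prime_dvd_prime_iff_eq hr Nat.prime_two).1 h7
  · have h7 : r ∣ nu q - mu q := Nat.dvd_sub h4 h3
    have h8 : nu q - mu q = 2 := by omega
    rw [h8] at h7
    exact (Nat.prime_dvd_prime_iff_eq hr Nat.prime_two).1 h7

end arith

variable {F : Type*} [Field F] [Finite F]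

/-- the standing data of case B -/
structure Data (K : Subgroup G) (F : Type*) [Field F] [Finite F] where
  e : K ≃* Matrix.ProjectiveSpecialLinearGroup (Fin 2) F
  prime : (Nat.card F).Prime
  five : 5 ≤ Nat.card F

namespace Data

variable (D : Data K F)

include D in
omit [Finite G] in
theorem two : (2 : F) ≠ 0 := by
  have := Fintype.ofFinite F
  apply Cfsg.Agent.GH.L2Aut.two_ne_zero_of_odd
  rw [← Nat.card_eq_fintype_card]
  exact D.prime.odd_of_ne_two (by have := D.five; omega)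

/-- the representation -/
noncomputable def R : Cfsg.Agent.GH.L2Aut.Rep F K := Cfsg.Agent.GH.L2Aut.Rep.ofEquiv D.two D.e

include D in
omit [Finite G] in
theorem odd : Nat.card F % 2 = 1 := Cfsg.Agent.Lib.PSL2Torus.odd_card D.two

omit [Finite G] in
theorem mem_PGL (α : MulAut K) : α ∈ D.R.PGL := mem_PGL_of_prime D.R D.prime α

include D in
omit [Finite G] in
theorem card_K : 2 * Nat.card K = Nat.card F * (mu (Nat.card F) * nu (Nat.card F)) := by
  have := Fintype.ofFinite F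
  have h1 : Odd (Fintype.card F) := by
    rw [← Nat.card_eq_fintype_card]
    exact Nat.odd_iff.2 D.odd
  have h2 := Cfsg.Agent.ClassicalGeometry.PSL2Basic.card_PSL2_odd (F := F) h1
  rw [Nat.card_congr D.e.toEquiv, mul_comm, h2, Nat.card_eq_fintype_card]
  have h7 := D.five
  have hodd := D.odd
  rw [Nat.card_eq_fintype_card] at h7 hodd
  congr 1
  have h3 : Fintype.card F ^ 2 - 1 = (Fintype.card F + 1) * (Fintype.card F - 1) := by
    have := Nat.sq_sub_sq (Fintype.card F) 1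
    simpa using this
  rw [h3]
  rcases mu_or (Fintype.card F) (by omega) hodd with ⟨h5, h6⟩ | ⟨h5, h6⟩
  · rw [h5]; congr 1; omega
  · rw [h6, mul_comm]; congr 1; omega

omit [Finite G] in
/-- an element of `N(K)` acting as an involution is a matrix of trace zero -/
theorem exists_gl_of_sq {α : MulAut K} (h1 : α ≠ 1) (h2 : α * α = 1) :
    ∃ γ : GL (Fin 2) F, γ.1.trace = 0 ∧ D.R.gl γ = α := by
  obtain ⟨γ, rfl⟩ := D.R.mem_PGL.1 (D.mem_PGL α)
  exact ⟨γ, trace_of_sq D.R h1 h2, rfl⟩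

include D in
omit [Finite G] in
/-- The torus of an involution of `K`. -/
theorem exists_torusAt {t : K} (h1 : t ≠ 1) (h2 : t * t = 1) :
    ∃ (T : Subgroup K) (m : ℕ), Cfsg.Agent.Lib.PSL2Torus.TorusAt t T m ∧
      2 * m = nu (Nat.card F) := by
  obtain ⟨T, m, hT, h3⟩ := Cfsg.Agent.Lib.PSL2Torus.exists_torus D.two D.e h1 h2
  refine ⟨T, m, hT, ?_⟩
  have hodd := D.odd
  unfold nu
  split_ifs <;> omega

end Data

/-! ### (4.1) -/

omit [Finite G] in
theorem mul_self_of_orderOf {x : G} (h : orderOf x = 2) : x * x = 1 := by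
  rw [← pow_two, ← h, pow_orderOf_eq_one]

omit [Finite G] in
theorem ne_one_of_orderOf {x : G} (h : orderOf x = 2) : x ≠ 1 := by
  rintro rfl
  rw [orderOf_one] at h
  omega

omit [Finite G] in
theorem orderOf_eq_two {x : G} (h1 : x ≠ 1) (h : x * x = 1) : orderOf x = 2 :=
  orderOf_eq_prime (by rw [pow_two]; exact h) h1

omit [Finite G] in
/-- fixed points of odd prime order of an involution `gl γ` lie in `Cp`, their order does not divide
`q`. -/
theorem mem_Cp_of_odd (D : Data K F) {γ : GL (Fin 2) F} {y : K} (hy : D.R.gl γ y = y) {r : ℕ}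
    (hr2 : 3 ≤ r) (hyr : orderOf y = r) : y ∈ Cp D.R γ := by
  rcases mem_Cp_or_sq D.R hy with h | h
  · exact h
  · exfalso
    have h1 : orderOf y ∣ 2 := orderOf_dvd_of_pow_eq_one (by rw [pow_two]; exact h)
    have := Nat.le_of_dvd (by norm_num) h1
    omega

omit [Finite G] in
theorem dvd_card_Tor (D : Data K F) {γ : GL (Fin 2) F} {y : K} (hy : y ∈ Cp D.R γ) :
    orderOf y ∣ Nat.card (Tor D.R γ) := by
  have h1 : orderOf (MulAut.conj y) = orderOf y := orderOf_injective _ D.R.conj_injective y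
  rw [← h1]
  have h2 := orderOf_dvd_natCard (⟨MulAut.conj y, hy⟩ : Tor D.R γ)
  rw [← Subgroup.orderOf_coe] at h2
  exact h2

omit [Finite G] in
theorem card_Tor_or (D : Data K F) {γ : GL (Fin 2) F} (hγ : γ.1.trace = 0) :
    Nat.card (Tor D.R γ) = Nat.card F + 1 ∨ Nat.card (Tor D.R γ) + 1 = Nat.card F := by
  by_cases h : IsSquare (-γ.1.det)
  · exact Or.inr (card_Tor_of_sq D.R hγ h)
  · exact Or.inl (card_Tor_of_not_sq D.R hγ h)

omit [Finite G] in
theorem not_dvd_of_dvd_Tor (D : Data K F) {γ : GL (Fin 2) F} (hγ : γ.1.trace = 0) {r : ℕ}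
    (hr : r.Prime) (hrT : r ∣ Nat.card (Tor D.R γ)) : ¬ r ∣ Nat.card F := by
  intro h
  have h1 : r ∣ 1 := by
    rcases card_Tor_or D hγ with h2 | h2
    · rw [h2] at hrT
      exact (Nat.dvd_add_right h).1 hrT
    · rw [← h2] at h
      exact (Nat.dvd_add_right hrT).1 h
  exact hr.one_lt.ne' (Nat.dvd_one.1 h1)

omit [Finite G] in
/-- a cyclic group of order at least 3 is not inverted and centralized -/
theorem false_of_inv {T : Subgroup K} (hc : IsCyclic T) (h3 : 3 ≤ Nat.card T) {u : K}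
    (h1 : ∀ y ∈ T, u * y * u⁻¹ = y⁻¹) (h2 : ∀ y ∈ T, u * y = y * u) : False := by
  obtain ⟨g, hg⟩ := hc.exists_generator
  have h4 : g * g = 1 := by
    apply Subtype.ext
    have h5 := h1 g g.2
    rw [h2 g g.2, mul_inv_cancel_right] at h5
    change (g : K) * g = 1
    nth_rw 1 [h5]
    exact inv_mul_cancel _
  have h5 : orderOf g ∣ 2 := orderOf_dvd_of_pow_eq_one (by rw [pow_two]; exact h4)
  have h6 : orderOf g = Nat.card T := orderOf_eq_card_of_forall_mem_zpowers hg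
  rw [h6] at h5
  have := Nat.le_of_dvd (by norm_num) h5
  omega

/-- (4.1) A 2-subgroup `A ≠ 1` of `C(K)^g ∩ N(K)`, `g ∉ N(K)`, induces on `K` a subgroup of a
torus. -/
theorem exists_gl {p₀ : ℕ} (h : Std p₀ K) (D : Data K F) (hq7 : 7 ≤ Nat.card F) {g : G}
    (hg : g ∉ normalizer (K : Set G))
    {A : Subgroup G} (hA2 : IsPGroup 2 A) (hAY : A ≤ cj g (centralizer (K : Set G)))
    (hAM : A ≤ normalizer (K : Set G)) (hA1 : A ≠ ⊥) :
    ∃ γ : GL (Fin 2) F, γ.1.trace = 0 ∧ ∀ a (ha : a ∈ A), ac K (hAM ha) ∈ Tor D.R γ := by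
  classical
  have hpf : Fact (Nat.Prime 2) := ⟨Nat.prime_two⟩
  have hqo := D.odd
  -- `A` acts faithfully
  have hfaith : ∀ a ∈ A, a ∈ centralizer (K : Set G) → a = 1 := by
    intro a ha haK
    have h1 := h.inf_eq_bot hg hA2 hAY
    have h2 : a ∈ A ⊓ centralizer (K : Set G) := ⟨ha, haK⟩
    rwa [h1, mem_bot] at h2
  have hcent : ∀ a ∈ A, orderOf a = 2 → centralizer ({a} : Set G) ≤ cj g (normalizer (K : Set G)) :=
    fun a ha ha2 => h.centralizer_le_cj ha2 (hAY ha)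
  -- elements of odd prime order of `K ∩ N(K)^g` centralize `C(K)^g`
  have hodd : ∀ x ∈ K, x ∈ cj g (normalizer (K : Set G)) → ∀ r : ℕ, r.Prime → r ≠ 2 →
      orderOf x = r → ∀ a ∈ cj g (centralizer (K : Set G)), x * a = a * x := by
    intro x hxK hxg r hr hr2 hxr a ha
    exact h.commute_of_dvd g hr hr2 (by rw [← hxr]; exact K.orderOf_dvd_natCard hxK) hxg hxr ha
  -- an involution of `A` acts as an involution
  have hinv : ∀ a (ha : a ∈ A), orderOf a = 2 → ac K (hAM ha) ≠ 1 ∧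
      ac K (hAM ha) * ac K (hAM ha) = 1 := by
    intro a ha ha2
    constructor
    · intro h1
      rw [ac_eq_one] at h1
      exact ne_one_of_orderOf ha2 (hfaith a ha h1)
    · rw [← ac_mul, ac_eq_one, mul_self_of_orderOf ha2]
      exact one_mem _
  by_cases hcase : ∃ a ∈ A, orderOf a = 2 ∧ ∃ r : ℕ, r.Prime ∧ r ≠ 2 ∧
      ∃ x ∈ K, x * a = a * x ∧ orderOf x = r
  · -- case (a)
    obtain ⟨a, ha, ha2, r, hr, hr2, x, hxK, hxa, hxr⟩ := hcase
    have hr3 : 3 ≤ r := by have := hr.two_le; omega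
    obtain ⟨γ₀, hγ₀, hαγ₀⟩ := D.exists_gl_of_sq (hinv a ha ha2).1 (hinv a ha ha2).2
    have hfix : D.R.gl γ₀ ⟨x, hxK⟩ = ⟨x, hxK⟩ := by
      rw [hαγ₀, ac_fix]; exact hxa.symm
    have hxo : orderOf (⟨x, hxK⟩ : K) = r := by rw [Subgroup.orderOf_mk, hxr]
    have hxC := mem_Cp_of_odd D hfix hr3 hxo
    have hrT := dvd_card_Tor D hxC
    rw [hxo] at hrT
    obtain ⟨γ, hγ, -, hγ2⟩ := exists_Tor D.R hr hr2 (not_dvd_of_dvd_Tor D hγ₀ hr hrT) hxo
    refine ⟨γ, hγ, fun a' ha' => hγ2 _ (D.mem_PGL _) ?_⟩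
    rw [ac_fix]
    exact (hodd x hxK (hcent a ha ha2 (mem_centralizer_singleton_iff.2 hxa)) r hr hr2 hxr a'
      (hAY ha')).symm
  · -- case (b)
    push Not at hcase
    have h2grp : ∀ a ∈ A, orderOf a = 2 → IsPGroup 2 (K ⊓ centralizer ({a} : Set G) : Subgroup G) := by
      intro a ha ha2
      rcases isPGroup_or_odd (K ⊓ centralizer ({a} : Set G)) with h1 | ⟨r, hr, hr2, x, hx, hxr⟩
      · exact h1
      · exact (hcase a ha ha2 r hr hr2 x hx.1 (mem_centralizer_singleton_iff.1 hx.2) hxr).elim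
    -- the involutions of `A` are inner
    have hinner : ∀ a (ha : a ∈ A), orderOf a = 2 →
        ac K (hAM ha) ∈ (MulAut.conj : K →* MulAut K).range := by
      intro a ha ha2
      by_contra hni
      obtain ⟨γ, hγ, hαγ⟩ := D.exists_gl_of_sq (hinv a ha ha2).1 (hinv a ha ha2).2
      rw [← hαγ] at hni
      have h1 := card_Cp_not_inn D.R hγ hni
      have h2 : Odd (Nat.card (Cp D.R γ)) := by
        rw [Nat.odd_iff]
        have := mu_mod _ hqo
        omega
      have h3 : (Cp D.R γ).map K.subtype ≤ K ⊓ centralizer ({a} : Set G) := by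
        rintro _ ⟨y, hy, rfl⟩
        refine ⟨y.2, mem_centralizer_singleton_iff.2 ?_⟩
        have h4 := fix_of_mem_Cp D.R hγ (gl_mem_Tor D.R γ) hy
        rw [hαγ] at h4
        exact ((ac_fix (hAM ha) y.2).1 h4).symm
      have h4 := eq_bot_of_odd ((h2grp a ha ha2).to_le h3) le_rfl
        (by rw [Subgroup.card_map_of_injective K.subtype_injective]; exact h2)
      have h5 : Nat.card ((Cp D.R γ).map K.subtype) = 1 := by rw [h4]; exact Subgroup.card_bot
      rw [Subgroup.card_map_of_injective K.subtype_injective] at h5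
      have := six_le_mu (by omega) hqo
      omega
    -- an involution
    obtain ⟨n, hn0, hn⟩ := hA2.nontrivial_iff_card.mp ((Subgroup.nontrivial_iff_ne_bot _).mpr hA1)
    obtain ⟨a₀, ha₀, ha₀2⟩ := exists_involution (H := A)
      (by rw [hn]; exact (Nat.even_pow.mpr ⟨even_two, Nat.pos_iff_ne_zero.mp hn0⟩))
    obtain ⟨γ₀, hγ₀, hαγ₀⟩ := D.exists_gl_of_sq (hinv a₀ ha₀ ha₀2).1 (hinv a₀ ha₀ ha₀2).2
    refine ⟨γ₀, hγ₀, ?_⟩
    -- data for an involution of `A`
    have hk : ∀ a (ha : a ∈ A), orderOf a = 2 → ∃ k : K, MulAut.conj k = ac K (hAM ha) ∧ k ≠ 1 ∧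
        k * k = 1 ∧ (∀ x (hx : x ∈ K), x * a = a * x ↔ (⟨x, hx⟩ : K) * k = k * ⟨x, hx⟩) := by
      intro a ha ha2
      obtain ⟨k, hk⟩ := hinner a ha ha2
      refine ⟨k, hk, ?_, ?_, ?_⟩
      · rintro rfl
        rw [map_one] at hk
        exact (hinv a ha ha2).1 hk.symm
      · apply D.R.conj_injective
        rw [map_mul, hk, map_one, (hinv a ha ha2).2]
      · intro x hx
        have h1 := ac_fix (hAM ha) hx
        rw [← hk, MulAut.conj_apply] at h1
        constructor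
        · intro h2
          exact (mul_inv_eq_iff_eq_mul.1 (h1.2 h2.symm)).symm
        · intro h2
          exact (h1.1 (mul_inv_eq_iff_eq_mul.2 h2.symm)).symm
    obtain ⟨k₀, hk₀, hk₀1, hk₀2, hk₀c⟩ := hk a₀ ha₀ ha₀2
    obtain ⟨T, m, hT, hm⟩ := D.exists_torusAt hk₀1 hk₀2
    have hm4 : 4 ≤ m := by have := eight_le_nu hq7 hqo; omega
    have hTcard := hT.card
    by_cases hK0 : K ⊓ cj g (centralizer (K : Set G)) = ⊥
    · -- `[C_K(a₀), A] = 1`
      intro a' ha'
      have hcomm : ∀ x (hx : x ∈ K), (⟨x, hx⟩ : K) * k₀ = k₀ * ⟨x, hx⟩ → a' * x = x * a' := by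
        intro x hx hxk
        have h1 := (hk₀c x hx).2 hxk
        have h2 := hcent a₀ ha₀ ha₀2 (mem_centralizer_singleton_iff.2 h1)
        have h3 : x * a' * x⁻¹ * a'⁻¹ ∈ K ⊓ cj g (centralizer (K : Set G)) := by
          refine Subgroup.mem_inf.mpr ⟨?_, Subgroup.mul_mem _ (normal_cj_cent g K x h2 a' (hAY ha'))
            (Subgroup.inv_mem _ (hAY ha'))⟩
          have h4 : x * a' * x⁻¹ * a'⁻¹ = x * (a' * x⁻¹ * a'⁻¹) := by group
          rw [h4]
          exact mul_mem hx (forall_of_mem_normalizer (hAM ha') _ (inv_mem hx))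
        rw [hK0, mem_bot, mul_inv_eq_one, mul_inv_eq_iff_eq_mul] at h3
        exact h3.symm
      obtain ⟨u, hu, huT⟩ := hT.ex
      obtain ⟨hu1, hu2, hu3⟩ := hT.out u hu huT
      have hut : u ≠ k₀ := by
        rintro rfl
        exact huT hT.mem
      have hfour : Cfsg.Agent.GH.L2Aut.Four k₀ u :=
        ⟨hk₀2, hu2, hk₀1, hu1, fun h' => hut h'.symm, hu.symm⟩
      have hfa : ac K (hAM ha') k₀ = k₀ := (ac_fix (hAM ha') k₀.2).2 (hcomm k₀ k₀.2 rfl)
      have hfb : ac K (hAM ha') u = u := (ac_fix (hAM ha') u.2).2 (hcomm u u.2 hu)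
      have hfT : ∀ y ∈ T, ac K (hAM ha') y = y := fun y hy =>
        (ac_fix (hAM ha') y.2).2 (hcomm y y.2 (hT.comm y hy))
      have key : ∀ w : K, ac K (hAM ha') = MulAut.conj w → w * k₀ = k₀ * w → w ∉ T → False := by
        intro w hw hwk hwT
        refine false_of_inv hT.cyclic (by omega) (hT.out w hwk hwT).2.2 (fun y hy => ?_)
        have h1 := hfT y hy
        rw [hw, MulAut.conj_apply] at h1
        exact mul_inv_eq_iff_eq_mul.1 h1
      rcases D.R.fix_four hfour (D.mem_PGL _) hfa hfb with h1 | h1 | h1 | h1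
      · rw [h1]; exact one_mem _
      · rw [h1, hk₀, ← hαγ₀]; exact gl_mem_Tor D.R γ₀
      · exact (key u h1 hu huT).elim
      · refine (key (k₀ * u) h1 ?_ ?_).elim
        · rw [mul_assoc, hu]
        · intro h2
          apply huT
          have := T.mul_mem (T.inv_mem hT.mem) h2
          rwa [inv_mul_cancel_left] at this
    · -- `K ∩ C(K)^g ≠ 1`
      set Kg := K ⊓ cj g (normalizer (K : Set G)) with hKg
      have hKg2 : IsPGroup 2 Kg := by
        rcases isPGroup_or_odd Kg with h1 | ⟨r, hr, hr2, x, hx, hxr⟩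
        · exact h1
        · exact (hcase a₀ ha₀ ha₀2 r hr hr2 x hx.1
            (hodd x hx.1 hx.2 r hr hr2 hxr a₀ (hAY ha₀)) hxr).elim
      -- involutions of `K ∩ C(K)^g`
      have hKgcard : Nat.card Kg ∣ nu (Nat.card F) := by
        obtain ⟨j, hj⟩ := IsPGroup.iff_card.mp hKg2
        have h1 : Nat.card Kg ∣ Nat.card K := Subgroup.card_dvd_of_le inf_le_left
        have h2 := D.card_K
        have h3 : ∃ c, mu (Nat.card F) = 2 * c ∧ Odd c := by
          have := mu_mod _ hqo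
          exact ⟨mu (Nat.card F) / 2, by omega, by rw [Nat.odd_iff]; omega⟩
        obtain ⟨c, hc, hco⟩ := h3
        have h4 : Nat.card K = (Nat.card F * c) * nu (Nat.card F) := by
          rw [hc] at h2
          have : 2 * Nat.card K = 2 * ((Nat.card F * c) * nu (Nat.card F)) := by rw [h2]; ring
          omega
        rw [h4, hj] at h1
        rw [hj]
        refine Nat.Coprime.dvd_of_dvd_mul_left ?_ h1
        apply Nat.Coprime.pow_left
        rw [Nat.coprime_two_left]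
        exact (Nat.odd_iff.2 hqo).mul hco
      have hle0 : K ⊓ centralizer ({a₀} : Set G) ≤ Kg :=
        inf_le_inf_left K (hcent a₀ ha₀ ha₀2)
      have hCk : ∀ k : K, k ≠ 1 → k * k = 1 →
          (centralizer ({k} : Set K)).map K.subtype ≤ Kg →
          (centralizer ({k} : Set K)).map K.subtype = Kg := by
        intro k hk1 hk2 hle
        obtain ⟨T', m', hT', hm'⟩ := D.exists_torusAt hk1 hk2
        apply Subgroup.eq_of_le_of_card_ge hle
        rw [Subgroup.card_map_of_injective K.subtype_injective, hT'.card_centralizer, hm']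
        exact Nat.le_of_dvd (by have := eight_le_nu hq7 hqo; omega) hKgcard
      have hbk : ∀ b ∈ K ⊓ cj g (centralizer (K : Set G)), orderOf b = 2 → ∀ a (ha : a ∈ A),
          orderOf a = 2 → ∀ hb : b ∈ K, ac K (hAM ha) = MulAut.conj (⟨b, hb⟩ : K) := by
        intro b hb hb2 a ha ha2 hbK
        obtain ⟨k, hk, hk1, hk2, hkc⟩ := hk a ha ha2
        have hb1 : (⟨b, hbK⟩ : K) ≠ 1 := fun h' => ne_one_of_orderOf hb2 (congrArg Subtype.val h')
        have hbb : (⟨b, hbK⟩ : K) * ⟨b, hbK⟩ = 1 := Subtype.ext (mul_self_of_orderOf hb2)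
        have e1 := hCk k hk1 hk2 (by
          rintro _ ⟨y, hy, rfl⟩
          refine ⟨y.2, hcent a ha ha2 (mem_centralizer_singleton_iff.2 ?_)⟩
          exact (hkc y y.2).2 (mem_centralizer_singleton_iff.1 hy))
        have e2 := hCk ⟨b, hbK⟩ hb1 hbb (by
          rintro _ ⟨y, hy, rfl⟩
          refine ⟨y.2, h.centralizer_le_cj hb2 hb.2 (mem_centralizer_singleton_iff.2 ?_)⟩
          exact congrArg Subtype.val (mem_centralizer_singleton_iff.1 hy))
        have e3 : centralizer ({k} : Set K) = centralizer ({(⟨b, hbK⟩ : K)} : Set K) :=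
          Subgroup.map_injective K.subtype_injective (e1.trans e2.symm)
        obtain ⟨T', m', hT', hm'⟩ := D.exists_torusAt hb1 hbb
        have hT'card := hT'.card
        have hm4' : 4 ≤ m' := by have := eight_le_nu hq7 hqo; omega
        have hkb : k * (⟨b, hbK⟩ : K) = ⟨b, hbK⟩ * k := by
          have : k ∈ centralizer ({(⟨b, hbK⟩ : K)} : Set K) := by
            rw [← e3, mem_centralizer_singleton_iff]
          exact mem_centralizer_singleton_iff.1 this
        have hkT : k ∈ T' := by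
          by_contra hkT
          refine false_of_inv hT'.cyclic (by omega) (hT'.out k hkb hkT).2.2 (fun y hy => ?_)
          have : y ∈ centralizer ({k} : Set K) := by
            rw [e3, mem_centralizer_singleton_iff]
            exact hT'.comm y hy
          exact (mem_centralizer_singleton_iff.1 this).symm
        rcases hT'.eq_of_sq hkT hk2 with h1 | h1
        · exact absurd h1 hk1
        · rw [← hk, h1]
      -- an involution `b`
      have hK0' : Nat.card (K ⊓ cj g (centralizer (K : Set G)) : Subgroup G) ≠ 1 :=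
        fun hc => hK0 (Subgroup.card_eq_one.mp hc)
      have hK02 : IsPGroup 2 (K ⊓ cj g (centralizer (K : Set G)) : Subgroup G) :=
        hKg2.to_le (inf_le_inf_left K (cj_centralizer_le_normalizer g K))
      obtain ⟨n', hn0', hn'⟩ := hK02.nontrivial_iff_card.mp
        ((Subgroup.nontrivial_iff_ne_bot _).mpr hK0)
      obtain ⟨b, hb, hb2⟩ := exists_involution
        (H := (K ⊓ cj g (centralizer (K : Set G)) : Subgroup G))
        (by rw [hn']; exact (Nat.even_pow.mpr ⟨even_two, Nat.pos_iff_ne_zero.mp hn0'⟩))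
      have hbK : b ∈ K := hb.1
      have hb0 := hbk b hb hb2 a₀ ha₀ ha₀2 hbK
      intro a' ha'
      -- `a'` centralizes `b`
      have hab : a' * b = b * a' := by
        have h1 : a' * b * a'⁻¹ ∈ K ⊓ cj g (centralizer (K : Set G)) :=
          Subgroup.mem_inf.mpr ⟨forall_of_mem_normalizer (hAM ha') b hbK,
            Subgroup.mul_mem _ (Subgroup.mul_mem _ (hAY ha') hb.2)
              (Subgroup.inv_mem _ (hAY ha'))⟩
        have h2 : orderOf (a' * b * a'⁻¹) = 2 := by rw [orderOf_conj, hb2]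
        have h3 := hbk _ h1 h2 a₀ ha₀ ha₀2 h1.1
        rw [hb0] at h3
        have h4 := congrArg Subtype.val (D.R.conj_injective h3)
        exact (mul_inv_eq_iff_eq_mul.1 h4.symm)
      have hcm : ac K (hAM ha') * D.R.gl γ₀ = D.R.gl γ₀ * ac K (hAM ha') := by
        rw [hαγ₀, hb0]
        exact (fix_iff D.R).1 ((ac_fix (hAM ha') hbK).2 hab)
      rcases mem_Tor_or_sq D.R (D.mem_PGL _) hcm with h1 | h1
      · exact h1
      · by_cases ha'1 : a' = 1
        · have : ac K (hAM ha') = 1 := by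
            rw [ac_eq_one, ha'1]; exact one_mem _
          rw [this]; exact one_mem _
        · have h2 : a' * a' = 1 := by
            rw [← ac_mul, ac_eq_one] at h1
            exact hfaith _ (mul_mem ha' ha') h1
          rw [hbk b hb hb2 a' ha' (orderOf_eq_two ha'1 h2) hbK, ← hb0, ← hαγ₀]
          exact gl_mem_Tor D.R γ₀

end Cfsg.Agent.OddCyclic.CompPsl
end

-- part: OddCyclic/CompPslTwo
section
/-!
# S0342, component type, case B: `K ≅ PSL₂(p)`; (4.2)

* `isCyclic_A`, `isCyclic_A'` : `A`, `A'` are cyclic (`p ≥ 7`);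
* `isCyclic_of_inner` : if an involution of `C(K)^g ∩ N(K)` is inner on `K`, then the Sylow 2-subgroups
  of `C(K)` are cyclic;
* `card_two_of_cyclic` : if `R ∈ Syl₂(C(K))` is cyclic and its involution is moved by some element of
  `N(S)`, then `|R| = 2`.
-/

set_option autoImplicit false

namespace Cfsg.Agent.OddCyclic.CompPsl

open Subgroup Cfsg Cfsg.Agent.LieExceptional
open Cfsg.Agent.OddCyclic.T1Defs Cfsg.Agent.OddCyclic.CompBasic
open Cfsg.Agent.OddCyclic.CompStandard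
open Cfsg.Agent.LieExceptional.CITDefs
open Cfsg.Agent.LieExceptional.CITBasic
open Cfsg.Agent.OddCyclic.PGLTorus

variable {G : Type*} [Group G] [Finite G] {K : Subgroup G}
variable {F : Type*} [Field F] [Finite F]

omit [Finite G] in
/-- the data for a conjugate -/
noncomputable def Data.conj (D : Data K F) (g : G) : Data (cj g K) F where
  e := (K.equivMapOfInjective _ (MulAut.conj g).injective).symm.trans D.e
  prime := D.prime
  five := D.five

/-- (4.1) `A` is cyclic. -/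
theorem isCyclic_A {p₀ : ℕ} (h : Std p₀ K) (D : Data K F) (hq7 : 7 ≤ Nat.card F) {g : G}
    (hg : g ∉ normalizer (K : Set G)) {A : Subgroup G} (hA2 : IsPGroup 2 A)
    (hAY : A ≤ cj g (centralizer (K : Set G))) (hAM : A ≤ normalizer (K : Set G)) : IsCyclic A := by
  by_cases hA1 : A = ⊥
  · rw [hA1]; infer_instance
  obtain ⟨γ, hγ, hT⟩ := exists_gl h D hq7 hg hA2 hAY hAM hA1
  have hc := isCyclic_Tor D.R hγ
  let f : A →* Tor D.R γ :=
    { toFun := fun a => ⟨ac K (hAM a.2), hT a a.2⟩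
      map_one' := Subtype.ext ((ac_eq_one _).2 (one_mem _))
      map_mul' := fun a b => Subtype.ext (ac_mul _ _) }
  refine isCyclic_of_injective f ?_
  rw [injective_iff_map_eq_one]
  intro a ha
  have h1 : ac K (hAM a.2) = 1 := congrArg Subtype.val ha
  rw [ac_eq_one] at h1
  have h2 : (a : G) ∈ A ⊓ centralizer (K : Set G) := ⟨a.2, h1⟩
  rw [h.inf_eq_bot hg hA2 hAY, mem_bot] at h2
  exact Subtype.ext h2

theorem inv_notMem_normalizer_cj {g : G} (hg : g ∉ normalizer (K : Set G)) :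
    g⁻¹ ∉ normalizer (cj g K : Set G) := by
  intro h
  rw [← cj_eq_iff, ← cj_mul, inv_mul_cancel, cj_one] at h
  exact hg (cj_eq_iff.1 h.symm)

/-- (4.1) `A'` is cyclic. -/
theorem isCyclic_A' {p₀ : ℕ} (h : Std p₀ K) (D : Data K F) (hq7 : 7 ≤ Nat.card F) {g : G}
    (hg : g ∉ normalizer (K : Set G)) {A : Subgroup G} (hA2 : IsPGroup 2 A)
    (hAY : A ≤ centralizer (K : Set G)) (hAM : A ≤ cj g (normalizer (K : Set G))) : IsCyclic A := by
  refine isCyclic_A (h.conj g) (D.conj g) hq7 (g := g⁻¹) (inv_notMem_normalizer_cj hg) hA2 ?_ ?_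
  · rw [← cj_centralizer, cj_inv_cj]; exact hAY
  · rw [← cj_normalizer]; exact hAM

omit [Finite G] in
/-- A 2-element of `C(K)` normalizing the Sylow 2-subgroup `R` of `C(K)` lies in `R`. -/
theorem mem_of_normalizes {Y R : Subgroup G} (hR : IsSyl2 Y R) {y : G} (hy : y ∈ Y)
    (hy2 : ∃ n : ℕ, orderOf y = 2 ^ n) (hyR : y ∈ normalizer (R : Set G)) : y ∈ R := by
  obtain ⟨n, hn⟩ := hy2
  have hz : IsPGroup 2 (zpowers y) := IsPGroup.of_card (n := n) (by rw [Nat.card_zpowers, hn])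
  have h1 : IsPGroup 2 (R ⊔ zpowers y : Subgroup G) := by
    refine IsPGroup.to_sup_of_normal_left' hR.two hz ?_
    rwa [zpowers_le]
  have h2 := hR.max _ (sup_le hR.le (zpowers_le.2 hy)) h1 le_sup_left
  rw [← h2]
  exact mem_sup_right (mem_zpowers y)

omit [Finite G] in
theorem inf_centralizer_eq_bot (D : Data K F) {x : G} (hx : x ∈ K)
    (hxK : x ∈ centralizer (K : Set G)) : x = 1 := by
  have h1 : (⟨x, hx⟩ : K) ∈ center K := by
    rw [Subgroup.mem_center_iff]
    intro y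
    exact Subtype.ext (mem_centralizer_iff.1 hxK y y.2)
  rw [D.R.center_eq_bot, mem_bot] at h1
  exact congrArg Subtype.val h1

omit [Finite G] in
/-- the decomposition of an involution acting as an inner automorphism -/
theorem exists_decomp (D : Data K F) {a : G} (haM : a ∈ normalizer (K : Set G)) (ha2 : a * a = 1)
    (hi : ac K haM ∈ (MulAut.conj : K →* MulAut K).range) :
    ∃ k ∈ K, ∃ y ∈ centralizer (K : Set G), a = k * y ∧ k * k = 1 ∧ y * y = 1 := by
  obtain ⟨k, hk, hky⟩ := (ac_inn haM).1 hi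
  refine ⟨k, hk, k⁻¹ * a, hky, by group, ?_⟩
  set y := k⁻¹ * a with hy
  have hcomm : k * y = y * k := mem_centralizer_iff.1 hky k hk
  have hay : a = k * y := by rw [hy]; group
  have h1 : (k * k) * (y * y) = 1 := by
    calc (k * k) * (y * y) = k * (k * y) * y := by group
      _ = k * (y * k) * y := by rw [hcomm]
      _ = (k * y) * (k * y) := by group
      _ = 1 := by rw [← hay, ha2]
  have h2 : k * k = (y * y)⁻¹ := eq_inv_of_mul_eq_one_left h1
  have h3 : k * k = 1 := by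
    refine inf_centralizer_eq_bot D (mul_mem hk hk) ?_
    rw [h2]
    exact inv_mem (mul_mem hky hky)
  refine ⟨h3, ?_⟩
  rw [h3, one_mul] at h1
  exact h1

omit [Finite G] in
theorem exists_pow_of_sq {y : G} (hy : y * y = 1) : ∃ n : ℕ, orderOf y = 2 ^ n := by
  by_cases h1 : y = 1
  · exact ⟨0, by rw [h1, orderOf_one, pow_zero]⟩
  · exact ⟨1, by rw [orderOf_eq_two h1 hy, pow_one]⟩

omit [Finite G] in
/-- in a cyclic group of 2-power order the involution is unique -/
theorem eq_of_cyclic [Finite G] {A : Subgroup G} (hA : IsCyclic A) {x y : G} (hx : x ∈ A)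
    (hy : y ∈ A) (hx2 : orderOf x = 2) (hy2 : orderOf y = 2) : x = y := by
  have h1 : zpowers (⟨x, hx⟩ : A) = zpowers (⟨y, hy⟩ : A) :=
    zpowers_eq_of_cyclic (by rw [Subgroup.orderOf_mk, Subgroup.orderOf_mk, hx2, hy2])
  have h2 : (⟨x, hx⟩ : A) ∈ zpowers (⟨y, hy⟩ : A) := by rw [← h1]; exact mem_zpowers _
  obtain ⟨n, hn⟩ := h2
  have h3 : y ^ n = x := congrArg Subtype.val hn
  have hyy : y * y = 1 := mul_self_of_orderOf hy2
  rcases Int.even_or_odd n with ⟨k, hk⟩ | ⟨k, hk⟩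
  · exfalso
    rw [hk, zpow_add, ← (Commute.refl y).mul_zpow, hyy, one_zpow] at h3
    exact ne_one_of_orderOf hx2 h3.symm
  · rw [hk, zpow_add, zpow_mul, zpow_ofNat, pow_two, hyy, one_zpow, one_mul, zpow_one] at h3
    exact h3.symm

/-- (4.2a) -/
theorem isCyclic_of_inner {p₀ : ℕ} (h : Std p₀ K) (D : Data K F) (hq7 : 7 ≤ Nat.card F) {g : G}
    (hg : g ∉ normalizer (K : Set G)) {a : G} (haY : a ∈ cj g (centralizer (K : Set G)))
    (haM : a ∈ normalizer (K : Set G)) (ha2 : orderOf a = 2)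
    (hi : ac K haM ∈ (MulAut.conj : K →* MulAut K).range) {R : Subgroup G}
    (hR : IsSyl2 (centralizer (K : Set G)) R) : IsCyclic R := by
  have hpf : Fact (Nat.Prime 2) := ⟨Nat.prime_two⟩
  obtain ⟨S, P, hP, haP⟩ := exists_pairAt K g (isPGroup_zpowers ha2)
    (zpowers_le.mpr ⟨haM, cj_centralizer_le_normalizer g K haY⟩)
  have haP' : a ∈ P := haP (mem_zpowers a)
  have haS : a ∈ S := hP.le haP'
  set R₀ := S ⊓ centralizer (K : Set G) with hR₀
  have hR₀s : IsSyl2 (centralizer (K : Set G)) R₀ := hP.sylR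
  -- it is enough to treat `R₀`
  suffices hc : IsCyclic R₀ by
    obtain ⟨m, -, hm⟩ := CITBasic.IsSyl2.conj hR₀s hR
    rw [hm]
    exact isCyclic_of_surjective
      (R₀.equivMapOfInjective (MulAut.conj m).toMonoidHom (MulAut.conj m).injective).toMonoidHom
      (R₀.equivMapOfInjective _ (MulAut.conj m).injective).surjective
  -- `A'` is cyclic
  have hA'c : IsCyclic (P ⊓ centralizer (K : Set G) : Subgroup G) :=
    isCyclic_A' h D hq7 hg hP.sylA'.two inf_le_right (inf_le_left.trans (hP.sylD.le.trans inf_le_right))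
  obtain ⟨k, hk, y, hy, hay, hk2, hy2⟩ := exists_decomp D haM (mul_self_of_orderOf ha2) hi
  have hkr : ∀ r ∈ centralizer (K : Set G), k * r = r * k := fun r hr => mem_centralizer_iff.1 hr k hk
  -- `a` and `y` act equally on `R₀`
  have hact : ∀ r ∈ centralizer (K : Set G), a * r * a⁻¹ = y * r * y⁻¹ := by
    intro r hr
    have h1 : y * r * y⁻¹ ∈ centralizer (K : Set G) := mul_mem (mul_mem hy hr) (inv_mem hy)
    calc a * r * a⁻¹ = k * (y * r * y⁻¹) * k⁻¹ := by rw [hay]; group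
      _ = y * r * y⁻¹ := by rw [hkr _ h1, mul_inv_cancel_right]
  have hyR : y ∈ R₀ := by
    refine mem_of_normalizes hR₀s hy (exists_pow_of_sq hy2) (mem_normalizer_of_forall ?_)
    intro r hr
    rw [← hact r hr.2]
    refine Subgroup.mem_inf.mpr ⟨mul_mem (mul_mem haS hr.1) (inv_mem haS), ?_⟩
    exact normal_cent K a haM r hr.2
  have hiff : ∀ r ∈ R₀, y * r = r * y ↔ r ∈ P := by
    intro r hr
    rw [← hP.mem_iff h hg ⟨haP', haY⟩ ha2 hr.1 hr.2]
    have h1 := hact r hr.2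
    constructor
    · intro h2
      have h3 : a * r * a⁻¹ = r := by rw [h1, h2, mul_inv_cancel_right]
      exact mul_inv_eq_iff_eq_mul.1 h3
    · intro h2
      have h3 : y * r * y⁻¹ = r := by rw [← h1, h2, mul_inv_cancel_right]
      exact mul_inv_eq_iff_eq_mul.1 h3
  suffices hle : R₀ ≤ P ⊓ centralizer (K : Set G) by
    exact isCyclic_of_injective (Subgroup.inclusion hle) (Subgroup.inclusion_injective hle)
  by_cases hy1 : y = 1
  · intro r hr
    refine ⟨(hiff r hr).1 ?_, hr.2⟩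
    rw [hy1, one_mul, mul_one]
  · have hyo : orderOf y = 2 := orderOf_eq_two hy1 hy2
    have hyP : y ∈ P := (hiff y hyR).1 rfl
    -- a central involution of `R₀`
    have hR1 : Nontrivial R₀ := ⟨⟨⟨y, hyR⟩, 1, fun h' => hy1 (congrArg Subtype.val h')⟩⟩
    obtain ⟨z, hzR, hz2, hzc⟩ : ∃ z ∈ R₀, orderOf z = 2 ∧ ∀ w ∈ R₀, z * w = w * z := by
      have h1 := hR₀s.two.bot_lt_center
      have h2 : Nontrivial (center R₀) := (Subgroup.nontrivial_iff_ne_bot _).mpr h1.ne'
      have h3 : IsPGroup 2 (center R₀) := hR₀s.two.to_subgroup _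
      obtain ⟨n, hn0, hn⟩ := h3.nontrivial_iff_card.mp h2
      obtain ⟨⟨⟨z, hzR⟩, hzc⟩, hz2⟩ := exists_prime_orderOf_dvd_card' (G := center R₀) 2
        (by rw [hn]; exact dvd_pow_self 2 (Nat.pos_iff_ne_zero.mp hn0))
      rw [Subgroup.orderOf_mk, Subgroup.orderOf_mk] at hz2
      refine ⟨z, hzR, hz2, fun y hy => ?_⟩
      exact (congrArg Subtype.val (mem_center_iff.mp hzc ⟨y, hy⟩)).symm
    have hzP : z ∈ P := (hiff z hzR).1 (hzc y hyR).symm
    have hzy : z = y := eq_of_cyclic hA'c ⟨hzP, hzR.2⟩ ⟨hyP, hy⟩ hz2 hyo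
    intro r hr
    refine ⟨(hiff r hr).1 ?_, hr.2⟩
    rw [← hzy]; exact hzc r hr

/-! ### (4.2b) -/

omit [Finite G] in
/-- the fixed 2-groups of an outer involution have order at most two -/
theorem card_fix_le_two (D : Data K F) {γ : GL (Fin 2) F} (hγ : γ.1.trace = 0)
    (hni : D.R.gl γ ∉ (MulAut.conj : K →* MulAut K).range) {Q : Subgroup K} [Finite K]
    (hQ2 : IsPGroup 2 Q) (hQ : ∀ y ∈ Q, D.R.gl γ y = y) : Nat.card Q ≤ 2 := by
  have hodd : Odd (Nat.card (Cp D.R γ)) := by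
    have h1 := card_Cp_not_inn D.R hγ hni
    rw [Nat.odd_iff]
    have := mu_mod _ D.odd
    omega
  have hbot : Q ⊓ Cp D.R γ = ⊥ := by
    rw [← Subgroup.card_eq_one]
    obtain ⟨n, hn⟩ := IsPGroup.iff_card.mp (hQ2.to_le (inf_le_left : Q ⊓ Cp D.R γ ≤ Q))
    have h3 : Odd (Nat.card (Q ⊓ Cp D.R γ : Subgroup K)) :=
      Odd.of_dvd_nat hodd (Subgroup.card_dvd_of_le inf_le_right)
    rw [hn] at h3 ⊢
    rcases Nat.eq_zero_or_pos n with h4 | h4
    · rw [h4, pow_zero]
    · exact absurd (Nat.even_pow.mpr ⟨even_two, h4.ne'⟩) (Nat.not_even_iff_odd.mpr h3)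
  have key : ∀ x ∈ Q, ∀ y ∈ Q, x ≠ 1 → y ≠ 1 → x * y = 1 := by
    intro x hx y hy hx1 hy1
    have hxC : x ∉ Cp D.R γ := fun h' => hx1 (by
      have : x ∈ Q ⊓ Cp D.R γ := ⟨hx, h'⟩
      rwa [hbot, mem_bot] at this)
    have hyC : y ∉ Cp D.R γ := fun h' => hy1 (by
      have : y ∈ Q ⊓ Cp D.R γ := ⟨hy, h'⟩
      rwa [hbot, mem_bot] at this)
    have h1 := mul_mem_Cp D.R (hQ x hx) (hQ y hy) hxC hyC
    have : x * y ∈ Q ⊓ Cp D.R γ := ⟨mul_mem hx hy, h1⟩
    rwa [hbot, mem_bot] at this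
  by_cases h1 : ∃ x ∈ Q, x ≠ 1
  · obtain ⟨x, hx, hx1⟩ := h1
    have hsub : (Q : Set K) ⊆ {1, x} := by
      intro y hy
      by_cases hy1 : y = 1
      · exact Or.inl hy1
      · right
        have h2 := key x hx y hy hx1 hy1
        have h3 := key x hx x hx hx1 hx1
        exact mul_left_cancel (h2.trans h3.symm)
    calc Nat.card Q = (Q : Set K).ncard := rfl
      _ ≤ ({1, x} : Set K).ncard := Set.ncard_le_ncard hsub (Set.toFinite _)
      _ ≤ ({x} : Set K).ncard + 1 := Set.ncard_insert_le _ _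
      _ = 2 := by rw [Set.ncard_singleton]
  · push Not at h1
    have : Q = ⊥ := by
      rw [eq_bot_iff]
      intro y hy
      exact h1 y hy
    rw [this, Subgroup.card_bot]
    omega

omit [Finite G] in
theorem index_inn_le_two (D : Data K F) [Finite K] (B : Subgroup (MulAut K)) :
    (((MulAut.conj : K →* MulAut K).range).subgroupOf B).index ≤ 2 := by
  set I := (MulAut.conj : K →* MulAut K).range with hI
  by_cases hB : B ≤ I
  · have h1 : I.subgroupOf B = ⊤ := Subgroup.subgroupOf_eq_top.2 hB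
    rw [h1, Subgroup.index_top]
    omega
  · obtain ⟨b, hb, hbI⟩ := SetLike.not_le_iff_exists.1 hB
    have h1 : (I.subgroupOf B).index = 2 := by
      rw [Subgroup.index_eq_two_iff]
      refine ⟨⟨b, hb⟩, fun c => ?_⟩
      by_cases hc : c.1 ∈ I
      · right
        refine ⟨hc, fun h3 => hbI ?_⟩
        have h4 : c.1 * b ∈ I := h3
        exact (Subgroup.mul_mem_cancel_left I hc).1 h4
      · left
        exact ⟨mul_mem_inn D.R (D.mem_PGL _) (D.mem_PGL _) hc hbI, hc⟩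
    omega

/-- A 2-group acting on `K` and commuting with an outer involution induces a group of order at most
4. -/
theorem card_le_of_outer (D : Data K F) {e : G} (heM : e ∈ normalizer (K : Set G))
    (hni : ac K heM ∉ (MulAut.conj : K →* MulAut K).range) (he2 : ac K heM * ac K heM = 1)
    {Q : Subgroup G} (hQ2 : IsPGroup 2 Q) (hQM : Q ≤ normalizer (K : Set G))
    (hQe : ∀ x ∈ Q, x * e = e * x) :
    Nat.card Q ≤ 4 * Nat.card (Q ⊓ centralizer (K : Set G) : Subgroup G) := by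
  have he1 : ac K heM ≠ 1 := fun h1 => hni (by rw [h1]; exact one_mem _)
  obtain ⟨γ, hγ, hγe⟩ := D.exists_gl_of_sq he1 he2
  rw [← hγe] at hni
  let f : Q →* MulAut K := K.normalizerMonoidHom.comp (Subgroup.inclusion hQM)
  have hf : ∀ x : Q, f x = ac K (hQM x.2) := fun x => rfl
  have hker : Nat.card f.ker = Nat.card (Q ⊓ centralizer (K : Set G) : Subgroup G) := by
    have h1 : f.ker = (centralizer (K : Set G)).subgroupOf Q := by
      ext x
      rw [MonoidHom.mem_ker, hf, ac_eq_one, mem_subgroupOf]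
    rw [h1, ← Subgroup.card_map_of_injective Q.subtype_injective, Subgroup.subgroupOf_map_subtype,
      inf_comm]
  have hcard : Nat.card Q = Nat.card f.ker * Nat.card f.range := by
    rw [← Subgroup.card_mul_index f.ker, Subgroup.index_ker]
  have hrange : Nat.card f.range ≤ 4 := by
    have hB2 : IsPGroup 2 f.range := hQ2.of_surjective f.rangeRestrict f.rangeRestrict_surjective
    set I := (MulAut.conj : K →* MulAut K).range with hI
    have h1 := index_inn_le_two D f.range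
    have h2 : Nat.card (I.subgroupOf f.range) ≤ 2 := by
      have h3 : Nat.card (I.subgroupOf f.range) = Nat.card (f.range.comap MulAut.conj : Subgroup K) := by
        symm
        refine Nat.card_congr (Equiv.ofBijective
          (fun y : (f.range.comap MulAut.conj : Subgroup K) =>
            (⟨⟨MulAut.conj y.1, y.2⟩, ⟨y.1, rfl⟩⟩ : I.subgroupOf f.range)) ⟨?_, ?_⟩)
        · intro x y h
          apply Subtype.ext
          apply D.R.conj_injective
          exact congrArg (fun z => z.1.1) h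
        · rintro ⟨⟨β, hβ⟩, ⟨y, hy⟩⟩
          have hy' : MulAut.conj y = β := hy
          exact ⟨⟨y, by rw [Subgroup.mem_comap, hy']; exact hβ⟩, Subtype.ext (Subtype.ext hy')⟩
      rw [h3]
      refine card_fix_le_two D hγ hni (hB2.comap_of_injective _ D.R.conj_injective) ?_
      rintro y ⟨x, hx⟩
      rw [fix_iff D.R]
      rw [← hx, hγe, hf, ← ac_mul, ← ac_mul]
      exact ac_congr (hQe x x.2).symm _ _
    have h3 := Subgroup.card_mul_index (I.subgroupOf f.range)
    rw [← h3]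
    calc _ ≤ 2 * 2 := Nat.mul_le_mul h2 h1
      _ = 4 := rfl
  rw [hcard, hker, mul_comm]
  exact Nat.mul_le_mul hrange le_rfl

omit [Finite G] in
theorem four_le_card {L : Type*} [Group L] {a b : L} (h : Cfsg.Agent.GH.L2Aut.Four a b)
    {H : Subgroup L} [Finite H] (ha : a ∈ H) (hb : b ∈ H) : 4 ≤ Nat.card H := by
  classical
  have hab : a * b ≠ 1 := by
    intro h1
    apply h.ne
    have h2 : a * (a * b) = a := by rw [h1, mul_one]
    rw [← mul_assoc, h.aa, one_mul] at h2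
    exact h2.symm
  have ha' : a ≠ a * b := by
    intro h1
    apply h.b1
    have h2 : a * b = a * 1 := by rw [mul_one]; exact h1.symm
    exact mul_left_cancel h2
  have hb' : b ≠ a * b := by
    intro h1
    apply h.a1
    have h2 : a * b = 1 * b := by rw [one_mul]; exact h1.symm
    exact mul_right_cancel h2
  have h1 : ({1, a, b, a * b} : Finset L).card = 4 := by
    rw [Finset.card_insert_of_notMem, Finset.card_insert_of_notMem, Finset.card_insert_of_notMem,
      Finset.card_singleton]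
    · simp only [Finset.mem_singleton]; exact hb'
    · simp only [Finset.mem_insert, Finset.mem_singleton, not_or]; exact ⟨h.ne, ha'⟩
    · simp only [Finset.mem_insert, Finset.mem_singleton, not_or]
      exact ⟨fun h' => h.a1 h'.symm, fun h' => h.b1 h'.symm, fun h' => hab h'.symm⟩
  have h2 : (({1, a, b, a * b} : Finset L) : Set L) ⊆ (H : Set L) := by
    intro x hx
    simp only [Finset.coe_insert, Finset.coe_singleton, Set.mem_insert_iff,
      Set.mem_singleton_iff] at hx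
    rcases hx with rfl | rfl | rfl | rfl
    · exact one_mem H
    · exact ha
    · exact hb
    · exact mul_mem ha hb
  have hfin : (H : Set L).Finite := Set.toFinite _
  calc 4 = (({1, a, b, a * b} : Finset L) : Set L).ncard := by rw [Set.ncard_coe_finset, h1]
    _ ≤ (H : Set L).ncard := Set.ncard_le_ncard h2 hfin
    _ = Nat.card H := rfl

/-- involutions of `S` acting as inner automorphisms commute with `S ∩ C(K)`, if this group is
cyclic. -/
theorem comm_of_inner_cyclic (D : Data K F) {S : Subgroup G}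
    (hS : IsSyl2 (normalizer (K : Set G)) S)
    (hc : IsCyclic (S ⊓ centralizer (K : Set G) : Subgroup G)) {e : G} (heS : e ∈ S)
    (he2 : e * e = 1) (hi : ac K (hS.le heS) ∈ (MulAut.conj : K →* MulAut K).range) :
    ∀ r ∈ S ⊓ centralizer (K : Set G), r * e = e * r := by
  have hR : IsSyl2 (centralizer (K : Set G)) (S ⊓ centralizer (K : Set G)) :=
    isSyl2_inf hS (centralizer_le_normalizer _) (normal_cent K)
  obtain ⟨k, hk, y, hy, hay, hk2, hy2⟩ := exists_decomp D (hS.le heS) he2 hi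
  have hkr : ∀ r ∈ centralizer (K : Set G), k * r = r * k := fun r hr => mem_centralizer_iff.1 hr k hk
  have hact : ∀ r ∈ centralizer (K : Set G), e * r * e⁻¹ = y * r * y⁻¹ := by
    intro r hr
    have h1 : y * r * y⁻¹ ∈ centralizer (K : Set G) := mul_mem (mul_mem hy hr) (inv_mem hy)
    calc e * r * e⁻¹ = k * (y * r * y⁻¹) * k⁻¹ := by rw [hay]; group
      _ = y * r * y⁻¹ := by rw [hkr _ h1, mul_inv_cancel_right]
  have hyR : y ∈ S ⊓ centralizer (K : Set G) := by
    refine mem_of_normalizes hR hy (exists_pow_of_sq hy2) (mem_normalizer_of_forall ?_)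
    intro r hr
    rw [← hact r hr.2]
    refine Subgroup.mem_inf.mpr ⟨mul_mem (mul_mem heS hr.1) (inv_mem heS), ?_⟩
    exact normal_cent K e (hS.le heS) r hr.2
  intro r hr
  have hcomm : y * r = r * y := by
    obtain ⟨g, hg⟩ := hc.exists_generator
    obtain ⟨m, hm⟩ := Subgroup.mem_zpowers_iff.mp (hg ⟨y, hyR⟩)
    obtain ⟨n, hn⟩ := Subgroup.mem_zpowers_iff.mp (hg ⟨r, hr⟩)
    have h1 : (⟨y, hyR⟩ : (S ⊓ centralizer (K : Set G) : Subgroup G)) * ⟨r, hr⟩ =
        ⟨r, hr⟩ * ⟨y, hyR⟩ := by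
      rw [← hm, ← hn, ← zpow_add, ← zpow_add, add_comm]
    exact congrArg Subtype.val h1
  have h1 := hact r hr.2
  rw [hcomm, mul_inv_cancel_right] at h1
  exact (mul_inv_eq_iff_eq_mul.1 h1).symm

/-- a four-group in `S ∩ K` -/
theorem exists_four (D : Data K F) {S : Subgroup G} (hS : IsSyl2 (normalizer (K : Set G)) S) :
    ∃ v₁ v₂ : K, (v₁ : G) ∈ S ∧ (v₂ : G) ∈ S ∧ Cfsg.Agent.GH.L2Aut.Four v₁ v₂ := by
  have hpf : Fact (Nat.Prime 2) := ⟨Nat.prime_two⟩
  have hSK : IsSyl2 K (S ⊓ K) := isSyl2_inf hS Subgroup.le_normalizer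
    (fun d hd w hw => forall_of_mem_normalizer hd w hw)
  -- an involution of `K`
  have h2K : 2 ∣ Nat.card K := by
    have h1 := D.card_K
    have h2 := nu_mod _ D.odd
    have h3 : 4 ∣ 2 * Nat.card K := by
      rw [h1]
      exact Dvd.dvd.mul_left (Dvd.dvd.mul_left (Nat.dvd_of_mod_eq_zero h2) _) _
    omega
  obtain ⟨k, hk⟩ := exists_prime_orderOf_dvd_card' (G := K) 2 h2K
  have hk1 := ne_one_of_orderOf hk
  have hk2 := mul_self_of_orderOf hk
  obtain ⟨T, m, hT, -⟩ := D.exists_torusAt hk1 hk2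
  obtain ⟨u, hu, huT⟩ := hT.ex
  obtain ⟨hu1, hu2, -⟩ := hT.out u hu huT
  have hku : k ≠ u := by
    rintro rfl
    exact huT hT.mem
  have hkG : orderOf (k : G) = 2 := by rw [← hk]; exact Subgroup.orderOf_coe k
  have huG : orderOf (u : G) = 2 := by
    rw [← orderOf_eq_two hu1 hu2]; exact Subgroup.orderOf_coe u
  have hQ : IsPGroup 2 (zpowers (k : G) ⊔ zpowers (u : G) : Subgroup G) := by
    refine IsPGroup.to_sup_of_normal_left' (isPGroup_zpowers hkG) (isPGroup_zpowers huG) ?_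
    rw [zpowers_le]
    refine centralizer_le_normalizer _ ?_
    rw [mem_centralizer_iff]
    rintro _ ⟨n, rfl⟩
    have h1 : Commute (u : G) (k : G) := congrArg Subtype.val hu
    exact (h1.zpow_right n).symm
  obtain ⟨Q', hQ', hle⟩ := exists_isSyl2 K _
    (sup_le (zpowers_le.2 k.2) (zpowers_le.2 u.2)) hQ
  obtain ⟨c, hc, hcQ⟩ := CITBasic.IsSyl2.conj hQ' hSK
  have hmem : ∀ z : K, (z : G) ∈ Q' → ((⟨c, hc⟩ * z * ⟨c, hc⟩⁻¹ : K) : G) ∈ S := by
    intro z hz
    have h1 : c * z * c⁻¹ ∈ S ⊓ K := by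
      rw [hcQ]
      exact ⟨z, hz, rfl⟩
    exact h1.1
  have hconj : Cfsg.Agent.GH.L2Aut.Four (MulAut.conj (⟨c, hc⟩ : K) k) (MulAut.conj (⟨c, hc⟩ : K) u) :=
    Cfsg.Agent.GH.L2Aut.Four.map ⟨hk2, hu2, hk1, hu1, hku, hu.symm⟩ _
  exact ⟨_, _, hmem k (hle (mem_sup_left (mem_zpowers _))),
    hmem u (hle (mem_sup_right (mem_zpowers _))), hconj⟩

/-- (4.2b) If `S ∩ C(K)` is cyclic and its involution is not centralized by `N(S)`, then
`|S ∩ C(K)| = 2`. -/
theorem card_two_of_cyclic (D : Data K F) {S : Subgroup G}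
    (hS : IsSyl2 (normalizer (K : Set G)) S)
    (hc : IsCyclic (S ⊓ centralizer (K : Set G) : Subgroup G)) {t x : G}
    (ht : t ∈ S ⊓ centralizer (K : Set G)) (ht2 : orderOf t = 2)
    (hx : x ∈ normalizer (S : Set G)) (hxt : x * t ≠ t * x) :
    Nat.card (S ⊓ centralizer (K : Set G) : Subgroup G) = 2 := by
  have hpf : Fact (Nat.Prime 2) := ⟨Nat.prime_two⟩
  set R := S ⊓ centralizer (K : Set G) with hR
  have hR2 : IsPGroup 2 R := hS.two.to_le inf_le_left
  by_contra hcard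
  -- an element `w` with `w² = t`
  obtain ⟨w, hwR, hww⟩ : ∃ w ∈ R, w * w = t := by
    obtain ⟨n, hn⟩ := IsPGroup.iff_card.mp hR2
    have hdvd : 2 ∣ Nat.card R := by rw [← ht2]; exact R.orderOf_dvd_natCard ht
    have h4 : 4 ∣ Nat.card R := by
      rw [hn] at hdvd hcard ⊢
      have h0 : n ≠ 0 := by
        rintro rfl
        norm_num at hdvd
      have h1 : n ≠ 1 := by
        rintro rfl
        exact hcard (pow_one 2)
      have h2 : (2 : ℕ) ^ 2 ∣ 2 ^ n := pow_dvd_pow 2 (by omega)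
      exact h2
    obtain ⟨g, hg⟩ := hc.exists_generator
    have hgo : orderOf g = Nat.card R := orderOf_eq_card_of_forall_mem_zpowers hg
    have hw : orderOf (g ^ (Nat.card R / 4)) = 4 := by
      have hpos : 0 < Nat.card R := Nat.card_pos
      rw [orderOf_pow_of_dvd, hgo]
      · exact Nat.div_div_self h4 hpos.ne'
      · exact (Nat.div_pos (Nat.le_of_dvd hpos h4) (by norm_num)).ne'
      · rw [hgo]; exact Nat.div_dvd_of_dvd h4
    refine ⟨(g ^ (Nat.card R / 4) : R), (g ^ (Nat.card R / 4)).2, ?_⟩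
    set w := g ^ (Nat.card R / 4) with hwdef
    have h5 : orderOf (w * w) = 2 := by
      rw [← pow_two, orderOf_pow, hw]
      norm_num
    have h6 : orderOf ((w * w : R) : G) = 2 := by rw [← h5]; exact Subgroup.orderOf_coe _
    exact eq_of_cyclic hc (w * w).2 ht h6 ht2
  -- the four-group
  obtain ⟨v₁, v₂, hv₁S, hv₂S, hv⟩ := exists_four D hS
  have hv₁₂ : Cfsg.Agent.GH.L2Aut.Four v₁ (v₁ * v₂) := hv.right
  -- `Q = C_S(V)`
  set Q : Subgroup G := S ⊓ centralizer ({(v₁ : G)} : Set G) ⊓ centralizer ({(v₂ : G)} : Set G) with hQ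
  have hQmem : ∀ s, s ∈ Q ↔ s ∈ S ∧ s * v₁ = v₁ * s ∧ s * v₂ = v₂ * s := by
    intro s
    rw [hQ, Subgroup.mem_inf, Subgroup.mem_inf, mem_centralizer_singleton_iff,
      mem_centralizer_singleton_iff, and_assoc]
  have hKR : ∀ v : K, ∀ r ∈ R, r * v = v * r := fun v r hr =>
    (mem_centralizer_iff.1 hr.2 v v.2).symm
  have hQdec : ∀ s ∈ Q, ∃ v : K, (v : G) ∈ S ∧ v * v = 1 ∧ ∃ r ∈ R, s = v * r := by
    intro s hs
    obtain ⟨hsS, h1, h2⟩ := (hQmem s).1 hs
    have key : ∀ v : K, (v : G) ∈ S → v * v = 1 → ac K (hS.le hsS) = MulAut.conj v →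
        ∃ v : K, (v : G) ∈ S ∧ v * v = 1 ∧ ∃ r ∈ R, s = v * r := by
      intro v hvS hvv hac
      refine ⟨v, hvS, hvv, (v : G)⁻¹ * s, ?_, by group⟩
      refine Subgroup.mem_inf.mpr ⟨mul_mem (inv_mem hvS) hsS, ?_⟩
      have hvn : (v : G)⁻¹ ∈ normalizer (K : Set G) := inv_mem (le_normalizer v.2)
      rw [← ac_eq_one (mul_mem hvn (hS.le hsS)), ac_mul hvn (hS.le hsS), hac,
        ac_of_mem (K.inv_mem v.2) hvn, ← map_mul]
      have : (⟨(v : G)⁻¹, K.inv_mem v.2⟩ : K) * v = 1 := Subtype.ext (inv_mul_cancel (v : G))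
      rw [this, map_one]
    rcases D.R.fix_four hv (D.mem_PGL _) ((ac_fix (hS.le hsS) v₁.2).2 h1)
      ((ac_fix (hS.le hsS) v₂.2).2 h2) with h3 | h3 | h3 | h3
    · exact key 1 S.one_mem (mul_one 1) (by rw [h3, map_one])
    · exact key v₁ hv₁S hv.aa h3
    · exact key v₂ hv₂S hv.bb h3
    · exact key (v₁ * v₂) (mul_mem hv₁S hv₂S) hv₁₂.bb h3
  have hRQ : R ≤ Q := by
    intro r hr
    exact (hQmem r).2 ⟨hr.1, hKR v₁ r hr, hKR v₂ r hr⟩
  have hQS : Q ≤ S := fun s hs => ((hQmem s).1 hs).1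
  have hQ2 : IsPGroup 2 Q := hS.two.to_le hQS
  have hQK : Q ⊓ centralizer (K : Set G) = R := by
    apply le_antisymm
    · exact inf_le_inf_right _ hQS
    · exact le_inf hRQ inf_le_right
  have hv₁Q : (v₁ : G) ∈ Q := (hQmem _).2 ⟨hv₁S, rfl, congrArg Subtype.val hv.comm⟩
  have hv₂Q : (v₂ : G) ∈ Q := (hQmem _).2 ⟨hv₂S, congrArg Subtype.val hv.comm.symm, rfl⟩
  have hQcard : 4 * Nat.card R ≤ Nat.card Q := by
    let f : Q →* MulAut K := K.normalizerMonoidHom.comp (Subgroup.inclusion (hQS.trans hS.le))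
    have hf : ∀ x : Q, f x = ac K ((hQS.trans hS.le) x.2) := fun x => rfl
    have hker : Nat.card f.ker = Nat.card R := by
      have h1 : f.ker = (centralizer (K : Set G)).subgroupOf Q := by
        ext x
        rw [MonoidHom.mem_ker, hf, ac_eq_one, mem_subgroupOf]
      rw [h1, ← Subgroup.card_map_of_injective Q.subtype_injective,
        Subgroup.subgroupOf_map_subtype, inf_comm, hQK]
    have hrange : 4 ≤ Nat.card f.range := by
      refine four_le_card (a := MulAut.conj v₁) (b := MulAut.conj v₂) ?_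
        ⟨⟨v₁, hv₁Q⟩, ac_of_mem v₁.2 _⟩ ⟨⟨v₂, hv₂Q⟩, ac_of_mem v₂.2 _⟩
      refine ⟨by rw [← map_mul, hv.aa, map_one], by rw [← map_mul, hv.bb, map_one], ?_, ?_, ?_, ?_⟩
      · exact fun h' => hv.a1 (D.R.conj_injective (by rw [h', map_one]))
      · exact fun h' => hv.b1 (D.R.conj_injective (by rw [h', map_one]))
      · exact fun h' => hv.ne (D.R.conj_injective h')
      · rw [← map_mul, hv.comm, map_mul]
    rw [← Subgroup.card_mul_index f.ker, Subgroup.index_ker, hker, mul_comm]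
    exact Nat.mul_le_mul le_rfl hrange
  -- `R ≤ Q^x`
  have hxS : ∀ s ∈ S, x * s * x⁻¹ ∈ S := forall_of_mem_normalizer hx
  have hxS' : ∀ s ∈ S, x⁻¹ * s * x ∈ S := by
    intro s hs
    have := forall_of_mem_normalizer (inv_mem hx) s hs
    rwa [inv_inv] at this
  have hRx : ∀ r ∈ R, x⁻¹ * r * x ∈ Q := by
    by_cases hout : ∃ v : K, ∃ hvS : (v : G) ∈ S, v * v = 1 ∧ (∀ s ∈ Q, s * v = v * s) ∧
        ac K (hS.le (hxS v hvS)) ∉ (MulAut.conj : K →* MulAut K).range
    · obtain ⟨v, hvS, hvv, hvQ, hni⟩ := hout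
      have hvv' : (v : G) * v = 1 := congrArg Subtype.val hvv
      have he2 : ac K (hS.le (hxS v hvS)) * ac K (hS.le (hxS v hvS)) = 1 := by
        rw [← ac_mul, ac_eq_one]
        have : x * v * x⁻¹ * (x * v * x⁻¹) = 1 := by
          calc x * v * x⁻¹ * (x * v * x⁻¹) = x * (v * v) * x⁻¹ := by group
            _ = 1 := by rw [hvv']; group
        rw [this]; exact one_mem _
      have hQxS : cj x Q ≤ S := by
        rintro _ ⟨q, hq, rfl⟩
        exact hxS q (hQS hq)
      have h1 := card_le_of_outer D (hS.le (hxS v hvS)) hni he2 (Q := cj x Q)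
        (hS.two.to_le hQxS) (hQxS.trans hS.le) (by
          rintro _ ⟨q, hq, rfl⟩
          have h2 := hvQ q hq
          change x * q * x⁻¹ * (x * v * x⁻¹) = x * v * x⁻¹ * (x * q * x⁻¹)
          calc x * q * x⁻¹ * (x * v * x⁻¹) = x * (q * v) * x⁻¹ := by group
            _ = x * (v * q) * x⁻¹ := by rw [h2]
            _ = x * v * x⁻¹ * (x * q * x⁻¹) := by group)
      rw [card_cj] at h1
      have h2 : cj x Q ⊓ centralizer (K : Set G) ≤ R := inf_le_inf_right _ hQxS
      have h3 : cj x Q ⊓ centralizer (K : Set G) = R :=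
        Subgroup.eq_of_le_of_card_ge h2 (by omega)
      intro r hr
      rw [← h3] at hr
      exact mem_cj.1 hr.1
    · push Not at hout
      intro r hr
      have key : ∀ v : K, (v : G) ∈ S → v * v = 1 → (∀ s ∈ Q, s * v = v * s) →
          (x⁻¹ * r * x) * v = v * (x⁻¹ * r * x) := by
        intro v hvS hvv hvQ
        have hvv' : (v : G) * v = 1 := congrArg Subtype.val hvv
        have h1 := comm_of_inner_cyclic D hS hc (hxS v hvS) (by
          calc x * v * x⁻¹ * (x * v * x⁻¹) = x * (v * v) * x⁻¹ := by group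
            _ = 1 := by rw [hvv']; group) (hout v hvS hvv hvQ) r hr
        calc (x⁻¹ * r * x) * v = x⁻¹ * (r * (x * v * x⁻¹)) * x := by group
          _ = x⁻¹ * ((x * v * x⁻¹) * r) * x := by rw [h1]
          _ = v * (x⁻¹ * r * x) := by group
      refine (hQmem _).2 ⟨hxS' r hr.1, key v₁ hv₁S hv.aa fun s hs => ((hQmem s).1 hs).2.1,
        key v₂ hv₂S hv.bb fun s hs => ((hQmem s).1 hs).2.2⟩
  -- the end
  obtain ⟨v, hvS, hvv, r, hr, hdec⟩ := hQdec _ (hRx w hwR)
  have hvv' : (v : G) * v = 1 := congrArg Subtype.val hvv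
  have h1 : x⁻¹ * t * x = r * r := by
    calc x⁻¹ * t * x = (x⁻¹ * w * x) * (x⁻¹ * w * x) := by rw [← hww]; group
      _ = (v * r) * (v * r) := by rw [hdec]
      _ = v * (r * v) * r := by group
      _ = v * (v * r) * r := by rw [hKR v r hr]
      _ = (v * v) * (r * r) := by group
      _ = r * r := by rw [hvv', one_mul]
  have h2 : orderOf (r * r) = 2 := by
    rw [← h1]
    have := orderOf_conj x⁻¹ t
    rw [inv_inv] at this
    rw [this, ht2]
  have h3 : r * r = t := eq_of_cyclic hc (mul_mem hr hr) ht h2 ht2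
  apply hxt
  rw [h3] at h1
  calc x * t = x * (x⁻¹ * t * x) := by rw [h1]
    _ = t * x := by group

/-- A central involution of `S` in `S ∩ K`. -/
theorem exists_central (D : Data K F) {S : Subgroup G} (hS : IsSyl2 (normalizer (K : Set G)) S) :
    ∃ i ∈ K, i ∈ S ∧ orderOf i = 2 ∧ ∀ s ∈ S, i * s = s * i := by
  have hpf : Fact (Nat.Prime 2) := ⟨Nat.prime_two⟩
  obtain ⟨v₁, v₂, hv₁S, hv₂S, hv⟩ := exists_four D hS
  have h1 : ((S ⊓ K).subgroupOf S).Normal := by
    refine Subgroup.normal_subgroupOf_of_le_normalizer ?_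
    intro s hs
    refine mem_normalizer_of_forall fun x hx => Subgroup.mem_inf.mpr ⟨?_, ?_⟩
    · exact S.mul_mem (S.mul_mem hs hx.1) (S.inv_mem hs)
    · exact forall_of_mem_normalizer (hS.le hs) x hx.2
  have h2 : (S ⊓ K).subgroupOf S ≠ ⊥ := by
    intro hb
    have h3 : (⟨v₁, hv₁S⟩ : S) ∈ (S ⊓ K).subgroupOf S := ⟨hv₁S, v₁.2⟩
    rw [hb, mem_bot] at h3
    have h4 : (v₁ : G) = 1 := congrArg Subtype.val h3
    exact hv.a1 (Subtype.ext h4)
  have h4 : Group.IsNilpotent S := hS.two.isNilpotent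
  have h3 := Cfsg.Agent.Lib.NormalAbelian.normal_inf_center_ne_bot ((S ⊓ K).subgroupOf S) h2
  have h5 : IsPGroup 2 ((S ⊓ K).subgroupOf S ⊓ center S : Subgroup S) :=
    hS.two.to_subgroup _
  have h6 := (Subgroup.nontrivial_iff_ne_bot _).mpr h3
  obtain ⟨n, hn0, hn⟩ := h5.nontrivial_iff_card.mp h6
  obtain ⟨⟨z, hzS⟩, hz, hz2⟩ := exists_involution
    (H := ((S ⊓ K).subgroupOf S ⊓ center S : Subgroup S))
    (by rw [hn]; exact (Nat.even_pow.mpr ⟨even_two, Nat.pos_iff_ne_zero.mp hn0⟩))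
  rw [Subgroup.orderOf_mk] at hz2
  exact ⟨z, hz.1.2, hzS, hz2, fun y hy =>
    (congrArg Subtype.val (mem_center_iff.mp hz.2 ⟨y, hy⟩)).symm⟩

/-- In the inner case the involution `t` of `S ∩ C(K)` is moved by `N(S)`. -/
theorem exists_moves [IsSimpleGroup G] {p₀ : ℕ} (h : Std p₀ K) (D : Data K F) {g : G}
    (hg : g ∉ normalizer (K : Set G)) {a : G} (haY : a ∈ cj g (centralizer (K : Set G)))
    (haM : a ∈ normalizer (K : Set G)) (ha2 : orderOf a = 2)
    (hi : ac K haM ∈ (MulAut.conj : K →* MulAut K).range) {S : Subgroup G}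
    (hS : IsSyl2 (normalizer (K : Set G)) S)
    (hc : IsCyclic (S ⊓ centralizer (K : Set G) : Subgroup G)) {t : G}
    (ht : t ∈ S ⊓ centralizer (K : Set G)) (ht2 : orderOf t = 2) :
    ∃ x ∈ normalizer (S : Set G), x * t ≠ t * x := by
  have hpf : Fact (Nat.Prime 2) := ⟨Nat.prime_two⟩
  have hR : IsSyl2 (centralizer (K : Set G)) (S ⊓ centralizer (K : Set G)) :=
    isSyl2_inf hS (centralizer_le_normalizer _) (normal_cent K)
  have hne : normalizer (S : Set G) ≤ normalizer (K : Set G) → IsSyl2 (⊤ : Subgroup G) S := by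
    intro hle
    refine ⟨le_top, hS.two, fun P _ hP2 hSP => ?_⟩
    refine Cfsg.Agent.Blocks.SylowIn.eq_of_normalizer_inf_le (p := 2) hP2 hSP ?_
    have h3 := hS.max _ (inf_le_left.trans hle) (hP2.to_le inf_le_right)
      (le_inf Subgroup.le_normalizer hSP)
    exact h3.le
  by_contra hno
  push Not at hno
  have hNM : normalizer (S : Set G) ≤ normalizer (K : Set G) := by
    intro x hx
    refine h.le_normalizer ht2 ht.2 ?_
    rw [mem_centralizer_singleton_iff]
    exact hno x hx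
  have hST := hne hNM
  -- `S` is a Sylow 2-subgroup of `G`
  obtain ⟨P, hSP⟩ := hS.two.exists_le_sylow
  have hPS : (P : Subgroup G) = S := hST.max _ le_top P.isPGroup' hSP
  -- `a` is conjugate in `N(K)` to an element of `Z(S)`
  obtain ⟨k, hk, y, hy, hay, hk2, hy2⟩ := exists_decomp D haM (mul_self_of_orderOf ha2) hi
  have hk1 : k ≠ 1 := by
    rintro rfl
    rw [one_mul] at hay
    have h1 := h.inf_eq_bot hg (isPGroup_zpowers ha2) (zpowers_le.2 haY)
    have h2 : a ∈ zpowers a ⊓ centralizer (K : Set G) := ⟨mem_zpowers a, by rw [hay]; exact hy⟩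
    rw [h1, mem_bot] at h2
    exact ne_one_of_orderOf ha2 h2
  obtain ⟨i, hiK, hiS, hi2, hic⟩ := exists_central D hS
  -- `k` is `K`-conjugate to `i`
  obtain ⟨c, hcK, hck⟩ : ∃ c ∈ K, c * k * c⁻¹ = i := by
    have h1 : (⟨k, hk⟩ : K) ≠ 1 := fun h' => hk1 (congrArg Subtype.val h')
    have h2 : (⟨k, hk⟩ : K) * ⟨k, hk⟩ = 1 := Subtype.ext hk2
    have h3 : (⟨i, hiK⟩ : K) ≠ 1 := fun h' => ne_one_of_orderOf hi2 (congrArg Subtype.val h')
    have h4 : (⟨i, hiK⟩ : K) * ⟨i, hiK⟩ = 1 := Subtype.ext (mul_self_of_orderOf hi2)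
    obtain ⟨c, hc⟩ := Cfsg.Agent.Lib.PSL2Torus.conj_inv D.two D.e h1 h2 h3 h4
    exact ⟨c, c.2, congrArg Subtype.val hc⟩
  -- `y` is `C(K)`-conjugate to `1` or `t`
  obtain ⟨d, hdY, hdy⟩ : ∃ d ∈ centralizer (K : Set G), d * y * d⁻¹ = 1 ∨ d * y * d⁻¹ = t := by
    by_cases hy1 : y = 1
    · exact ⟨1, one_mem _, Or.inl (by rw [hy1]; group)⟩
    · have hyo := orderOf_eq_two hy1 hy2
      obtain ⟨R', hR', hyR'⟩ := exists_isSyl2 (centralizer (K : Set G)) (zpowers y)
        (zpowers_le.2 hy) (isPGroup_zpowers hyo)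
      obtain ⟨d, hd, hdR⟩ := CITBasic.IsSyl2.conj hR' hR
      have h1 : d * y * d⁻¹ ∈ S ⊓ centralizer (K : Set G) := by
        rw [hdR]; exact ⟨y, hyR' (mem_zpowers y), rfl⟩
      exact ⟨d, hd, Or.inr (eq_of_cyclic hc h1 ht (by rw [orderOf_conj, hyo]) ht2)⟩
  -- the conjugate `z` of `a`
  have hconj : (c * d) * a * (c * d)⁻¹ = i * (d * y * d⁻¹) := by
    have h1 : d * k = k * d := (mem_centralizer_iff.1 hdY k hk).symm
    have h2 : c * (d * y * d⁻¹) = (d * y * d⁻¹) * c :=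
      mem_centralizer_iff.1 (mul_mem (mul_mem hdY hy) (inv_mem hdY)) c hcK
    calc (c * d) * a * (c * d)⁻¹ = c * (d * k) * y * d⁻¹ * c⁻¹ := by rw [hay]; group
      _ = c * (k * d) * y * d⁻¹ * c⁻¹ := by rw [h1]
      _ = (c * k) * (d * y * d⁻¹) * c⁻¹ := by group
      _ = (c * k * c⁻¹) * (c * (d * y * d⁻¹)) * c⁻¹ := by group
      _ = i * (d * y * d⁻¹) := by rw [h2, hck]; group
  set z := i * (d * y * d⁻¹) with hz
  -- `t` is central in `S`
  have htc : ∀ s ∈ S, s * t = t * s := by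
    intro s hs
    have h1 : s * t * s⁻¹ ∈ S ⊓ centralizer (K : Set G) :=
      Subgroup.mem_inf.mpr ⟨mul_mem (mul_mem hs ht.1) (inv_mem hs), normal_cent K s (hS.le hs) t ht.2⟩
    have h2 := eq_of_cyclic hc h1 ht (by rw [orderOf_conj, ht2]) ht2
    exact mul_inv_eq_iff_eq_mul.1 h2
  have hzc : ∀ s ∈ S, s * z = z * s := by
    intro s hs
    rcases hdy with h1 | h1
    · rw [hz, h1, mul_one]; exact (hic s hs).symm
    · rw [hz, h1, ← mul_assoc, ← hic s hs, mul_assoc, htc s hs, mul_assoc]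
  have hzt : z ≠ t := by
    intro h1
    rcases hdy with h2 | h2
    · rw [hz, h2, mul_one] at h1
      have h3 := inf_centralizer_eq_bot D hiK (by rw [h1]; exact ht.2)
      exact ne_one_of_orderOf hi2 h3
    · rw [hz, h2] at h1
      have h3 : i = 1 := by
        have : i * t = 1 * t := by rw [one_mul]; exact h1
        exact mul_right_cancel this
      exact ne_one_of_orderOf hi2 h3
  -- `a` is conjugate to `t`
  obtain ⟨w, hw⟩ : ∃ w : G, w * a * w⁻¹ = t := by
    have h1 : g⁻¹ * a * g ∈ centralizer (K : Set G) := mem_cj.1 haY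
    have h2 : orderOf (g⁻¹ * a * g) = 2 := by
      have := orderOf_conj g⁻¹ a
      rw [inv_inv] at this
      rw [this, ha2]
    obtain ⟨R', hR', hyR'⟩ := exists_isSyl2 (centralizer (K : Set G)) (zpowers (g⁻¹ * a * g))
      (zpowers_le.2 h1) (isPGroup_zpowers h2)
    obtain ⟨e, he, heR⟩ := CITBasic.IsSyl2.conj hR' hR
    have h3 : e * (g⁻¹ * a * g) * e⁻¹ ∈ S ⊓ centralizer (K : Set G) := by
      rw [heR]; exact ⟨_, hyR' (mem_zpowers _), rfl⟩
    refine ⟨e * g⁻¹, ?_⟩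
    rw [← eq_of_cyclic hc h3 ht (by rw [orderOf_conj, h2]) ht2]
    group
  -- Burnside
  have hPc : ∀ x : G, (∀ s ∈ S, s * x = x * s) → x ∈ centralizer ((P : Subgroup G) : Set G) := by
    intro x hx
    rw [mem_centralizer_iff]
    intro s hs
    rw [SetLike.mem_coe, hPS] at hs
    exact hx s hs
  have hzw : ((c * d) * w⁻¹)⁻¹ * z * ((c * d) * w⁻¹) = t := by
    rw [← hconj, ← hw]; group
  obtain ⟨n, hn, hnt⟩ := P.conj_eq_normalizer_conj_of_mem_centralizer z ((c * d) * w⁻¹) (hPc z hzc)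
    (by rw [hzw]; exact hPc t htc)
  rw [hzw] at hnt
  have hnS : n ∈ normalizer (S : Set G) := by
    have : n ∈ normalizer ((P : Subgroup G) : Set G) := hn
    rwa [hPS] at this
  have h1 := hno n hnS
  apply hzt
  have h2 : n * t * n⁻¹ = z := by rw [hnt]; group
  rw [← h2, h1, mul_inv_cancel_right]

/-- (4.2a,b) If some involution of `C(K)^g ∩ N(K)`, `g ∉ N(K)`, is inner on `K`, then the Sylow
2-subgroups of `C(K)` have order 2 (`q ≥ 7`). -/
theorem card_two_of_inner [IsSimpleGroup G] {p₀ : ℕ} (h : Std p₀ K) (D : Data K F)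
    (hq7 : 7 ≤ Nat.card F) {g : G} (hg : g ∉ normalizer (K : Set G)) {a : G}
    (haY : a ∈ cj g (centralizer (K : Set G))) (haM : a ∈ normalizer (K : Set G))
    (ha2 : orderOf a = 2) (hi : ac K haM ∈ (MulAut.conj : K →* MulAut K).range) {S : Subgroup G}
    (hS : IsSyl2 (normalizer (K : Set G)) S) :
    Nat.card (S ⊓ centralizer (K : Set G) : Subgroup G) = 2 := by
  have hR : IsSyl2 (centralizer (K : Set G)) (S ⊓ centralizer (K : Set G)) :=
    isSyl2_inf hS (centralizer_le_normalizer _) (normal_cent K)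
  have hc := isCyclic_of_inner h D hq7 hg haY haM ha2 hi hR
  obtain ⟨t, ht, ht2⟩ : ∃ t ∈ S ⊓ centralizer (K : Set G), orderOf t = 2 := by
    obtain ⟨t, ht, hKt⟩ := h.ex
    obtain ⟨R', hR', htR'⟩ := exists_isSyl2 (centralizer (K : Set G)) (zpowers t)
      (zpowers_le.mpr (mem_centralizer_of_cmp hKt)) (isPGroup_zpowers ht)
    obtain ⟨m, -, hm⟩ := CITBasic.IsSyl2.conj hR' hR
    exact ⟨m * t * m⁻¹, by rw [hm]; exact ⟨t, htR' (mem_zpowers t), rfl⟩, by rw [orderOf_conj, ht]⟩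
  obtain ⟨x, hx, hxt⟩ := exists_moves h D hg haY haM ha2 hi hS hc ht ht2
  exact card_two_of_cyclic D hS hc ht ht2 hx hxt

end Cfsg.Agent.OddCyclic.CompPsl
end

private theorem dce_66737b0a2d15 : _root_.True := by
  try have : _root_.True := by simp only [_root_.Cfsg.Agent.OddCyclic.CompPsl.ac.congr_simp]
  exact _root_.True.intro
end

-- part: OddCyclic/CompSL2Facts
section
prune_inst 0x30105700352210000018000002001d22b2000000000880000001020006818c0020430020b2300101c0c40044403c006813100100420000000a0000000b1c01800000800010400000000000000004400000000000000000000000000000000000000000000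
set_option linter.all false
open scoped Cfsg.Agent.FastGrp

/-!
# `SL(2,p)` and its automorphisms

Facts for case C of S0342 (blueprints/S0342-caseC.md): the structure `Data L z p m n` collects the facts on a
group `L ≅ SL(2,p)`, `p ≥ 5` a prime, with centre `⟨z⟩`, `m = p - ε`, `n = p + ε`, `p ≡ ε mod 4`.
-/

set_option autoImplicit false

namespace Cfsg.Agent.OddCyclic.CompSL2Facts

open Matrix Cfsg.Agent.Lib.SL2Mat Cfsg.Agent.Lib.AutSL2Out
open Cfsg.Agent.Lib.PSL2Circle Cfsg.Agent.Lib.PSL2Torus Cfsg.Agent.Lib.PSL2Inv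

/-- Facts on a group `L ≅ SL(2,p)`; `m = p - ε`, `n = p + ε`, `p ≡ ε mod 4`. -/
structure Data (L : Type*) [Group L] (z : L) (p m n : ℕ) : Prop where
  z_ne : z ≠ 1
  z_sq : z * z = 1
  inv : ∀ x : L, x * x = 1 → x = 1 ∨ x = z
  cen : ∀ x : L, (∀ y, x * y = y * x) → x = 1 ∨ x = z
  ex4 : ∃ k : L, k * k = z
  conj4 : ∀ k k' : L, k * k = z → k' * k' = z → ∃ g, g * k * g⁻¹ = k'
  cyc : ∀ k : L, k * k = z → IsCyclic (Subgroup.centralizer ({k} : Set L))
  card4 : ∀ k : L, k * k = z → Nat.card (Subgroup.centralizer ({k} : Set L)) = m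
  invt : ∀ k : L, k * k = z → ∀ α : MulAut L, α k = k⁻¹ →
    (∀ x, x * k = k * x → α x = x⁻¹) ∧ ∀ x, α (α x) = x
  tor : ∀ k : L, k * k = z → ∀ x, x * k = k * x → x ≠ 1 → x ≠ z → ∀ y, y * x = x * y → y * k = k * y
  cardAut : Nat.card (MulAut L) = Nat.card L
  card : Nat.card L = p * m * n
  outer : ∀ α : MulAut L, (∀ x, α (α x) = x) → (¬ ∃ s, ∀ x, α x = s * x * s⁻¹) →
    Nat.card {x : L // α x = x} = n
  prime : p.Prime
  p5 : 5 ≤ p
  mn : (p % 4 = 1 ∧ m = p - 1 ∧ n = p + 1) ∨ (p % 4 = 3 ∧ m = p + 1 ∧ n = p - 1)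

section mat

variable {F : Type*} [Field F]

/-- entries of an element of `GL(2,F)` -/
def gent (g : GL (Fin 2) F) (i j : Fin 2) : F := g.1 i j

theorem gdet (g : GL (Fin 2) F) : g.1.det = gent g 0 0 * gent g 1 1 - gent g 0 1 * gent g 1 0 :=
  det_fin_two g.1

theorem gdet_ne (g : GL (Fin 2) F) : gent g 0 0 * gent g 1 1 - gent g 0 1 * gent g 1 0 ≠ 0 := by
  rw [← gdet]
  exact (Matrix.GeneralLinearGroup.det g).ne_zero

/-- `g x g⁻¹ = y` as a matrix equation -/
theorem conjGL_eq_iff' (g : GL (Fin 2) F) (x y : Matrix.SpecialLinearGroup (Fin 2) F) :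
    conjGL g x = y ↔ g.1 * x.1 = y.1 * g.1 := by
  constructor
  · intro h
    rw [← h, conjGL_val, Matrix.mul_assoc, inv_val_mul_val, Matrix.mul_one]
  · intro h
    apply Subtype.ext
    rw [conjGL_val, h, Matrix.mul_assoc]
    have : g.1 * g⁻¹.1 = 1 := by rw [← Units.val_mul, mul_inv_cancel, Units.val_one]
    rw [this, Matrix.mul_one]

/-- `g x g⁻¹ = y` as a matrix equation -/
theorem conjGL_eq_iff (g : GL (Fin 2) F) (x y : Matrix.SpecialLinearGroup (Fin 2) F) :
    conjGL g x = y ↔ ∀ i j, gent g i 0 * ent x 0 j + gent g i 1 * ent x 1 j =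
      ent y i 0 * gent g 0 j + ent y i 1 * gent g 1 j := by
  rw [conjGL_eq_iff']
  constructor
  · intro h i j
    have := congrFun (congrFun h i) j
    rwa [Matrix.mul_apply, Matrix.mul_apply, Fin.sum_univ_two, Fin.sum_univ_two] at this
  · intro h
    ext i j
    rw [Matrix.mul_apply, Matrix.mul_apply, Fin.sum_univ_two, Fin.sum_univ_two]
    exact h i j

theorem neg_ent (x : Matrix.SpecialLinearGroup (Fin 2) F) (a b : Fin 2) : ent (-x) a b = - ent x a b :=
  rfl

theorem inv_eq_neg {k : Matrix.SpecialLinearGroup (Fin 2) F} (hk : ent k 1 1 = - ent k 0 0) :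
    k⁻¹ = -k := by
  rw [ent_inv]
  refine ext_ent ?_ ?_ ?_ ?_ <;> simp only [mk_00, mk_01, mk_10, mk_11, neg_ent, hk, neg_neg]

theorem comb_inv {k : Matrix.SpecialLinearGroup (Fin 2) F} (hk : ent k 1 1 = - ent k 0 0)
    (q : Circ F) : (comb k hk q)⁻¹ = comb k hk ⟨q.re, -q.im, by rw [neg_sq, q.eqn]⟩ := by
  rw [ent_inv]
  refine ext_ent ?_ ?_ ?_ ?_ <;>
    simp only [mk_00, mk_01, mk_10, mk_11, comb_00, comb_01, comb_10, comb_11] <;> ring

/-- a matrix acts trivially iff it is scalar -/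
theorem conjGL_eq_self_iff (g : GL (Fin 2) F) : (∀ x, conjGL g x = x) ↔
    gent g 0 1 = 0 ∧ gent g 1 0 = 0 ∧ gent g 1 1 = gent g 0 0 := by
  constructor
  · intro h
    have h1 := (conjGL_eq_iff g _ _).mp (h (up 1))
    have h2 := (conjGL_eq_iff g _ _).mp (h (lo 1))
    have a1 := h1 0 0
    have a2 := h1 0 1
    have a4 := h2 0 0
    simp only [up_00, up_01, up_10, up_11, lo_00, lo_01, lo_10] at a1 a2 a4
    refine ⟨?_, ?_, ?_⟩
    · linear_combination a4
    · linear_combination -a1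
    · linear_combination -a2
  · rintro ⟨h1, h2, h3⟩ x
    rw [conjGL_eq_iff]
    intro i j
    fin_cases i <;> fin_cases j
    · change gent g 0 0 * ent x 0 0 + gent g 0 1 * ent x 1 0 =
        ent x 0 0 * gent g 0 0 + ent x 0 1 * gent g 1 0
      rw [h1, h2]; ring
    · change gent g 0 0 * ent x 0 1 + gent g 0 1 * ent x 1 1 =
        ent x 0 0 * gent g 0 1 + ent x 0 1 * gent g 1 1
      rw [h1, h3]; ring
    · change gent g 1 0 * ent x 0 0 + gent g 1 1 * ent x 1 0 =
        ent x 1 0 * gent g 0 0 + ent x 1 1 * gent g 1 0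
      rw [h2, h3]; ring
    · change gent g 1 0 * ent x 0 1 + gent g 1 1 * ent x 1 1 =
        ent x 1 0 * gent g 0 1 + ent x 1 1 * gent g 1 1
      rw [h1, h2]; ring

theorem gent_mul (g h : GL (Fin 2) F) (i j : Fin 2) :
    gent (g * h) i j = gent g i 0 * gent h 0 j + gent g i 1 * gent h 1 j := by
  change (g.1 * h.1) i j = _
  rw [Matrix.mul_apply, Fin.sum_univ_two]; rfl

/-- a traceless `g` acts as an automorphism of order 2 -/
theorem conjGL_conjGL {g : GL (Fin 2) F} (hg : gent g 1 1 = - gent g 0 0)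
    (x : Matrix.SpecialLinearGroup (Fin 2) F) : conjGL g (conjGL g x) = x := by
  have h1 : conjGL g (conjGL g x) = conjGL (g * g) x := by rw [map_mul]; rfl
  rw [h1]
  refine (conjGL_eq_self_iff (g * g)).mpr ⟨?_, ?_, ?_⟩ x
  · rw [gent_mul, hg]; ring
  · rw [gent_mul, hg]; ring
  · rw [gent_mul, gent_mul, hg]; ring

/-- if `g² ` acts trivially and `g` does not, then `g` is traceless -/
theorem traceless {g : GL (Fin 2) F} (h : ∀ x, conjGL g (conjGL g x) = x)
    (hne : ∃ x, conjGL g x ≠ x) : gent g 1 1 = - gent g 0 0 := by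
  have h1 : ∀ x, conjGL (g * g) x = x := by
    intro x
    rw [map_mul]
    exact h x
  obtain ⟨a1, a2, a3⟩ := (conjGL_eq_self_iff (g * g)).mp h1
  rw [gent_mul] at a1 a2 a3
  rw [gent_mul] at a3
  by_contra htr
  obtain ⟨x, hx⟩ := hne
  apply hx
  have htr' : gent g 0 0 + gent g 1 1 ≠ 0 := fun h => htr (by linear_combination h)
  refine (conjGL_eq_self_iff g).mpr ⟨?_, ?_, ?_⟩ x
  · apply mul_left_cancel₀ htr'; linear_combination a1
  · apply mul_left_cancel₀ htr'; linear_combination a2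
  · apply mul_left_cancel₀ htr'; linear_combination a3

/-- an automorphism inverting `k`, `k² = -1`, inverts its centralizer and has order 2 -/
theorem invert (h2 : (2 : F) ≠ 0) {k : Matrix.SpecialLinearGroup (Fin 2) F}
    (hk : ent k 1 1 = - ent k 0 0) {g : GL (Fin 2) F} (hg : conjGL g k = k⁻¹) :
    (∀ x, x * k = k * x → conjGL g x = x⁻¹) ∧ ∀ x, conjGL g (conjGL g x) = x := by
  rw [inv_eq_neg hk, conjGL_eq_iff] at hg
  have h00 := hg 0 0
  have h01 := hg 0 1
  have h10 := hg 1 0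
  have h11 := hg 1 1
  simp only [neg_ent, hk] at h00 h01 h10 h11
  have hd := det_eq k
  rw [hk] at hd
  constructor
  · intro x hx
    obtain ⟨q, rfl⟩ := exists_comb h2 hk hx
    rw [comb_inv, conjGL_eq_iff]
    intro i j
    fin_cases i <;> fin_cases j
    · change gent g 0 0 * (q.re + q.im * ent k 0 0) + gent g 0 1 * (q.im * ent k 1 0) =
        (q.re + -q.im * ent k 0 0) * gent g 0 0 + (-q.im * ent k 0 1) * gent g 1 0
      linear_combination q.im * h00
    · change gent g 0 0 * (q.im * ent k 0 1) + gent g 0 1 * (q.re - q.im * ent k 0 0) =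
        (q.re + -q.im * ent k 0 0) * gent g 0 1 + (-q.im * ent k 0 1) * gent g 1 1
      linear_combination q.im * h01
    · change gent g 1 0 * (q.re + q.im * ent k 0 0) + gent g 1 1 * (q.im * ent k 1 0) =
        (-q.im * ent k 1 0) * gent g 0 0 + (q.re - -q.im * ent k 0 0) * gent g 1 0
      linear_combination q.im * h10
    · change gent g 1 0 * (q.im * ent k 0 1) + gent g 1 1 * (q.re - q.im * ent k 0 0) =
        (-q.im * ent k 1 0) * gent g 0 1 + (q.re - -q.im * ent k 0 0) * gent g 1 1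
      linear_combination q.im * h11
  · intro x
    apply conjGL_conjGL
    have h3 : (gent g 0 0 + gent g 1 1) * ent k 0 1 = 0 := by linear_combination h01
    have h4 : (gent g 0 0 + gent g 1 1) * ent k 1 0 = 0 := by linear_combination h10
    have h5 : (2 : F) * ((gent g 0 0 + gent g 1 1) * ent k 0 0) = 0 := by
      linear_combination h00 - h11
    have h6 : (gent g 0 0 + gent g 1 1) * ent k 0 0 = 0 := by
      rcases mul_eq_zero.1 h5 with h | h
      · exact absurd h h2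
      · exact h
    have h7 : gent g 0 0 + gent g 1 1 = 0 := by
      have : gent g 0 0 + gent g 1 1 = (gent g 0 0 + gent g 1 1) *
          (ent k 0 0 * -ent k 0 0 - ent k 0 1 * ent k 1 0) := by rw [hd, mul_one]
      rw [this]
      linear_combination -ent k 0 0 * h6 - ent k 1 0 * h3
    linear_combination h7

/-- tori are disjoint outside the centre -/
theorem tor (h2 : (2 : F) ≠ 0) {k : Matrix.SpecialLinearGroup (Fin 2) F}
    (hk : ent k 1 1 = - ent k 0 0) {x : Matrix.SpecialLinearGroup (Fin 2) F} (hx : x * k = k * x)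
    (h1 : x ≠ 1) (hz : x ≠ -1) {y : Matrix.SpecialLinearGroup (Fin 2) F} (hy : y * x = x * y) :
    y * k = k * y := by
  obtain ⟨q, rfl⟩ := exists_comb h2 hk hx
  have him : q.im ≠ 0 := by
    intro h0
    have hq := q.eqn
    rw [h0] at hq
    have h3 : (q.re - 1) * (q.re + 1) = 0 := by linear_combination hq
    rcases mul_eq_zero.1 h3 with h | h
    · apply h1
      have : q.re = 1 := by linear_combination h
      refine ext_ent ?_ ?_ ?_ ?_ <;> simp [this, h0]
    · apply hz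
      have : q.re = -1 := by linear_combination h
      have hn : ∀ a b, ent (-1 : Matrix.SpecialLinearGroup (Fin 2) F) a b =
        -ent (1 : Matrix.SpecialLinearGroup (Fin 2) F) a b := fun _ _ => rfl
      refine ext_ent ?_ ?_ ?_ ?_ <;> simp [this, h0, hn]
  have h00 := congrArg (fun x => ent x 0 0) hy
  have h01 := congrArg (fun x => ent x 0 1) hy
  have h10 := congrArg (fun x => ent x 1 0) hy
  have h11 := congrArg (fun x => ent x 1 1) hy
  simp only [ent_mul, comb_00, comb_01, comb_10, comb_11] at h00 h01 h10 h11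
  refine ext_ent ?_ ?_ ?_ ?_ <;> simp only [ent_mul, hk]
  · apply mul_left_cancel₀ him; linear_combination h00
  · apply mul_left_cancel₀ him; linear_combination h01
  · apply mul_left_cancel₀ him; linear_combination h10
  · apply mul_left_cancel₀ him; linear_combination h11

end mat

section conic

variable (F : Type*) [Field F]

/-- The points of the conic `a² - c b² = 1`. -/
@[ext] structure Con (c : F) where
  /-- first coordinate -/
  re : F
  /-- second coordinate -/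
  im : F
  /-- the equation -/
  eqn : re ^ 2 - c * im ^ 2 = 1

variable {F}

instance [Finite F] (c : F) : Finite (Con F c) :=
  Finite.of_injective (fun p : Con F c => (p.re, p.im)) (by
    intro p q h
    exact Con.ext (congrArg Prod.fst h) (congrArg Prod.snd h))

theorem card_con_of_sq [Finite F] (h2 : (2 : F) ≠ 0) {c : F} (i : F) (hi : i * i = c) (hc : c ≠ 0) :
    Nat.card (Con F c) = Nat.card F - 1 := by
  have hi0 : i ≠ 0 := by
    rintro rfl
    rw [zero_mul] at hi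
    exact hc hi.symm
  have hu : Nat.card Fˣ = Nat.card F - 1 := Nat.card_units F
  rw [← hu]
  refine Nat.card_congr ⟨fun p => ⟨p.re + p.im * i, p.re - p.im * i, ?_, ?_⟩,
    fun z => ⟨(z.1 + z⁻¹.1) / 2, (z.1 - z⁻¹.1) / (2 * i), ?_⟩, ?_, ?_⟩
  · have := p.eqn
    linear_combination this - p.im ^ 2 * hi
  · have := p.eqn
    linear_combination this - p.im ^ 2 * hi
  · have hz : z.1 * z⁻¹.1 = 1 := z.mul_inv
    have hi2 : i ^ 2 = c := by rw [sq, hi]
    change ((z.1 + z⁻¹.1) / 2) ^ 2 - c * ((z.1 - z⁻¹.1) / (2 * i)) ^ 2 = 1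
    rw [div_pow, div_pow, mul_pow, hi2]
    field_simp
    linear_combination 4 * hz
  · intro p
    refine Con.ext ?_ ?_
    · change ((p.re + p.im * i) + (p.re - p.im * i)) / 2 = p.re
      field_simp; ring
    · change ((p.re + p.im * i) - (p.re - p.im * i)) / (2 * i) = p.im
      field_simp; ring
  · intro z
    apply Units.ext
    change (z.1 + z⁻¹.1) / 2 + (z.1 - z⁻¹.1) / (2 * i) * i = z.1
    field_simp
    ring

theorem card_con_of_not_sq [Finite F] (h2 : (2 : F) ≠ 0) {c : F} (hi : ∀ i : F, i * i ≠ c)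
    (hc : c ≠ 0) :
    Nat.card (Con F c) = Nat.card F + 1 := by
  have hne : ∀ t : F, 1 - c * t ^ 2 ≠ 0 := by
    intro t h
    have ht : t ≠ 0 := by
      rintro rfl
      simp at h
    apply hi (t⁻¹)
    field_simp
    linear_combination h
  rw [← Finite.card_option]
  symm
  let f : Option F → Con F c := fun o => match o with
    | none => ⟨-1, 0, by simp⟩
    | some t => ⟨(1 + c * t ^ 2) / (1 - c * t ^ 2), 2 * t / (1 - c * t ^ 2), by
        have := hne t
        change ((1 + c * t ^ 2) / (1 - c * t ^ 2)) ^ 2 - c * (2 * t / (1 - c * t ^ 2)) ^ 2 = 1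
        field_simp
        ring⟩
  refine Nat.card_congr (Equiv.ofBijective f ⟨?_, ?_⟩)
  · intro a b hab
    have key : ∀ t : F, (1 + c * t ^ 2) / (1 - c * t ^ 2) ≠ -1 := by
      intro t h
      have := hne t
      field_simp at h
      exact h2 (by linear_combination h)
    cases a with
    | none =>
      cases b with
      | none => rfl
      | some t =>
        have h1 : (-1 : F) = (1 + c * t ^ 2) / (1 - c * t ^ 2) := congrArg Con.re hab
        exact absurd h1.symm (key t)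
    | some s =>
      cases b with
      | none =>
        have h1 : (1 + c * s ^ 2) / (1 - c * s ^ 2) = -1 := congrArg Con.re hab
        exact absurd h1 (key s)
      | some t =>
        have h1 : (1 + c * s ^ 2) / (1 - c * s ^ 2) = (1 + c * t ^ 2) / (1 - c * t ^ 2) :=
          congrArg Con.re hab
        have h3 : 2 * s / (1 - c * s ^ 2) = 2 * t / (1 - c * t ^ 2) := congrArg Con.im hab
        have hs := hne s
        have ht := hne t
        congr 1
        -- `s = b / (1 + a)`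
        have e1 : ∀ x : F, 1 - c * x ^ 2 ≠ 0 →
            x * (1 + (1 + c * x ^ 2) / (1 - c * x ^ 2)) = 2 * x / (1 - c * x ^ 2) := by
          intro x hx
          rw [eq_div_iff hx, mul_assoc, add_mul, div_mul_cancel₀ _ hx]
          ring
        have e2 := e1 s hs
        have e3 := e1 t ht
        rw [h1, h3, ← e3] at e2
        have e4 : 1 + (1 + c * t ^ 2) / (1 - c * t ^ 2) ≠ 0 := by
          intro h
          exact key t (by linear_combination h)
        exact mul_right_cancel₀ e4 e2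
  · rintro ⟨a, b, hab⟩
    by_cases ha : 1 + a = 0
    · refine ⟨none, ?_⟩
      refine Con.ext ?_ ?_
      · change (-1 : F) = a
        linear_combination -ha
      · change (0 : F) = b
        have ha' : a = -1 := by linear_combination ha
        rw [ha'] at hab
        have hb : c * b ^ 2 = 0 := by linear_combination -hab
        exact (pow_eq_zero_iff (two_ne_zero) |>.1 ((mul_eq_zero.mp hb).resolve_left hc)).symm
    · refine ⟨some (b / (1 + a)), ?_⟩
      have h3 : (1 + a) ^ 2 - c * b ^ 2 = 2 * (1 + a) := by linear_combination hab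
      have h5 : 1 - c * (b / (1 + a)) ^ 2 = 2 / (1 + a) := by
        field_simp
        linear_combination h3
      refine Con.ext ?_ ?_
      · change (1 + c * (b / (1 + a)) ^ 2) / (1 - c * (b / (1 + a)) ^ 2) = a
        rw [h5]
        field_simp
        linear_combination -hab
      · change 2 * (b / (1 + a)) / (1 - c * (b / (1 + a)) ^ 2) = b
        rw [h5]
        field_simp

/-- the fixed points of a traceless matrix -/
theorem card_fixed (h2 : (2 : F) ≠ 0) {g : GL (Fin 2) F} (hg : gent g 1 1 = - gent g 0 0) :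
    Nat.card {x // conjGL g x = x} =
      Nat.card (Con F (gent g 0 0 ^ 2 + gent g 0 1 * gent g 1 0)) := by
  have hd := gdet_ne g
  rw [hg] at hd
  set a := gent g 0 0 with ha
  set b := gent g 0 1 with hb
  set c := gent g 1 0 with hc
  have hC : a ^ 2 + b * c ≠ 0 := fun h => hd (by linear_combination -h)
  symm
  let f : Con F (a ^ 2 + b * c) → {x // conjGL g x = x} := fun q =>
    ⟨mk (q.re + q.im * a) (q.im * b) (q.im * c) (q.re - q.im * a) (by
      linear_combination q.eqn), by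
      rw [conjGL_eq_iff]
      intro i j
      fin_cases i <;> fin_cases j
      · change a * (q.re + q.im * a) + b * (q.im * c) = (q.re + q.im * a) * a + (q.im * b) * c
        ring
      · change a * (q.im * b) + b * (q.re - q.im * a) =
          (q.re + q.im * a) * b + (q.im * b) * gent g 1 1
        rw [hg]; ring
      · change c * (q.re + q.im * a) + gent g 1 1 * (q.im * c) =
          (q.im * c) * a + (q.re - q.im * a) * c
        rw [hg]; ring
      · change c * (q.im * b) + gent g 1 1 * (q.re - q.im * a) =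
          (q.im * c) * b + (q.re - q.im * a) * gent g 1 1
        ring⟩
  refine Nat.card_congr (Equiv.ofBijective f ⟨?_, ?_⟩)
  · intro q r h
    have h' := congrArg Subtype.val h
    have h00 := congrArg (fun x => ent x 0 0) h'
    have h01 := congrArg (fun x => ent x 0 1) h'
    have h10 := congrArg (fun x => ent x 1 0) h'
    have h11 := congrArg (fun x => ent x 1 1) h'
    simp only [f, mk_00, mk_01, mk_10, mk_11] at h00 h01 h10 h11
    have e1 : q.re = r.re := by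
      apply mul_left_cancel₀ h2; linear_combination h00 + h11
    refine Con.ext e1 ?_
    apply mul_left_cancel₀ hC
    linear_combination a * h00 - a * e1 + c * h01
  · rintro ⟨x, hx⟩
    rw [conjGL_eq_iff] at hx
    have h00 := hx 0 0
    have h01 := hx 0 1
    have h10 := hx 1 0
    rw [← ha, ← hb, ← hc] at h00
    rw [← ha, ← hb, hg] at h01
    rw [← ha, ← hc, hg] at h10
    have hdx := det_eq x
    set y0 := (ent x 0 0 - ent x 1 1) / 2 with hy0
    set r := (ent x 0 0 + ent x 1 1) / 2 with hr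
    have hx00 : ent x 0 0 = r + y0 := by rw [hr, hy0]; field_simp; ring
    have hx11 : ent x 1 1 = r - y0 := by rw [hr, hy0]; field_simp; ring
    rw [hx00] at h00 h01 h10 hdx
    rw [hx11] at h01 h10 hdx
    have e1 : ent x 0 1 * c = b * ent x 1 0 := by linear_combination -h00
    have e2 : y0 * b = ent x 0 1 * a :=
      mul_left_cancel₀ h2 (by linear_combination -h01)
    have e3 : ent x 1 0 * a = y0 * c :=
      mul_left_cancel₀ h2 (by linear_combination -h10)
    set s := (y0 * a + ent x 0 1 * c) / (a ^ 2 + b * c) with hs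
    have s0 : s * a = y0 := by
      rw [hs, div_mul_eq_mul_div, div_eq_iff hC]; linear_combination -c * e2
    have s1 : s * b = ent x 0 1 := by
      rw [hs, div_mul_eq_mul_div, div_eq_iff hC]; linear_combination a * e2
    have s2 : s * c = ent x 1 0 := by
      rw [hs, div_mul_eq_mul_div, div_eq_iff hC]; linear_combination -a * e3 + c * e1
    refine ⟨⟨r, s, ?_⟩, ?_⟩
    · have h3 : s ^ 2 * (a ^ 2 + b * c) = (s * a) ^ 2 + (s * b) * (s * c) := by ring
      have h4 : r ^ 2 - (a ^ 2 + b * c) * s ^ 2 = r ^ 2 - s ^ 2 * (a ^ 2 + b * c) := by ring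
      rw [h4, h3, s0, s1, s2]
      linear_combination hdx
    · apply Subtype.ext
      refine ext_ent ?_ ?_ ?_ ?_
      · change r + s * a = ent x 0 0
        rw [s0, hx00]
      · change s * b = ent x 0 1
        exact s1
      · change s * c = ent x 1 0
        exact s2
      · change r - s * a = ent x 1 1
        rw [s0, hx11]

end conic

section data

variable {F : Type*} [Field F] [Finite F]

/-- the prime field has no automorphisms -/
theorem ringEquiv_eq_one {p : ℕ} (hp : p.Prime) (hF : Nat.card F = p) (σ : F ≃+* F) : σ = 1 := by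
  have hpf : Fact p.Prime := ⟨hp⟩
  have := Fintype.ofFinite F
  obtain ⟨q, hq⟩ := CharP.exists F
  have hqp : Fact q.Prime := ⟨CharP.char_is_prime F q⟩
  obtain ⟨n, hn⟩ := FiniteField.card F q
  rw [← Nat.card_eq_fintype_card, hF] at hn
  have hpq : p = q := by
    have h1 : q ∣ p := by rw [hn.2]; exact dvd_pow_self q n.2.ne'
    exact ((Nat.prime_dvd_prime_iff_eq hqp.out hp).mp h1).symm
  subst hpq
  let _ : Algebra (ZMod p) F := ZMod.algebra F p
  have hinj : Function.Injective (algebraMap (ZMod p) F) := (algebraMap (ZMod p) F).injective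
  have hbij : Function.Bijective (algebraMap (ZMod p) F) := by
    refine (Nat.bijective_iff_injective_and_card _).mpr ⟨hinj, ?_⟩
    rw [hF, Nat.card_zmod]
  ext x
  obtain ⟨a, rfl⟩ := hbij.2 x
  obtain ⟨k, rfl⟩ := ZMod.natCast_zmod_surjective a
  rw [map_natCast, map_natCast]
  simp

/-- all automorphisms of `SL(2,p)` come from `GL(2,p)` -/
theorem exists_conjGL {p : ℕ} (hp : p.Prime) (hF : Nat.card F = p)
    (α : MulAut (Matrix.SpecialLinearGroup (Fin 2) F)) : ∃ g, α = conjGL g := by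
  obtain ⟨g, σ, h⟩ := exists_eq α
  rw [ringEquiv_eq_one hp hF σ, map_one, mul_one] at h
  exact ⟨g, h⟩

omit [Finite F] in
theorem card_ker : Nat.card (conjGL (F := F)).ker = Nat.card Fˣ := by
  symm
  refine Nat.card_congr (Equiv.ofBijective (fun u : Fˣ =>
    (⟨Matrix.GeneralLinearGroup.scalar (Fin 2) u, ?_⟩ : (conjGL (F := F)).ker)) ⟨?_, ?_⟩)
  · rw [MonoidHom.mem_ker]
    apply MulEquiv.ext
    refine (conjGL_eq_self_iff _).mpr ⟨?_, ?_, ?_⟩
    · simp [gent]
    · simp [gent]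
    · simp [gent]
  · intro a b hab
    have := congrArg (fun g : (conjGL (F := F)).ker => g.1.1 0 0) hab
    ext
    simpa using this
  · rintro ⟨g, hg⟩
    rw [MonoidHom.mem_ker] at hg
    obtain ⟨h1, h2, h3⟩ := (conjGL_eq_self_iff g).mp (fun x => by rw [hg]; rfl)
    have hd := gdet_ne g
    rw [h1, h3, zero_mul, sub_zero] at hd
    have h0 : gent g 0 0 ≠ 0 := fun h => hd (by rw [h, zero_mul])
    refine ⟨Units.mk0 _ h0, Subtype.ext (Units.ext ?_)⟩
    ext i j
    have h1' : g.1 0 1 = 0 := h1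
    have h2' : g.1 1 0 = 0 := h2
    have h3' : g.1 1 1 = g.1 0 0 := h3
    fin_cases i <;> fin_cases j <;> simp [gent, h1', h2', h3']

theorem card_mulAut {p : ℕ} (hp : p.Prime) (hF : Nat.card F = p) :
    Nat.card (MulAut (Matrix.SpecialLinearGroup (Fin 2) F)) =
      Nat.card (Matrix.SpecialLinearGroup (Fin 2) F) := by
  have := Fintype.ofFinite F
  have h1 := Cfsg.Agent.S0265.card_GL_eq_SL (F := F) (n := 2) (by decide)
  have h2 := (conjGL (F := F)).ker.card_mul_index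
  rw [Subgroup.index_ker] at h2
  have hsurj : Function.Surjective (conjGL (F := F)) := fun α => by
    obtain ⟨g, hg⟩ := exists_conjGL hp hF α
    exact ⟨g, hg.symm⟩
  rw [MonoidHom.range_eq_top.2 hsurj, Subgroup.card_top, card_ker, h1] at h2
  exact Nat.eq_of_mul_eq_mul_left Nat.card_pos h2

theorem isSquare_mul_of_not {a b : F} (ha : ¬ IsSquare a) (hb : ¬ IsSquare b) : IsSquare (a * b) := by
  have := Fintype.ofFinite F
  have ha0 : a ≠ 0 := by rintro rfl; exact ha (IsSquare.zero)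
  have hb0 : b ≠ 0 := by rintro rfl; exact hb (IsSquare.zero)
  by_cases h2 : ringChar F = 2
  · exact FiniteField.isSquare_of_char_two h2 _
  · rw [FiniteField.isSquare_iff h2 ha0] at ha
    rw [FiniteField.isSquare_iff h2 hb0] at hb
    rw [FiniteField.isSquare_iff h2 (mul_ne_zero ha0 hb0), mul_pow,
      (FiniteField.pow_dichotomy h2 ha0).resolve_left ha,
      (FiniteField.pow_dichotomy h2 hb0).resolve_left hb, neg_mul_neg, one_mul]

/-- the facts on `SL(2,p)` -/
theorem data {p : ℕ} (hp : p.Prime) (h5 : 5 ≤ p) (hF : Nat.card F = p) : ∃ m n,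
    Data (Matrix.SpecialLinearGroup (Fin 2) F) (-1) p m n := by
  have := Fintype.ofFinite F
  have h2 : (2 : F) ≠ 0 := by
    obtain ⟨q, hq⟩ := CharP.exists F
    have hqp : Fact q.Prime := ⟨CharP.char_is_prime F q⟩
    obtain ⟨n, hn⟩ := FiniteField.card F q
    rw [← Nat.card_eq_fintype_card, hF] at hn
    have hpq : p = q := by
      have h1 : q ∣ p := by rw [hn.2]; exact dvd_pow_self q n.2.ne'
      exact ((Nat.prime_dvd_prime_iff_eq hqp.out hp).mp h1).symm
    intro h0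
    have h1 : ((2 : ℕ) : F) = 0 := by exact_mod_cast h0
    have h3 := (CharP.cast_eq_zero_iff F q 2).mp h1
    have := Nat.le_of_dvd (by omega) h3
    omega
  have hm1 : (-1 : Matrix.SpecialLinearGroup (Fin 2) F) ≠ 1 := by
    intro h
    have h3 := congrArg (fun x => ent x 0 0) h
    have hn' : ent (-1 : Matrix.SpecialLinearGroup (Fin 2) F) 0 0 = -1 := rfl
    simp only [ent_one_00, hn'] at h3
    exact h2 (by linear_combination -h3)
  have hsqc := FiniteField.isSquare_neg_one_iff (F := F)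
  rw [← Nat.card_eq_fintype_card, hF] at hsqc
  have hcirc := card_circ (F := F) h2
  rw [hF] at hcirc
  have hodd := odd_card (F := F) h2
  rw [hF] at hodd
  obtain ⟨n, hn⟩ : ∃ n, (p % 4 = 1 ∧ n = p + 1) ∨ (p % 4 = 3 ∧ n = p - 1) := by
    have : p % 4 = 1 ∨ p % 4 = 3 := by omega
    rcases this with h | h
    · exact ⟨p + 1, Or.inl ⟨h, rfl⟩⟩
    · exact ⟨p - 1, Or.inr ⟨h, rfl⟩⟩
  have hinner : ∀ x y : Matrix.SpecialLinearGroup (Fin 2) F, x * x = -1 → y * y = -1 → True :=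
    fun _ _ _ _ => trivial
  refine ⟨Nat.card (Circ F), n, hm1, by rw [neg_mul_neg, one_mul], fun x hx => sq_eq_one h2 hx, ?_,
    ⟨jm F, sq_of_tr (by simp)⟩, fun k k' hk hk' => exists_conj h2 (tr_of_sq h2 hk) (tr_of_sq h2 hk'),
    fun k hk => isCyclic_centralizer h2 (tr_of_sq h2 hk),
    fun k hk => card_centralizer h2 (tr_of_sq h2 hk), ?_, ?_, card_mulAut hp hF, ?_, ?_, hp, h5, ?_⟩
  · -- centre
    intro x hx
    apply sq_eq_one h2
    obtain ⟨h01, h10, h11⟩ := (conjGL_eq_self_iff (Matrix.SpecialLinearGroup.toGL x)).mp (fun y => by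
      rw [conjGL_toGL, hx y, mul_inv_cancel_right])
    have h01' : ent x 0 1 = 0 := h01
    have h10' : ent x 1 0 = 0 := h10
    have h11' : ent x 1 1 = ent x 0 0 := h11
    have h5 := det_eq x
    rw [h01', h11', zero_mul, sub_zero] at h5
    refine ext_ent ?_ ?_ ?_ ?_
    · rw [ent_mul, h01', zero_mul, add_zero, ent_one_00]; exact h5
    · rw [ent_mul, h01', mul_zero, zero_mul, add_zero, ent_one_01]
    · rw [ent_mul, h10', zero_mul, mul_zero, add_zero, ent_one_10]
    · rw [ent_mul, h10', zero_mul, zero_add, ent_one_11, h11']; exact h5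
  · intro k hk α hα
    obtain ⟨g, rfl⟩ := exists_conjGL hp hF α
    exact invert h2 (tr_of_sq h2 hk) hα
  · intro k hk x hx h1 hz y hy
    exact tor h2 (tr_of_sq h2 hk) hx h1 hz hy
  · rw [LieClassical.SmallIso.card_sl_two, ← Nat.card_eq_fintype_card, hF, mul_assoc]
    congr 1
    have h6 : p ^ 2 - 1 = (p + 1) * (p - 1) := by
      have := Nat.sq_sub_sq p 1
      rwa [one_pow] at this
    rw [h6]
    rcases hcirc with ⟨h7, h8⟩ | ⟨h7, h8⟩ <;> rcases hn with ⟨h9, h10⟩ | ⟨h9, h10⟩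
    · rw [h8, h10, mul_comm]
    · omega
    · omega
    · rw [h8, h10]
  · intro α hα hout
    obtain ⟨g, rfl⟩ := exists_conjGL hp hF α
    have htr : gent g 1 1 = - gent g 0 0 := by
      refine traceless hα ?_
      by_contra hcon
      push Not at hcon
      exact hout ⟨1, fun x => by rw [hcon x, one_mul, inv_one, mul_one]⟩
    rw [card_fixed h2 htr]
    have hd := gdet_ne g
    have hdet := gdet g
    rw [htr] at hd hdet
    set C := gent g 0 0 ^ 2 + gent g 0 1 * gent g 1 0 with hC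
    have hC0 : C ≠ 0 := fun h => hd (by rw [hC] at h; linear_combination -h)
    have hns : ¬ IsSquare (-C) := by
      rintro ⟨d, hd'⟩
      apply hout
      refine conjGL_of_det_sq g d ?_ ?_
      · rintro rfl
        rw [mul_zero, neg_eq_zero] at hd'
        exact hC0 hd'
      · rw [hdet, sq, ← hd', hC]; ring
    rcases hn with ⟨h9, h10⟩ | ⟨h9, h10⟩
    · have hs : IsSquare (-1 : F) := hsqc.mpr (by omega)
      rw [card_con_of_not_sq h2 _ hC0, hF, h10]
      intro i hi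
      apply hns
      rw [← hi, neg_eq_neg_one_mul]
      exact hs.mul ⟨i, rfl⟩
    · have hs : ¬ IsSquare (-1 : F) := fun h => (hsqc.mp h) h9
      obtain ⟨i, hi⟩ : IsSquare C := by
        have := isSquare_mul_of_not hs hns
        rwa [neg_one_mul, neg_neg] at this
      rw [card_con_of_sq h2 i hi.symm hC0, hF, h10]
  · rcases hcirc with ⟨h7, h8⟩ | ⟨h7, h8⟩ <;> rcases hn with ⟨h9, h10⟩ | ⟨h9, h10⟩
    · exact Or.inl ⟨h7, h8, h10⟩
    · omega
    · omega
    · exact Or.inr ⟨h7, h8, h10⟩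

end data

/-! ### transport -/

section transport

variable {L L' : Type*} [Group L] [Group L']

theorem card_centralizer_equiv (e : L ≃* L') (k : L) :
    Nat.card (Subgroup.centralizer ({k} : Set L)) =
      Nat.card (Subgroup.centralizer ({e k} : Set L')) := by
  refine Nat.card_congr ((e.toEquiv.subtypeEquiv fun x => ?_))
  change x ∈ Subgroup.centralizer ({k} : Set L) ↔ e x ∈ Subgroup.centralizer ({e k} : Set L')
  rw [Subgroup.mem_centralizer_singleton_iff, Subgroup.mem_centralizer_singleton_iff,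
    ← map_mul, ← map_mul, e.injective.eq_iff]

theorem isCyclic_centralizer_equiv (e : L ≃* L') {k : L}
    (h : IsCyclic (Subgroup.centralizer ({e k} : Set L'))) :
    IsCyclic (Subgroup.centralizer ({k} : Set L)) := by
  have hle : ∀ x : Subgroup.centralizer ({k} : Set L),
      e x.1 ∈ Subgroup.centralizer ({e k} : Set L') := by
    rintro ⟨x, hx⟩
    rw [Subgroup.mem_centralizer_singleton_iff] at hx ⊢
    rw [← map_mul, ← map_mul, hx]
  let f : Subgroup.centralizer ({k} : Set L) →* Subgroup.centralizer ({e k} : Set L') :=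
    { toFun := fun x => ⟨e x.1, hle x⟩
      map_one' := Subtype.ext (map_one e)
      map_mul' := fun x y => Subtype.ext (map_mul e x.1 y.1) }
  refine isCyclic_of_injective f ?_
  intro x y hxy
  exact Subtype.ext (e.injective (congrArg Subtype.val hxy))

theorem Data.of_equiv (e : L ≃* L') {z' : L'} {p m n : ℕ} (h : Data L' z' p m n) :
    Data L (e.symm z') p m n := by
  have hz : ∀ x : L, x = e.symm z' ↔ e x = z' := fun x => by
    constructor
    · rintro rfl; simp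
    · intro h'; rw [← h']; simp
  have hsq : ∀ k : L, k * k = e.symm z' ↔ e k * e k = z' := fun k => by rw [hz, map_mul]
  have hap : ∀ (α : MulAut L) (y : L'), (MulAut.congr e α) y = e (α (e.symm y)) := fun _ _ => rfl
  refine ⟨?_, ?_, ?_, ?_, ?_, ?_, ?_, ?_, ?_, ?_, ?_, ?_, ?_, h.prime, h.p5, h.mn⟩
  · intro h1
    exact h.z_ne (by rw [← e.apply_symm_apply z', h1, map_one])
  · rw [← map_mul, h.z_sq, map_one]
  · intro x hx
    rcases h.inv (e x) (by rw [← map_mul, hx, map_one]) with h1 | h1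
    · exact Or.inl (e.map_eq_one_iff.mp h1)
    · exact Or.inr ((hz x).mpr h1)
  · intro x hx
    rcases h.cen (e x) (fun y => by
      have := congrArg e (hx (e.symm y))
      rwa [map_mul, map_mul, e.apply_symm_apply] at this) with h1 | h1
    · exact Or.inl (e.map_eq_one_iff.mp h1)
    · exact Or.inr ((hz x).mpr h1)
  · obtain ⟨k, hk⟩ := h.ex4
    exact ⟨e.symm k, by rw [hsq]; simpa using hk⟩
  · intro k k' hk hk'
    obtain ⟨g, hg⟩ := h.conj4 (e k) (e k') ((hsq k).mp hk) ((hsq k').mp hk')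
    refine ⟨e.symm g, e.injective ?_⟩
    rw [map_mul, map_mul, map_inv, e.apply_symm_apply, hg]
  · intro k hk
    exact isCyclic_centralizer_equiv e (h.cyc (e k) ((hsq k).mp hk))
  · intro k hk
    rw [card_centralizer_equiv e k]
    exact h.card4 (e k) ((hsq k).mp hk)
  · intro k hk α hα
    obtain ⟨h1, h2⟩ := h.invt (e k) ((hsq k).mp hk) (MulAut.congr e α) (by
      rw [hap, e.symm_apply_apply, hα, map_inv])
    constructor
    · intro x hx
      have h3 := h1 (e x) (by rw [← map_mul, hx, map_mul])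
      rw [hap, e.symm_apply_apply, ← map_inv] at h3
      exact e.injective h3
    · intro x
      have h3 := h2 (e x)
      rw [hap, hap, e.symm_apply_apply, e.symm_apply_apply] at h3
      exact e.injective h3
  · intro k hk x hx h1 h2 y hy
    have h3 := h.tor (e k) ((hsq k).mp hk) (e x) (by rw [← map_mul, hx, map_mul])
      (fun h3 => h1 (e.map_eq_one_iff.mp h3)) (fun h3 => h2 ((hz x).mpr h3)) (e y)
      (by rw [← map_mul, hy, map_mul])
    rw [← map_mul, ← map_mul] at h3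
    exact e.injective h3
  · rw [Nat.card_congr (MulAut.congr e).toEquiv, h.cardAut, Nat.card_congr e.toEquiv]
  · rw [Nat.card_congr e.toEquiv, h.card]
  · intro α hα hout
    rw [← h.outer (MulAut.congr e α) (fun y => by
      rw [hap, hap, e.symm_apply_apply, hα, e.apply_symm_apply]) (by
      rintro ⟨s, hs⟩
      apply hout
      refine ⟨e.symm s, fun x => e.injective ?_⟩
      have h3 := hs (e x)
      rw [hap, e.symm_apply_apply] at h3
      rw [h3, map_mul, map_mul, map_inv, e.apply_symm_apply])]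
    refine Nat.card_congr ((e.toEquiv.subtypeEquiv fun x => ?_))
    change α x = x ↔ (MulAut.congr e α) (e x) = e x
    rw [hap, e.symm_apply_apply, e.injective.eq_iff]

/-- the facts on a group isomorphic to `SL(2,p)` -/
theorem exists_data {F : Type*} [Field F] [Finite F] {p : ℕ} (hp : p.Prime) (h5 : 5 ≤ p)
    (hF : Nat.card F = p) (e : L ≃* Matrix.SpecialLinearGroup (Fin 2) F) :
    ∃ (z : L) (m n : ℕ), Data L z p m n := by
  obtain ⟨m, n, h⟩ := data (F := F) hp h5 hF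
  exact ⟨_, m, n, h.of_equiv e⟩

end transport

end Cfsg.Agent.OddCyclic.CompSL2Facts

private theorem dce_9648dc3787af : _root_.True := by
  try have : _root_.True := by simp only [_root_.Cfsg.Agent.OddCyclic.CompSL2Facts.gent.eq_1]
  exact _root_.True.intro
end

-- part: OddCyclic/CompSL2Tools
section
prune_inst 0x10301700002212000000000200001d0282000000000b8001912107020e87dc0000020e21e8200e0358200084403400681300001040000000000000004b1c01a08023d0061234ad0416000f80b007580c00000000000000000000000000041000000000000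
set_option linter.all false
open scoped Cfsg.Agent.FastGrp

-- part: OddCyclic/CompSL2Amb
section
/-!
# S0342, component type, case C: `K ≅ SL(2,p)` in the ambient group

`Hyp K z p m n`: `K ≤ G` is isomorphic to `SL(2,p)`, `z` its involution, and (1.1)-(1.3) of
blueprints/S0342-component.md hold. Ambient forms of the facts on `SL(2,p)`.
-/

set_option autoImplicit false

namespace Cfsg.Agent.OddCyclic.CompSL2Amb

open Subgroup Cfsg
open Cfsg.Agent.OddCyclic.T1Defs Cfsg.Agent.OddCyclic.CompBasic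
open Cfsg.Agent.OddCyclic.CompStandard Cfsg.Agent.OddCyclic.CompSL2Facts
open Cfsg.Agent.LieExceptional Cfsg.Agent.LieExceptional.CITDefs
open Cfsg.Agent.LieExceptional.CITBasic

variable {G : Type*} [Group G]

/-- `K ≅ SL(2,p)` standard in `G` -/
structure Hyp (K : Subgroup G) (z : G) (p m n : ℕ) : Prop where
  cyc : OddCyc G
  zK : z ∈ K
  dat : Data K ⟨z, zK⟩ p m n
  cent : ∀ s ∈ centralizer (K : Set G), orderOf s = 2 →
    centralizer ({s} : Set G) ≤ normalizer (K : Set G)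
  ti : ∀ g s : G, orderOf s = 2 → s ∈ centralizer (K : Set G) →
    g * s * g⁻¹ ∈ centralizer (K : Set G) → g ∈ normalizer (K : Set G)
  mem : ∀ r : ℕ, r.Prime → r ≠ 2 → r ∣ Nat.card K → ∀ x ∈ normalizer (K : Set G),
    orderOf x = r → x ∈ K

/-- `g` acts on `K` as an inner automorphism -/
def Inn (K : Subgroup G) (g : G) : Prop := ∃ k ∈ K, ∃ y ∈ centralizer (K : Set G), g = k * y

section

variable {K : Subgroup G} {z : G} {p m n : ℕ}

theorem Hyp.zz (h : Hyp K z p m n) : z * z = 1 := congrArg Subtype.val h.dat.z_sq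

theorem Hyp.z_ne (h : Hyp K z p m n) : z ≠ 1 := fun h1 => h.dat.z_ne (Subtype.ext h1)

theorem Hyp.z_inv (h : Hyp K z p m n) : z⁻¹ = z := inv_eq_of_mul_eq_one_right h.zz

theorem orderOf_eq_two {x : G} (h1 : x ≠ 1) (h2 : x * x = 1) : orderOf x = 2 :=
  orderOf_eq_prime (by rw [sq, h2]) h1

theorem sq_of_orderOf {x : G} (h : orderOf x = 2) : x * x = 1 ∧ x ≠ 1 := by
  refine ⟨by rw [← sq, ← h, pow_orderOf_eq_one], ?_⟩
  rintro rfl
  rw [orderOf_one] at h
  omega

theorem Hyp.z2 (h : Hyp K z p m n) : orderOf z = 2 := orderOf_eq_two h.z_ne h.zz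

theorem Hyp.eq_z (h : Hyp K z p m n) {x : G} (hx : x ∈ K) (h2 : x * x = 1) : x = 1 ∨ x = z := by
  rcases h.dat.inv ⟨x, hx⟩ (Subtype.ext h2) with h1 | h1
  · exact Or.inl (congrArg Subtype.val h1)
  · exact Or.inr (congrArg Subtype.val h1)

theorem mem_norm {g k : G} (hg : g ∈ normalizer (K : Set G)) (hk : k ∈ K) : g * k * g⁻¹ ∈ K :=
  forall_of_mem_normalizer hg k hk

theorem mem_cent {g y : G} (hg : g ∈ normalizer (K : Set G)) (hy : y ∈ centralizer (K : Set G)) :
    g * y * g⁻¹ ∈ centralizer (K : Set G) := normal_cent K g hg y hy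

theorem comm {k y : G} (hk : k ∈ K) (hy : y ∈ centralizer (K : Set G)) : k * y = y * k :=
  centralizer_comm hy hk

theorem Hyp.conj_z (h : Hyp K z p m n) {g : G} (hg : g ∈ normalizer (K : Set G)) :
    g * z * g⁻¹ = z := by
  have h1 := mem_norm hg h.zK
  rcases h.eq_z h1 (by
    calc g * z * g⁻¹ * (g * z * g⁻¹) = g * (z * z) * g⁻¹ := by group
      _ = 1 := by rw [h.zz]; group) with h2 | h2
  · exact absurd (by
      have : z = g⁻¹ * (g * z * g⁻¹) * g := by group
      rw [this, h2]; group) h.z_ne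
  · exact h2

theorem Hyp.zY (h : Hyp K z p m n) : z ∈ centralizer (K : Set G) := by
  rw [mem_centralizer_iff]
  intro k hk
  exact mul_inv_eq_iff_eq_mul.mp (h.conj_z (le_normalizer hk))

theorem Hyp.norm_eq (h : Hyp K z p m n) : normalizer (K : Set G) = centralizer ({z} : Set G) := by
  apply le_antisymm
  · intro g hg
    rw [mem_centralizer_singleton_iff]
    exact mul_inv_eq_iff_eq_mul.mp (h.conj_z hg)
  · exact h.cent z h.zY h.z2

theorem Hyp.mem_iff (h : Hyp K z p m n) {g : G} : g ∈ normalizer (K : Set G) ↔ g * z = z * g := by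
  rw [h.norm_eq, mem_centralizer_singleton_iff]

theorem Hyp.inter (h : Hyp K z p m n) {x : G} (hx : x ∈ K) (hy : x ∈ centralizer (K : Set G)) :
    x = 1 ∨ x = z := by
  rcases h.dat.cen ⟨x, hx⟩ (fun y => Subtype.ext (comm y.2 hy).symm) with h1 | h1
  · exact Or.inl (congrArg Subtype.val h1)
  · exact Or.inr (congrArg Subtype.val h1)

theorem Hyp.ex4 (h : Hyp K z p m n) : ∃ k ∈ K, k * k = z := by
  obtain ⟨k, hk⟩ := h.dat.ex4
  exact ⟨k.1, k.2, congrArg Subtype.val hk⟩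

theorem Hyp.conj4 (h : Hyp K z p m n) {k k' : G} (hk : k ∈ K) (hk' : k' ∈ K) (h1 : k * k = z)
    (h2 : k' * k' = z) : ∃ g ∈ K, g * k * g⁻¹ = k' := by
  obtain ⟨g, hg⟩ := h.dat.conj4 ⟨k, hk⟩ ⟨k', hk'⟩ (Subtype.ext h1) (Subtype.ext h2)
  exact ⟨g.1, g.2, congrArg Subtype.val hg⟩

theorem Hyp.inv_k (h : Hyp K z p m n) {k : G} (h1 : k * k = z) : k⁻¹ = k * z := by
  refine inv_eq_of_mul_eq_one_right ?_
  rw [← mul_assoc, h1, h.zz]

theorem Hyp.inv_sq (h : Hyp K z p m n) {k : G} (h1 : k * k = z) : k⁻¹ * k⁻¹ = z := by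
  rw [← _root_.mul_inv_rev, h1, h.z_inv]

theorem Hyp.k_ne (h : Hyp K z p m n) {k : G} (h1 : k * k = z) : k ≠ k⁻¹ := by
  intro h2
  apply h.z_ne
  rw [← h1]
  nth_rw 1 [h2]
  exact inv_mul_cancel k

theorem Hyp.invt (h : Hyp K z p m n) {k : G} (hk : k ∈ K) (h1 : k * k = z) {g : G}
    (hg : g ∈ normalizer (K : Set G)) (h2 : g * k * g⁻¹ = k⁻¹) :
    (∀ x ∈ K, x * k = k * x → g * x * g⁻¹ = x⁻¹) ∧ g * g ∈ centralizer (K : Set G) := by
  obtain ⟨a1, a2⟩ := h.dat.invt ⟨k, hk⟩ (Subtype.ext h1) (K.normalizerMonoidHom ⟨g, hg⟩)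
    (Subtype.ext h2)
  constructor
  · intro x hx hxk
    exact congrArg Subtype.val (a1 ⟨x, hx⟩ (Subtype.ext hxk))
  · rw [mem_centralizer_iff]
    intro x hx
    have h3 : g * (g * x * g⁻¹) * g⁻¹ = x := congrArg Subtype.val (a2 ⟨x, hx⟩)
    have h4 : g * g * x * (g * g)⁻¹ = x := by
      calc g * g * x * (g * g)⁻¹ = g * (g * x * g⁻¹) * g⁻¹ := by group
        _ = x := h3
    exact (mul_inv_eq_iff_eq_mul.mp h4).symm

theorem Hyp.sqz (h : Hyp K z p m n) {k x : G} (hk : k ∈ K) (hx : x ∈ K) (h1 : k * k = z)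
    (h2 : x * x = z) (h3 : x * k = k * x) : x = k ∨ x = k⁻¹ := by
  have h4 : (x * k) * (x * k) = 1 := by
    calc (x * k) * (x * k) = x * (k * x) * k := by group
      _ = x * (x * k) * k := by rw [h3]
      _ = (x * x) * (k * k) := by group
      _ = 1 := by rw [h1, h2, h.zz]
  rcases h.eq_z (K.mul_mem hx hk) h4 with h5 | h5
  · right; exact eq_inv_of_mul_eq_one_left h5
  · left
    rw [← h1] at h5
    exact mul_right_cancel h5

theorem Hyp.tor (h : Hyp K z p m n) {k x y : G} (hk : k ∈ K) (hx : x ∈ K) (hy : y ∈ K)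
    (h1 : k * k = z) (h2 : x * k = k * x) (h3 : x ≠ 1) (h4 : x ≠ z) (h5 : y * x = x * y) :
    y * k = k * y :=
  congrArg Subtype.val (h.dat.tor ⟨k, hk⟩ (Subtype.ext h1) ⟨x, hx⟩ (Subtype.ext h2)
    (fun h6 => h3 (congrArg Subtype.val h6)) (fun h6 => h4 (congrArg Subtype.val h6)) ⟨y, hy⟩
    (Subtype.ext h5))

theorem Hyp.conj_inv (h : Hyp K z p m n) {k : G} (hk : k ∈ K) (h1 : k * k = z) :
    ∃ w ∈ K, w * k * w⁻¹ = k⁻¹ ∧ w * w = z := by
  obtain ⟨w, hw, hwk⟩ := h.conj4 hk (K.inv_mem hk) h1 (h.inv_sq h1)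
  refine ⟨w, hw, hwk, ?_⟩
  have h2 := (h.invt hk h1 (le_normalizer hw) hwk).2
  rcases h.inter (K.mul_mem hw hw) h2 with h3 | h3
  · exfalso
    have h4 : w * k * w⁻¹ = k := by
      rcases h.eq_z hw h3 with h5 | h5
      · rw [h5]; group
      · rw [h5]
        rw [mul_inv_eq_iff_eq_mul]
        exact (comm hk h.zY).symm
    rw [h4] at hwk
    exact h.k_ne h1 hwk
  · exact h3

theorem centralizer_equiv (K : Subgroup G) {k : G} (hk : k ∈ K) :
    Nonempty ((K ⊓ centralizer ({k} : Set G) : Subgroup G) ≃*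
      centralizer ({(⟨k, hk⟩ : K)} : Set K)) := by
  refine ⟨{ toFun := fun x => ⟨⟨x.1, x.2.1⟩, ?_⟩
            invFun := fun x => ⟨x.1.1, x.1.2, ?_⟩
            left_inv := fun _ => rfl
            right_inv := fun _ => rfl
            map_mul' := fun _ _ => rfl }⟩
  · rw [mem_centralizer_singleton_iff]
    exact Subtype.ext (mem_centralizer_singleton_iff.mp x.2.2)
  · show x.1.1 ∈ centralizer ({k} : Set G)
    rw [mem_centralizer_singleton_iff]
    exact congrArg Subtype.val (mem_centralizer_singleton_iff.mp x.2)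

theorem Hyp.card4 (h : Hyp K z p m n) {k : G} (hk : k ∈ K) (h1 : k * k = z) :
    Nat.card (K ⊓ centralizer ({k} : Set G) : Subgroup G) = m := by
  obtain ⟨e⟩ := centralizer_equiv K hk
  rw [Nat.card_congr e.toEquiv]
  exact h.dat.card4 ⟨k, hk⟩ (Subtype.ext h1)

theorem Hyp.cyc4 (h : Hyp K z p m n) {k : G} (hk : k ∈ K) (h1 : k * k = z) :
    IsCyclic (K ⊓ centralizer ({k} : Set G) : Subgroup G) := by
  obtain ⟨e⟩ := centralizer_equiv K hk
  have := h.dat.cyc ⟨k, hk⟩ (Subtype.ext h1)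
  exact isCyclic_of_injective e.toMonoidHom e.injective

/-- the centralizer in `K` of an element of order 4 is abelian -/
theorem Hyp.comm4 (h : Hyp K z p m n) {k : G} (hk : k ∈ K) (h1 : k * k = z) {x y : G}
    (hx : x ∈ K) (hy : y ∈ K) (hxk : x * k = k * x) (hyk : y * k = k * y) : x * y = y * x := by
  have := h.cyc4 hk h1
  let _ : CommGroup (K ⊓ centralizer ({k} : Set G) : Subgroup G) := IsCyclic.commGroup
  exact congrArg Subtype.val (mul_comm
    (⟨x, hx, mem_centralizer_singleton_iff.mpr hxk⟩ : (K ⊓ centralizer ({k} : Set G) : Subgroup G))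
    ⟨y, hy, mem_centralizer_singleton_iff.mpr hyk⟩)

variable [Finite G]

omit [Finite G] in
theorem Hyp.outer (h : Hyp K z p m n) {g : G} (hg : g ∈ normalizer (K : Set G))
    (hgg : g * g ∈ centralizer (K : Set G)) (hout : ¬ Inn K g) :
    Nat.card (K ⊓ centralizer ({g} : Set G) : Subgroup G) = n := by
  rw [← h.dat.outer (K.normalizerMonoidHom ⟨g, hg⟩) ?_ ?_]
  · refine Nat.card_congr ⟨fun x => ⟨⟨x.1, x.2.1⟩, Subtype.ext ?_⟩, fun x => ⟨x.1.1, x.1.2, ?_⟩,
      fun _ => rfl, fun _ => rfl⟩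
    · change g * x.1 * g⁻¹ = x.1
      rw [mul_inv_eq_iff_eq_mul]
      exact (mem_centralizer_singleton_iff.mp x.2.2).symm
    · show x.1.1 ∈ centralizer ({g} : Set G)
      rw [mem_centralizer_singleton_iff]
      have h1 : g * x.1.1 * g⁻¹ = x.1.1 := congrArg Subtype.val x.2
      exact (mul_inv_eq_iff_eq_mul.mp h1).symm
  · intro x
    apply Subtype.ext
    change g * (g * x.1 * g⁻¹) * g⁻¹ = x.1
    have h1 := mem_centralizer_iff.mp hgg x.1 x.2
    calc g * (g * x.1 * g⁻¹) * g⁻¹ = (g * g * x.1) * (g * g)⁻¹ := by group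
      _ = x.1 := by rw [← h1]; group
  · rintro ⟨s, hs⟩
    apply hout
    refine ⟨s.1, s.2, s.1⁻¹ * g, ?_, by group⟩
    rw [mem_centralizer_iff]
    intro x hx
    have h1 : g * x * g⁻¹ = s.1 * x * s.1⁻¹ := congrArg Subtype.val (hs ⟨x, hx⟩)
    have h2 : x = s.1⁻¹ * (g * x * g⁻¹) * s.1 := by rw [h1]; group
    nth_rw 1 [h2]
    group

omit [Finite G] in
/-- `|T : C_T(K)|` divides `|Aut K| = |K|` -/
theorem Hyp.card_dvd (h : Hyp K z p m n) {T : Subgroup G} (hT : T ≤ normalizer (K : Set G)) :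
    Nat.card T ∣ Nat.card K * Nat.card (T ⊓ centralizer (K : Set G) : Subgroup G) := by
  set f : T →* MulAut K := K.normalizerMonoidHom.comp (Subgroup.inclusion hT) with hf
  have h1 := f.ker.card_mul_index
  rw [Subgroup.index_ker] at h1
  have h2 : Nat.card f.ker = Nat.card (T ⊓ centralizer (K : Set G) : Subgroup G) := by
    have h3 : f.ker = (T ⊓ centralizer (K : Set G)).subgroupOf T := by
      ext x
      rw [MonoidHom.mem_ker, mem_subgroupOf]
      have h4 : f x = 1 ↔ (x : G) ∈ centralizer (K : Set G) := by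
        have h5 := K.normalizerMonoidHom_ker
        have h6 : (Subgroup.inclusion hT x) ∈ K.normalizerMonoidHom.ker ↔ f x = 1 := MonoidHom.mem_ker
        rw [← h6, h5, mem_subgroupOf]
        rfl
      rw [h4]
      exact ⟨fun h5 => ⟨x.2, h5⟩, fun h5 => h5.2⟩
    rw [h3, Nat.card_congr (subgroupOfEquivOfLe inf_le_left).toEquiv]
  rw [← h1, h2, mul_comm]
  refine Nat.mul_dvd_mul ?_ dvd_rfl
  rw [← h.dat.cardAut]
  exact Subgroup.card_subgroup_dvd_card _

/-- the stabilizer of an element of order 4 in `Aut K` -/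
theorem card_stabilizer (h : Hyp K z p m n) {k : K} (hk : k * k = ⟨z, h.zK⟩) :
    Nat.card (MulAction.stabilizer (MulAut K) k) = m := by
  have h1 := (MulAction.stabilizer (MulAut K) k).card_mul_index
  have h2 := (MulAction.stabilizer (ConjAct K) k).card_mul_index
  rw [MulAction.index_stabilizer] at h1 h2
  have h3 : Nat.card (MulAction.stabilizer (ConjAct K) k) = m := by
    rw [← h.dat.card4 k hk]
    refine Nat.card_congr (ConjAct.ofConjAct.toEquiv.subtypeEquiv fun x => ?_)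
    change x ∈ MulAction.stabilizer (ConjAct K) k ↔ ConjAct.ofConjAct x ∈ centralizer ({k} : Set K)
    rw [MulAction.mem_stabilizer_iff, ConjAct.smul_def, mem_centralizer_singleton_iff,
      mul_inv_eq_iff_eq_mul]
  have h4 : MulAction.orbit (MulAut K) k = MulAction.orbit (ConjAct K) k := by
    ext x
    constructor
    · rintro ⟨α, rfl⟩
      have h5 : (α • k) * (α • k) = ⟨z, h.zK⟩ := by
        change α k * α k = _
        rw [← map_mul, hk]
        rcases h.dat.inv (α ⟨z, h.zK⟩) (by rw [← map_mul, h.dat.z_sq, map_one]) with h6 | h6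
        · exact absurd ((MulEquiv.map_eq_one_iff α).mp h6) h.dat.z_ne
        · exact h6
      obtain ⟨g, hg⟩ := h.dat.conj4 k (α • k) hk h5
      exact ⟨ConjAct.toConjAct g, hg⟩
    · rintro ⟨g, rfl⟩
      exact ⟨MulAut.conj (ConjAct.ofConjAct g), rfl⟩
  rw [h4] at h1
  have h5 : Nat.card (ConjAct K) = Nat.card K := Nat.card_congr ConjAct.ofConjAct.toEquiv
  rw [h3, h5] at h2
  rw [h.dat.cardAut, ← h2] at h1
  have hpos : 0 < (MulAction.orbit (ConjAct K) k).ncard :=
    (Set.ncard_pos).mpr ⟨k, MulAction.mem_orbit_self k⟩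
  exact Nat.eq_of_mul_eq_mul_right hpos h1

/-- `|T : C_T(K)|` divides `m` if `T` centralizes an element of order 4 -/
theorem Hyp.card_dvd4 (h : Hyp K z p m n) {T : Subgroup G} (hT : T ≤ normalizer (K : Set G))
    {k : G} (hk : k ∈ K) (hkk : k * k = z) (hTk : ∀ t ∈ T, t * k = k * t) :
    Nat.card T ∣ m * Nat.card (T ⊓ centralizer (K : Set G) : Subgroup G) := by
  set f : T →* MulAut K := K.normalizerMonoidHom.comp (Subgroup.inclusion hT) with hf
  have h1 := f.ker.card_mul_index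
  rw [Subgroup.index_ker] at h1
  have h2 : Nat.card f.ker = Nat.card (T ⊓ centralizer (K : Set G) : Subgroup G) := by
    have h3 : f.ker = (T ⊓ centralizer (K : Set G)).subgroupOf T := by
      ext x
      rw [MonoidHom.mem_ker, mem_subgroupOf]
      have h4 : f x = 1 ↔ (x : G) ∈ centralizer (K : Set G) := by
        have h5 := K.normalizerMonoidHom_ker
        have h6 : (Subgroup.inclusion hT x) ∈ K.normalizerMonoidHom.ker ↔ f x = 1 := MonoidHom.mem_ker
        rw [← h6, h5, mem_subgroupOf]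
        rfl
      rw [h4]
      exact ⟨fun h5 => ⟨x.2, h5⟩, fun h5 => h5.2⟩
    rw [h3, Nat.card_congr (subgroupOfEquivOfLe inf_le_left).toEquiv]
  rw [← h1, h2, mul_comm]
  refine Nat.mul_dvd_mul ?_ dvd_rfl
  rw [← card_stabilizer h (k := ⟨k, hk⟩) (Subtype.ext hkk)]
  refine Subgroup.card_dvd_of_le ?_
  rintro _ ⟨t, rfl⟩
  rw [MulAction.mem_stabilizer_iff]
  apply Subtype.ext
  change t.1 * k * t.1⁻¹ = k
  rw [mul_inv_eq_iff_eq_mul]
  exact hTk t.1 t.2

end

end Cfsg.Agent.OddCyclic.CompSL2Amb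
end

-- part: OddCyclic/CompSL2Tools
section
/-!
# S0342, case C: tools

Orders of Sylow 2-subgroups, the fixed point lemma on `P/⟨z⟩`, inner and outer elements, numbers.
-/

set_option autoImplicit false

namespace Cfsg.Agent.OddCyclic.CompSL2Amb

open Subgroup Cfsg
open Cfsg.Agent.OddCyclic.T1Defs Cfsg.Agent.OddCyclic.CompBasic
open Cfsg.Agent.OddCyclic.CompStandard Cfsg.Agent.OddCyclic.CompSL2Facts
open Cfsg.Agent.LieExceptional Cfsg.Agent.LieExceptional.CITDefs
open Cfsg.Agent.LieExceptional.CITBasic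

variable {G : Type*} [Group G]

section gen

variable [Finite G]

theorem card_isSyl2 {H Q : Subgroup G} (h : IsSyl2 H Q) {a b : ℕ} (hH : Nat.card H = 2 ^ a * b)
    (hb : Odd b) : Nat.card Q = 2 ^ a := by
  have hpf : Fact (Nat.Prime 2) := ⟨Nat.prime_two⟩
  have h1 := Sylow.card_eq_multiplicity (IsSyl2.toSylow h)
  have h2 : Nat.card (IsSyl2.toSylow h) = Nat.card Q :=
    Nat.card_congr (subgroupOfEquivOfLe h.le).toEquiv
  rw [h2, hH] at h1
  have hb0 : b ≠ 0 := by rintro rfl; simp at hb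
  have h3 : (2 ^ a * b).factorization 2 = a := by
    rw [Nat.factorization_mul (by positivity) hb0, Finsupp.add_apply,
      Nat.prime_two.factorization_pow, Finsupp.single_eq_same,
      Nat.factorization_eq_zero_of_not_dvd (by
        rw [← even_iff_two_dvd, Nat.not_even_iff_odd]; exact hb), add_zero]
  rw [h3] at h1
  exact h1

/-- central 2-elements lie in all Sylow 2-subgroups -/
theorem mem_of_central {H Q : Subgroup G} (h : IsSyl2 H Q) {x : G} (hx : x ∈ H)
    (hc : ∀ y ∈ H, x * y = y * x) (h2 : IsPGroup 2 (zpowers x)) : x ∈ Q := by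
  obtain ⟨Q', hQ', hxQ'⟩ := exists_isSyl2 H (zpowers x) (zpowers_le.mpr hx) h2
  obtain ⟨m, hm, hmQ⟩ := CITBasic.IsSyl2.conj hQ' h
  rw [hmQ]
  refine ⟨x, hxQ' (mem_zpowers x), ?_⟩
  change m * x * m⁻¹ = x
  rw [mul_inv_eq_iff_eq_mul]
  exact (hc m hm).symm

omit [Finite G] in
theorem isPGroup_of_pow {x : G} {j : ℕ} (hx : x ^ 2 ^ j = 1) : IsPGroup 2 (zpowers x) := by
  have hpf : Fact (Nat.Prime 2) := ⟨Nat.prime_two⟩
  obtain ⟨i, -, hi⟩ := (Nat.dvd_prime_pow Nat.prime_two).mp (orderOf_dvd_of_pow_eq_one hx)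
  exact IsPGroup.of_card (n := i) (by rw [Nat.card_zpowers, hi])

omit [Finite G] in
theorem exists_pow_eq_one {P : Subgroup G} (hP : IsPGroup 2 P) {x : G} (hx : x ∈ P) :
    ∃ j, x ^ 2 ^ j = 1 := by
  obtain ⟨j, hj⟩ := hP ⟨x, hx⟩
  exact ⟨j, congrArg Subtype.val hj⟩

omit [Finite G] in
/-- In a nontrivial 2-subgroup there are involutions. -/
theorem exists_inv {P : Subgroup G} (hP : IsPGroup 2 P) {x : G} (hx : x ∈ P) (h1 : x ≠ 1) :
    ∃ j : ℕ, orderOf (x ^ j) = 2 := by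
  obtain ⟨j, hj⟩ := exists_pow_eq_one hP hx
  obtain ⟨i, hi⟩ := CITCommute.exists_involution hj h1
  exact ⟨_, hi⟩

/-- `u` acts on the 2-group `P` centralizing `z ∈ Z(P)`; if `P ≠ ⟨z⟩` then `u` fixes a nontrivial
element of `P/⟨z⟩`. -/
theorem exists_twist {P : Subgroup G} (hP : IsPGroup 2 P) {z u : G} (hz : z ∈ P) (hzz : z * z = 1)
    (hz1 : z ≠ 1) (hzc : ∀ x ∈ P, z * x = x * z) (hcard : Nat.card P ≠ 2)
    (hu : ∀ x ∈ P, u * x * u⁻¹ ∈ P) (huz : u * z = z * u) {j : ℕ} (hu2 : u ^ 2 ^ j = 1) :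
    ∃ x ∈ P, x ≠ 1 ∧ x ≠ z ∧ (u * x * u⁻¹ = x ∨ u * x * u⁻¹ = x * z) := by
  classical
  have hpf : Fact (Nat.Prime 2) := ⟨Nat.prime_two⟩
  set N : Subgroup P := zpowers (⟨z, hz⟩ : P) with hN
  have hNmem : ∀ x : P, x ∈ N ↔ (x : G) = 1 ∨ (x : G) = z := by
    intro x
    constructor
    · rintro ⟨i, rfl⟩
      have h1 : (⟨z, hz⟩ : P) ^ (2 : ℕ) = 1 := Subtype.ext (by
        change z ^ 2 = 1
        rw [sq, hzz])
      rcases Int.even_or_odd' i with ⟨l, hl | hl⟩
      · left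
        change (((⟨z, hz⟩ : P) ^ i : P) : G) = 1
        rw [hl, zpow_mul, zpow_ofNat, h1, one_zpow]; rfl
      · right
        change (((⟨z, hz⟩ : P) ^ i : P) : G) = z
        rw [hl, zpow_add, zpow_mul, zpow_ofNat, h1, one_zpow, one_mul, zpow_one]
    · rintro (h1 | h1)
      · have : x = 1 := Subtype.ext h1
        rw [this]; exact one_mem _
      · have : x = ⟨z, hz⟩ := Subtype.ext h1
        rw [this]; exact mem_zpowers _
  have hNn : N.Normal := by
    refine ⟨fun x hx g => ?_⟩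
    rw [hNmem] at hx ⊢
    rcases hx with h1 | h1
    · left
      change (g : G) * x * (g : G)⁻¹ = 1
      rw [h1]; group
    · right
      change (g : G) * x * (g : G)⁻¹ = z
      rw [h1, ← hzc g g.2]; group
  have hun : u ∈ normalizer (P : Set G) := mem_normalizer_of_forall hu
  set α : MulAut P := P.normalizerMonoidHom ⟨u, hun⟩ with hα
  have hαv : ∀ x : P, ((α x : P) : G) = u * x * u⁻¹ := fun _ => rfl
  have hmap : N.map α.toMonoidHom = N := by
    apply Subgroup.eq_of_le_of_card_ge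
    · rintro _ ⟨x, hx, rfl⟩
      have hx' := (hNmem x).mp hx
      rw [hNmem]
      change ((α x : P) : G) = 1 ∨ ((α x : P) : G) = z
      rw [hαv]
      rcases hx' with h1 | h1
      · left; rw [h1]; group
      · right; rw [h1, huz]; group
    · exact (Subgroup.card_map_of_injective (f := α.toMonoidHom) α.injective).ge
  set β : (P ⧸ N) ≃* (P ⧸ N) := QuotientGroup.congr N N α hmap with hβ
  have hβmk : ∀ x : P, β (QuotientGroup.mk x) = QuotientGroup.mk (α x) := fun _ => rfl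
  set σ : Equiv.Perm (P ⧸ N) := β.toEquiv with hσ
  have hσi : ∀ i : ℕ, ∀ x : P, (σ ^ i) (QuotientGroup.mk x) = QuotientGroup.mk ((α ^ i) x) := by
    intro i
    induction i with
    | zero => intro x; rfl
    | succ i ih =>
      intro x
      rw [pow_succ', Equiv.Perm.mul_apply, ih, pow_succ']
      exact hβmk _
  have hαj : α ^ 2 ^ j = 1 := by
    rw [hα, ← map_pow]
    have : (⟨u, hun⟩ : normalizer (P : Set G)) ^ 2 ^ j = 1 := Subtype.ext hu2
    rw [this, map_one]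
  have hσj : σ ^ 2 ^ j = 1 := by
    ext x
    obtain ⟨x, rfl⟩ := QuotientGroup.mk_surjective x
    rw [hσi, hαj]; rfl
  have hfin : Fintype (P ⧸ N) := Fintype.ofFinite _
  have hN2 : Nat.card N = 2 := by
    rw [hN, Nat.card_zpowers]
    refine orderOf_eq_two ?_ (Subtype.ext hzz)
    intro h1
    exact hz1 (congrArg Subtype.val h1)
  have hcardq : 2 ∣ Fintype.card (P ⧸ N) := by
    rw [← Nat.card_eq_fintype_card]
    have h1 := N.card_mul_index
    rw [hN2, Subgroup.index] at h1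
    obtain ⟨a, ha⟩ := IsPGroup.iff_card.mp hP
    rw [ha] at h1 hcard
    rcases a with _ | _ | a
    · rw [pow_zero] at h1; omega
    · exact absurd (by norm_num) hcard
    · rw [pow_succ, pow_succ] at h1
      exact ⟨2 ^ a, by omega⟩
  obtain ⟨b, hb, hb1⟩ := Equiv.Perm.exists_fixed_point_of_prime' hcardq hσj
    (a := ((1 : P) : P ⧸ N)) (by
      have := hσi 1 1
      rw [pow_one, pow_one, map_one] at this
      exact this)
  obtain ⟨x, rfl⟩ := QuotientGroup.mk_surjective b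
  have hb' : (QuotientGroup.mk (α x) : P ⧸ N) = QuotientGroup.mk x := hb
  rw [eq_comm, QuotientGroup.eq, hNmem] at hb'
  have hxN : x ∉ N := fun h1 => hb1 ((QuotientGroup.eq_one_iff x).mpr h1)
  rw [hNmem] at hxN
  push Not at hxN
  refine ⟨x, x.2, hxN.1, hxN.2, ?_⟩
  have h1 : ((x⁻¹ * α x : P) : G) = (x : G)⁻¹ * (u * x * u⁻¹) := rfl
  rw [h1] at hb'
  rcases hb' with h2 | h2
  · left; exact (inv_mul_eq_one.mp h2).symm
  · right; exact inv_mul_eq_iff_eq_mul.mp h2

end gen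

section

variable {K : Subgroup G} {z : G} {p m n : ℕ}

theorem inn_iff {g : G} (hg : g ∈ normalizer (K : Set G)) : Inn K g ↔
    K.normalizerMonoidHom ⟨g, hg⟩ ∈ (MulAut.conj : K →* MulAut K).range := by
  constructor
  · rintro ⟨k, hk, y, hy, rfl⟩
    refine ⟨⟨k, hk⟩, ?_⟩
    apply MulEquiv.ext
    intro x
    apply Subtype.ext
    change k * x * k⁻¹ = k * y * x * (k * y)⁻¹
    have h1 := comm x.2 hy
    calc k * (x : G) * k⁻¹ = k * (x * y) * y⁻¹ * k⁻¹ := by group
      _ = k * (y * x) * y⁻¹ * k⁻¹ := by rw [h1]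
      _ = k * y * x * (k * y)⁻¹ := by group
  · rintro ⟨k, hk⟩
    refine ⟨k.1, k.2, k.1⁻¹ * g, ?_, by group⟩
    rw [mem_centralizer_iff]
    intro x hx
    have h1 := congrArg (fun β : MulAut K => ((β ⟨x, hx⟩ : K) : G)) hk
    change k.1 * x * k.1⁻¹ = g * x * g⁻¹ at h1
    have h2 : x = k.1⁻¹ * (g * x * g⁻¹) * k.1 := by rw [← h1]; group
    nth_rw 1 [h2]
    group

theorem Inn.mem {g : G} (h : Inn K g) : g ∈ normalizer (K : Set G) := by
  obtain ⟨k, hk, y, hy, rfl⟩ := h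
  exact Subgroup.mul_mem _ (le_normalizer hk) (centralizer_le_normalizer _ hy)

variable [Finite G]

theorem index_range (h : Hyp K z p m n) : (MulAut.conj : K →* MulAut K).range.index = 2 := by
  have h1 := (MulAut.conj : K →* MulAut K).ker.card_mul_index
  rw [Subgroup.index_ker] at h1
  have h2 := (MulAut.conj : K →* MulAut K).range.card_mul_index
  rw [h.dat.cardAut, ← h1] at h2
  have h3 : Nat.card (MulAut.conj : K →* MulAut K).ker = 2 := by
    rw [Nat.card_eq_two_iff]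
    have hz : (⟨z, h.zK⟩ : K) ∈ (MulAut.conj : K →* MulAut K).ker := by
      rw [MonoidHom.mem_ker]
      apply MulEquiv.ext
      intro x
      apply Subtype.ext
      change z * x * z⁻¹ = x
      rw [mul_inv_eq_iff_eq_mul]
      exact (comm x.2 h.zY).symm
    refine ⟨1, ⟨⟨z, h.zK⟩, hz⟩, ?_, ?_⟩
    · intro h4
      exact h.z_ne (congrArg (fun x => x.1.1) h4).symm
    · ext ⟨x, hx⟩
      simp only [Set.mem_insert_iff, Set.mem_singleton_iff, Set.mem_univ, iff_true]
      rw [MonoidHom.mem_ker] at hx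
      rcases h.dat.cen x (fun y => by
        have := DFunLike.congr_fun hx y
        rw [MulAut.conj_apply] at this
        exact mul_inv_eq_iff_eq_mul.mp this) with h4 | h4
      · left; exact Subtype.ext h4
      · right; exact Subtype.ext h4
  rw [h3, mul_comm 2] at h2
  exact Nat.eq_of_mul_eq_mul_left Nat.card_pos h2

/-- the product of two outer elements is inner -/
theorem inn_mul_iff (h : Hyp K z p m n) {g g' : G} (hg : g ∈ normalizer (K : Set G))
    (hg' : g' ∈ normalizer (K : Set G)) : Inn K (g * g') ↔ (Inn K g ↔ Inn K g') := by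
  rw [inn_iff hg, inn_iff hg', inn_iff (Subgroup.mul_mem _ hg hg')]
  have h1 : K.normalizerMonoidHom ⟨g * g', Subgroup.mul_mem _ hg hg'⟩ =
      K.normalizerMonoidHom ⟨g, hg⟩ * K.normalizerMonoidHom ⟨g', hg'⟩ := by
    rw [← map_mul]; rfl
  rw [h1]
  exact Subgroup.mul_mem_iff_of_index_two (index_range h)

theorem inn_sq (h : Hyp K z p m n) {g : G} (hg : g ∈ normalizer (K : Set G)) : Inn K (g * g) :=
  (inn_mul_iff h hg hg).mpr Iff.rfl

/-- elements of odd order are inner -/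
theorem inn_of_odd (h : Hyp K z p m n) {g : G} (hg : g ∈ normalizer (K : Set G))
    (hodd : Odd (orderOf g)) : Inn K g := by
  obtain ⟨j, hj⟩ := hodd
  have h1 : g = (g * g) ^ (j + 1) := by
    rw [← sq, ← pow_mul]
    have : 2 * (j + 1) = (2 * j + 1) + 1 := by ring
    rw [this, ← hj, pow_succ, pow_orderOf_eq_one, one_mul]
  rw [h1]
  have hgg := Subgroup.mul_mem _ hg hg
  rw [inn_iff (Subgroup.pow_mem _ hgg _)]
  have h2 : K.normalizerMonoidHom ⟨(g * g) ^ (j + 1), Subgroup.pow_mem _ hgg _⟩ =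
      (K.normalizerMonoidHom ⟨g * g, hgg⟩) ^ (j + 1) := by
    rw [← map_pow]; rfl
  rw [h2]
  exact Subgroup.pow_mem _ ((inn_iff hgg).mp (inn_sq h hg)) _

/-! ### numbers -/

omit [Finite G] in
theorem Hyp.nums (h : Hyp K z p m n) : ∃ d m' n', 2 ≤ d ∧ Odd m' ∧ Odd n' ∧ m = 2 ^ d * m' ∧
    n = 2 * n' ∧ 1 < n' ∧ Odd p := by
  have h5 := h.dat.p5
  have hm0 : m ≠ 0 := by rcases h.dat.mn with ⟨_, h2, _⟩ | ⟨_, h2, _⟩ <;> omega
  obtain ⟨d, m', hm', hd⟩ := Nat.exists_eq_two_pow_mul_odd hm0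
  obtain ⟨n', hn'⟩ : ∃ n', n = 2 * n' := by
    rcases h.dat.mn with ⟨_, _, h2⟩ | ⟨_, _, h2⟩
    · exact ⟨(p + 1) / 2, by omega⟩
    · exact ⟨(p - 1) / 2, by omega⟩
  refine ⟨d, m', n', ?_, hm', ?_, hd, hn', ?_, ?_⟩
  · by_contra hd2
    have h4 : m % 4 = 0 := by rcases h.dat.mn with ⟨_, h2, _⟩ | ⟨_, h2, _⟩ <;> omega
    obtain ⟨i, hi⟩ := hm'
    have : d = 0 ∨ d = 1 := by omega
    rcases this with rfl | rfl
    · rw [pow_zero] at hd; omega
    · rw [pow_one] at hd; omega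
  · rw [Nat.odd_iff]
    rcases h.dat.mn with ⟨_, _, h2⟩ | ⟨_, _, h2⟩ <;> omega
  · rcases h.dat.mn with ⟨_, _, h2⟩ | ⟨_, _, h2⟩ <;> omega
  · rw [Nat.odd_iff]
    rcases h.dat.mn with ⟨_, _, h2⟩ | ⟨_, _, h2⟩ <;> omega

omit [Finite G] in
theorem Hyp.three (h : Hyp K z p m n) : 3 ∣ m ∨ 3 ∣ n := by
  have h5 := h.dat.p5
  have h3 : ¬ 3 ∣ p := by
    intro h3
    have := (Nat.prime_dvd_prime_iff_eq Nat.prime_three h.dat.prime).mp h3
    omega
  have h4 : p % 3 = 1 ∨ p % 3 = 2 := by omega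
  rcases h.dat.mn with ⟨_, h1, h2⟩ | ⟨_, h1, h2⟩ <;> rcases h4 with h4 | h4
  · left; omega
  · right; omega
  · right; omega
  · left; omega

omit [Finite G] in
theorem Hyp.not_both (h : Hyp K z p m n) {r : ℕ} (hr : r.Prime) (hr2 : r ≠ 2) (h1 : r ∣ m)
    (h2 : r ∣ n) : False := by
  have h5 := h.dat.p5
  have h3 : r ∣ 2 := by
    rcases h.dat.mn with ⟨_, h3, h4⟩ | ⟨_, h3, h4⟩
    · have : n - m = 2 := by omega
      rw [← this]; exact Nat.dvd_sub h2 h1
    · have : m - n = 2 := by omega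
      rw [← this]; exact Nat.dvd_sub h1 h2
  exact hr2 ((Nat.prime_dvd_prime_iff_eq hr Nat.prime_two).mp h3)

omit [Finite G] in
theorem Hyp.dvd_m (h : Hyp K z p m n) {r : ℕ} (hr : r ∣ m) : r ∣ Nat.card K := by
  rw [h.dat.card, mul_assoc]
  exact Dvd.dvd.mul_left (Dvd.dvd.mul_right hr n) p

omit [Finite G] in
theorem Hyp.dvd_n (h : Hyp K z p m n) {r : ℕ} (hr : r ∣ n) : r ∣ Nat.card K := by
  rw [h.dat.card]
  exact Dvd.dvd.mul_left hr _

omit [Finite G] in
theorem Hyp.three_dvd (h : Hyp K z p m n) : 3 ∣ Nat.card K := by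
  rcases h.three with h1 | h1
  · exact h.dvd_m h1
  · exact h.dvd_n h1

/-- 3-elements of `N(K)` lie in `K` -/
theorem Hyp.mem_of_three (h : Hyp K z p m n) {x : G} (hx : x ∈ normalizer (K : Set G)) {s : ℕ}
    (hs : orderOf x = 3 ^ s) : x ∈ K := by
  obtain ⟨k, hk, y, hy, rfl⟩ := inn_of_odd h hx (by rw [hs]; exact Odd.pow (by decide))
  refine K.mul_mem hk ?_
  have hky : Commute k y := comm hk hy
  have h1 : k ^ 3 ^ s * y ^ 3 ^ s = 1 := by
    rw [← hky.mul_pow, ← hs, pow_orderOf_eq_one]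
  have h2 : y ^ 3 ^ s ∈ K := by
    have : y ^ 3 ^ s = (k ^ 3 ^ s)⁻¹ := (inv_eq_of_mul_eq_one_right h1).symm
    rw [this]
    exact K.inv_mem (K.pow_mem hk _)
  have h3 : ¬ 3 ∣ orderOf y := by
    intro h3
    have h4 : orderOf (y ^ (orderOf y / 3)) = 3 := by
      rw [orderOf_pow_orderOf_div (orderOf_pos y).ne' h3]
    have h5 : y ^ (orderOf y / 3) ∈ centralizer (K : Set G) := Subgroup.pow_mem _ hy _
    have h6 := h.mem 3 Nat.prime_three (by decide) h.three_dvd _
      (centralizer_le_normalizer _ h5) h4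
    rcases h.inter h6 h5 with h7 | h7
    · rw [h7, orderOf_one] at h4; omega
    · rw [h7, h.z2] at h4; omega
  have h4 : (3 ^ s).Coprime (orderOf y) :=
    Nat.Coprime.pow_left s ((Nat.Prime.coprime_iff_not_dvd Nat.prime_three).mpr h3)
  obtain ⟨j, hj⟩ := exists_pow_eq_self_of_coprime h4
  rw [← hj]
  exact K.pow_mem h2 j

end

end Cfsg.Agent.OddCyclic.CompSL2Amb
end
end

-- part: OddCyclic/B2Four
section
prune_inst 0x20301600712212000018000200001d6292000000000b8001b1210702068fdc40a0470e20ca200f0358208844003400681310001040100000000000004b1c01a08022d2061240a10427000f80b007580c00000000000000000000000000041000000000000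
set_option linter.all false
open scoped Cfsg.Agent.FastGrp

/-!
# S0342, case B2, piece G: the Sylow 2-subgroup `T₄ = F⟨t, y⟩` of `N_G(V)`

Section (0.8) of blueprints/S0342-B2.md.
-/

set_option autoImplicit false

namespace Cfsg.Agent.OddCyclic.B2Four

open Cfsg.Agent.LieExceptional.CITDefs Cfsg.Agent.OddCyclic.B2Defs

variable {G : Type*} [Group G]

/-- Coprime conjugacy: `m h` and `h` are conjugate under the `3'`-group `M` normalised by `h`. -/
theorem conj_of_mem [Finite G] {M : Subgroup G} {h m : G} (h3 : h * h * h = 1)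
    (hM : ∀ x ∈ M, h * x * h⁻¹ ∈ M) (h3M : ¬ 3 ∣ Nat.card M) (hm : m ∈ M)
    (hm3 : m * h * (m * h) * (m * h) = 1) : ∃ c ∈ M, c * (m * h) * c⁻¹ = h := by
  classical
  have := Fintype.ofFinite M
  have hpf : Fact (Nat.Prime 3) := ⟨Nat.prime_three⟩
  have hhi : h⁻¹ = h * h := by
    rw [inv_eq_iff_mul_eq_one, ← mul_assoc, h3]
  have hM' : ∀ x ∈ M, h⁻¹ * x * h ∈ M := by
    intro x hx
    have h1 := hM _ (hM x hx)
    have e : h⁻¹ * x * h = h * (h * x * h⁻¹) * h⁻¹ := by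
      have e1 : h = h⁻¹ * h⁻¹ := by
        rw [hhi]
        calc h = h * (h * h * h) := by rw [h3, mul_one]
          _ = h * h * (h * h) := by group
      calc h⁻¹ * x * h = h⁻¹ * x * (h⁻¹ * h⁻¹) := by rw [← e1]
        _ = (h * h) * x * (h⁻¹ * h⁻¹) := by rw [← hhi]
        _ = _ := by group
    rw [e]; exact h1
  let σ : Equiv.Perm M :=
    { toFun := fun x => ⟨m * (h * x * h⁻¹), M.mul_mem hm (hM x x.2)⟩
      invFun := fun x => ⟨h⁻¹ * (m⁻¹ * x) * h, hM' _ (M.mul_mem (M.inv_mem hm) x.2)⟩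
      left_inv := by
        intro x
        apply Subtype.ext
        show h⁻¹ * (m⁻¹ * (m * (h * x * h⁻¹))) * h = x
        group
      right_inv := by
        intro x
        apply Subtype.ext
        show m * (h * (h⁻¹ * (m⁻¹ * x) * h) * h⁻¹) = x
        group }
  have hσ : σ ^ 3 ^ 1 = 1 := by
    rw [pow_one]
    ext x
    have e : ((σ ^ 3) x : G) = m * (h * (m * (h * (m * (h * x * h⁻¹)) * h⁻¹)) * h⁻¹) := by
      rw [pow_succ, pow_succ, pow_one]; rfl
    rw [e, Equiv.Perm.one_apply]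
    calc m * (h * (m * (h * (m * (h * (x : G) * h⁻¹)) * h⁻¹)) * h⁻¹) =
        (m * h * (m * h) * (m * h)) * x * (h * h * h)⁻¹ := by group
      _ = x := by rw [hm3, h3]; group
  have hcard : ¬ 3 ∣ Fintype.card M := by rwa [← Nat.card_eq_fintype_card]
  obtain ⟨x, hx⟩ := Equiv.Perm.exists_fixed_point_of_prime hcard hσ
  refine ⟨(x : G)⁻¹, M.inv_mem x.2, ?_⟩
  have hx' : m * (h * (x : G) * h⁻¹) = x := congrArg Subtype.val hx
  have e : m * h * (x : G) = x * h := by
    calc m * h * (x : G) = m * (h * (x : G) * h⁻¹) * h := by group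
      _ = x * h := by rw [hx']
  calc (x : G)⁻¹ * (m * h) * (x : G)⁻¹⁻¹ = (x : G)⁻¹ * (m * h * x) := by group
    _ = h := by rw [e]; group

section

variable {t h : G} {V P F : Subgroup G}

theorem h_inv (L : Loc t h V) : h⁻¹ = h * h := by
  rw [inv_eq_iff_mul_eq_one, ← mul_assoc, L.h_cube]

theorem exists_ne_one [Finite G] {V : Subgroup G} (hV : Nat.card V = 4) : ∃ v ∈ V, v ≠ 1 := by
  by_contra hno
  push Not at hno
  have h1 : V = ⊥ := (Subgroup.eq_bot_iff_forall V).mpr hno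
  rw [h1, Subgroup.card_bot] at hV
  omega

theorem h_ne [Finite G] (L : Loc t h V) : h ≠ 1 := by
  rintro rfl
  obtain ⟨v, hv, hv1⟩ := exists_ne_one L.card_V
  exact hv1 (L.fpfV v hv (by group))

/-- If `y` inverts `h`, then `y` does not lie in a subgroup of `3'`-order normalised by `h`. -/
theorem notMem_of_inv [Finite G] (L : Loc t h V) {A : Subgroup G} (hA : ¬ 3 ∣ Nat.card A)
    (hhA : ∀ x ∈ A, h * x * h⁻¹ ∈ A) {y : G} (hy : y * h * y⁻¹ = h⁻¹) : y ∉ A := by
  intro hyA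
  have h1 : h * y * h⁻¹ ∈ A := hhA y hyA
  have h2 : y⁻¹ * (h * y * h⁻¹) ∈ A := A.mul_mem (A.inv_mem hyA) h1
  have e : y⁻¹ * h * y = h⁻¹ := by
    have : h = (y * h * y⁻¹)⁻¹ := by rw [hy, inv_inv]
    calc y⁻¹ * h * y = y⁻¹ * (y * h * y⁻¹)⁻¹ * y := by rw [← this]
      _ = h⁻¹ := by group
  have h3 : y⁻¹ * (h * y * h⁻¹) = h := by
    calc y⁻¹ * (h * y * h⁻¹) = (y⁻¹ * h * y) * h⁻¹ := by group
      _ = h⁻¹ * h⁻¹ := by rw [e]
      _ = h := by
        rw [h_inv L]
        calc h * h * (h * h) = h * (h * h * h) := by group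
          _ = h := by rw [L.h_cube, mul_one]
  rw [h3] at h2
  apply hA
  have h4 : orderOf h = 3 := by
    apply orderOf_eq_prime
    · rw [pow_succ, pow_two, L.h_cube]
    · exact h_ne L
  rw [← h4]
  exact A.orderOf_dvd_natCard h2

theorem not_three_dvd [Finite G] {P : Subgroup G} (hP : IsPGroup 2 P) : ¬ 3 ∣ Nat.card P := by
  have hpf : Fact (Nat.Prime 2) := ⟨Nat.prime_two⟩
  obtain ⟨n, hn⟩ := IsPGroup.iff_card.mp hP
  rw [hn]
  intro h3
  have := (Nat.Prime.dvd_of_dvd_pow Nat.prime_three h3)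
  omega

/-- the elements of `P` commuting with `h` -/
theorem comm_iff [Finite G] (L : Loc t h V) (D : PData t h V P F) {x : G} (hx : x ∈ P)
    (hc : h * x = x * h) : x = 1 ∨ x = t := by
  obtain ⟨f, hf, hxf | hxf⟩ := (D.mem x).mp hx
  · rw [hxf] at hc ⊢
    left; exact D.fpf f hf hc
  · rw [hxf] at hc ⊢
    right
    have h1 : h * f = f * h := by
      have e1 : h * (t * f) = t * (h * f) := by rw [← mul_assoc, L.ht, mul_assoc]
      have e2 : t * f * h = t * (f * h) := by group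
      rw [e1, e2] at hc
      exact mul_left_cancel hc
    rw [D.fpf f hf h1, mul_one]

theorem F_le (D : PData t h V P F) : F ≤ P := fun f hf => (D.mem f).mpr ⟨f, hf, Or.inl rfl⟩

theorem t_mem (D : PData t h V P F) : t ∈ P :=
  (D.mem t).mpr ⟨1, F.one_mem, Or.inr (mul_one t).symm⟩

/-- `h` normalises `C_G(V)`. -/
theorem cent_conj {V : Subgroup G} [Finite V] {g : G} (hV : ∀ v ∈ V, g * v * g⁻¹ ∈ V) {x : G}
    (hx : x ∈ Subgroup.centralizer (V : Set G)) :
    g * x * g⁻¹ ∈ Subgroup.centralizer (V : Set G) := by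
  rw [Subgroup.mem_centralizer_iff] at hx ⊢
  intro v hv
  -- `g⁻¹ v g ∈ V`
  have hinj : Function.Injective (fun v : V => (⟨g * v * g⁻¹, hV v v.2⟩ : V)) := by
    intro a b hab
    have := congrArg Subtype.val hab
    simp only [mul_left_inj, mul_right_inj] at this
    exact Subtype.ext this
  obtain ⟨⟨w, hw⟩, hw'⟩ := (Finite.injective_iff_surjective.mp hinj) ⟨v, hv⟩
  have hw2 : g * w * g⁻¹ = v := congrArg Subtype.val hw'
  rw [← hw2]
  have := hx w hw
  calc g * w * g⁻¹ * (g * x * g⁻¹) = g * (w * x) * g⁻¹ := by group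
    _ = g * (x * w) * g⁻¹ := by rw [this]
    _ = _ := by group

/-- For `f ∈ F` there is `u ∈ F` with `f = u⁻¹ h u h⁻¹`. -/
theorem exists_comm [Finite G] (D : PData t h V P F) {f : G} (hf : f ∈ F) :
    ∃ u ∈ F, u⁻¹ * (h * u * h⁻¹) = f := by
  have hinj : Function.Injective
      (fun u : F => (⟨(u : G)⁻¹ * (h * u * h⁻¹), F.mul_mem (F.inv_mem u.2) (D.hF u u.2)⟩ : F)) := by
    intro a b hab
    have h1 : (a : G)⁻¹ * (h * a * h⁻¹) = (b : G)⁻¹ * (h * b * h⁻¹) := congrArg Subtype.val hab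
    have h2 : h * ((b : G) * (a : G)⁻¹) = (b : G) * (a : G)⁻¹ * h := by
      have e1 : (b : G) * (a : G)⁻¹ * (h * a * h⁻¹) = h * b * h⁻¹ := by
        rw [mul_assoc, h1]; group
      calc h * ((b : G) * (a : G)⁻¹) = (h * b * h⁻¹) * (h * (a : G)⁻¹) := by group
        _ = (b : G) * (a : G)⁻¹ * (h * a * h⁻¹) * (h * (a : G)⁻¹) := by rw [e1]
        _ = _ := by group
    have h3 := D.fpf _ (F.mul_mem b.2 (F.inv_mem a.2)) h2
    exact Subtype.ext (mul_inv_eq_one.mp h3).symm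
  obtain ⟨⟨u, hu⟩, hu'⟩ := (Finite.injective_iff_surjective.mp hinj) ⟨f, hf⟩
  exact ⟨u, hu, congrArg Subtype.val hu'⟩

/-- `g` normalising `P` and commuting with `t` and inverting or centralising `h` normalises `F`. -/
theorem conj_F [Finite G] (L : Loc t h V) (D : PData t h V P F) {y : G}
    (hyP : ∀ x ∈ P, y * x * y⁻¹ ∈ P) (hyh : y * h * y⁻¹ = h⁻¹) :
    ∀ f ∈ F, y * f * y⁻¹ ∈ F := by
  intro f hf
  obtain ⟨u, hu, rfl⟩ := exists_comm D hf
  set g := y * u * y⁻¹ with hg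
  have hgP : g ∈ P := hyP u (F_le D hu)
  have e1 : y * (u⁻¹ * (h * u * h⁻¹)) * y⁻¹ = g⁻¹ * (h⁻¹ * g * h) := by
    calc y * (u⁻¹ * (h * u * h⁻¹)) * y⁻¹ =
        (y * u * y⁻¹)⁻¹ * ((y * h * y⁻¹) * (y * u * y⁻¹) * (y * h * y⁻¹)⁻¹) := by group
      _ = _ := by rw [hyh, inv_inv]
  have hFi : ∀ f ∈ F, h⁻¹ * f * h ∈ F := by
    intro f hf
    have h1 := D.hF _ (D.hF f hf)
    have e : h⁻¹ * f * h = h * (h * f * h⁻¹) * h⁻¹ := by
      have e1 : h = h⁻¹ * h⁻¹ := by
        rw [h_inv L]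
        calc h = h * (h * h * h) := by rw [L.h_cube, mul_one]
          _ = h * h * (h * h) := by group
      calc h⁻¹ * f * h = h⁻¹ * f * (h⁻¹ * h⁻¹) := by rw [← e1]
        _ = (h * h) * f * (h⁻¹ * h⁻¹) := by rw [← h_inv L]
        _ = _ := by group
    rw [e]; exact h1
  rw [e1]
  obtain ⟨f₁, hf₁, h1 | h1⟩ := (D.mem g).mp hgP
  · rw [h1]
    exact F.mul_mem (F.inv_mem hf₁) (hFi f₁ hf₁)
  · rw [h1]
    have e2 : (t * f₁)⁻¹ * (h⁻¹ * (t * f₁) * h) = f₁⁻¹ * (h⁻¹ * f₁ * h) := by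
      have e3 : h⁻¹ * t = t * h⁻¹ := by
        rw [inv_mul_eq_iff_eq_mul, ← mul_assoc, eq_mul_inv_iff_mul_eq, L.ht]
      calc (t * f₁)⁻¹ * (h⁻¹ * (t * f₁) * h) = f₁⁻¹ * (t⁻¹ * (h⁻¹ * t) * f₁ * h) := by group
        _ = f₁⁻¹ * (t⁻¹ * (t * h⁻¹) * f₁ * h) := by rw [e3]
        _ = _ := by group
    rw [e2]
    exact F.mul_mem (F.inv_mem hf₁) (hFi f₁ hf₁)

theorem not_three_of_le [Finite G] {M C : Subgroup G} (hMC : M ≤ C) (h3 : ¬ 3 ∣ Nat.card C) :
    ¬ 3 ∣ Nat.card M := fun h => h3 (h.trans (Subgroup.card_dvd_of_le hMC))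

/-- Two `h`-invariant Sylow 2-subgroups of the `3'`-group `C` are conjugate under `C_C(h)`. -/
theorem exists_conj_comm [Finite G] {C P P' : Subgroup G} (h3 : h * h * h = 1)
    (hC : ∀ x ∈ C, h * x * h⁻¹ ∈ C) (h3C : ¬ 3 ∣ Nat.card C) (hP : IsSyl2 C P) (hP' : IsSyl2 C P')
    (hhP : ∀ x ∈ P, h * x * h⁻¹ ∈ P) (hhP' : ∀ x ∈ P', h * x * h⁻¹ ∈ P') :
    ∃ c ∈ C, c * h = h * c ∧ ∀ x ∈ P, c * x * c⁻¹ ∈ P' := by
  obtain ⟨c, hc, hPP⟩ := Cfsg.Agent.LieExceptional.CITBasic.IsSyl2.conj hP hP'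
  have hcP : ∀ x ∈ P, c * x * c⁻¹ ∈ P' := by
    intro x hx
    rw [hPP]
    exact ⟨x, hx, rfl⟩
  have hcP' : ∀ x ∈ P', c⁻¹ * x * c ∈ P := by
    intro x hx
    rw [hPP] at hx
    obtain ⟨y, hy, rfl⟩ := hx
    have : c⁻¹ * ((MulAut.conj c).toMonoidHom y) * c = y := by
      simp only [MulEquiv.coe_toMonoidHom, MulAut.conj_apply]
      group
    rw [this]; exact hy
  let M : Subgroup G := C ⊓ Subgroup.normalizer (P' : Set G)
  have mem_norm : ∀ g : G, (∀ x ∈ P', g * x * g⁻¹ ∈ P') → g ∈ Subgroup.normalizer (P' : Set G) := by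
    intro g hg
    have hinj : Function.Injective (fun v : P' => (⟨g * v * g⁻¹, hg v v.2⟩ : P')) := by
      intro a b hab
      have := congrArg Subtype.val hab
      simp only [mul_left_inj, mul_right_inj] at this
      exact Subtype.ext this
    rw [Subgroup.mem_normalizer_iff]
    intro x
    refine ⟨fun hx => hg x hx, fun hx => ?_⟩
    obtain ⟨⟨w, hw⟩, hw'⟩ := (Finite.injective_iff_surjective.mp hinj) ⟨_, hx⟩
    have hw2 : g * w * g⁻¹ = g * x * g⁻¹ := congrArg Subtype.val hw'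
    simp only [mul_left_inj, mul_right_inj] at hw2
    rw [← hw2]; exact hw
  have hhn : h ∈ Subgroup.normalizer (P' : Set G) := mem_norm h hhP'
  have hchn : c * h * c⁻¹ ∈ Subgroup.normalizer (P' : Set G) := by
    apply mem_norm
    intro x hx
    have h1 := hcP _ (hhP _ (hcP' x hx))
    have e : c * (h * (c⁻¹ * x * c) * h⁻¹) * c⁻¹ = c * h * c⁻¹ * x * (c * h * c⁻¹)⁻¹ := by group
    rwa [e] at h1
  have hMh : ∀ x ∈ M, h * x * h⁻¹ ∈ M := fun x hx => ⟨hC x hx.1,
    Subgroup.mul_mem _ (Subgroup.mul_mem _ hhn hx.2) (Subgroup.inv_mem _ hhn)⟩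
  have hmM : c * h * c⁻¹ * h⁻¹ ∈ M := by
    refine ⟨?_, Subgroup.mul_mem _ hchn (Subgroup.inv_mem _ hhn)⟩
    have e : c * h * c⁻¹ * h⁻¹ = c * (h * c⁻¹ * h⁻¹) := by group
    rw [e]
    exact C.mul_mem hc (hC _ (C.inv_mem hc))
  have hm3 : (c * h * c⁻¹ * h⁻¹) * h * ((c * h * c⁻¹ * h⁻¹) * h) * ((c * h * c⁻¹ * h⁻¹) * h) = 1 := by
    calc (c * h * c⁻¹ * h⁻¹) * h * ((c * h * c⁻¹ * h⁻¹) * h) * ((c * h * c⁻¹ * h⁻¹) * h) =
        c * (h * h * h) * c⁻¹ := by group
      _ = 1 := by rw [h3]; group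
  obtain ⟨d, hd, hde⟩ := conj_of_mem h3 hMh (not_three_of_le (inf_le_left : M ≤ C) h3C) hmM hm3
  refine ⟨d * c, C.mul_mem hd.1 hc, ?_, fun x hx => ?_⟩
  · have e : d * c * h * (d * c)⁻¹ = h := by
      calc d * c * h * (d * c)⁻¹ = d * (c * h * c⁻¹ * h⁻¹ * h) * d⁻¹ := by group
        _ = h := hde
    rw [mul_inv_eq_iff_eq_mul] at e
    exact e
  · have h1 := (Subgroup.mem_normalizer_iff.mp hd.2 _).mp (hcP x hx)
    have e : d * (c * x * c⁻¹) * d⁻¹ = d * c * x * (d * c)⁻¹ := by group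
    rwa [e] at h1

/-- `h` commutes only with `1, t` in `C_G(V) ∩ C_G(t)` -/
theorem eq_of_comm (L : Loc t h V) {c : G} (hV : c ∈ Subgroup.centralizer (V : Set G))
    (ht : c * t = t * c) (hh : c * h = h * c) : c = 1 ∨ c = t := by
  obtain ⟨v, hv, hc | hc⟩ := L.cent c ht fun v hv => (Subgroup.mem_centralizer_iff.mp hV v hv).symm
  · left
    rw [hc] at hh ⊢
    exact L.fpfV v hv hh.symm
  · right
    rw [hc] at hh ⊢
    have h1 : h * v = v * h := by
      have e1 : t * v * h = h * (t * v) := hh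
      rw [← mul_assoc, L.ht, mul_assoc, mul_assoc] at e1
      exact (mul_left_cancel e1).symm
    rw [L.fpfV v hv h1, mul_one]

/-- (0.8) `P` is the only `h`-invariant Sylow 2-subgroup of `C_G(V)` containing `t`. -/
theorem uniq [Finite G] (L : Loc t h V) (h3 : ¬ 3 ∣ Nat.card (Subgroup.centralizer (V : Set G)))
    (D : PData t h V P F) {P' : Subgroup G} (hP' : IsSyl2 (Subgroup.centralizer (V : Set G)) P')
    (hhP' : ∀ x ∈ P', h * x * h⁻¹ ∈ P') (htP' : t ∈ P') : P' = P := by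
  obtain ⟨c, hc, hch, hcP⟩ := exists_conj_comm L.h_cube (fun x hx => cent_conj L.hV hx) h3 hP' D.syl
    hhP' D.hP
  -- `c t c⁻¹ ∈ P` commutes with `h`
  have h1 : c * t * c⁻¹ ∈ P := hcP t htP'
  have hch' : h * c⁻¹ = c⁻¹ * h := by
    rw [mul_inv_eq_iff_eq_mul, mul_assoc, ← hch, inv_mul_cancel_left]
  have h2 : h * (c * t * c⁻¹) = c * t * c⁻¹ * h := by
    calc h * (c * t * c⁻¹) = (h * c) * t * c⁻¹ := by group
      _ = c * (h * t) * c⁻¹ := by rw [← hch]; group
      _ = c * t * (h * c⁻¹) := by rw [L.ht]; group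
      _ = c * t * c⁻¹ * h := by rw [hch']; group
  have h3 : c * t = t * c := by
    rcases comm_iff L D h1 h2 with h4 | h4
    · exfalso
      apply L.t_ne
      have : t = c⁻¹ * (c * t * c⁻¹) * c := by group
      rw [this, h4]; group
    · rwa [mul_inv_eq_iff_eq_mul] at h4
  have hcP2 : c ∈ P := by
    rcases eq_of_comm L hc h3 hch with h4 | h4
    · rw [h4]; exact P.one_mem
    · rw [h4]; exact t_mem D
  have hle : P' ≤ P := by
    intro x hx
    have h5 := P.mul_mem (P.mul_mem (P.inv_mem hcP2) (hcP x hx)) hcP2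
    have e : c⁻¹ * (c * x * c⁻¹) * c = x := by group
    rwa [e] at h5
  exact (hP'.max P D.syl.le D.syl.two hle).symm

theorem h_inv_conj (L : Loc t h V) {A : Subgroup G} (hA : ∀ x ∈ A, h * x * h⁻¹ ∈ A) :
    ∀ x ∈ A, h⁻¹ * x * h ∈ A := by
  intro f hf
  have h1 := hA _ (hA f hf)
  have e : h⁻¹ * f * h = h * (h * f * h⁻¹) * h⁻¹ := by
    have e1 : h = h⁻¹ * h⁻¹ := by
      rw [h_inv L]
      calc h = h * (h * h * h) := by rw [L.h_cube, mul_one]
        _ = h * h * (h * h) := by group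
    calc h⁻¹ * f * h = h⁻¹ * f * (h⁻¹ * h⁻¹) := by rw [← e1]
      _ = (h * h) * f * (h⁻¹ * h⁻¹) := by rw [← h_inv L]
      _ = _ := by group
  rw [e]; exact h1

theorem conj_inv_mem [Finite G] {A : Subgroup G} {g : G} (hA : ∀ v ∈ A, g * v * g⁻¹ ∈ A) :
    ∀ v ∈ A, g⁻¹ * v * g ∈ A := by
  intro v hv
  have hinj : Function.Injective (fun v : A => (⟨g * v * g⁻¹, hA v v.2⟩ : A)) := by
    intro a b hab
    have := congrArg Subtype.val hab
    simp only [mul_left_inj, mul_right_inj] at this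
    exact Subtype.ext this
  obtain ⟨⟨w, hw⟩, hw'⟩ := (Finite.injective_iff_surjective.mp hinj) ⟨v, hv⟩
  have hw2 : g * w * g⁻¹ = v := congrArg Subtype.val hw'
  rw [← hw2]
  have e : g⁻¹ * (g * w * g⁻¹) * g = w := by group
  rw [e]; exact hw

theorem mem_map_conj {A : Subgroup G} {g x : G} :
    x ∈ A.map (MulAut.conj g).toMonoidHom ↔ g⁻¹ * x * g ∈ A := by
  constructor
  · rintro ⟨z, hz, rfl⟩
    have : g⁻¹ * ((MulAut.conj g).toMonoidHom z) * g = z := by
      simp only [MulEquiv.coe_toMonoidHom, MulAut.conj_apply]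
      group
    rw [this]; exact hz
  · intro hx
    refine ⟨_, hx, ?_⟩
    simp only [MulEquiv.coe_toMonoidHom, MulAut.conj_apply]
    group

/-- the conjugate of a Sylow 2-subgroup of `C` under an element normalising `C` -/
theorem isSyl2_conj [Finite G] {C P : Subgroup G} (hP : IsSyl2 C P) {g : G}
    (hg : ∀ x ∈ C, g * x * g⁻¹ ∈ C) : IsSyl2 C (P.map (MulAut.conj g).toMonoidHom) := by
  have hg' := conj_inv_mem hg
  refine ⟨?_, hP.two.map _, fun Y hY hY2 hle => ?_⟩
  · rintro _ ⟨x, hx, rfl⟩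
    exact hg x (hP.le hx)
  · have h1 : Y.map (MulAut.conj g⁻¹).toMonoidHom = P := by
      refine hP.max _ ?_ (hY2.map _) ?_
      · rintro _ ⟨x, hx, rfl⟩
        have := hg' x (hY hx)
        simpa only [MulEquiv.coe_toMonoidHom, MulAut.conj_apply, inv_inv] using this
      · intro x hx
        rw [mem_map_conj, inv_inv]
        exact hle ⟨x, hx, rfl⟩
    ext x
    rw [mem_map_conj, ← h1, mem_map_conj, inv_inv]
    have e : g * (g⁻¹ * x * g) * g⁻¹ = x := by group
    rw [e]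

/-- `y` normalises `P`. -/
theorem y_norm [Finite G] (L : Loc t h V) (h3 : ¬ 3 ∣ Nat.card (Subgroup.centralizer (V : Set G)))
    (D : PData t h V P F) {y : G} (hyV : ∀ v ∈ V, y * v * y⁻¹ ∈ V) (hyt : t * y = y * t)
    (hyh : y * h * y⁻¹ = h⁻¹) : ∀ x ∈ P, y * x * y⁻¹ ∈ P := by
  have hhi := h_inv_conj L D.hP
  have hyh' : h * y = y * h⁻¹ := by
    rw [mul_inv_eq_iff_eq_mul] at hyh
    rw [eq_mul_inv_iff_mul_eq, mul_assoc, hyh, mul_inv_cancel_left]
  have key : P.map (MulAut.conj y).toMonoidHom = P := by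
    apply uniq L h3 D (isSyl2_conj D.syl fun x hx => cent_conj hyV hx)
    · intro x hx
      rw [mem_map_conj] at hx ⊢
      have e : y⁻¹ * (h * x * h⁻¹) * y = h⁻¹ * (y⁻¹ * x * y) * h := by
        have e1 : y⁻¹ * h * y = h⁻¹ := by rw [mul_assoc, hyh', inv_mul_cancel_left]
        have e2 : y⁻¹ * h⁻¹ * y = h := by
          calc y⁻¹ * h⁻¹ * y = (y⁻¹ * h * y)⁻¹ := by group
            _ = h := by rw [e1, inv_inv]
        calc y⁻¹ * (h * x * h⁻¹) * y = (y⁻¹ * h * y) * (y⁻¹ * x * y) * (y⁻¹ * h⁻¹ * y) := by group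
          _ = _ := by rw [e1, e2]
      rw [e]
      exact hhi _ hx
    · rw [mem_map_conj]
      have e : y⁻¹ * t * y = t := by rw [mul_assoc, hyt, inv_mul_cancel_left]
      rw [e]; exact t_mem D
  intro x hx
  rw [← key]
  exact ⟨x, hx, rfl⟩

/-- A 2-group normalising a group of order 4 centralises one of its non-trivial elements. -/
theorem exists_fixed {T V : Subgroup G} (hT : IsPGroup 2 T) (hV : Nat.card V = 4)
    (hTV : ∀ t ∈ T, ∀ v ∈ V, t * v * t⁻¹ ∈ V) : ∃ v ∈ V, v ≠ 1 ∧ ∀ t ∈ T, t * v = v * t := by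
  have hfin : Finite V := Nat.finite_of_card_ne_zero (by rw [hV]; norm_num)
  have hf : Fact (Nat.Prime 2) := ⟨Nat.prime_two⟩
  let _ : MulAction T V :=
    { smul := fun t v => ⟨(t : G) * v * (t : G)⁻¹, hTV t t.2 v v.2⟩
      one_smul := fun v => Subtype.ext (by
        change (1 : G) * v * (1 : G)⁻¹ = v
        group)
      mul_smul := fun s t v => Subtype.ext (by
        change ((s : G) * t) * v * ((s : G) * t)⁻¹ = s * (t * v * (t : G)⁻¹) * (s : G)⁻¹
        group) }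
  have h1 : (1 : V) ∈ MulAction.fixedPoints T V := fun t => Subtype.ext (by
    change (t : G) * (1 : G) * (t : G)⁻¹ = 1
    group)
  obtain ⟨b, hb, hb1⟩ := hT.exists_fixed_point_of_prime_dvd_card_of_fixed_point V
    (by rw [hV]; norm_num) h1
  refine ⟨b, b.2, fun h0 => hb1 (Subtype.ext h0.symm), fun t ht => ?_⟩
  have h2 : t * (b : G) * t⁻¹ = b := congrArg Subtype.val (hb ⟨t, ht⟩)
  rwa [mul_inv_eq_iff_eq_mul] at h2

/-- the elements of a four-group -/
theorem mem_four' {V : Subgroup G} (hE : Elem V) (hV : Nat.card V = 4) {i v : G} (hi : i ∈ V)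
    (hv : v ∈ V) (hi1 : i ≠ 1) (hv1 : v ≠ 1) (hvi : v ≠ i) {x : G} (hx : x ∈ V) :
    x = 1 ∨ x = i ∨ x = v ∨ x = i * v := by
  classical
  have hfin : Finite V := Nat.finite_of_card_ne_zero (by rw [hV]; norm_num)
  have hiv : i * v ≠ 1 := by
    intro h
    apply hvi
    have := hE i hi
    have h2 : i * v = i * i := by rw [h, this]
    exact mul_left_cancel h2
  have hsub : ({1, i, v, i * v} : Set G) ⊆ (V : Set G) := by
    rintro y (rfl | rfl | rfl | rfl)
    · exact V.one_mem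
    · exact hi
    · exact hv
    · exact V.mul_mem hi hv
  have hcard : ({1, i, v, i * v} : Set G).ncard = 4 := by
    rw [Set.ncard_insert_of_notMem, Set.ncard_insert_of_notMem, Set.ncard_insert_of_notMem,
      Set.ncard_singleton]
    · simp only [Set.mem_singleton_iff]
      intro h
      exact hi1 (mul_eq_right.mp h.symm)
    · simp only [Set.mem_insert_iff, Set.mem_singleton_iff, not_or]
      exact ⟨fun h => hvi h.symm, fun h => hv1 (mul_eq_left.mp h.symm)⟩
    · simp only [Set.mem_insert_iff, Set.mem_singleton_iff, not_or]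
      exact ⟨fun h => hi1 h.symm, fun h => hv1 h.symm, fun h => hiv h.symm⟩
  have heq : ({1, i, v, i * v} : Set G) = (V : Set G) := by
    apply Set.eq_of_subset_of_ncard_le hsub
    · rw [hcard]
      have : (V : Set G).ncard = Nat.card V := by rw [← Nat.card_coe_set_eq]; rfl
      rw [this, hV]
  have : x ∈ ({1, i, v, i * v} : Set G) := by rw [heq]; exact hx
  simpa only [Set.mem_insert_iff, Set.mem_singleton_iff] using this

/-- `g ∈ G` centralising `i` and normalising `V` either centralises `V` or moves `v` to `i v`. -/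
theorem act_cases {V : Subgroup G} (hE : Elem V) (hV : Nat.card V = 4) {i v : G} (hi : i ∈ V)
    (hv : v ∈ V) (hi1 : i ≠ 1) (hv1 : v ≠ 1) (hvi : v ≠ i) {g : G}
    (hg : ∀ x ∈ V, g * x * g⁻¹ ∈ V) (hgi : g * i = i * g) :
    g ∈ Subgroup.centralizer (V : Set G) ∨ g * v * g⁻¹ = i * v := by
  rcases mem_four' hE hV hi hv hi1 hv1 hvi (hg v hv) with h | h | h | h
  · exfalso
    apply hv1
    have e : v = g⁻¹ * (g * v * g⁻¹) * g := by group
    rw [e, h]; group
  · exfalso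
    apply hvi
    have e : v = g⁻¹ * (g * v * g⁻¹) * g := by group
    rw [e, h, mul_assoc, ← hgi]; group
  · left
    rw [mul_inv_eq_iff_eq_mul] at h
    rw [Subgroup.mem_centralizer_iff]
    intro x hx
    rcases mem_four' hE hV hi hv hi1 hv1 hvi hx with rfl | rfl | rfl | rfl
    · group
    · exact hgi.symm
    · exact h.symm
    · rw [mul_assoc, ← h, ← mul_assoc, ← hgi, mul_assoc]
  · right; exact h

/-- `y` inverting `h` does not centralise `V`. -/
theorem notMem_cent [Finite G] (L : Loc t h V)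
    (h3 : ¬ 3 ∣ Nat.card (Subgroup.centralizer (V : Set G))) {y : G} (hyh : y * h * y⁻¹ = h⁻¹) :
    y ∉ Subgroup.centralizer (V : Set G) :=
  notMem_of_inv L h3 (fun _ hx => cent_conj L.hV hx) hyh

/-- the subgroup `P⟨y⟩`, `y² ∈ P` -/
def ext (P : Subgroup G) (y : G) (hyP : ∀ x ∈ P, y * x * y⁻¹ ∈ P)
    (hyP' : ∀ x ∈ P, y⁻¹ * x * y ∈ P) (hy2 : y * y ∈ P) : Subgroup G where
  carrier := {x | x ∈ P ∨ y⁻¹ * x ∈ P}
  one_mem' := Or.inl P.one_mem
  mul_mem' := by
    rintro a b (ha | ha) (hb | hb)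
    · exact Or.inl (P.mul_mem ha hb)
    · right
      have e : y⁻¹ * (a * b) = (y⁻¹ * a * y) * (y⁻¹ * b) := by group
      rw [e]; exact P.mul_mem (hyP' a ha) hb
    · right
      have e : y⁻¹ * (a * b) = (y⁻¹ * a) * b := by group
      rw [e]; exact P.mul_mem ha hb
    · left
      have e : a * b = y * (y⁻¹ * a) * y⁻¹ * ((y * y) * (y⁻¹ * b)) := by group
      rw [e]; exact P.mul_mem (hyP _ ha) (P.mul_mem hy2 hb)
  inv_mem' := by
    rintro a (ha | ha)
    · exact Or.inl (P.inv_mem ha)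
    · right
      have e : y⁻¹ * a⁻¹ = (y * y)⁻¹ * (y * (y⁻¹ * a)⁻¹ * y⁻¹) := by group
      rw [e]
      exact P.mul_mem (P.inv_mem hy2) (hyP _ (P.inv_mem ha))

theorem mem_ext {P : Subgroup G} {y : G} {hyP : ∀ x ∈ P, y * x * y⁻¹ ∈ P}
    {hyP' : ∀ x ∈ P, y⁻¹ * x * y ∈ P} {hy2 : y * y ∈ P} {x : G} :
    x ∈ ext P y hyP hyP' hy2 ↔ x ∈ P ∨ y⁻¹ * x ∈ P := Iff.rfl

theorem isPGroup_ext {P : Subgroup G} (hP : IsPGroup 2 P) {y : G} {hyP : ∀ x ∈ P, y * x * y⁻¹ ∈ P}
    {hyP' : ∀ x ∈ P, y⁻¹ * x * y ∈ P} {hy2 : y * y ∈ P} : IsPGroup 2 (ext P y hyP hyP' hy2) := by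
  rintro ⟨x, hx⟩
  have h1 : x * x ∈ P := by
    rcases hx with hx | hx
    · exact P.mul_mem hx hx
    · have e : x * x = y * (y⁻¹ * x) * y⁻¹ * ((y * y) * (y⁻¹ * x)) := by group
      rw [e]; exact P.mul_mem (hyP _ hx) (P.mul_mem hy2 hx)
  obtain ⟨k, hk⟩ := hP ⟨x * x, h1⟩
  refine ⟨k + 1, Subtype.ext ?_⟩
  have hk' : (x * x) ^ 2 ^ k = 1 := congrArg Subtype.val hk
  show x ^ 2 ^ (k + 1) = 1
  rw [pow_succ, mul_comm, pow_mul, pow_two, hk']

/-- (0.8) -/
theorem syl_ext [Finite G] (L : Loc t h V)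
    (h3 : ¬ 3 ∣ Nat.card (Subgroup.centralizer (V : Set G))) (D : PData t h V P F) {y : G}
    (hyV : ∀ v ∈ V, y * v * y⁻¹ ∈ V) (hyh : y * h * y⁻¹ = h⁻¹) {hyP : ∀ x ∈ P, y * x * y⁻¹ ∈ P}
    {hyP' : ∀ x ∈ P, y⁻¹ * x * y ∈ P} {hy2 : y * y ∈ P} :
    IsSyl2 (Subgroup.normalizer (V : Set G)) (ext P y hyP hyP' hy2) := by
  have hPle : P ≤ ext P y hyP hyP' hy2 := fun x hx => Or.inl hx
  have hym : y ∈ ext P y hyP hyP' hy2 := Or.inr (by rw [inv_mul_cancel]; exact P.one_mem)
  have mem_norm : ∀ g : G, (∀ x ∈ V, g * x * g⁻¹ ∈ V) → g ∈ Subgroup.normalizer (V : Set G) := by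
    intro g hg
    rw [Subgroup.mem_normalizer_iff]
    intro x
    refine ⟨fun hx => hg x hx, fun hx => ?_⟩
    have := conj_inv_mem hg _ hx
    have e : g⁻¹ * (g * x * g⁻¹) * g = x := by group
    rwa [e] at this
  have hPn : P ≤ Subgroup.normalizer (V : Set G) := D.syl.le.trans (by
    intro g hg
    apply mem_norm
    intro x hx
    have := Subgroup.mem_centralizer_iff.mp hg x hx
    rw [← this, mul_inv_cancel_right]
    exact hx)
  refine ⟨?_, isPGroup_ext D.syl.two, fun Y hY hY2 hle => ?_⟩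
  · rintro x (hx | hx)
    · exact hPn hx
    · have e : x = y * (y⁻¹ * x) := by group
      rw [e]
      exact Subgroup.mul_mem _ (mem_norm y hyV) (hPn hx)
  · have hYV : ∀ g ∈ Y, ∀ v ∈ V, g * v * g⁻¹ ∈ V := fun g hg v hv =>
      (Subgroup.mem_normalizer_iff.mp (hY hg) v).mp hv
    obtain ⟨i, hi, hi1, hic⟩ := exists_fixed hY2 L.card_V hYV
    obtain ⟨v, hv, hv1, hvi⟩ : ∃ v ∈ V, v ≠ 1 ∧ v ≠ i := by
      by_contra hno
      push Not at hno
      have h4 : (V : Set G) ⊆ {1, i} := by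
        intro x hx
        by_cases hx1 : x = 1
        · left; exact hx1
        · right; exact hno x hx hx1
      have h5 : (V : Set G).ncard ≤ 2 := (Set.ncard_le_ncard h4 (Set.toFinite _)).trans
        (Set.ncard_insert_le _ _ |>.trans (by rw [Set.ncard_singleton]))
      have h6 : (V : Set G).ncard = Nat.card V := by rw [← Nat.card_coe_set_eq]; rfl
      rw [h6, L.card_V] at h5
      omega
    have hYP : Y ⊓ Subgroup.centralizer (V : Set G) = P :=
      D.syl.max _ inf_le_right (hY2.to_le inf_le_left) (le_inf (hPle.trans hle) D.syl.le)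
    have hyY : y ∈ Y := hle hym
    have hyv : y * v * y⁻¹ = i * v := by
      rcases act_cases L.elem L.card_V hi hv hi1 hv1 hvi hyV (hic y hyY) with h | h
      · exact absurd h (notMem_cent L h3 hyh)
      · exact h
    apply le_antisymm _ hle
    intro z hz
    rcases act_cases L.elem L.card_V hi hv hi1 hv1 hvi (hYV z hz) (hic z hz) with h | h
    · left
      rw [← hYP]; exact ⟨hz, h⟩
    · right
      rw [← hYP]
      have hw : y⁻¹ * z ∈ Y := Y.mul_mem (Y.inv_mem hyY) hz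
      refine ⟨hw, ?_⟩
      rcases act_cases L.elem L.card_V hi hv hi1 hv1 hvi (hYV _ hw) (hic _ hw) with h' | h'
      · exact h'
      · exfalso
        have e : y⁻¹ * z * v * (y⁻¹ * z)⁻¹ = v := by
          calc y⁻¹ * z * v * (y⁻¹ * z)⁻¹ = y⁻¹ * (z * v * z⁻¹) * y := by group
            _ = y⁻¹ * (y * v * y⁻¹) * y := by rw [h, hyv]
            _ = v := by group
        rw [e] at h'
        exact hi1 (mul_eq_right.mp h'.symm)

theorem fourData_of [Finite G] (L : Loc t h V)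
    (h3 : ¬ 3 ∣ Nat.card (Subgroup.centralizer (V : Set G))) (D : PData t h V P F) {y : G}
    (hyV : ∀ v ∈ V, y * v * y⁻¹ ∈ V) (hyt : t * y = y * t) (hyh : y * h * y⁻¹ = h⁻¹)
    (hy2 : y * y = 1 ∨ y * y = t) : ∃ T₄, FourData t h y V P F T₄ := by
  have hyP := y_norm L h3 D hyV hyt hyh
  have hyP' := conj_inv_mem hyP
  have hy2P : y * y ∈ P := by
    rcases hy2 with h | h
    · rw [h]; exact P.one_mem
    · rw [h]; exact t_mem D
  refine ⟨ext P y hyP hyP' hy2P, { D with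
    yP := hyP
    yF := conj_F L D hyP hyh
    syl₄ := syl_ext L h3 D hyV hyh
    mem₄ := ?_ }⟩
  intro x
  rw [mem_ext, D.mem, D.mem]
  constructor
  · rintro (⟨f, hf, h1 | h1⟩ | ⟨f, hf, h1 | h1⟩)
    · exact ⟨f, hf, Or.inl h1⟩
    · exact ⟨f, hf, Or.inr (Or.inl h1)⟩
    · refine ⟨f, hf, Or.inr (Or.inr (Or.inl ?_))⟩
      rw [← h1, mul_inv_cancel_left]
    · refine ⟨f, hf, Or.inr (Or.inr (Or.inr ?_))⟩
      rw [hyt, mul_assoc, ← h1, mul_inv_cancel_left]
  · rintro ⟨f, hf, h1 | h1 | h1 | h1⟩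
    · exact Or.inl ⟨f, hf, Or.inl h1⟩
    · exact Or.inl ⟨f, hf, Or.inr h1⟩
    · refine Or.inr ⟨f, hf, Or.inl ?_⟩
      rw [h1, inv_mul_cancel_left]
    · refine Or.inr ⟨f, hf, Or.inr ?_⟩
      rw [h1, hyt, mul_assoc, inv_mul_cancel_left]

theorem mem_norm [Finite G] {A : Subgroup G} {g : G} (hg : ∀ x ∈ A, g * x * g⁻¹ ∈ A) :
    g ∈ Subgroup.normalizer (A : Set G) := by
  rw [Subgroup.mem_normalizer_iff]
  intro x
  refine ⟨fun hx => hg x hx, fun hx => ?_⟩
  have := conj_inv_mem hg _ hx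
  have e : g⁻¹ * (g * x * g⁻¹) * g = x := by group
  rwa [e] at this

theorem of_mem_norm {A : Subgroup G} {g : G} (hg : g ∈ Subgroup.normalizer (A : Set G)) :
    ∀ x ∈ A, g * x * g⁻¹ ∈ A := fun x hx => (Subgroup.mem_normalizer_iff.mp hg x).mp hx

theorem cent_le_norm [Finite G] {A : Subgroup G} :
    Subgroup.centralizer (A : Set G) ≤ Subgroup.normalizer (A : Set G) := by
  intro g hg
  apply mem_norm
  intro x hx
  have := Subgroup.mem_centralizer_iff.mp hg x hx
  rw [← this, mul_inv_cancel_right]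
  exact hx

/-- Type (I, `d = 2`): `P` is a Sylow 2-subgroup of `N_G(V)`. -/
theorem syl_of_typeN' [Finite G] (L : Loc t h V)
    (h3 : ¬ 3 ∣ Nat.card (Subgroup.centralizer (V : Set G))) (hN : TypeN t h V)
    (D : PData t h V P F) : IsSyl2 (Subgroup.normalizer (V : Set G)) P := by
  refine ⟨D.syl.le.trans cent_le_norm, D.syl.two, fun Y hY hY2 hle => ?_⟩
  have hYV : ∀ g ∈ Y, ∀ v ∈ V, g * v * g⁻¹ ∈ V := fun g hg => of_mem_norm (hY hg)
  have hYP : Y ⊓ Subgroup.centralizer (V : Set G) = P :=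
    D.syl.max _ inf_le_right (hY2.to_le inf_le_left) (le_inf hle D.syl.le)
  obtain ⟨i, hi, hi1, hic⟩ := exists_fixed hY2 L.card_V hYV
  -- `h : i → v → iv → i`
  obtain ⟨v, hv⟩ : ∃ v, v = h * i * h⁻¹ := ⟨_, rfl⟩
  have hvV : v ∈ V := by rw [hv]; exact L.hV i hi
  have hvi : v ≠ i := by
    intro h1
    apply hi1
    apply L.fpfV i hi
    rw [h1] at hv
    rw [eq_mul_inv_iff_mul_eq] at hv
    exact hv.symm
  have hv1 : v ≠ 1 := by
    intro h1
    apply hi1
    rw [h1] at hv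
    have e : i = h⁻¹ * (h * i * h⁻¹) * h := by group
    rw [e, ← hv]; group
  have hhv : h * v * h⁻¹ = i * v := by
    rcases mem_four' L.elem L.card_V hi hvV hi1 hv1 hvi (L.hV v hvV) with h1 | h1 | h1 | h1
    · exfalso
      apply hv1
      have e : v = h⁻¹ * (h * v * h⁻¹) * h := by group
      rw [e, h1]; group
    · exfalso
      -- `h²` fixes `i`
      apply hi1
      apply L.fpfV i hi
      have h2 : h * h * i * (h * h)⁻¹ = i := by
        calc h * h * i * (h * h)⁻¹ = h * (h * i * h⁻¹) * h⁻¹ := by group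
          _ = i := by rw [← hv, h1]
      rw [← h_inv L, inv_inv] at h2
      calc h * i = h * (h⁻¹ * i * h) := by rw [h2]
        _ = i * h := by group
    · exfalso
      apply hv1
      apply L.fpfV v hvV
      rwa [mul_inv_eq_iff_eq_mul] at h1
    · exact h1
  have hii : i * i = 1 := L.elem i hi
  have hvv : v * v = 1 := L.elem v hvV
  have hcom : i * v = v * i := L.elem.comm hi hvV
  apply le_antisymm _ hle
  intro z hz
  rcases act_cases L.elem L.card_V hi hvV hi1 hv1 hvi (hYV z hz) (hic z hz) with h | hzv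
  · rw [← hYP]; exact ⟨hz, h⟩
  exfalso
  have hzi : z * i * z⁻¹ = i := by rw [hic z hz]; group
  have hziv : z * (i * v) * z⁻¹ = v := by
    calc z * (i * v) * z⁻¹ = (z * i * z⁻¹) * (z * v * z⁻¹) := by group
      _ = i * (i * v) := by rw [hzi, hzv]
      _ = v := by rw [← mul_assoc, hii, one_mul]
  have hzv' : z⁻¹ * v * z = i * v := by
    calc z⁻¹ * v * z = z⁻¹ * (z * (i * v) * z⁻¹) * z := by rw [hziv]
      _ = _ := by group
  have hziv' : z⁻¹ * (i * v) * z = v := by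
    calc z⁻¹ * (i * v) * z = z⁻¹ * (z * v * z⁻¹) * z := by rw [hzv]
      _ = _ := by group
  have hhiv : h * (i * v) * h⁻¹ = i := by
    calc h * (i * v) * h⁻¹ = (h * i * h⁻¹) * (h * v * h⁻¹) := by group
      _ = v * (v * i) := by rw [← hv, hhv, hcom]
      _ = i := by rw [← mul_assoc, hvv, one_mul]
  -- `z h z⁻¹ h` centralises `V`
  set m := z * h * z⁻¹ * h with hm
  have hmi : m * i * m⁻¹ = i := by
    calc m * i * m⁻¹ = z * (h * (z⁻¹ * (h * i * h⁻¹) * z) * h⁻¹) * z⁻¹ := by rw [hm]; group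
      _ = i := by rw [← hv, hzv', hhiv, hzi]
  have hmv : m * v * m⁻¹ = v := by
    calc m * v * m⁻¹ = z * (h * (z⁻¹ * (h * v * h⁻¹) * z) * h⁻¹) * z⁻¹ := by rw [hm]; group
      _ = v := by rw [hhv, hziv', hhv, hziv]
  have hmV : m ∈ Subgroup.centralizer (V : Set G) := by
    rw [Subgroup.mem_centralizer_iff]
    intro x hx
    rw [mul_inv_eq_iff_eq_mul] at hmi hmv
    rcases mem_four' L.elem L.card_V hi hvV hi1 hv1 hvi hx with rfl | rfl | rfl | rfl
    · group
    · exact hmi.symm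
    · exact hmv.symm
    · rw [mul_assoc, ← hmv, ← mul_assoc, ← hmi, mul_assoc]
  -- `z` normalises `P`
  have hzP : ∀ x ∈ P, z * x * z⁻¹ ∈ P := by
    intro x hx
    rw [← hYP] at hx ⊢
    exact ⟨Y.mul_mem (Y.mul_mem hz hx.1) (Y.inv_mem hz), cent_conj (hYV z hz) hx.2⟩
  have hzPn := mem_norm hzP
  have hhPn := mem_norm D.hP
  let M : Subgroup G := Subgroup.centralizer (V : Set G) ⊓ Subgroup.normalizer (P : Set G)
  have hMh : ∀ x ∈ M, h⁻¹ * x * h⁻¹⁻¹ ∈ M := by
    intro x hx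
    rw [inv_inv]
    refine ⟨conj_inv_mem (fun v hv => cent_conj L.hV hv) x hx.1, ?_⟩
    exact Subgroup.mul_mem _ (Subgroup.mul_mem _ (Subgroup.inv_mem _ hhPn) hx.2) hhPn
  have hmM : m ∈ M := ⟨hmV, Subgroup.mul_mem _ (Subgroup.mul_mem _ (Subgroup.mul_mem _ hzPn hhPn)
    (Subgroup.inv_mem _ hzPn)) hhPn⟩
  have e3 : m * h⁻¹ = z * h * z⁻¹ := by rw [hm]; group
  have hm3 : m * h⁻¹ * (m * h⁻¹) * (m * h⁻¹) = 1 := by
    rw [e3]
    calc z * h * z⁻¹ * (z * h * z⁻¹) * (z * h * z⁻¹) = z * (h * h * h) * z⁻¹ := by group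
      _ = 1 := by rw [L.h_cube]; group
  have hi3 : h⁻¹ * h⁻¹ * h⁻¹ = 1 := by
    calc h⁻¹ * h⁻¹ * h⁻¹ = (h * h * h)⁻¹ := by group
      _ = 1 := by rw [L.h_cube, inv_one]
  obtain ⟨c, hc, hce⟩ := conj_of_mem hi3 hMh
    (not_three_of_le (inf_le_left : M ≤ Subgroup.centralizer (V : Set G)) h3) hmM hm3
  rw [e3] at hce
  have hgh : c * z * h * (c * z)⁻¹ = h⁻¹ := by
    calc c * z * h * (c * z)⁻¹ = c * (z * h * z⁻¹) * c⁻¹ := by group
      _ = h⁻¹ := hce
  have hgP : ∀ x ∈ P, c * z * x * (c * z)⁻¹ ∈ P := of_mem_norm (Subgroup.mul_mem _ hc.2 hzPn)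
  have hgV : ∀ v ∈ V, c * z * v * (c * z)⁻¹ ∈ V :=
    of_mem_norm (Subgroup.mul_mem _ (cent_le_norm hc.1) (hY hz))
  -- `g t g⁻¹ = t`
  set g := c * z with hg
  have h5 : h⁻¹ * (g * t * g⁻¹) = g * t * g⁻¹ * h⁻¹ := by
    rw [← hgh]
    calc g * h * g⁻¹ * (g * t * g⁻¹) = g * (h * t) * g⁻¹ := by group
      _ = g * (t * h) * g⁻¹ := by rw [L.ht]
      _ = _ := by group
  have h6 : h * (g * t * g⁻¹) = g * t * g⁻¹ * h := by
    calc h * (g * t * g⁻¹) = h * (g * t * g⁻¹ * h⁻¹) * h := by group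
      _ = h * (h⁻¹ * (g * t * g⁻¹)) * h := by rw [h5]
      _ = _ := by group
  rcases comm_iff L D (hgP t (t_mem D)) h6 with h7 | h7
  · apply L.t_ne
    have e : t = g⁻¹ * (g * t * g⁻¹) * g := by group
    rw [e, h7]; group
  · refine hN g ?_ hgV hgh
    rwa [mul_inv_eq_iff_eq_mul] at h7

end

end Cfsg.Agent.OddCyclic.B2Four
end

-- part: OddCyclic/B2Syl_mg
section
prune_inst 0x20120001001200000000020000190282000000000b8001912107020686dc0000020e20c8200c0358208004003400481300001000000000000000000b1801a0802092041040a00406000f803004400000000000000000000000000000041000000000000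
set_option linter.all false
open scoped Cfsg.Agent.FastGrp

-- part: OddCyclic/B2Start
section
/-!
# S0342, case B2: the start (0.1), abstract part (helper362)

`S` a Sylow 2-subgroup of `C_G(t)`.

* `Cen`: `Ω₁(Z(S)) = {1, t, z, tz}`, `z` a commutator of `S`, `t` not in `D ≥ S'`. Then `t` is not conjugate to `z`,
  and either `S` is Sylow in `G` and `t` is not conjugate to `tz`, or `t` is conjugate to `tz`.
* `DData`: `S = ⟨t⟩ × D` with `D` dihedral of order at least eight.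
-/

set_option autoImplicit false

namespace Cfsg.Agent.OddCyclic.B2Start

open Subgroup
open Cfsg.Agent.LieExceptional.CITDefs Cfsg.Agent.LieExceptional.CITBasic
open Cfsg.Agent.OddCyclic.CompStandard Cfsg.Agent.OddCyclic.B2Defs

variable {G : Type*} [Group G]

/-- Normaliser condition in a 2-group. -/
theorem exists_normalizing [Finite G] {T Y : Subgroup G} (hY : IsPGroup 2 Y) (hTY : T ≤ Y)
    (hne : Y ≠ T) : ∃ s ∈ Y, s ∉ T ∧ ∀ t ∈ T, s * t * s⁻¹ ∈ T := by
  have : Fact (Nat.Prime 2) := ⟨Nat.prime_two⟩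
  have hnil : Group.IsNilpotent Y := hY.isNilpotent
  have hlt : T.subgroupOf Y < ⊤ := by
    rw [lt_top_iff_ne_top, Ne, Subgroup.subgroupOf_eq_top]
    exact fun h => hne (le_antisymm h hTY)
  have h2 := Group.normalizerCondition_of_isNilpotent (T.subgroupOf Y) hlt
  obtain ⟨s, hs, hsT⟩ := SetLike.exists_of_lt h2
  refine ⟨s, s.2, fun h => hsT (Subgroup.mem_subgroupOf.2 h), fun t ht => ?_⟩
  have h3 := (Subgroup.mem_normalizer_iff.1 hs ⟨t, hTY ht⟩).1 (Subgroup.mem_subgroupOf.2 ht)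
  exact Subgroup.mem_subgroupOf.1 h3

/-- a nontrivial normal subgroup of a 2-group contains nontrivial central elements -/
theorem exists_central [Finite G] {S T : Subgroup G} (hT : IsPGroup 2 T) (hST : S ≤ T)
    (hn : ∀ x ∈ T, ∀ s ∈ S, x * s * x⁻¹ ∈ S) (hS : S ≠ ⊥) :
    ∃ u ∈ S, u ≠ 1 ∧ ∀ x ∈ T, x * u = u * x := by
  have : Fact (Nat.Prime 2) := ⟨Nat.prime_two⟩
  have hN : (S.subgroupOf T).Normal := ⟨fun s hs x => by
    rw [mem_subgroupOf] at hs ⊢
    exact hn _ x.2 _ hs⟩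
  have h1 : IsPGroup 2 (ConjAct T) := hT.of_equiv ConjAct.toConjAct
  have h2 : 2 ∣ Nat.card (S.subgroupOf T) := by
    rw [Nat.card_congr (Subgroup.subgroupOfEquivOfLe hST).toEquiv]
    obtain ⟨n, hn⟩ := (IsPGroup.iff_card.mp (hT.to_le hST))
    rcases Nat.eq_zero_or_pos n with rfl | hpos
    · rw [pow_zero, Subgroup.card_eq_one] at hn; exact absurd hn hS
    · rw [hn]; exact dvd_pow_self 2 hpos.ne'
  obtain ⟨u, hu, hu1⟩ := h1.exists_fixed_point_of_prime_dvd_card_of_fixed_point (S.subgroupOf T) h2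
    (a := 1) (fun g => smul_one g)
  refine ⟨u.1.1, mem_subgroupOf.mp u.2, ?_, ?_⟩
  · intro hc
    exact hu1 (Subtype.ext (Subtype.ext hc.symm))
  · intro x hx
    have h3 := hu (ConjAct.toConjAct ⟨x, hx⟩)
    have h4 : x * u.1.1 * x⁻¹ = u.1.1 := congrArg (fun y : S.subgroupOf T => (y.1.1 : G)) h3
    rwa [mul_inv_eq_iff_eq_mul] at h4

/-- Burnside: `S` Sylow in `C(t)` and `S ≤ C(z)`, `z` conjugate to `t`: conjugate in `N(S)`. -/
theorem burnside [Finite G] {t z g : G} {S : Subgroup G} (hS : IsSyl2 (centralizer ({t} : Set G)) S)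
    (hz : ∀ s ∈ S, s * z = z * s) (hg : g * z * g⁻¹ = t) :
    ∃ n : G, (∀ s ∈ S, n * s * n⁻¹ ∈ S) ∧ n * z * n⁻¹ = t := by
  have h1 : cj g S ≤ centralizer ({t} : Set G) := by
    intro x hx
    rw [mem_cj] at hx
    rw [mem_centralizer_singleton_iff]
    have h2 := hz _ hx
    calc x * t = g * ((g⁻¹ * x * g) * z) * g⁻¹ := by rw [← hg]; group
      _ = g * (z * (g⁻¹ * x * g)) * g⁻¹ := by rw [h2]
      _ = t * x := by rw [← hg]; group
  have h2 : IsPGroup 2 (cj g S) := hS.two.map _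
  obtain ⟨T, hT, hle⟩ := exists_isSyl2 _ _ h1 h2
  obtain ⟨m, hm, hTm⟩ := IsSyl2.conj hS hT
  have h3 : cj g S = T := by
    refine Subgroup.eq_of_le_of_card_ge hle ?_
    rw [hTm, card_cj]
    exact (card_cj m S).le
  have h4 : cj m S = cj g S := by rw [h3, hTm]; rfl
  refine ⟨m⁻¹ * g, ?_, ?_⟩
  · intro s hs
    have h5 : g * s * g⁻¹ ∈ cj m S := by rw [h4]; exact conj_mem_cj hs
    rw [mem_cj] at h5
    have e : m⁻¹ * g * s * (m⁻¹ * g)⁻¹ = m⁻¹ * (g * s * g⁻¹) * m := by group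
    rw [e]; exact h5
  · have h5 : m * t = t * m := mem_centralizer_singleton_iff.mp hm
    calc m⁻¹ * g * z * (m⁻¹ * g)⁻¹ = m⁻¹ * (g * z * g⁻¹) * m := by group
      _ = m⁻¹ * (t * m) := by rw [hg]; group
      _ = t := by rw [← h5]; group

/-- 2-elements normalising a Sylow 2-subgroup of `G` lie in it. -/
theorem mem_of_two_pow {S : Subgroup G} (hS : IsSyl2 ⊤ S) {y : G} {a : ℕ} (hy : y ^ 2 ^ a = 1)
    (hn : ∀ s ∈ S, y * s * y⁻¹ ∈ S) [Finite G] : y ∈ S := by
  have h5 : IsPGroup 2 (zpowers y) := by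
    refine IsPGroup.of_card (n := (orderOf y).factorization 2) ?_
    rw [Nat.card_zpowers]
    obtain ⟨j, -, hj⟩ := (Nat.dvd_prime_pow Nat.prime_two).mp (orderOf_dvd_of_pow_eq_one hy)
    rw [hj, Nat.Prime.factorization_pow Nat.prime_two, Finsupp.single_eq_same]
  have h6 := hS.max (zpowers y ⊔ S) le_top (h5.to_sup_of_normal_right' hS.two
    (zpowers_le.mpr (mem_normalizer_of_forall hn))) le_sup_right
  rw [← h6]
  exact mem_sup_left (mem_zpowers y)

/-- the centre of the Sylow 2-subgroup `S` of `C_G(t)` -/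
structure Cen (t z : G) (S D : Subgroup G) : Prop where
  syl : IsSyl2 (centralizer ({t} : Set G)) S
  t_mem : t ∈ S
  t_sq : t * t = 1
  t_notin : t ∉ D
  z_mem : z ∈ D
  z_ne : z ≠ 1
  z_sq : z * z = 1
  D_le : D ≤ S
  zS : ∀ s ∈ S, s * z = z * s
  comm : ∀ a ∈ S, ∀ b ∈ S, a * b * a⁻¹ * b⁻¹ ∈ D
  z_comm : ∃ a ∈ S, ∃ b ∈ S, a * b * a⁻¹ * b⁻¹ = z
  omega : ∀ u ∈ S, u * u = 1 → (∀ s ∈ S, s * u = u * s) → u = 1 ∨ u = t ∨ u = z ∨ u = t * z

namespace Cen

variable {t z : G} {S D : Subgroup G}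

theorem tS (h : Cen t z S D) : ∀ s ∈ S, s * t = t * s := fun _ hs =>
  mem_centralizer_singleton_iff.mp (h.syl.le hs)

theorem tz_notin (h : Cen t z S D) : t * z ∉ D := fun hc => h.t_notin (by
  have := D.mul_mem hc (D.inv_mem h.z_mem)
  rwa [mul_inv_cancel_right] at this)

theorem conj_back [Finite G] {S : Subgroup G} {n : G} (hn : ∀ s ∈ S, n * s * n⁻¹ ∈ S) :
    ∀ s ∈ S, n⁻¹ * s * n ∈ S := by
  have h1 := mem_normalizer_of_forall hn
  have h2 := (normalizer (S : Set G)).inv_mem h1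
  intro s hs
  have := forall_of_mem_normalizer h2 s hs
  rwa [inv_inv] at this

/-- central involutions of `S` are mapped to such by `N(S)` -/
theorem central [Finite G] {S : Subgroup G} {n u : G} (hn : ∀ s ∈ S, n * s * n⁻¹ ∈ S)
    (hc : ∀ s ∈ S, s * u = u * s) : ∀ s ∈ S, s * (n * u * n⁻¹) = (n * u * n⁻¹) * s := by
  intro s hs
  have h1 := hc _ (conj_back hn s hs)
  calc s * (n * u * n⁻¹) = n * ((n⁻¹ * s * n) * u) * n⁻¹ := by group
    _ = n * (u * (n⁻¹ * s * n)) * n⁻¹ := by rw [h1]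
    _ = (n * u * n⁻¹) * s := by group

theorem sq_conj {n u : G} (hu : u * u = 1) : (n * u * n⁻¹) * (n * u * n⁻¹) = 1 := by
  calc (n * u * n⁻¹) * (n * u * n⁻¹) = n * (u * u) * n⁻¹ := by group
    _ = 1 := by rw [hu]; group

theorem conj_ne {n u : G} (hu : u ≠ 1) : n * u * n⁻¹ ≠ 1 := fun hc => hu (by
  have : n * u = n := by rw [mul_inv_eq_one] at hc; exact hc
  exact mul_eq_left.mp this)

/-- `N(S)` fixes `z` -/
theorem fix [Finite G] (h : Cen t z S D) {n : G} (hn : ∀ s ∈ S, n * s * n⁻¹ ∈ S) :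
    n * z * n⁻¹ = z := by
  have hzS := h.D_le h.z_mem
  have h1 : n * z * n⁻¹ ∈ D := by
    obtain ⟨a, ha, b, hb, hab⟩ := h.z_comm
    rw [← hab]
    have e : n * (a * b * a⁻¹ * b⁻¹) * n⁻¹ =
      (n * a * n⁻¹) * (n * b * n⁻¹) * (n * a * n⁻¹)⁻¹ * (n * b * n⁻¹)⁻¹ := by group
    rw [e]
    exact h.comm _ (hn a ha) _ (hn b hb)
  rcases h.omega _ (hn z hzS) (sq_conj h.z_sq) (central hn h.zS) with h2 | h2 | h2 | h2
  · exact absurd h2 (conj_ne h.z_ne)
  · rw [h2] at h1; exact absurd h1 h.t_notin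
  · exact h2
  · rw [h2] at h1; exact absurd h1 h.tz_notin

/-- `t` is not conjugate to `z` -/
theorem not_conj [Finite G] (h : Cen t z S D) (g : G) : g * t * g⁻¹ ≠ z := by
  intro hg
  have hg' : g⁻¹ * z * g⁻¹⁻¹ = t := by rw [← hg]; group
  obtain ⟨n, hn, hnz⟩ := burnside h.syl h.zS hg'
  rw [h.fix hn] at hnz
  exact h.t_notin (hnz ▸ h.z_mem)

theorem t_ne (h : Cen t z S D) : t ≠ 1 := fun hc => h.t_notin (hc ▸ D.one_mem)

/-- if `S` is not a Sylow 2-subgroup of `G`, then `t` is conjugate to `tz` -/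
theorem exists_conj [Finite G] (h : Cen t z S D) (hs : ¬ IsSyl2 ⊤ S) :
    ∃ x : G, (∀ s ∈ S, x * s * x⁻¹ ∈ S) ∧ (∃ k : ℕ, x ^ 2 ^ k = 1) ∧ x * t * x⁻¹ = t * z := by
  obtain ⟨T, hT, hle⟩ := exists_isSyl2 ⊤ S le_top h.syl.two
  have hne : T ≠ S := fun hc => hs (hc ▸ hT)
  obtain ⟨x, hxT, hxS, hn⟩ := exists_normalizing hT.two hle hne
  refine ⟨x, hn, ?_, ?_⟩
  · obtain ⟨k, hk⟩ := hT.two ⟨x, hxT⟩
    exact ⟨k, congrArg Subtype.val hk⟩
  · have hxt : x * t * x⁻¹ ≠ t := by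
      intro hc
      have h1 : x ∈ centralizer ({t} : Set G) := by
        rw [mem_centralizer_singleton_iff]
        rw [mul_inv_eq_iff_eq_mul] at hc
        exact hc
      have h2 : T ⊓ centralizer ({t} : Set G) = S := h.syl.max _ inf_le_right
        (hT.two.to_le inf_le_left) (le_inf hle h.syl.le)
      exact hxS (h2 ▸ ⟨hxT, h1⟩)
    rcases h.omega _ (hn t h.t_mem) (sq_conj h.t_sq) (central hn h.tS) with h2 | h2 | h2 | h2
    · exact absurd h2 (conj_ne h.t_ne)
    · exact absurd h2 hxt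
    · exact absurd h2 (h.not_conj x)
    · exact h2

theorem tz_comm (h : Cen t z S D) : ∀ s ∈ S, s * (t * z) = (t * z) * s := by
  intro s hs
  calc s * (t * z) = (s * t) * z := by group
    _ = (t * s) * z := by rw [h.tS s hs]
    _ = t * (s * z) := by group
    _ = t * z * s := by rw [h.zS s hs]; group

/-- if `S` is a Sylow 2-subgroup of `G`, then `z` is not conjugate to `tz` -/
theorem not_conj_z [Finite G] (h : Cen t z S D) (hs : IsSyl2 ⊤ S) (g : G) : g * z * g⁻¹ ≠ t * z := by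
  intro hg
  have hg' : g⁻¹ * (t * z) * g⁻¹⁻¹ = z := by rw [← hg]; group
  have hsz : IsSyl2 (centralizer ({z} : Set G)) S :=
    ⟨fun s hs' => mem_centralizer_singleton_iff.mpr (h.zS s hs'), hs.two,
      fun Y _ h2 h3 => hs.max Y le_top h2 h3⟩
  obtain ⟨n, hn, hnz⟩ := burnside hsz h.tz_comm hg'
  have h1 := h.fix hn
  have h2 : t * z = z := by
    have e : t * z = n⁻¹ * (n * (t * z) * n⁻¹) * n := by group
    rw [hnz] at e
    rw [e]
    calc n⁻¹ * z * n = n⁻¹ * (n * z * n⁻¹) * n := by rw [h1]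
      _ = z := by group
  exact h.t_ne (mul_eq_right.mp h2)

/-- if `S` is a Sylow 2-subgroup of `G`, then `t` is not conjugate to `tz` -/
theorem not_conj_mul [Finite G] (h : Cen t z S D) (hs : IsSyl2 ⊤ S) (g : G) : g * t * g⁻¹ ≠ t * z := by
  intro hg
  have hg' : g⁻¹ * (t * z) * g⁻¹⁻¹ = t := by rw [← hg]; group
  obtain ⟨n, hn, hnz⟩ := burnside h.syl h.tz_comm hg'
  -- `n` swaps `t` and `tz`
  have h1 : n * t * n⁻¹ = t * z := by
    have h2 : n * (t * z) * n⁻¹ = (n * t * n⁻¹) * (n * z * n⁻¹) := by group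
    rw [hnz, h.fix hn] at h2
    calc n * t * n⁻¹ = (n * t * n⁻¹) * z * z := by rw [mul_assoc _ z z, h.z_sq, mul_one]
      _ = t * z := by rw [← h2]
  have h3 : n * n * t * (n * n)⁻¹ = t := by
    calc n * n * t * (n * n)⁻¹ = n * (n * t * n⁻¹) * n⁻¹ := by group
      _ = t := by rw [h1, hnz]
  -- an odd power of `n` is a 2-element of `N(S)`, so in `S`
  obtain ⟨a, m, hm, hnm⟩ := Nat.exists_eq_two_pow_mul_odd (n := orderOf n) (orderOf_pos n).ne'
  obtain ⟨l, rfl⟩ := hm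
  have h4 : n ^ (2 * l + 1) ∈ S := by
    have hx : (n ^ (2 * l + 1)) ^ 2 ^ a = 1 := by
      rw [← pow_mul, mul_comm, ← hnm, pow_orderOf_eq_one]
    exact mem_of_two_pow hs hx
      (forall_of_mem_normalizer (pow_mem (mem_normalizer_of_forall hn) _))
  have h5 : ∀ j : ℕ, (n * n) ^ j * t * ((n * n) ^ j)⁻¹ = t := by
    generalize n * n = m at h3
    intro j
    induction j with
    | zero => group
    | succ j ih =>
      have e : m ^ (j + 1) * t * (m ^ (j + 1))⁻¹ = m * (m ^ j * t * (m ^ j)⁻¹) * m⁻¹ := by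
        rw [pow_succ', mul_inv_rev]
        simp only [mul_assoc]
      rw [e, ih, h3]
  have h6 : n ^ (2 * l + 1) * t * (n ^ (2 * l + 1))⁻¹ = t * z := by
    rw [pow_succ', pow_mul, pow_two]
    calc n * (n * n) ^ l * t * (n * (n * n) ^ l)⁻¹
        = n * ((n * n) ^ l * t * ((n * n) ^ l)⁻¹) * n⁻¹ := by group
      _ = t * z := by rw [h5, h1]
  have h7 := h.tS _ h4
  rw [h7] at h6
  have h8 : t * z = t := by rw [← h6]; group
  exact h.z_ne (mul_eq_left.mp h8)

end Cen

/-! ### `S = ⟨t⟩ × D`, `D` dihedral -/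

/-- `S = ⟨t⟩ × D`, `D = ⟨c, b⟩` dihedral of order `2ⁿ ≥ 8`, Sylow in `C_G(t)` -/
structure DData (t c b : G) (n : ℕ) (S D : Subgroup G) : Prop where
  t_sq : t * t = 1
  t_ne : t ≠ 1
  n_ge : 3 ≤ n
  c_ord : orderOf c = 2 ^ (n - 1)
  b_sq : b * b = 1
  b_ne : b ≠ 1
  bc : b * c * b⁻¹ = c⁻¹
  D_eq : ∀ g : G, g ∈ D ↔ ∃ k : ℕ, g = c ^ k ∨ g = c ^ k * b
  b_notin : ∀ k : ℕ, b ≠ c ^ k
  tD : ∀ d ∈ D, t * d = d * t
  t_notin : t ∉ D
  S_eq : ∀ g : G, g ∈ S ↔ ∃ d ∈ D, g = d ∨ g = t * d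
  syl : IsSyl2 (centralizer ({t} : Set G)) S

namespace DData

variable {t c b : G} {n : ℕ} {S D : Subgroup G}

theorem c_mem (h : DData t c b n S D) : c ∈ D := (h.D_eq c).mpr ⟨1, Or.inl (pow_one c).symm⟩

theorem b_mem (h : DData t c b n S D) : b ∈ D := (h.D_eq b).mpr ⟨0, Or.inr (by rw [pow_zero, one_mul])⟩

theorem D_le (h : DData t c b n S D) : D ≤ S := fun d hd => (h.S_eq d).mpr ⟨d, hd, Or.inl rfl⟩

theorem t_mem (h : DData t c b n S D) : t ∈ S := (h.S_eq t).mpr ⟨1, D.one_mem, Or.inr (mul_one t).symm⟩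

/-- the central involution of `D` -/
abbrev z (c : G) (n : ℕ) : G := c ^ 2 ^ (n - 2)

theorem z_sq (h : DData t c b n S D) : z c n * z c n = 1 := by
  have hn := h.n_ge
  rw [← pow_two, ← pow_mul, ← pow_succ, show n - 2 + 1 = n - 1 by omega, ← h.c_ord,
    pow_orderOf_eq_one]

theorem z_ne (h : DData t c b n S D) : z c n ≠ 1 := by
  intro hc
  have hn := h.n_ge
  have h1 := orderOf_dvd_of_pow_eq_one hc
  rw [h.c_ord] at h1
  have := (Nat.pow_dvd_pow_iff_le_right (show 1 < 2 by norm_num)).mp h1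
  omega

theorem z_mem (h : DData t c b n S D) : z c n ∈ D := D.pow_mem h.c_mem _

theorem b_inv (h : DData t c b n S D) : b⁻¹ = b := inv_eq_of_mul_eq_one_left h.b_sq

/-- `b` inverts the powers of `c` -/
theorem b_pow (h : DData t c b n S D) (k : ℕ) : b * c ^ k = (c ^ k)⁻¹ * b := by
  have h1 : b * c ^ k * b⁻¹ = (c ^ k)⁻¹ := by
    rw [← conj_pow, h.bc, inv_pow]
  rw [← h1]; group

/-- powers of `c` with square `1` -/
theorem pow_sq (h : DData t c b n S D) {k : ℕ} (hk : c ^ k * c ^ k = 1) :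
    c ^ k = 1 ∨ c ^ k = z c n := by
  have hn := h.n_ge
  rw [← pow_add] at hk
  have h1 := orderOf_dvd_of_pow_eq_one hk
  rw [h.c_ord, show n - 1 = n - 2 + 1 by omega, pow_succ', ← two_mul] at h1
  obtain ⟨m, rfl⟩ := Nat.dvd_of_mul_dvd_mul_left (by norm_num) h1
  rw [pow_mul]
  have h2 : z c n ^ 2 = 1 := by rw [pow_two]; exact h.z_sq
  rcases Nat.even_or_odd' m with ⟨l, rfl | rfl⟩
  · left; rw [pow_mul, h2, one_pow]
  · right; rw [pow_succ, pow_mul, h2, one_pow, one_mul]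

theorem c_sq_ne (h : DData t c b n S D) : c * c ≠ 1 := by
  intro hc
  have hn := h.n_ge
  rw [← pow_two] at hc
  have h1 := orderOf_dvd_of_pow_eq_one hc
  rw [h.c_ord] at h1
  have h2 : 2 ^ 2 ∣ 2 ^ (n - 1) := Nat.pow_dvd_pow 2 (by omega)
  have := Nat.le_of_dvd (by norm_num) (h2.trans h1)
  omega

/-- `z` is central in `D` -/
theorem z_comm (h : DData t c b n S D) : ∀ d ∈ D, d * z c n = z c n * d := by
  intro d hd
  have hb : b * z c n = z c n * b := by
    rw [h.b_pow]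
    congr 1
    exact inv_eq_of_mul_eq_one_left h.z_sq
  obtain ⟨k, rfl | rfl⟩ := (h.D_eq d).mp hd
  · exact ((Commute.refl c).pow_pow _ _).eq
  · have h1 : c ^ k * z c n = z c n * c ^ k := ((Commute.refl c).pow_pow _ _).eq
    rw [mul_assoc, hb, ← mul_assoc, h1, mul_assoc]

/-- elements of `D` commuting with `b` -/
theorem of_comm_b (h : DData t c b n S D) {d : G} (hd : d ∈ D) (hb : d * b = b * d) :
    d = 1 ∨ d = z c n ∨ d = b ∨ d = z c n * b := by
  have key : ∀ k : ℕ, c ^ k * b = b * c ^ k → c ^ k = 1 ∨ c ^ k = z c n := by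
    intro k hk
    refine h.pow_sq ?_
    rw [h.b_pow, mul_left_inj] at hk
    nth_rewrite 1 [hk]
    exact inv_mul_cancel _
  obtain ⟨k, rfl | rfl⟩ := (h.D_eq d).mp hd
  · rcases key k hb with h1 | h1
    · exact Or.inl h1
    · exact Or.inr (Or.inl h1)
  · have h1 : c ^ k * b = b * c ^ k := by
      have : c ^ k * b * b = b * c ^ k * b := by rw [hb, mul_assoc]
      exact mul_right_cancel this
    rcases key k h1 with h2 | h2
    · right; right; left; rw [h2, one_mul]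
    · right; right; right; rw [h2]

/-- the centre of `D` -/
theorem center (h : DData t c b n S D) {d : G} (hd : d ∈ D) (hc : d * c = c * d)
    (hb : d * b = b * d) : d = 1 ∨ d = z c n := by
  have key : ∀ k : ℕ, (c ^ k * b) * c ≠ c * (c ^ k * b) := by
    intro k hk
    have h1 : c ^ k * b * c = c ^ k * c⁻¹ * b := by
      have := h.b_pow 1
      rw [pow_one] at this
      rw [mul_assoc, this]; group
    rw [h1] at hk
    have h2 : c * (c ^ k * b) = c ^ k * c * b := by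
      rw [← mul_assoc, (Commute.self_pow c k).eq]
    rw [h2, mul_left_inj, mul_right_inj] at hk
    apply h.c_sq_ne
    nth_rewrite 1 [← hk]
    exact inv_mul_cancel c
  rcases h.of_comm_b hd hb with h1 | h1 | h1 | h1
  · exact Or.inl h1
  · exact Or.inr h1
  · exfalso
    apply key 0
    rw [pow_zero, one_mul, ← h1, hc]
  · exfalso
    exact key _ (by rw [← h1, hc])

theorem cen (h : DData t c b n S D) : Cen t (z c n) S D where
  syl := h.syl
  t_mem := h.t_mem
  t_sq := h.t_sq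
  t_notin := h.t_notin
  z_mem := h.z_mem
  z_ne := h.z_ne
  z_sq := h.z_sq
  D_le := h.D_le
  zS := by
    intro s hs
    obtain ⟨d, hd, rfl | rfl⟩ := (h.S_eq s).mp hs
    · exact h.z_comm _ hd
    · rw [mul_assoc, h.z_comm _ hd, ← mul_assoc, h.tD _ h.z_mem, mul_assoc]
  comm := by
    have h1 : ∀ a ∈ S, ∃ d ∈ D, (∀ e ∈ D, a * e * a⁻¹ = d * e * d⁻¹) ∧
        (∀ e : G, e * t = t * e → e * a * e⁻¹ * a⁻¹ = e * d * e⁻¹ * d⁻¹) := by
      intro a ha
      obtain ⟨d, hd, rfl | rfl⟩ := (h.S_eq a).mp ha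
      · exact ⟨_, hd, fun e _ => rfl, fun e _ => rfl⟩
      · refine ⟨d, hd, fun e he => ?_, fun e he => ?_⟩
        · have h2 := h.tD _ (D.mul_mem (D.mul_mem hd he) (D.inv_mem hd))
          calc t * d * e * (t * d)⁻¹ = (t * (d * e * d⁻¹)) * t⁻¹ := by group
            _ = d * e * d⁻¹ := by rw [h2]; group
        · calc e * (t * d) * e⁻¹ * (t * d)⁻¹ = (e * t) * d * e⁻¹ * d⁻¹ * t⁻¹ := by group
            _ = t * (e * d * e⁻¹ * d⁻¹) * t⁻¹ := by rw [he]; group
            _ = e * d * e⁻¹ * d⁻¹ := by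
              have h2 := h.tD _ hd
              have h3 : t * (e * d * e⁻¹ * d⁻¹) = (e * d * e⁻¹ * d⁻¹) * t := by
                have c1 : Commute t e := he.symm
                have c2 : Commute t d := h2
                exact (((c1.mul_right c2).mul_right c1.inv_right).mul_right c2.inv_right).eq
              rw [h3]; group
    intro a ha a' ha'
    obtain ⟨d, hd, h2, -⟩ := h1 a ha
    obtain ⟨d', hd', -, h3⟩ := h1 a' ha'
    have hat : a * t = t * a := mem_centralizer_singleton_iff.mp (h.syl.le ha)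
    rw [h3 a hat, h2 d' hd']
    exact D.mul_mem (D.mul_mem (D.mul_mem hd hd') (D.inv_mem hd)) (D.inv_mem hd')
  z_comm := by
    have hn := h.n_ge
    refine ⟨c ^ 2 ^ (n - 3), h.D_le (D.pow_mem h.c_mem _), b, h.D_le h.b_mem, ?_⟩
    have h1 : b * (c ^ 2 ^ (n - 3))⁻¹ = c ^ 2 ^ (n - 3) * b := by
      have h2 := h.b_pow (2 ^ (n - 3))
      calc b * (c ^ 2 ^ (n - 3))⁻¹ = b * (((c ^ 2 ^ (n - 3))⁻¹ * b) * b⁻¹) := by group
        _ = b * (b * c ^ 2 ^ (n - 3) * b) := by rw [← h2, h.b_inv]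
        _ = (b * b) * c ^ 2 ^ (n - 3) * b := by group
        _ = _ := by rw [h.b_sq, one_mul]
    calc c ^ 2 ^ (n - 3) * b * (c ^ 2 ^ (n - 3))⁻¹ * b⁻¹
        = c ^ 2 ^ (n - 3) * (b * (c ^ 2 ^ (n - 3))⁻¹) * b⁻¹ := by group
      _ = c ^ 2 ^ (n - 3) * c ^ 2 ^ (n - 3) := by rw [h1]; group
      _ = z c n := by
        rw [← pow_add]
        congr 1
        rw [show n - 2 = n - 3 + 1 by omega, pow_succ]
        ring
  omega := by
    intro u hu huu hc
    have huc := hc c (h.D_le h.c_mem)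
    have hub := hc b (h.D_le h.b_mem)
    obtain ⟨d, hd, rfl | rfl⟩ := (h.S_eq u).mp hu
    · rcases h.center hd huc.symm hub.symm with h1 | h1
      · exact Or.inl h1
      · exact Or.inr (Or.inr (Or.inl h1))
    · have e1 : ∀ x : G, x ∈ D → x * (t * d) = (t * d) * x → d * x = x * d := by
        intro x hx he
        have h2 := h.tD _ hx
        have h3 : t * (x * d) = t * (d * x) := by
          calc t * (x * d) = (t * x) * d := by group
            _ = x * (t * d) := by rw [h2]; group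
            _ = t * (d * x) := by rw [he]; group
        exact (mul_left_cancel h3).symm
      rcases h.center hd (e1 c h.c_mem huc) (e1 b h.b_mem hub) with h1 | h1
      · right; left; rw [h1, mul_one]
      · right; right; right; rw [h1]

/-- the other class: `cb` in place of `b` -/
theorem swapb (h : DData t c b n S D) : DData t c (c * b) n S D where
  t_sq := h.t_sq
  t_ne := h.t_ne
  n_ge := h.n_ge
  c_ord := h.c_ord
  b_sq := by
    have h1 := h.b_pow 1
    rw [pow_one] at h1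
    calc c * b * (c * b) = c * (b * c) * b := by group
      _ = (c * c⁻¹) * (b * b) := by rw [h1]; group
      _ = 1 := by rw [h.b_sq, mul_one, mul_inv_cancel]
  b_ne := by
    intro hc
    have h1 : b = c ^ (orderOf c - 1) := by
      have h2 : b = c⁻¹ := (inv_eq_of_mul_eq_one_right hc).symm
      rw [h2]
      refine inv_eq_of_mul_eq_one_left ?_
      rw [← pow_succ, Nat.sub_add_cancel, pow_orderOf_eq_one]
      rw [h.c_ord]; exact Nat.one_le_two_pow
    exact h.b_notin _ h1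
  bc := by
    calc c * b * c * (c * b)⁻¹ = c * (b * c * b⁻¹) * c⁻¹ := by group
      _ = c⁻¹ := by rw [h.bc]; group
  D_eq := by
    intro g
    rw [h.D_eq]
    have hone : 1 ≤ orderOf c := by rw [h.c_ord]; exact Nat.one_le_two_pow
    constructor
    · rintro ⟨k, rfl | rfl⟩
      · exact ⟨k, Or.inl rfl⟩
      · refine ⟨k + (orderOf c - 1), Or.inr ?_⟩
        rw [pow_add, mul_assoc, ← mul_assoc (c ^ (orderOf c - 1)), ← pow_succ,
          Nat.sub_add_cancel hone, pow_orderOf_eq_one, one_mul]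
    · rintro ⟨k, rfl | rfl⟩
      · exact ⟨k, Or.inl rfl⟩
      · exact ⟨k + 1, Or.inr (by rw [pow_succ]; group)⟩
  b_notin := by
    intro k hc
    have hone : 1 ≤ orderOf c := by rw [h.c_ord]; exact Nat.one_le_two_pow
    apply h.b_notin (orderOf c - 1 + k)
    rw [pow_add, ← hc, ← mul_assoc, ← pow_succ, Nat.sub_add_cancel hone, pow_orderOf_eq_one,
      one_mul]
  tD := h.tD
  t_notin := h.t_notin
  S_eq := h.S_eq
  syl := h.syl

/-- `c^(2j) b` is conjugate to `b` -/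
theorem conj_even (h : DData t c b n S D) (j : ℕ) : c ^ (2 * j) * b = c ^ j * b * (c ^ j)⁻¹ := by
  have h1 : b * (c ^ j)⁻¹ = c ^ j * b := by
    have h2 := h.b_pow j
    calc b * (c ^ j)⁻¹ = b * (((c ^ j)⁻¹ * b) * b⁻¹) := by group
      _ = b * (b * c ^ j * b) := by rw [← h2, h.b_inv]
      _ = (b * b) * c ^ j * b := by group
      _ = _ := by rw [h.b_sq, one_mul]
  rw [mul_assoc, h1, ← mul_assoc, ← pow_add, ← two_mul]

/-- involutions of `D` -/
theorem invol (h : DData t c b n S D) {d : G} (hd : d ∈ D) (hdd : d * d = 1) (hd1 : d ≠ 1) :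
    d = z c n ∨ (∃ j, d = c ^ j * b * (c ^ j)⁻¹) ∨ ∃ j, d = c ^ j * (c * b) * (c ^ j)⁻¹ := by
  obtain ⟨k, rfl | rfl⟩ := (h.D_eq d).mp hd
  · rcases h.pow_sq hdd with h1 | h1
    · exact absurd h1 hd1
    · exact Or.inl h1
  · rcases Nat.even_or_odd' k with ⟨j, rfl | rfl⟩
    · exact Or.inr (Or.inl ⟨j, h.conj_even j⟩)
    · refine Or.inr (Or.inr ⟨j, ?_⟩)
      rw [← h.swapb.conj_even j, pow_succ]; group

theorem relIndex (h : DData t c b n S D) [Finite G] : D.relIndex S = 2 := by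
  have h1 : S = D ⊔ zpowers t := by
    apply le_antisymm
    · intro s hs
      obtain ⟨d, hd, rfl | rfl⟩ := (h.S_eq s).mp hs
      · exact mem_sup_left hd
      · exact Subgroup.mul_mem _ (mem_sup_right (mem_zpowers t)) (mem_sup_left hd)
    · exact sup_le h.D_le (zpowers_le.mpr h.t_mem)
  rw [Subgroup.relIndex, Subgroup.index_eq_two_iff]
  refine ⟨⟨t, h.t_mem⟩, ?_⟩
  rintro ⟨s, hs⟩
  rw [Subgroup.mem_subgroupOf, Subgroup.mem_subgroupOf]
  show Xor (s * t ∈ D) (s ∈ D)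
  obtain ⟨d, hd, rfl | rfl⟩ := (h.S_eq s).mp hs
  · refine Or.inr ⟨hd, fun hc => h.t_notin ?_⟩
    have := D.mul_mem (D.inv_mem hd) hc
    rwa [inv_mul_cancel_left] at this
  · refine Or.inl ⟨?_, fun hc => h.t_notin ?_⟩
    · rw [h.tD d hd, mul_assoc, h.t_sq, mul_one]; exact hd
    · have := D.mul_mem hc (D.inv_mem hd)
      rwa [mul_inv_cancel_right] at this

/-- `t` is conjugate to `cb`, if `b` is conjugate to `z`, `S` Sylow in `G` -/
theorem conj_cb [Finite G] (h : DData t c b n S D) (hs : IsSyl2 ⊤ S) (hTT : TT t)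
    (hb : ∃ g : G, g * b * g⁻¹ = z c n) : ∃ g : G, g * t * g⁻¹ = c * b := by
  obtain ⟨g, hg⟩ := hTT S D hs h.D_le h.relIndex h.t_mem h.t_notin
  rcases h.invol hg (Cen.sq_conj h.t_sq) (Cen.conj_ne h.t_ne) with h1 | ⟨j, h1⟩ | ⟨j, h1⟩
  · exact absurd h1 (h.cen.not_conj g)
  · obtain ⟨x, hx⟩ := hb
    refine absurd ?_ (h.cen.not_conj (x * (c ^ j)⁻¹ * g))
    calc x * (c ^ j)⁻¹ * g * t * (x * (c ^ j)⁻¹ * g)⁻¹
        = x * (c ^ j)⁻¹ * (g * t * g⁻¹) * c ^ j * x⁻¹ := by group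
      _ = x * b * x⁻¹ := by rw [h1]; group
      _ = _ := hx
  · refine ⟨(c ^ j)⁻¹ * g, ?_⟩
    calc (c ^ j)⁻¹ * g * t * ((c ^ j)⁻¹ * g)⁻¹ = (c ^ j)⁻¹ * (g * t * g⁻¹) * c ^ j := by group
      _ = _ := by rw [h1]; group

end DData

/-- the dihedral subgroup generated by `c` and `b` -/
def dih (c b : G) (m : ℕ) (hm : c ^ m = 1) (hm0 : 0 < m) (hb : b * b = 1) (hbc : b * c * b⁻¹ = c⁻¹) :
    Subgroup G where
  carrier := {g | ∃ k : ℕ, g = c ^ k ∨ g = c ^ k * b}
  one_mem' := ⟨0, Or.inl (pow_zero c).symm⟩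
  mul_mem' := by
    have key : ∀ k : ℕ, b * c ^ k = c ^ (k * (m - 1)) * b := by
      intro k
      have h1 : b * c ^ k * b⁻¹ = (c⁻¹) ^ k := by rw [← conj_pow, hbc]
      have h2 : c⁻¹ = c ^ (m - 1) := by
        refine inv_eq_of_mul_eq_one_left ?_
        rw [← pow_succ, Nat.sub_add_cancel hm0, hm]
      rw [h2, ← pow_mul, mul_comm] at h1
      rw [← h1]; group
    rintro _ _ ⟨k, rfl | rfl⟩ ⟨l, rfl | rfl⟩
    · exact ⟨k + l, Or.inl (pow_add c k l).symm⟩
    · exact ⟨k + l, Or.inr (by rw [pow_add, mul_assoc])⟩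
    · exact ⟨k + l * (m - 1), Or.inr (by rw [pow_add, mul_assoc, key, mul_assoc])⟩
    · refine ⟨k + l * (m - 1), Or.inl ?_⟩
      calc c ^ k * b * (c ^ l * b) = c ^ k * (b * c ^ l) * b := by group
        _ = c ^ k * c ^ (l * (m - 1)) * (b * b) := by rw [key]; group
        _ = _ := by rw [hb, mul_one, pow_add]
  inv_mem' := by
    rintro _ ⟨k, rfl | rfl⟩
    · refine ⟨k * (m - 1), Or.inl ?_⟩
      refine inv_eq_of_mul_eq_one_left ?_
      rw [← pow_add, ← Nat.mul_succ, Nat.succ_eq_add_one, Nat.sub_add_cancel hm0, mul_comm, pow_mul, hm,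
        one_pow]
    · refine ⟨k, Or.inr ?_⟩
      have h1 : b * c ^ k * b⁻¹ = (c⁻¹) ^ k := by rw [← conj_pow, hbc]
      refine inv_eq_of_mul_eq_one_left ?_
      have hb' : b⁻¹ = b := inv_eq_of_mul_eq_one_left hb
      calc c ^ k * b * (c ^ k * b) = c ^ k * (b * c ^ k * b⁻¹) * (b * b) := by group
        _ = 1 := by rw [h1, hb, mul_one, inv_pow, mul_inv_cancel]

namespace DData

variable {t c b : G} {n : ℕ} {S D : Subgroup G}

theorem tc (h : DData t c b n S D) : Commute c t := (h.tD c h.c_mem).symm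

theorem t_pow_even (h : DData t c b n S D) (j : ℕ) : t ^ (2 * j) = 1 := by
  rw [pow_mul, pow_two, h.t_sq, one_pow]

theorem ct_even (h : DData t c b n S D) (j : ℕ) : (c * t) ^ (2 * j) = c ^ (2 * j) := by
  rw [h.tc.mul_pow, h.t_pow_even, mul_one]

theorem ct_odd (h : DData t c b n S D) (j : ℕ) : (c * t) ^ (2 * j + 1) = t * c ^ (2 * j + 1) := by
  rw [h.tc.mul_pow, pow_succ t, h.t_pow_even, one_mul, h.tD _ (D.pow_mem h.c_mem _)]

theorem ct_pow_one (h : DData t c b n S D) : (c * t) ^ 2 ^ (n - 1) = 1 := by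
  have hn := h.n_ge
  rw [show n - 1 = n - 2 + 1 by omega, pow_succ', h.ct_even, ← pow_succ',
    show n - 2 + 1 = n - 1 by omega, ← h.c_ord, pow_orderOf_eq_one]

theorem b_ct (h : DData t c b n S D) : b * (c * t) * b⁻¹ = (c * t)⁻¹ := by
  have h1 := h.tD b h.b_mem
  have ht : t⁻¹ = t := inv_eq_of_mul_eq_one_left h.t_sq
  have h3 : t * b⁻¹ = b⁻¹ * t := by rw [h.b_inv, h1]
  calc b * (c * t) * b⁻¹ = b * c * (t * b⁻¹) := by group
    _ = (b * c * b⁻¹) * t := by rw [h3]; group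
    _ = c⁻¹ * t⁻¹ := by rw [h.bc, ht]
    _ = (c * t)⁻¹ := by rw [h.tc.eq, mul_inv_rev]

/-- the twisted dihedral group `⟨ct, b⟩` -/
def tw (h : DData t c b n S D) : Subgroup G :=
  dih (c * t) b (2 ^ (n - 1)) h.ct_pow_one (by positivity) h.b_sq h.b_ct

theorem mem_tw (h : DData t c b n S D) {g : G} :
    g ∈ h.tw ↔ ∃ k : ℕ, g = (c * t) ^ k ∨ g = (c * t) ^ k * b := Iff.rfl

theorem twist (h : DData t c b n S D) : DData t (c * t) b n S h.tw where
  t_sq := h.t_sq
  t_ne := h.t_ne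
  n_ge := h.n_ge
  c_ord := by
    have hn := h.n_ge
    apply Nat.dvd_antisymm
    · exact orderOf_dvd_of_pow_eq_one h.ct_pow_one
    · rw [← h.c_ord]
      apply orderOf_dvd_of_pow_eq_one
      have h1 := pow_orderOf_eq_one (c * t)
      rcases Nat.even_or_odd' (orderOf (c * t)) with ⟨j, hj | hj⟩
      · rw [hj, h.ct_even] at h1
        rw [hj, h1]
      · rw [hj, h.ct_odd] at h1
        exfalso
        apply h.t_notin
        rw [eq_inv_of_mul_eq_one_left h1]
        exact D.inv_mem (D.pow_mem h.c_mem _)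
  b_sq := h.b_sq
  b_ne := h.b_ne
  bc := h.b_ct
  D_eq := fun g => h.mem_tw
  b_notin := by
    intro k hk
    rcases Nat.even_or_odd' k with ⟨j, rfl | rfl⟩
    · rw [h.ct_even] at hk
      exact h.b_notin _ hk
    · rw [h.ct_odd] at hk
      apply h.t_notin
      rw [eq_mul_inv_of_mul_eq hk.symm]
      exact D.mul_mem h.b_mem (D.inv_mem (D.pow_mem h.c_mem _))
  tD := by
    rintro _ ⟨k, rfl | rfl⟩
    · exact (h.tc.symm.mul_right (Commute.refl t)).pow_right k
    · exact ((h.tc.symm.mul_right (Commute.refl t)).pow_right k).mul_right (h.tD b h.b_mem)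
  t_notin := by
    rintro ⟨k, hk | hk⟩
    · rcases Nat.even_or_odd' k with ⟨j, rfl | rfl⟩
      · rw [h.ct_even] at hk
        exact h.t_notin (hk ▸ D.pow_mem h.c_mem _)
      · rw [h.ct_odd] at hk
        have h1 := orderOf_dvd_of_pow_eq_one (mul_eq_left.mp hk.symm)
        rw [h.c_ord] at h1
        have hn := h.n_ge
        have h2 : 2 ∣ 2 * j + 1 := (dvd_pow_self 2 (by omega)).trans h1
        omega
    · rcases Nat.even_or_odd' k with ⟨j, rfl | rfl⟩
      · rw [h.ct_even] at hk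
        exact h.t_notin (hk ▸ D.mul_mem (D.pow_mem h.c_mem _) h.b_mem)
      · rw [h.ct_odd, mul_assoc] at hk
        exact h.swapb.b_notin _ (by
          have h1 : c ^ (2 * j + 1) * b = 1 := mul_eq_left.mp hk.symm
          have h2 : c * b = (c ^ (2 * j))⁻¹ := by
            refine eq_inv_of_mul_eq_one_right ?_
            rw [← mul_assoc, ← pow_succ]; exact h1
          have h3 : (c ^ (2 * j))⁻¹ = c ^ ((2 * j) * (2 ^ (n - 1) - 1)) := by
            refine inv_eq_of_mul_eq_one_left ?_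
            rw [← pow_add, ← Nat.mul_succ, Nat.succ_eq_add_one, Nat.sub_add_cancel Nat.one_le_two_pow,
              mul_comm, pow_mul, ← h.c_ord, pow_orderOf_eq_one, one_pow]
          rw [h2, h3])
  S_eq := by
    have key : ∀ k : ℕ, (c * t) ^ k = c ^ k ∨ (c * t) ^ k = t * c ^ k := by
      intro k
      rcases Nat.even_or_odd' k with ⟨j, rfl | rfl⟩
      · exact Or.inl (h.ct_even j)
      · exact Or.inr (h.ct_odd j)
    have tt : ∀ x : G, t * (t * x) = x := fun x => by rw [← mul_assoc, h.t_sq, one_mul]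
    intro g
    rw [h.S_eq]
    constructor
    · rintro ⟨d, hd, hg⟩
      obtain ⟨k, rfl | rfl⟩ := (h.D_eq d).mp hd
      · refine ⟨(c * t) ^ k, ⟨k, Or.inl rfl⟩, ?_⟩
        rcases key k with h1 | h1 <;> rw [h1]
        · exact hg
        · rw [tt]; exact hg.symm
      · refine ⟨(c * t) ^ k * b, ⟨k, Or.inr rfl⟩, ?_⟩
        rcases key k with h1 | h1 <;> rw [h1]
        · exact hg
        · rw [mul_assoc, tt]; exact hg.symm
    · rintro ⟨d, ⟨k, hk⟩, hg⟩
      rcases hk with rfl | rfl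
      · refine ⟨c ^ k, D.pow_mem h.c_mem _, ?_⟩
        rcases key k with h1 | h1 <;> rw [h1] at hg
        · exact hg
        · rw [tt] at hg; exact hg.symm
      · refine ⟨c ^ k * b, D.mul_mem (D.pow_mem h.c_mem _) h.b_mem, ?_⟩
        rcases key k with h1 | h1 <;> rw [h1] at hg
        · exact hg
        · rw [mul_assoc, tt] at hg; exact hg.symm
  syl := h.syl

theorem z_twist (h : DData t c b n S D) : z (c * t) n = z c n := by
  have hn := h.n_ge
  show (c * t) ^ 2 ^ (n - 2) = c ^ 2 ^ (n - 2)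
  rw [show n - 2 = n - 3 + 1 by omega, pow_succ', h.ct_even]

theorem two_mul_card_le [Finite G] {H K : Subgroup G} (h : H ≤ K) {x : G} (hx : x ∈ K) (hxH : x ∉ H) :
    2 * Nat.card H ≤ Nat.card K := by
  obtain ⟨k, hk⟩ := Subgroup.card_dvd_of_le h
  have h0 : 0 < Nat.card K := Nat.card_pos
  have h1 : k ≠ 0 := by rintro rfl; rw [mul_zero] at hk; omega
  have h2 : k ≠ 1 := by
    rintro rfl
    rw [mul_one] at hk
    have := Subgroup.eq_of_le_of_card_ge h (by rw [hk])
    exact hxH (this ▸ hx)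
  rw [hk, mul_comm 2]
  exact Nat.mul_le_mul_left _ (by omega)

theorem shiftb (h : DData t c b n S D) (j : ℕ) : DData t c (c ^ j * b) n S D := by
  induction j with
  | zero => rw [pow_zero, one_mul]; exact h
  | succ j ih =>
    have := ih.swapb
    rwa [← mul_assoc, ← pow_succ'] at this

/-- the centraliser in `S` of `b` -/
theorem cent_b (h : DData t c b n S D) {q : G} (hq : q ∈ S) (hb : q * b = b * q) :
    q = 1 ∨ q = z c n ∨ q = b ∨ q = z c n * b ∨ q = t ∨ q = t * z c n ∨ q = t * b ∨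
      q = t * (z c n * b) := by
  obtain ⟨d, hd, rfl | rfl⟩ := (h.S_eq q).mp hq
  · rcases h.of_comm_b hd hb with h1 | h1 | h1 | h1 <;> simp only [h1, _root_.true_or, _root_.left_eq_mul, _root_.right_eq_mul, _root_.or_true, _root_.mul_eq_left, _root_.mul_eq_right, _root_.mul_left_inj]
  · have h2 : d * b = b * d := by
      have h3 := h.tD b h.b_mem
      have h4 : t * (d * b) = t * (b * d) := by
        calc t * (d * b) = t * d * b := by group
          _ = (b * t) * d := by rw [hb]; group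
          _ = t * (b * d) := by rw [← h3]; group
      exact mul_left_cancel h4
    rcases h.of_comm_b hd h2 with h1 | h1 | h1 | h1 <;> simp only [h1, _root_.mul_one, _root_.left_eq_mul, _root_.true_or, _root_.or_true, _root_.mul_eq_right, _root_.mul_eq_left, _root_.mul_right_inj, _root_.mul_left_inj, _root_.right_eq_mul]

theorem card_cent_b (h : DData t c b n S D) [Finite G] {Q : Subgroup G} (hQ : Q ≤ S)
    (hc : ∀ q ∈ Q, q * b = b * q) : Nat.card Q ≤ 8 := by
  classical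
  have h1 : (Q : Set G) ⊆ (({1, z c n, b, z c n * b, t, t * z c n, t * b, t * (z c n * b)} : Finset G) :
      Set G) := by
    intro q hq
    simpa only [_root_.Finset.coe_insert, _root_.Finset.coe_singleton, _root_.Set.mem_insert_iff, _root_.Set.mem_singleton_iff] using h.cent_b (hQ hq) (hc q hq)
  calc Nat.card Q = (Q : Set G).ncard := rfl
    _ ≤ _ := Set.ncard_le_ncard h1 (Finset.finite_toSet _)
    _ ≤ 8 := by
      rw [Set.ncard_coe_finset]
      exact (Finset.card_insert_le _ _).trans (Nat.succ_le_succ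
        ((Finset.card_insert_le _ _).trans (Nat.succ_le_succ Finset.card_le_six)))

/-- the centraliser in `S` of a noncentral involution of `S` has order at most eight -/
theorem card_cent_le [Finite G] (h : DData t c b n S D) {x : G} (hx : x ∈ S) (hxx : x * x = 1)
    (h1 : x ≠ 1) (ht : x ≠ t) (hz : x ≠ z c n) (htz : x ≠ t * z c n) {Q : Subgroup G} (hQ : Q ≤ S)
    (hc : ∀ q ∈ Q, q * x = x * q) : Nat.card Q ≤ 8 := by
  obtain ⟨d, hd, hxd⟩ := (h.S_eq x).mp hx
  have hdd : d * d = 1 := by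
    rcases hxd with rfl | rfl
    · exact hxx
    · have h2 := h.tD d hd
      calc d * d = (t * t) * (d * d) := by rw [h.t_sq, one_mul]
        _ = t * (t * d) * d := by group
        _ = t * (d * t) * d := by rw [h2]
        _ = t * d * (t * d) := by group
        _ = 1 := hxx
  have hd1 : d ≠ 1 := by
    rintro rfl
    rcases hxd with hxd | hxd
    · exact h1 hxd
    · rw [mul_one] at hxd; exact ht hxd
  have hdz : d ≠ z c n := by
    rintro rfl
    rcases hxd with hxd | hxd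
    · exact hz hxd
    · exact htz hxd
  obtain ⟨k, hk⟩ := (h.D_eq d).mp hd
  have hk' : d = c ^ k * b := by
    rcases hk with rfl | hk
    · rcases h.pow_sq hdd with h2 | h2
      · exact absurd h2 hd1
      · exact absurd h2 hdz
    · exact hk
  refine (h.shiftb k).card_cent_b hQ ?_
  intro q hq
  rw [← hk']
  have hqx := hc q hq
  rcases hxd with rfl | rfl
  · exact hqx
  · have h2 : q * t = t * q := mem_centralizer_singleton_iff.mp (h.syl.le (hQ hq))
    have h3 : t * (q * d) = t * (d * q) := by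
      calc t * (q * d) = (t * q) * d := by group
        _ = q * (t * d) := by rw [← h2]; group
        _ = t * (d * q) := by rw [hqx]; group
    exact mul_left_cancel h3

/-- (0.1), `T = S`: no simple group has the Sylow 2-subgroup `⟨t⟩ × D`. -/
theorem not_syl [Finite G] (h : DData t c b n S D) (hTT : TT t)
    (hb : ∃ g : G, g * b * g⁻¹ = z c n) : ¬ IsSyl2 ⊤ S := by
  intro hs
  have hn := h.n_ge
  -- `t ~ cb` and `t ~ tcb`
  obtain ⟨g₀, hg₀⟩ := h.conj_cb hs hTT hb
  obtain ⟨g₁, hg₁⟩ := h.twist.conj_cb hs hTT (by rw [h.z_twist]; exact hb)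
  have hcen := h.cen
  set o := c * b with ho
  have hcb : c * t * b = t * o := by rw [h.tc.eq, mul_assoc]
  rw [hcb] at hg₁
  have h' := h.swapb
  rw [← ho] at h'
  have hoD : o ∈ D := h'.b_mem
  have hoS : o ∈ S := h.D_le hoD
  -- `t ~ zo` and `t ~ tzo`
  have hzo : c ^ 2 ^ (n - 3) * o * (c ^ 2 ^ (n - 3))⁻¹ = z c n * o := by
    rw [← h'.conj_even, ← pow_succ', show n - 3 + 1 = n - 2 by omega]
  have ct_zo : ∃ g : G, g * t * g⁻¹ = z c n * o := by
    refine ⟨c ^ 2 ^ (n - 3) * g₀, ?_⟩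
    rw [← hzo, ← hg₀]; group
  have ct_tzo : ∃ g : G, g * t * g⁻¹ = t * (z c n * o) := by
    refine ⟨c ^ 2 ^ (n - 3) * g₁, ?_⟩
    have h1 : c ^ 2 ^ (n - 3) * t = t * c ^ 2 ^ (n - 3) := (h.tD _ (D.pow_mem h.c_mem _)).symm
    calc c ^ 2 ^ (n - 3) * g₁ * t * (c ^ 2 ^ (n - 3) * g₁)⁻¹
        = c ^ 2 ^ (n - 3) * (g₁ * t * g₁⁻¹) * (c ^ 2 ^ (n - 3))⁻¹ := by group
      _ = (c ^ 2 ^ (n - 3) * t) * o * (c ^ 2 ^ (n - 3))⁻¹ := by rw [hg₁]; group
      _ = t * (z c n * o) := by rw [h1, ← hzo]; group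
  -- elements of `S ∩ C(o)` are `1, z, tz` or conjugate to `t`
  have hE : ∀ q ∈ S, q * o = o * q → q = 1 ∨ q = z c n ∨ q = t * z c n ∨ ∃ g : G, g * t * g⁻¹ = q := by
    intro q hq hqo
    rcases h'.cent_b hq hqo with h1 | h1 | h1 | h1 | h1 | h1 | h1 | h1
    · exact Or.inl h1
    · exact Or.inr (Or.inl h1)
    · exact Or.inr (Or.inr (Or.inr ⟨g₀, by rw [hg₀, h1]⟩))
    · obtain ⟨g, hg⟩ := ct_zo
      exact Or.inr (Or.inr (Or.inr ⟨g, by rw [hg, h1]⟩))
    · exact Or.inr (Or.inr (Or.inr ⟨1, by rw [h1]; group⟩))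
    · exact Or.inr (Or.inr (Or.inl h1))
    · exact Or.inr (Or.inr (Or.inr ⟨g₁, by rw [hg₁, h1]⟩))
    · obtain ⟨g, hg⟩ := ct_tzo
      exact Or.inr (Or.inr (Or.inr ⟨g, by rw [hg, h1]⟩))
  -- a Sylow 2-subgroup of `C(o)` containing `E'`
  set E' : Subgroup G := S ⊓ centralizer ({o} : Set G) with hE'
  obtain ⟨S₂, hS₂, hle⟩ := exists_isSyl2 (centralizer ({o} : Set G)) E' inf_le_right
    (h.syl.two.to_le inf_le_left)
  have hcard : Nat.card S₂ = Nat.card S := by
    have h1 : IsSyl2 (centralizer ({o} : Set G)) (cj g₀ S) := by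
      have h2 : cj g₀ (centralizer ({t} : Set G)) = centralizer ({o} : Set G) := by
        rw [cj_centralizer_singleton, hg₀]
      refine ⟨h2 ▸ cj_mono h.syl.le, h.syl.two.map _, ?_⟩
      intro Y hY hY2 hle'
      have h3 := h.syl.max (cj g₀⁻¹ Y) (by
        have := cj_mono (g := g₀⁻¹) hY
        rw [← h2, cj_inv_cj] at this
        exact this) (hY2.map _) (by
        have := cj_mono (g := g₀⁻¹) hle'
        rwa [cj_inv_cj] at this)
      rw [← h3, cj_cj_inv]
    obtain ⟨m, -, hm⟩ := IsSyl2.conj h1 hS₂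
    rw [hm]
    exact (card_cj m _).trans (card_cj g₀ S)
  have hne : S₂ ≠ E' := by
    intro hc
    have h1 : E' = S := Subgroup.eq_of_le_of_card_ge inf_le_left (by rw [← hc, hcard])
    have h2 : c ∈ E' := h1 ▸ h.D_le h.c_mem
    have h3 : c * o = o * c := mem_centralizer_singleton_iff.mp h2.2
    have h4 := h'.b_pow 1
    rw [pow_one] at h4
    rw [h4, mul_left_inj] at h3
    apply h.c_sq_ne
    nth_rewrite 1 [h3]
    exact inv_mul_cancel c
  obtain ⟨w, hwS, hwE, hwn⟩ := exists_normalizing hS₂.two hle hne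
  have hwo : w * o = o * w := mem_centralizer_singleton_iff.mp (hS₂.le hwS)
  have mE : ∀ q : G, q ∈ E' ↔ q ∈ S ∧ q * o = o * q := fun q => by
    rw [hE', mem_inf, mem_centralizer_singleton_iff]
  have htE : t ∈ E' := (mE t).mpr ⟨h.t_mem, h.tD o hoD⟩
  have hzE : z c n ∈ E' := (mE _).mpr ⟨h.D_le h.z_mem, (h.z_comm o hoD).symm⟩
  have hoE : o ∈ E' := (mE o).mpr ⟨hoS, rfl⟩
  -- `w` fixes `z`
  have hwz : w * z c n * w⁻¹ = z c n := by
    have h1 := (mE _).mp (hwn _ hzE)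
    rcases hE _ h1.1 h1.2 with h2 | h2 | h2 | ⟨g, h2⟩
    · exact absurd h2 (Cen.conj_ne h.z_ne)
    · exact h2
    · exact absurd h2 (hcen.not_conj_z hs w)
    · refine absurd ?_ (hcen.not_conj (w⁻¹ * g))
      calc w⁻¹ * g * t * (w⁻¹ * g)⁻¹ = w⁻¹ * (g * t * g⁻¹) * w := by group
        _ = z c n := by rw [h2]; group
  -- `w` fixes `t z`
  have hwtz : w * (t * z c n) * w⁻¹ = t * z c n := by
    have h1 := (mE _).mp (hwn _ (E'.mul_mem htE hzE))
    rcases hE _ h1.1 h1.2 with h2 | h2 | h2 | ⟨g, h2⟩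
    · exact absurd h2 (Cen.conj_ne (fun hc => hcen.tz_notin (hc ▸ D.one_mem)))
    · exfalso
      have h3 : w * (t * z c n) * w⁻¹ = w * z c n * w⁻¹ := by rw [h2, hwz]
      have h4 := mul_left_cancel (mul_right_cancel h3)
      exact h.t_ne (mul_eq_right.mp h4)
    · exact h2
    · refine absurd ?_ (hcen.not_conj_mul hs (w⁻¹ * g))
      calc w⁻¹ * g * t * (w⁻¹ * g)⁻¹ = w⁻¹ * (g * t * g⁻¹) * w := by group
        _ = t * z c n := by rw [h2]; group
  have hwt : w * t = t * w := by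
    have h1 : w * t * w⁻¹ = t := by
      have h2 : w * (t * z c n) * w⁻¹ = (w * t * w⁻¹) * (w * z c n * w⁻¹) := by group
      rw [hwtz, hwz] at h2
      exact (mul_right_cancel h2).symm
    rwa [mul_inv_eq_iff_eq_mul] at h1
  have hwz' : w * z c n = z c n * w := by rwa [mul_inv_eq_iff_eq_mul] at hwz
  -- the 2-group `Q = S₂ ∩ C(t) ∩ C(z)`
  set Q : Subgroup G := S₂ ⊓ centralizer ({t} : Set G) with hQ
  obtain ⟨S₃, hS₃, hle₃⟩ := exists_isSyl2 (centralizer ({t} : Set G)) Q inf_le_right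
    (hS₂.two.to_le inf_le_left)
  obtain ⟨m, hm, hSm⟩ := IsSyl2.conj h.syl hS₃
  have hmt : m * t = t * m := mem_centralizer_singleton_iff.mp hm
  have hEQ : E' ≤ Q := by
    intro q hq
    exact ⟨hle hq, h.syl.le ((mE q).mp hq).1⟩
  have hwQ : w ∈ Q := ⟨hwS, mem_centralizer_singleton_iff.mpr hwt⟩
  have hQS : ∀ q ∈ Q, m⁻¹ * q * m ∈ S := by
    intro q hq
    have h1 : q ∈ cj m S := by
      have := hle₃ hq
      rw [hSm] at this
      exact this
    exact mem_cj.mp h1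
  -- order of `E'` and of `Q`
  have hcE : 8 ≤ Nat.card E' := by
    set Z₁ : Subgroup G := zpowers (z c n) with hZ₁
    set Z₂ : Subgroup G := S ⊓ centralizer (S : Set G) with hZ₂
    have c1 : Nat.card Z₁ = 2 := by
      rw [hZ₁, Nat.card_zpowers]
      exact orderOf_eq_prime (by rw [pow_two]; exact h.z_sq) h.z_ne
    have m1 : z c n ∈ Z₂ := ⟨h.D_le h.z_mem, mem_centralizer_iff.mpr fun s hs' => hcen.zS s hs'⟩
    have m2 : t ∈ Z₂ := ⟨h.t_mem, mem_centralizer_iff.mpr fun s hs' => hcen.tS s hs'⟩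
    have m3 : t ∉ Z₁ := fun hc => h.t_notin ((zpowers_le.mpr h.z_mem) hc)
    have l1 : Z₁ ≤ Z₂ := zpowers_le.mpr m1
    have l2 : Z₂ ≤ E' := by
      intro x hx
      exact (mE x).mpr ⟨hx.1, (mem_centralizer_iff.mp hx.2 o hoS).symm⟩
    have m4 : o ∉ Z₂ := by
      intro hc
      have h3 : c * o = o * c := mem_centralizer_iff.mp hc.2 c (h.D_le h.c_mem)
      have h4 := h'.b_pow 1
      rw [pow_one] at h4
      rw [h4, mul_left_inj] at h3
      apply h.c_sq_ne
      nth_rewrite 1 [h3]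
      exact inv_mul_cancel c
    have h1 := two_mul_card_le l1 m2 m3
    have h2 := two_mul_card_le l2 hoE m4
    omega
  have hcQ : 16 ≤ Nat.card Q := by
    have := two_mul_card_le hEQ hwQ hwE
    omega
  -- the image of `o` in `S`
  set x := m⁻¹ * o * m with hx
  have hxt : ∃ g : G, g * t * g⁻¹ = x := ⟨m⁻¹ * g₀, by rw [hx, ← hg₀]; group⟩
  have hle8 : Nat.card (cj m⁻¹ Q) ≤ 8 := by
    refine h.card_cent_le (x := x) (hQS o (hEQ hoE)) ?_ ?_ ?_ ?_ ?_ ?_ ?_
    · rw [hx]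
      calc m⁻¹ * o * m * (m⁻¹ * o * m) = m⁻¹ * (o * o) * m := by group
        _ = 1 := by rw [h'.b_sq]; group
    · obtain ⟨g, hg⟩ := hxt
      rw [← hg]; exact Cen.conj_ne h.t_ne
    · intro hc
      have h1 : o = t := by
        have h2 : o = m * x * m⁻¹ := by rw [hx]; group
        rw [h2, hc, hmt]; group
      exact h.t_notin (h1 ▸ hoD)
    · obtain ⟨g, hg⟩ := hxt
      rw [← hg]; exact hcen.not_conj g
    · obtain ⟨g, hg⟩ := hxt
      rw [← hg]; exact hcen.not_conj_mul hs g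
    · rintro _ ⟨q, hq, rfl⟩
      have := hQS q hq
      simpa only [_root_.map_inv, _root_.MulEquiv.toMonoidHom_eq_coe, _root_.MonoidHom.coe_coe, _root_.MulAut.inv_apply, _root_.MulAut.conj_symm_apply] using this
    · intro q hq
      rw [mem_cj, inv_inv] at hq
      have h1 : (m * q * m⁻¹) * o = o * (m * q * m⁻¹) :=
        mem_centralizer_singleton_iff.mp (hS₂.le hq.1)
      rw [hx]
      calc q * (m⁻¹ * o * m) = m⁻¹ * ((m * q * m⁻¹) * o) * m := by group
        _ = m⁻¹ * (o * (m * q * m⁻¹)) * m := by rw [h1]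
        _ = m⁻¹ * o * m * q := by group
  rw [card_cj] at hle8
  omega

end DData

/-! ### type (III): `S/D` cyclic of order four -/

/-! ### `S` elementary abelian of order eight -/

/-- type (I, d = 2): `S = ⟨t⟩ × V` -/
structure EData (t h : G) (V S : Subgroup G) : Prop where
  t_sq : t * t = 1
  t_notin : t ∉ V
  elem : Elem V
  card_V : Nat.card V = 4
  h_cube : h * h * h = 1
  ht : h * t = t * h
  hV : ∀ v ∈ V, h * v * h⁻¹ ∈ V
  fpfV : ∀ v ∈ V, h * v = v * h → v = 1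
  tV : ∀ v ∈ V, t * v = v * t
  S_eq : ∀ g : G, g ∈ S ↔ ∃ v ∈ V, g = v ∨ g = t * v
  syl : IsSyl2 (centralizer ({t} : Set G)) S

namespace EData

variable {t h : G} {V S : Subgroup G}

theorem V_le (D : EData t h V S) : V ≤ S := fun v hv => (D.S_eq v).mpr ⟨v, hv, Or.inl rfl⟩

theorem t_mem (D : EData t h V S) : t ∈ S := (D.S_eq t).mpr ⟨1, V.one_mem, Or.inr (mul_one t).symm⟩

theorem comm (D : EData t h V S) {a b : G} (ha : a ∈ S) (hb : b ∈ S) : a * b = b * a := by
  have key : Elem S := by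
    intro x hx
    obtain ⟨v, hv, rfl | rfl⟩ := (D.S_eq x).mp hx
    · exact D.elem _ hv
    · calc t * v * (t * v) = (t * v) * t * v := by group
        _ = (v * t) * t * v := by rw [D.tV v hv]
        _ = v * (t * t) * v := by group
        _ = 1 := by rw [D.t_sq, mul_one, D.elem v hv]
  exact key.comm ha hb

theorem hS (D : EData t h V S) : ∀ s ∈ S, h * s * h⁻¹ ∈ S := by
  intro s hs
  obtain ⟨v, hv, rfl | rfl⟩ := (D.S_eq s).mp hs
  · exact D.V_le (D.hV _ hv)
  · have e : h * (t * v) * h⁻¹ = t * (h * v * h⁻¹) := by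
      calc h * (t * v) * h⁻¹ = (h * t) * v * h⁻¹ := by group
        _ = t * (h * v * h⁻¹) := by rw [D.ht]; group
    rw [e]
    exact (D.S_eq _).mpr ⟨_, D.hV _ hv, Or.inr rfl⟩

/-- `h` is transitive on `V#` -/
theorem trans [Finite G] (D : EData t h V S) {v w : G} (hv : v ∈ V) (hv1 : v ≠ 1) (hw : w ∈ V) (hw1 : w ≠ 1) :
    w = v ∨ w = h * v * h⁻¹ ∨ w = h * (h * v * h⁻¹) * h⁻¹ := by
  classical
  set v1 := h * v * h⁻¹ with e1
  set v2 := h * v1 * h⁻¹ with e2
  have m1 : v1 ∈ V := D.hV _ hv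
  have m2 : v2 ∈ V := D.hV _ m1
  have n1 : v1 ≠ 1 := Cen.conj_ne hv1
  have n2 : v2 ≠ 1 := Cen.conj_ne n1
  have f : ∀ u ∈ V, u ≠ 1 → h * u * h⁻¹ ≠ u := fun u hu hu1 hc =>
    hu1 (D.fpfV u hu (mul_inv_eq_iff_eq_mul.mp hc))
  have n3 : v1 ≠ v := f v hv hv1
  have n4 : v2 ≠ v1 := f v1 m1 n1
  have n5 : v2 ≠ v := by
    intro hc
    have h3 : h * v2 * h⁻¹ = v := by
      calc h * v2 * h⁻¹ = (h * h * h) * v * (h * h * h)⁻¹ := by rw [e2, e1]; group
        _ = v := by rw [D.h_cube]; group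
    rw [hc] at h3
    exact f v hv hv1 h3
  by_contra hcon
  push Not at hcon
  obtain ⟨k1, k2, k3⟩ := hcon
  have hsub : (({1, v, v1, v2, w} : Finset G) : Set G) ⊆ (V : Set G) := by
    intro x hx
    simp only [Finset.coe_insert, Finset.coe_singleton, Set.mem_insert_iff, Set.mem_singleton_iff] at hx
    rcases hx with rfl | rfl | rfl | rfl | rfl
    · exact V.one_mem
    · exact hv
    · exact m1
    · exact m2
    · exact hw
  have hc5 : ({1, v, v1, v2, w} : Finset G).card = 5 := by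
    rw [Finset.card_insert_of_notMem, Finset.card_insert_of_notMem, Finset.card_insert_of_notMem,
      Finset.card_insert_of_notMem, Finset.card_singleton]
    · simp only [Finset.mem_singleton]; exact k3.symm
    · simp only [Finset.mem_insert, Finset.mem_singleton, not_or]; exact ⟨n4.symm, k2.symm⟩
    · simp only [Finset.mem_insert, Finset.mem_singleton, not_or]; exact ⟨n3.symm, n5.symm, k1.symm⟩
    · simp only [Finset.mem_insert, Finset.mem_singleton, not_or]
      exact ⟨hv1.symm, n1.symm, n2.symm, hw1.symm⟩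
  have h5 := Set.ncard_le_ncard hsub (Set.toFinite _)
  rw [Set.ncard_coe_finset, hc5] at h5
  have h6 : (V : Set G).ncard = 4 := D.card_V
  omega

/-- conjugates of `t` under `N(S)` -/
def P (t : G) (S : Subgroup G) (x : G) : Prop := ∃ n : G, (∀ s ∈ S, n * s * n⁻¹ ∈ S) ∧ n * t * n⁻¹ = x

theorem P.conj {x m : G} (hx : P t S x) (hm : ∀ s ∈ S, m * s * m⁻¹ ∈ S) : P t S (m * x * m⁻¹) := by
  obtain ⟨n, hn, rfl⟩ := hx
  refine ⟨m * n, fun s hs => ?_, by group⟩
  have e : m * n * s * (m * n)⁻¹ = m * (n * s * n⁻¹) * m⁻¹ := by group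
  rw [e]
  exact hm _ (hn _ hs)

theorem P_V [Finite G] (D : EData t h V S) {v : G} (hv : v ∈ V) (hv1 : v ≠ 1) (hP : P t S v) {w : G}
    (hw : w ∈ V) (hw1 : w ≠ 1) : P t S w := by
  rcases D.trans hv hv1 hw hw1 with rfl | rfl | rfl
  · exact hP
  · exact hP.conj D.hS
  · exact (hP.conj D.hS).conj D.hS

theorem P_tV [Finite G] (D : EData t h V S) {v : G} (hv : v ∈ V) (hv1 : v ≠ 1) (hP : P t S (t * v)) {w : G}
    (hw : w ∈ V) (hw1 : w ≠ 1) : P t S (t * w) := by
  have e : ∀ u : G, h * (t * u) * h⁻¹ = t * (h * u * h⁻¹) := by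
    intro u
    calc h * (t * u) * h⁻¹ = (h * t) * u * h⁻¹ := by group
      _ = t * (h * u * h⁻¹) := by rw [D.ht]; group
  rcases D.trans hv hv1 hw hw1 with rfl | rfl | rfl
  · exact hP
  · rw [← e]; exact hP.conj D.hS
  · rw [← e, ← e]; exact (hP.conj D.hS).conj D.hS

/-- (0.1) in type (I, d = 2): `t` is not conjugate into `V` -/
theorem not_conj [Finite G] (D : EData t h V S) (hs : ¬ IsSyl2 ⊤ S) (g : G) : g * t * g⁻¹ ∉ V := by
  intro hg
  have ht1 : t ≠ 1 := fun hc => D.t_notin (hc ▸ V.one_mem)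
  set v := g * t * g⁻¹ with hv
  have hv1 : v ≠ 1 := Cen.conj_ne ht1
  -- `v` is `N(S)`-conjugate to `t`
  have hPv : P t S v := by
    have h1 : g⁻¹ * v * g⁻¹⁻¹ = t := by rw [hv]; group
    obtain ⟨n, hn, hnv⟩ := burnside D.syl (fun s hs' => D.comm hs' (D.V_le hg)) h1
    refine ⟨n⁻¹, fun s hs' => ?_, by rw [← hnv]; group⟩
    have := Cen.conj_back hn s hs'
    rwa [inv_inv]
  obtain ⟨T, hT, hle⟩ := exists_isSyl2 ⊤ S le_top D.syl.two
  have hne : T ≠ S := fun hc => hs (hc ▸ hT)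
  obtain ⟨x, hxT, hxS, hxn⟩ := exists_normalizing hT.two hle hne
  have hxt : x * t * x⁻¹ ≠ t := by
    intro hc
    have h1 : x ∈ centralizer ({t} : Set G) := by
      rw [mem_centralizer_singleton_iff]
      rw [mul_inv_eq_iff_eq_mul] at hc
      exact hc
    have h2 : T ⊓ centralizer ({t} : Set G) = S := D.syl.max _ inf_le_right
      (hT.two.to_le inf_le_left) (le_inf hle D.syl.le)
    exact hxS (h2 ▸ ⟨hxT, h1⟩)
  have hPt : P t S t := ⟨1, fun s hs' => by simpa using hs', by group⟩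
  have hPxt : P t S (x * t * x⁻¹) := hPt.conj hxn
  by_cases hA : ∃ w ∈ V, w ≠ 1 ∧ P t S (t * w)
  · -- all involutions of `S` are conjugate to `t`
    obtain ⟨w, hw, hw1, hPw⟩ := hA
    have hall : ∀ u ∈ S, u ≠ 1 → P t S u := by
      intro u hu hu1
      obtain ⟨a, ha, rfl | rfl⟩ := (D.S_eq u).mp hu
      · exact D.P_V hg hv1 hPv ha hu1
      · by_cases ha1 : a = 1
        · rw [ha1, mul_one]; exact hPt
        · exact D.P_tV hw hw1 hPw ha ha1
    set T₂ : Subgroup G := T ⊓ normalizer (S : Set G) with hT₂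
    have hT₂2 : IsPGroup 2 T₂ := hT.two.to_le inf_le_left
    have hST₂ : S ≤ T₂ := le_inf hle le_normalizer
    obtain ⟨u, huS, hu1, huc⟩ := exists_central hT₂2 hST₂
      (fun y hy s hs' => forall_of_mem_normalizer hy.2 s hs') (by
        intro hc
        have := D.t_mem
        rw [hc, mem_bot] at this
        exact ht1 this)
    obtain ⟨n, hn, hnu⟩ := hall u huS hu1
    have h1 : cj n⁻¹ T₂ ≤ centralizer ({t} : Set G) := by
      intro y hy
      rw [mem_cj, inv_inv] at hy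
      rw [mem_centralizer_singleton_iff]
      have h2 := huc _ hy
      have e : t = n⁻¹ * u * n := by rw [← hnu]; group
      calc y * t = n⁻¹ * ((n * y * n⁻¹) * u) * n := by rw [e]; group
        _ = n⁻¹ * (u * (n * y * n⁻¹)) * n := by rw [h2]
        _ = t * y := by rw [e]; group
    obtain ⟨S₃, hS₃, hle₃⟩ := exists_isSyl2 _ _ h1 (hT₂2.map _)
    obtain ⟨m, -, hm⟩ := IsSyl2.conj D.syl hS₃
    have hc1 : Nat.card S₃ = Nat.card S := by rw [hm]; exact card_cj m S
    have hc2 : Nat.card T₂ ≤ Nat.card S₃ := by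
      rw [← card_cj n⁻¹ T₂]; exact Subgroup.card_le_of_le hle₃
    have hc3 := DData.two_mul_card_le hST₂ (x := x) ⟨hxT, mem_normalizer_of_forall hxn⟩ hxS
    have : 0 < Nat.card S := Nat.card_pos
    omega
  · -- `x` normalises `V`
    push Not at hA
    have key : ∀ u ∈ V, u ≠ 1 → x * u * x⁻¹ = t ∨ x * u * x⁻¹ ∈ V := by
      intro u hu hu1
      have h1 := (D.P_V hg hv1 hPv hu hu1).conj hxn
      obtain ⟨a, ha, h2 | h2⟩ := (D.S_eq _).mp (hxn u (D.V_le hu))
      · right; rw [h2]; exact ha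
      · left
        by_cases ha1 : a = 1
        · rw [h2, ha1, mul_one]
        · rw [h2] at h1
          exact absurd h1 (hA a ha ha1)
    have hxV : ∀ u ∈ V, x * u * x⁻¹ ∈ V := by
      intro u hu
      by_cases hu1 : u = 1
      · rw [hu1, mul_one, mul_inv_cancel]; exact V.one_mem
      · rcases key u hu hu1 with h1 | h1
        · exfalso
          set u' := h * u * h⁻¹ with hu'
          have m1 : u' ∈ V := D.hV _ hu
          have n1 : u' ≠ 1 := Cen.conj_ne hu1
          have n2 : u' ≠ u := fun hc => hu1 (D.fpfV u hu (mul_inv_eq_iff_eq_mul.mp hc))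
          have inj : ∀ a : G, x * a * x⁻¹ = x * u * x⁻¹ → a = u := fun a ha =>
            mul_left_cancel (mul_right_cancel ha)
          have h2 : x * u' * x⁻¹ ∈ V := by
            rcases key u' m1 n1 with h3 | h3
            · exact absurd (inj u' (h3.trans h1.symm)) n2
            · exact h3
          have h3 : x * (u * u') * x⁻¹ ∈ V := by
            have hne' : u * u' ≠ 1 := by
              intro hc
              apply n2
              have h4 : u * u' = u * u := by rw [hc, D.elem u hu]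
              exact mul_left_cancel h4
            rcases key _ (V.mul_mem hu m1) hne' with h4 | h4
            · have := inj _ (h4.trans h1.symm)
              exact absurd (mul_eq_left.mp this) n1
            · exact h4
          have h4 : x * u * x⁻¹ = (x * (u * u') * x⁻¹) * (x * u' * x⁻¹)⁻¹ := by group
          apply D.t_notin
          rw [← h1, h4]
          exact V.mul_mem h3 (V.inv_mem h2)
        · exact h1
    obtain ⟨a, ha, h2 | h2⟩ := (D.S_eq _).mp (hxn t D.t_mem)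
    · apply D.t_notin
      have h3 := Cen.conj_back hxV a ha
      rw [← h2] at h3
      have e : x⁻¹ * (x * t * x⁻¹) * x = t := by group
      rwa [e] at h3
    · by_cases ha1 : a = 1
      · exact hxt (by rw [h2, ha1, mul_one])
      · rw [h2] at hPxt
        exact hA a ha ha1 hPxt

/-- in type (I, d = 2): `t` is conjugate to some `tw`, `w ∈ V#` -/
theorem exists_conj [Finite G] (D : EData t h V S) (hs : ¬ IsSyl2 ⊤ S) :
    ∃ x : G, (∀ s ∈ S, x * s * x⁻¹ ∈ S) ∧ (∃ k : ℕ, x ^ 2 ^ k = 1) ∧ ∃ w ∈ V, w ≠ 1 ∧ x * t * x⁻¹ = t * w := by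
  obtain ⟨T, hT, hle⟩ := exists_isSyl2 ⊤ S le_top D.syl.two
  have hne : T ≠ S := fun hc => hs (hc ▸ hT)
  obtain ⟨x, hxT, hxS, hxn⟩ := exists_normalizing hT.two hle hne
  refine ⟨x, hxn, ?_, ?_⟩
  · obtain ⟨k, hk⟩ := hT.two ⟨x, hxT⟩
    exact ⟨k, congrArg Subtype.val hk⟩
  · obtain ⟨a, ha, h2 | h2⟩ := (D.S_eq _).mp (hxn t D.t_mem)
    · exact absurd (h2 ▸ ha) (D.not_conj hs x)
    · refine ⟨a, ha, ?_, h2⟩
      rintro rfl
      rw [mul_one] at h2
      have h1 : x ∈ centralizer ({t} : Set G) := by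
        rw [mem_centralizer_singleton_iff]
        rw [mul_inv_eq_iff_eq_mul] at h2
        exact h2
      have h3 : T ⊓ centralizer ({t} : Set G) = S := D.syl.max _ inf_le_right
        (hT.two.to_le inf_le_left) (le_inf hle D.syl.le)
      exact hxS (h3 ▸ ⟨hxT, h1⟩)

end EData

end Cfsg.Agent.OddCyclic.B2Start
end

-- part: OddCyclic/B2Syl
section
/-!
# S0342, case B2: the Sylow 2-subgroup of `C_G(t)` (helper362)

`K ≅ PSL(2,p)` normal in `C_G(t)`, `S` a Sylow 2-subgroup of `C_G(t)` with `C_{KS}(K) = ⟨t⟩` (`SRel`). Trichotomy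
`SRel.tri`: `S = ⟨t⟩ × D`, `D` dihedral of order at least eight (`DData`); `S/(S ∩ K)` cyclic of order four (`Cen`);
`S = ⟨t⟩ × (S ∩ K)` elementary abelian of order eight (`EData`).
-/

set_option autoImplicit false

namespace Cfsg.Agent.OddCyclic.B2Syl

open Subgroup
open Cfsg.Agent.LieExceptional.CITDefs (Elem IsSyl2)
open Cfsg.Agent.LieExceptional.CITBasic
open Cfsg.Agent.GH.L2Aut
open Cfsg.Agent.OddCyclic.B2Defs Cfsg.Agent.OddCyclic.B2Start Cfsg.Agent.OddCyclic.CompStandard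

variable {G : Type*} [Group G]

/-- The situation relative to `S`. -/
structure SRel (F : Type*) [Field F] [Fintype F] (t : G) (K S : Subgroup G) : Prop where
  prime : (Fintype.card F).Prime
  odd : Odd (Fintype.card F)
  iso : Nonempty (K ≃* Matrix.ProjectiveSpecialLinearGroup (Fin 2) F)
  t_sq : t * t = 1
  t_ne : t ≠ 1
  Kt : ∀ k ∈ K, k * t = t * k
  norm : ∀ g : G, g * t = t * g → ∀ k ∈ K, g * k * g⁻¹ ∈ K
  cent : ∀ g ∈ K ⊔ S, (∀ k ∈ K, g * k = k * g) → g = 1 ∨ g = t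
  syl : IsSyl2 (Subgroup.centralizer ({t} : Set G)) S

namespace SRel

variable {F : Type*} [Field F] [Fintype F] {t : G} {K S : Subgroup G} (h : SRel F t K S)

/-- the representation of `K` -/
noncomputable def rep : GH.L2Aut.Rep F K := GH.L2Aut.Rep.ofEquiv (two_ne_zero_of_odd h.odd) h.iso.some

theorem mem_PGL (α : MulAut K) : α ∈ h.rep.PGL := by
  rw [Rep.mem_PGL_iff_fld]
  exact B2Pgl.ringEquiv_eq_one h.prime _

include h in
theorem center {k : G} (hk : k ∈ K) (hc : ∀ l ∈ K, k * l = l * k) : k = 1 := by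
  have h1 : (⟨k, hk⟩ : K) ∈ Subgroup.center K := by
    rw [Subgroup.mem_center_iff]
    intro l
    exact Subtype.ext (hc l l.2).symm
  rw [h.rep.center_eq_bot, Subgroup.mem_bot] at h1
  exact congrArg Subtype.val h1

include h in
theorem t_notin : t ∉ K := fun hc => h.t_ne (h.center hc fun l hl => (h.Kt l hl).symm)

include h in
theorem St {s : G} (hs : s ∈ S) : s * t = t * s := mem_centralizer_singleton_iff.mp (h.syl.le hs)

include h in
theorem t_ord : orderOf t = 2 := orderOf_eq_prime (by rw [pow_two]; exact h.t_sq) h.t_ne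

include h in
theorem t_mem : t ∈ S := by
  have h1 : IsPGroup 2 (S ⊔ zpowers t : Subgroup G) := by
    refine h.syl.two.to_sup_of_normal_right' (isPGroup_zpowers h.t_ord) ?_
    intro q hq
    refine centralizer_le_normalizer _ ?_
    rw [mem_centralizer_iff]
    rintro _ ⟨k, rfl⟩
    exact ((show Commute q t from h.St hq).zpow_right k).symm.eq
  have h2 := h.syl.max (S ⊔ zpowers t) (sup_le h.syl.le (zpowers_le.mpr
    (mem_centralizer_singleton_iff.mpr rfl))) h1 le_sup_left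
  rw [← h2]
  exact mem_sup_right (mem_zpowers t)

include h in
theorem normS {s : G} (hs : s ∈ S) {k : G} (hk : k ∈ K) : s * k * s⁻¹ ∈ K := h.norm s (h.St hs) k hk

/-- conjugation of `S` on `K` -/
noncomputable def act : S →* MulAut K where
  toFun g :=
    { toFun := fun k => ⟨g * k * (g : G)⁻¹, h.normS g.2 k.2⟩
      invFun := fun k => ⟨(g : G)⁻¹ * k * g, by
        have := h.normS (S.inv_mem g.2) k.2
        rwa [inv_inv] at this⟩
      left_inv := fun k => Subtype.ext (by simp only []; group)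
      right_inv := fun k => Subtype.ext (by simp only []; group)
      map_mul' := fun k l => Subtype.ext (by simp only [Subgroup.coe_mul]; group) }
  map_one' := by
    ext k
    change (1 : G) * k * (1 : G)⁻¹ = k
    group
  map_mul' g g' := by
    ext k
    change ((g * g' : G)) * k * (g * g' : G)⁻¹ = g * (g' * k * (g' : G)⁻¹) * (g : G)⁻¹
    group

theorem act_apply (g : S) (k : K) : (h.act g k : G) = g * k * (g : G)⁻¹ := rfl

theorem act_eq_one {g : S} (hg : h.act g = 1) : (g : G) = 1 ∨ (g : G) = t := by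
  refine h.cent g (mem_sup_right g.2) ?_
  intro k hk
  have h2 := congrArg (fun f : MulAut K => ((f ⟨k, hk⟩ : K) : G)) hg
  have h3 : (g : G) * k * (g : G)⁻¹ = k := h2
  exact mul_inv_eq_iff_eq_mul.1 h3

theorem act_eq {g g' : S} (hg : h.act g = h.act g') : (g : G) = g' ∨ (g : G) = t * g' := by
  have h1 : h.act (g * g'⁻¹) = 1 := by rw [map_mul, map_inv, mul_inv_eq_one, hg]
  rcases h.act_eq_one h1 with h2 | h2
  · left
    rwa [Subgroup.coe_mul, Subgroup.coe_inv, mul_inv_eq_one] at h2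
  · right
    rwa [Subgroup.coe_mul, Subgroup.coe_inv, mul_inv_eq_iff_eq_mul] at h2

theorem act_K {k : G} (hk : k ∈ K) (hkS : k ∈ S) : h.act ⟨k, hkS⟩ = MulAut.conj ⟨k, hk⟩ := by
  ext l
  rw [h.act_apply, MulAut.conj_apply]
  rfl

theorem act_t : h.act ⟨t, h.t_mem⟩ = 1 := by
  ext l
  rw [h.act_apply, MulAut.one_apply]
  show t * (l : G) * t⁻¹ = l
  rw [← h.Kt l l.2, mul_inv_cancel_right]

/-- an element acting as an inner automorphism -/
theorem inner {g : S} (hg : h.act g ∈ (MulAut.conj : K →* MulAut K).range) :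
    (g : G) ∈ K ∨ t * (g : G) ∈ K := by
  obtain ⟨k, hk⟩ := hg
  have h1 : (g : G) * (k : G)⁻¹ ∈ K ⊔ S := Subgroup.mul_mem _ (mem_sup_right g.2)
    (mem_sup_left (K.inv_mem k.2))
  have h2 : ∀ l ∈ K, (g : G) * (k : G)⁻¹ * l = l * ((g : G) * (k : G)⁻¹) := by
    intro l hl
    have h3 := congrArg (fun f : MulAut K => ((f (k⁻¹ * ⟨l, hl⟩ * k) : K) : G)) hk
    have h4 : (k : G) * ((k : G)⁻¹ * l * k) * (k : G)⁻¹ = g * ((k : G)⁻¹ * l * k) * (g : G)⁻¹ := h3
    have h5 : l = g * ((k : G)⁻¹ * l * k) * (g : G)⁻¹ := by rw [← h4]; group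
    calc (g : G) * (k : G)⁻¹ * l = (g * ((k : G)⁻¹ * l * k) * (g : G)⁻¹) * (g * (k : G)⁻¹) := by group
      _ = _ := by rw [← h5]
  rcases h.cent _ h1 h2 with h3 | h3
  · left
    rw [mul_inv_eq_one] at h3
    rw [h3]; exact k.2
  · right
    rw [mul_inv_eq_iff_eq_mul] at h3
    rw [h3, ← mul_assoc, h.t_sq, one_mul]; exact k.2

/-- the Sylow 2-subgroup of `K` -/
noncomputable def sylK [Finite G] : Sylow 2 K :=
  IsSyl2.toSylow (isSyl2_inf h.syl (fun k hk => mem_centralizer_singleton_iff.mpr (h.Kt k hk))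
    (fun g hg k hk => h.norm g (mem_centralizer_singleton_iff.mp hg) k hk))

theorem mem_sylK [Finite G] {k : K} : k ∈ h.sylK ↔ (k : G) ∈ S := by
  change k ∈ (S ⊓ K).subgroupOf K ↔ _
  rw [Subgroup.mem_subgroupOf, Subgroup.mem_inf]
  exact ⟨fun h => h.1, fun h => ⟨h, k.2⟩⟩

include h in
/-- construction of `DData` -/
theorem dData_of {c b : G} {n : ℕ} (hn : 3 ≤ n) (hc : orderOf c = 2 ^ (n - 1)) (hb : b * b = 1)
    (hb1 : b ≠ 1) (hbc : b * c * b⁻¹ = c⁻¹) (hbn : ∀ k : ℕ, b ≠ c ^ k) (hcS : c ∈ S) (hbS : b ∈ S)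
    (ht : ∀ k : ℕ, t ≠ c ^ k ∧ t ≠ c ^ k * b)
    (hcov : ∀ s ∈ S, ∃ k : ℕ, s = c ^ k ∨ s = c ^ k * b ∨ s = t * c ^ k ∨ s = t * (c ^ k * b)) :
    ∃ D, DData t c b n S D := by
  have hcm : c ^ 2 ^ (n - 1) = 1 := by rw [← hc, pow_orderOf_eq_one]
  refine ⟨dih c b (2 ^ (n - 1)) hcm (by positivity) hb hbc, ?_⟩
  exact
    { t_sq := h.t_sq
      t_ne := h.t_ne
      n_ge := hn
      c_ord := hc
      b_sq := hb
      b_ne := hb1
      bc := hbc
      D_eq := fun g => Iff.rfl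
      b_notin := hbn
      tD := by
        rintro _ ⟨k, rfl | rfl⟩
        · exact (h.St (S.pow_mem hcS k)).symm
        · exact (h.St (S.mul_mem (S.pow_mem hcS k) hbS)).symm
      t_notin := by
        rintro ⟨k, hk | hk⟩
        · exact (ht k).1 hk
        · exact (ht k).2 hk
      S_eq := by
        intro g
        constructor
        · intro hg
          obtain ⟨k, hk | hk | hk | hk⟩ := hcov g hg
          · exact ⟨_, ⟨k, Or.inl rfl⟩, Or.inl hk⟩
          · exact ⟨_, ⟨k, Or.inr rfl⟩, Or.inl hk⟩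
          · exact ⟨_, ⟨k, Or.inl rfl⟩, Or.inr hk⟩
          · exact ⟨_, ⟨k, Or.inr rfl⟩, Or.inr hk⟩
        · rintro ⟨d, ⟨k, rfl | rfl⟩, rfl | rfl⟩
          · exact S.pow_mem hcS k
          · exact S.mul_mem h.t_mem (S.pow_mem hcS k)
          · exact S.mul_mem (S.pow_mem hcS k) hbS
          · exact S.mul_mem h.t_mem (S.mul_mem (S.pow_mem hcS k) hbS)
      syl := h.syl }

theorem exists_nat_pow {L : Type*} [Group L] [Finite L] {x d : L} (hx : x ∈ Subgroup.zpowers d) :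
    ∃ k : ℕ, x = d ^ k := by
  rw [← mem_powers_iff_mem_zpowers] at hx
  obtain ⟨k, hk⟩ := hx
  exact ⟨k, hk.symm⟩

/-- the image of `S` in `Aut(K)` -/
noncomputable def img : Subgroup (MulAut K) := h.act.range

theorem img_two : IsPGroup 2 h.img := by
  have h1 : IsPGroup 2 (⊤ : Subgroup S) := h.syl.two.to_subgroup ⊤
  have h2 := h1.map h.act
  rwa [← MonoidHom.range_eq_map] at h2

theorem img_le : h.img ≤ h.rep.PGL := fun α _ => h.mem_PGL α

theorem conj_le [Finite G] : (h.sylK : Subgroup K).map MulAut.conj ≤ h.img := by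
  rintro _ ⟨k, hk, rfl⟩
  have hkS : (k : G) ∈ S := h.mem_sylK.mp hk
  exact ⟨⟨k, hkS⟩, h.act_K k.2 hkS⟩

include h in
/-- all involutions of `K` are conjugate in `K` -/
theorem inv_conj {x y : G} (hx : x ∈ K) (hy : y ∈ K) (hxx : x * x = 1) (hx1 : x ≠ 1) (hyy : y * y = 1)
    (hy1 : y ≠ 1) : ∃ g ∈ K, g * x * g⁻¹ = y := by
  obtain ⟨g, hg⟩ := h.rep.inv_conj (s := ⟨x, hx⟩) (t := ⟨y, hy⟩) (Subtype.ext hxx)
    (fun hc => hx1 (congrArg Subtype.val hc)) (Subtype.ext hyy)
    (fun hc => hy1 (congrArg Subtype.val hc))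
  exact ⟨g, g.2, congrArg Subtype.val hg⟩

/-- types (I) and (II) -/
def AltD (t : G) (K S : Subgroup G) : Prop :=
  ∃ (c b : G) (n : ℕ) (D : Subgroup G), DData t c b n S D ∧ b ∈ K ∧ DData.z c n ∈ K

/-- type (III) -/
def AltZ (t : G) (K S : Subgroup G) : Prop :=
  ∃ z : G, Cen t z S (S ⊓ K) ∧ ∃ y ∈ S, t * (y * y) ∈ K ∧ ∀ x ∈ S, ∃ k : ℕ, x * y ^ k ∈ S ⊓ K

/-- type (I, d = 2) -/
def AltE (t : G) (K S : Subgroup G) : Prop :=
  ∃ w ∈ K, EData t w (S ⊓ K) S

theorem inner_case [Finite G] (hin : h.img ≤ (MulAut.conj : K →* MulAut K).range) :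
    AltD t K S ∨ AltE t K S := by
  have hin' : ∀ s ∈ S, s ∈ K ∨ t * s ∈ K := fun s hs => h.inner (g := ⟨s, hs⟩) (hin ⟨⟨s, hs⟩, rfl⟩)
  obtain ⟨d, r, hd⟩ := h.rep.exists_dih h.sylK
  obtain ⟨m, hm, -, -⟩ := hd.exists_z h.sylK.2
  have hdS : (d : G) ∈ S := h.mem_sylK.mp hd.d_mem
  have hrS : (r : G) ∈ S := h.mem_sylK.mp hd.r_mem
  rcases Nat.eq_zero_or_pos m with rfl | hpos
  · -- four-group
    right
    have hcard : Nat.card (S ⊓ K : Subgroup G) = 4 := by
      have h1 := hd.card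
      rw [hm] at h1
      have h2 : Nat.card (h.sylK : Subgroup K) = Nat.card (S ⊓ K : Subgroup G) := by
        change Nat.card ((S ⊓ K).subgroupOf K) = _
        exact Nat.card_congr (Subgroup.subgroupOfEquivOfLe inf_le_right).toEquiv
      rw [← h2, h1]; norm_num
    obtain ⟨a, b, ha, hb, hab⟩ := h.rep.exists_four_mem h.sylK
    obtain ⟨w, -, hw3, hw1, hwa, hwb, -⟩ := B2Pgl.exists_frame h.rep
      (B2Pgl.ringEquiv_eq_one h.prime) hab
    have haS : (a : G) ∈ S := h.mem_sylK.mp ha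
    have hbS : (b : G) ∈ S := h.mem_sylK.mp hb
    have hV : ∀ v : G, v ∈ S ⊓ K → v = 1 ∨ v = a ∨ v = b ∨ v = a * b := by
      intro v hv
      by_contra hcon
      push Not at hcon
      obtain ⟨c1, c2, c3, c4⟩ := hcon
      have hle : hab.sub.map K.subtype ≤ S ⊓ K := by
        rintro _ ⟨x, hx, rfl⟩
        refine ⟨?_, x.2⟩
        rcases hx with rfl | rfl | rfl | rfl
        · exact S.one_mem
        · exact haS
        · exact hbS
        · exact S.mul_mem haS hbS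
      have h3 := DData.two_mul_card_le hle hv (by
        rintro ⟨x, hx, hxv⟩
        have hxv' : (x : G) = v := hxv
        rcases hx with rfl | rfl | rfl | rfl
        · exact c1 hxv'.symm
        · exact c2 hxv'.symm
        · exact c3 hxv'.symm
        · exact c4 hxv'.symm)
      rw [hcard, Subgroup.card_map_of_injective K.subtype_injective] at h3
      -- `hab.sub` has order at least three
      have h4 : Nat.card (hab.sub) ≤ 2 := by omega
      have h5 : Nat.card (Subgroup.zpowers a) = 2 := by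
        rw [Nat.card_zpowers]
        exact orderOf_eq_prime (by rw [pow_two]; exact hab.aa) hab.a1
      have h6 := DData.two_mul_card_le (H := Subgroup.zpowers a) (K := hab.sub) (by
        rw [zpowers_le]; exact Or.inr (Or.inl rfl)) (x := b) (Or.inr (Or.inr (Or.inl rfl))) (by
        intro hc
        obtain ⟨k, hk⟩ := mem_zpowers_iff.mp hc
        have ha2 : a ^ (2 : ℤ) = 1 := by rw [zpow_ofNat, pow_two, hab.aa]
        rcases Int.even_or_odd' k with ⟨j, rfl | rfl⟩
        · rw [zpow_mul, ha2, one_zpow] at hk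
          exact hab.b1 hk.symm
        · rw [zpow_add, zpow_mul, ha2, one_zpow, one_mul, zpow_one] at hk
          exact hab.ne hk)
      omega
    have hVt : ∀ v ∈ S ⊓ K, t * v = v * t := fun v hv => (h.Kt v hv.2).symm
    refine ⟨w, w.2, ?_⟩
    exact
      { t_sq := h.t_sq
        t_notin := fun hc => h.t_notin hc.2
        elem := by
          intro v hv
          rcases hV v hv with rfl | rfl | rfl | rfl
          · exact one_mul 1
          · exact congrArg Subtype.val hab.aa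
          · exact congrArg Subtype.val hab.bb
          · exact congrArg Subtype.val hab.right.bb
        card_V := hcard
        h_cube := congrArg Subtype.val hw3
        ht := h.Kt w w.2
        hV := by
          intro v hv
          refine ⟨?_, K.mul_mem (K.mul_mem w.2 hv.2) (K.inv_mem w.2)⟩
          rcases hV v hv with rfl | rfl | rfl | rfl
          · simp only [mul_one, mul_inv_cancel]; exact S.one_mem
          · rw [show (w : G) * a * (w : G)⁻¹ = b from congrArg Subtype.val hwa]; exact hbS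
          · rw [show (w : G) * b * (w : G)⁻¹ = a * b from congrArg Subtype.val hwb]
            exact S.mul_mem haS hbS
          · have e : (w : G) * (a * b) * (w : G)⁻¹ = (w * a * (w : G)⁻¹) * (w * b * (w : G)⁻¹) := by
              group
            rw [e, show (w : G) * a * (w : G)⁻¹ = b from congrArg Subtype.val hwa,
              show (w : G) * b * (w : G)⁻¹ = a * b from congrArg Subtype.val hwb]
            exact S.mul_mem hbS (S.mul_mem haS hbS)
        fpfV := by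
          intro v hv hc
          have h1 := B2Pgl.fpf_of hab hwa hwb (u := ⟨v, hv.2⟩) (by
            rcases hV v hv with h2 | h2 | h2 | h2
            · exact Or.inl (Subtype.ext h2)
            · exact Or.inr (Or.inl (Subtype.ext h2))
            · exact Or.inr (Or.inr (Or.inl (Subtype.ext h2)))
            · exact Or.inr (Or.inr (Or.inr (Subtype.ext h2)))) (Subtype.ext hc)
          exact congrArg Subtype.val h1
        tV := hVt
        S_eq := by
          intro g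
          constructor
          · intro hg
            rcases hin' g hg with h1 | h1
            · exact ⟨g, ⟨hg, h1⟩, Or.inl rfl⟩
            · exact ⟨t * g, ⟨S.mul_mem h.t_mem hg, h1⟩, Or.inr (by rw [← mul_assoc, h.t_sq, one_mul])⟩
          · rintro ⟨v, hv, rfl | rfl⟩
            · exact hv.1
            · exact S.mul_mem h.t_mem hv.1
        syl := h.syl }
  · -- dihedral of order at least eight
    left
    have hd' : orderOf (d : G) = 2 ^ (m + 1) := by rw [Subgroup.orderOf_coe, hm]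
    obtain ⟨D, hD⟩ := h.dData_of (c := d) (b := r) (n := m + 2) (by omega) (by simpa only [_root_.orderOf_submonoid, _root_.Nat.add_one_sub_one] using hd')
      (congrArg Subtype.val hd.rr) (fun hc => hd.r1 (Subtype.ext hc)) (congrArg Subtype.val hd.rd)
      (fun k hk => hd.r_not (by
        rw [show r = d ^ k from Subtype.ext hk]
        exact pow_mem (mem_zpowers d) k)) hdS hrS
      (fun k => ⟨fun hc => h.t_notin (hc ▸ K.pow_mem d.2 k),
        fun hc => h.t_notin (hc ▸ K.mul_mem (K.pow_mem d.2 k) r.2)⟩) (by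
        have key : ∀ x : G, x ∈ S → x ∈ K → ∃ k : ℕ, x = d ^ k ∨ x = d ^ k * r := by
          intro x hxS hxK
          rcases hd.cov ⟨x, hxK⟩ (h.mem_sylK.mpr hxS) with h1 | ⟨k, h1⟩
          · obtain ⟨k, hk⟩ := exists_nat_pow h1
            exact ⟨k, Or.inl (congrArg Subtype.val hk)⟩
          · obtain ⟨j, hj⟩ := exists_nat_pow (zpow_mem (mem_zpowers d) k)
            rw [hj] at h1
            exact ⟨j, Or.inr (congrArg Subtype.val h1)⟩
        intro s hs
        rcases hin' s hs with h1 | h1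
        · obtain ⟨k, hk | hk⟩ := key s hs h1
          · exact ⟨k, Or.inl hk⟩
          · exact ⟨k, Or.inr (Or.inl hk)⟩
        · have h2 : s = t * (t * s) := by rw [← mul_assoc, h.t_sq, one_mul]
          obtain ⟨k, hk | hk⟩ := key _ (S.mul_mem h.t_mem hs) h1
          · exact ⟨k, Or.inr (Or.inr (Or.inl (by rw [← hk]; exact h2)))⟩
          · exact ⟨k, Or.inr (Or.inr (Or.inr (by rw [← hk]; exact h2)))⟩)
    exact ⟨d, r, m + 2, D, hD, r.2, K.pow_mem d.2 _⟩

theorem comm_mem {N : Subgroup G} {y x x' : G} (hy : ∀ i : ℤ, ∀ k ∈ N, y ^ i * k * (y ^ i)⁻¹ ∈ N)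
    (hx : x ∈ N) (hx' : x' ∈ N) (i j : ℤ) :
    (x * y ^ i) * (x' * y ^ j) * (x * y ^ i)⁻¹ * (x' * y ^ j)⁻¹ ∈ N := by
  have e : (x * y ^ i) * (x' * y ^ j) * (x * y ^ i)⁻¹ * (x' * y ^ j)⁻¹ =
      x * (y ^ i * x' * (y ^ i)⁻¹) * (y ^ j * x⁻¹ * (y ^ j)⁻¹) * x'⁻¹ := by
    have e1 : y ^ i * y ^ j * (y ^ i)⁻¹ = y ^ j := by
      rw [← zpow_add, add_comm, zpow_add, mul_inv_cancel_right]
    calc (x * y ^ i) * (x' * y ^ j) * (x * y ^ i)⁻¹ * (x' * y ^ j)⁻¹
        = x * (y ^ i * x' * (y ^ i)⁻¹) * (y ^ i * y ^ j * (y ^ i)⁻¹) * x⁻¹ * (y ^ j)⁻¹ * x'⁻¹ := by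
          simp only [mul_inv_rev, mul_assoc, inv_mul_cancel_left]
      _ = _ := by rw [e1]; simp only [mul_assoc]
  rw [e]
  exact N.mul_mem (N.mul_mem (N.mul_mem hx (hy i x' hx')) (hy j _ (N.inv_mem hx))) (N.inv_mem hx')

theorem outer_case [Finite G] (hout : ¬ h.img ≤ (MulAut.conj : K →* MulAut K).range) :
    AltD t K S ∨ AltZ t K S := by
  have hfin := h.rep.finite_aut
  obtain ⟨c, d, r, hcc, hcI, hd, hP⟩ := h.rep.dih_plus h.sylK h.img_two h.img_le h.conj_le hout
  obtain ⟨m, hm, hm1, hm2⟩ := hd.exists_z h.sylK.2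
  have hdS : (d : G) ∈ S := h.mem_sylK.mp hd.d_mem
  have hrS : (r : G) ∈ S := h.mem_sylK.mp hd.r_mem
  obtain ⟨y, hyc⟩ := hP.d_mem
  have hact_r : h.act ⟨r, hrS⟩ = MulAut.conj r := h.act_K r.2 hrS
  have hact_d : h.act ⟨d, hdS⟩ = MulAut.conj d := h.act_K d.2 hdS
  have hyt : (y : G) * t = t * y := h.St y.2
  have hyI : ∀ j : ℕ, (y : G) ^ (2 * j + 1) ∉ K := by
    intro j hj
    have h1 : h.act (y ^ (2 * j + 1)) ∈ (MulAut.conj : K →* MulAut K).range :=
      ⟨⟨_, hj⟩, (h.act_K hj (y ^ (2 * j + 1)).2).symm⟩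
    apply hcI
    rw [map_pow, hyc, pow_succ, pow_mul, pow_two, hcc, ← map_pow] at h1
    have h2 := (Subgroup.mul_mem_cancel_left (MulAut.conj : K →* MulAut K).range
      (x := MulAut.conj (d ^ j)) ⟨_, rfl⟩ (y := c)).mp h1
    exact h2
  have htK : ∀ k : G, t * k ∈ K → k ∉ K := fun k h1 h2 => h.t_notin (by
    have := K.mul_mem h1 (K.inv_mem h2)
    rwa [mul_inv_cancel_right] at this)
  -- odd powers of `y` times `t` are not in `K` either
  have hyI' : ∀ j : ℕ, t * (y : G) ^ (2 * j + 1) ∉ K := by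
    intro j hj
    have h1 : h.act (⟨t, h.t_mem⟩ * y ^ (2 * j + 1)) ∈ (MulAut.conj : K →* MulAut K).range :=
      ⟨⟨_, hj⟩, (h.act_K hj (⟨t, h.t_mem⟩ * y ^ (2 * j + 1) : S).2).symm⟩
    apply hcI
    rw [map_mul, h.act_t, one_mul, map_pow, hyc, pow_succ, pow_mul, pow_two, hcc, ← map_pow] at h1
    exact (Subgroup.mul_mem_cancel_left (MulAut.conj : K →* MulAut K).range
      (x := MulAut.conj (d ^ j)) ⟨_, rfl⟩ (y := c)).mp h1
  -- `y² = d` or `y² = td`
  have hyy : (y : G) * y = d ∨ (y : G) * y = t * d := by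
    have h1 : h.act (y * y) = h.act ⟨d, hdS⟩ := by rw [map_mul, hyc, hcc, hact_d]
    exact h.act_eq h1
  -- `r y r⁻¹ = y⁻¹` or `t y⁻¹`
  have hry : (r : G) * y * (r : G)⁻¹ = (y : G)⁻¹ ∨ (r : G) * y * (r : G)⁻¹ = t * (y : G)⁻¹ := by
    have h1 : h.act (⟨r, hrS⟩ * y * (⟨r, hrS⟩ : S)⁻¹) = h.act y⁻¹ := by
      rw [map_mul, map_mul, map_inv, map_inv, hyc, hact_r, hP.rd]
    exact h.act_eq h1
  have hcomK : (r : G) * y * (r : G)⁻¹ * (y : G)⁻¹ ∈ K := by
    have h1 : (r : G) * y * (r : G)⁻¹ * (y : G)⁻¹ = r * (y * (r : G)⁻¹ * (y : G)⁻¹) := by group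
    rw [h1]
    exact K.mul_mem r.2 (h.normS y.2 (K.inv_mem r.2))
  -- coverage
  have hcov : ∀ s ∈ S, ∃ k : ℕ, s = (y : G) ^ k ∨ s = (y : G) ^ k * r ∨ s = t * (y : G) ^ k ∨
      s = t * ((y : G) ^ k * r) := by
    intro s hs
    rcases hP.cov (h.act ⟨s, hs⟩) ⟨_, rfl⟩ with h1 | ⟨k, h1⟩
    · obtain ⟨k, hk⟩ := exists_nat_pow h1
      have h2 : h.act ⟨s, hs⟩ = h.act (y ^ k) := by rw [hk, map_pow, hyc]
      rcases h.act_eq h2 with h3 | h3
      · exact ⟨k, Or.inl h3⟩
      · exact ⟨k, Or.inr (Or.inr (Or.inl h3))⟩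
    · obtain ⟨j, hj⟩ := exists_nat_pow (zpow_mem (mem_zpowers c) k)
      have h2 : h.act ⟨s, hs⟩ = h.act (y ^ j * ⟨r, hrS⟩) := by
        rw [h1, hj, map_mul, map_pow, hyc, hact_r]
      rcases h.act_eq h2 with h3 | h3
      · exact ⟨j, Or.inr (Or.inl h3)⟩
      · exact ⟨j, Or.inr (Or.inr (Or.inr h3))⟩
  have hdd : orderOf (d : G) = 2 ^ (m + 1) := by rw [Subgroup.orderOf_coe, hm]
  rcases hyy with hyd | hyd
  · -- type (II)
    left
    have hry' : (r : G) * y * (r : G)⁻¹ = (y : G)⁻¹ := by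
      rcases hry with h1 | h1
      · exact h1
      · exfalso
        rw [h1] at hcomK
        have h2 : t * (y : G)⁻¹ * (y : G)⁻¹ = t * (d : G)⁻¹ := by rw [← hyd]; group
        rw [h2] at hcomK
        exact htK _ hcomK (K.inv_mem d.2)
    have hy2 : ∀ j : ℕ, (y : G) ^ (2 * j) = (d : G) ^ j := by
      intro j; rw [pow_mul, pow_two, hyd]
    have hord : orderOf (y : G) = 2 ^ (m + 3 - 1) := by
      apply Nat.dvd_antisymm
      · apply orderOf_dvd_of_pow_eq_one
        rw [show m + 3 - 1 = m + 1 + 1 by omega, pow_succ', hy2, ← hdd, pow_orderOf_eq_one]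
      · rw [show m + 3 - 1 = m + 1 + 1 by omega, pow_succ']
        rcases Nat.even_or_odd' (orderOf (y : G)) with ⟨j, hj | hj⟩
        · rw [hj]
          refine Nat.mul_dvd_mul_left 2 ?_
          rw [← hdd]
          apply orderOf_dvd_of_pow_eq_one
          rw [← hy2, ← hj, pow_orderOf_eq_one]
        · exfalso
          apply hyI j
          rw [← hj, pow_orderOf_eq_one]
          exact K.one_mem
    obtain ⟨D, hD⟩ := h.dData_of (c := y) (b := r) (n := m + 3) (by omega) hord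
      (congrArg Subtype.val hd.rr) (fun hc => hd.r1 (Subtype.ext hc)) hry'
      (fun k hk => by
        rcases Nat.even_or_odd' k with ⟨j, rfl | rfl⟩
        · rw [hy2] at hk
          exact hd.r_not (by
            rw [show r = d ^ j from Subtype.ext hk]
            exact pow_mem (mem_zpowers d) j)
        · exact hyI j (hk ▸ r.2)) y.2 hrS
      (fun k => by
        rcases Nat.even_or_odd' k with ⟨j, rfl | rfl⟩
        · rw [hy2]
          exact ⟨fun hc => h.t_notin (hc ▸ K.pow_mem d.2 j),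
            fun hc => h.t_notin (hc ▸ K.mul_mem (K.pow_mem d.2 j) r.2)⟩
        · refine ⟨fun hc => ?_, fun hc => ?_⟩
          · apply hyI' j
            rw [← hc, h.t_sq]; exact K.one_mem
          · apply hyI' j
            have h1 : t * (y : G) ^ (2 * j + 1) = (r : G)⁻¹ := by
              have h2 : (y : G) ^ (2 * j + 1) = t * (r : G)⁻¹ := by rw [hc, mul_inv_cancel_right]
              rw [h2, ← mul_assoc, h.t_sq, one_mul]
            rw [h1]; exact K.inv_mem r.2) hcov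
    refine ⟨y, r, m + 3, D, hD, r.2, ?_⟩
    show (y : G) ^ 2 ^ (m + 3 - 2) ∈ K
    rw [show m + 3 - 2 = m + 1 by omega, pow_succ', hy2]
    exact K.pow_mem d.2 _
  · -- type (III)
    right
    have hry' : (r : G) * y * (r : G)⁻¹ = t * (y : G)⁻¹ := by
      rcases hry with h1 | h1
      · exfalso
        rw [h1] at hcomK
        have h2 : (y : G)⁻¹ * (y : G)⁻¹ = (t * d : G)⁻¹ := by rw [← hyd]; group
        rw [h2] at hcomK
        have h3 := K.inv_mem hcomK
        rw [inv_inv] at h3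
        exact htK _ h3 d.2
      · exact h1
    have tinv : t⁻¹ = t := inv_eq_of_mul_eq_one_left h.t_sq
    have tcd : Commute t (d : G) := (h.Kt d d.2).symm
    have tcy : Commute t (y : G) := hyt.symm
    have t2 : ∀ j : ℕ, t ^ (2 * j) = 1 := fun j => by rw [pow_mul, pow_two, h.t_sq, one_pow]
    -- commutators of powers of `y` with `r`
    have hcom : ∀ j : ℕ, (y : G) ^ j * r * ((y : G) ^ j)⁻¹ * (r : G)⁻¹ = (d : G) ^ j := by
      intro j
      have h1 : (r : G) * (y : G)⁻¹ * (r : G)⁻¹ = t * y := by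
        have := congrArg (·⁻¹) hry'
        simp only [mul_inv_rev, inv_inv] at this
        rw [tinv] at this
        rw [← tcy.eq] at this
        rw [← this]; group
      have h2 : (r : G) * ((y : G) ^ j)⁻¹ * (r : G)⁻¹ = (t * y) ^ j := by
        rw [← inv_pow, ← conj_pow, h1]
      calc (y : G) ^ j * r * ((y : G) ^ j)⁻¹ * (r : G)⁻¹
          = (y : G) ^ j * (r * ((y : G) ^ j)⁻¹ * (r : G)⁻¹) := by group
        _ = ((y : G) * (t * y)) ^ j := by
          rw [h2, (show Commute (y : G) (t * y) from (tcy.symm).mul_right (Commute.refl _)).mul_pow]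
        _ = (d : G) ^ j := by
          have h3 : (y : G) * (t * y) = d := by
            calc (y : G) * (t * y) = (y * t) * y := by group
              _ = t * (y * y) := by rw [hyt]; group
              _ = d := by rw [hyd, ← mul_assoc, h.t_sq, one_mul]
          rw [h3]
    set z : G := (d : G) ^ 2 ^ m with hz
    have hzK : z ∈ K := K.pow_mem d.2 _
    have hzS : z ∈ S := S.pow_mem hdS _
    -- `x y^k ∈ K` covers `S`
    have hyo : ∃ N : ℕ, 0 < N ∧ (y : G) ^ N = 1 := ⟨orderOf (y : G), orderOf_pos _, pow_orderOf_eq_one _⟩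
    have ht_y : (t : G) = (y : G) ^ 2 * (d : G)⁻¹ := by
      rw [pow_two, hyd, mul_inv_cancel_right]
    have hquot : ∀ x ∈ S, ∃ i : ℤ, ∃ k ∈ K, x = k * (y : G) ^ i := by
      intro x hx
      have hn : ∀ (k : ℕ) (l : G), l ∈ K → (y : G) ^ k * l * ((y : G) ^ k)⁻¹ ∈ K := fun k l hl =>
        h.normS (S.pow_mem y.2 k) hl
      have htt : ∀ k : ℕ, ∀ l ∈ K, t * (l * (y : G) ^ k) = (l * (y : G)^2 * (d : G)⁻¹ * ((y : G)^2)⁻¹) *
          (y : G) ^ (k + 2) := by
        intro k l hl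
        have h1 : t * l = l * t := (h.Kt l hl).symm
        rw [← mul_assoc, h1, ht_y, pow_add]
        have h2 : (y : G) ^ 2 * (d : G)⁻¹ = (d : G)⁻¹ * (y : G) ^ 2 := by
          rw [pow_two, hyd]
          exact (tcd.inv_right.mul_left (Commute.refl (d : G)).inv_right).eq
        have h3 : (y : G) ^ k * (y : G) ^ 2 = (y : G) ^ 2 * (y : G) ^ k := by
          rw [← pow_add, add_comm, pow_add]
        rw [h3, h2]
        simp only [mul_assoc, inv_mul_cancel_left]
        rw [← mul_assoc ((y : G) ^ 2) ((d : G)⁻¹), h2]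
        simp only [mul_assoc]
      have hd2 : ∀ l ∈ K, l * (y : G)^2 * (d : G)⁻¹ * ((y : G)^2)⁻¹ ∈ K := by
        intro l hl
        have e : l * (y : G)^2 * (d : G)⁻¹ * ((y : G)^2)⁻¹ = l * ((y : G)^2 * (d : G)⁻¹ * ((y : G)^2)⁻¹) := by
          simp only [mul_assoc]
        rw [e]
        exact K.mul_mem hl (hn 2 _ (K.inv_mem d.2))
      have er : ∀ k : ℕ, (y : G) ^ k * (r : G) = ((y : G) ^ k * r * ((y : G) ^ k)⁻¹) * (y : G) ^ k := by
        intro k; rw [inv_mul_cancel_right]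
      obtain ⟨k, rfl | rfl | rfl | rfl⟩ := hcov x hx
      · exact ⟨k, 1, K.one_mem, by rw [one_mul, zpow_natCast]⟩
      · exact ⟨k, _, hn k r r.2, by rw [zpow_natCast]; exact er k⟩
      · refine ⟨(k + 2 : ℕ), _, hd2 1 K.one_mem, ?_⟩
        rw [zpow_natCast, ← htt k 1 K.one_mem, one_mul]
      · refine ⟨(k + 2 : ℕ), _, hd2 _ (hn k r r.2), ?_⟩
        rw [zpow_natCast, ← htt k _ (hn k r r.2), ← er k]
    refine ⟨z, ?_, y, y.2, by rw [hyd, ← mul_assoc, h.t_sq, one_mul]; exact d.2, ?_⟩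
    · exact
        { syl := h.syl
          t_mem := h.t_mem
          t_sq := h.t_sq
          t_notin := fun hc => h.t_notin hc.2
          z_mem := ⟨hzS, hzK⟩
          z_ne := fun hc => hm2 (Subtype.ext hc)
          z_sq := congrArg Subtype.val hm1
          D_le := inf_le_left
          zS := by
            have hzy : (y : G) * z = z * y := by
              have h1 : Commute (y : G) (d : G) := by
                have h2 : (d : G) = t * (y * y) := by rw [hyd, ← mul_assoc, h.t_sq, one_mul]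
                rw [h2]
                exact tcy.symm.mul_right ((Commute.refl _).mul_right (Commute.refl _))
              exact (h1.pow_right _).eq
            have hzr : (r : G) * z = z * r := by
              have h1 : r * (d ^ 2 ^ m) * r⁻¹ = d ^ 2 ^ m := by
                rw [← conj_pow, hd.rd, inv_pow]
                exact inv_eq_of_mul_eq_one_left hm1
              have h2 : (r : G) * z * (r : G)⁻¹ = z := congrArg Subtype.val h1
              rwa [mul_inv_eq_iff_eq_mul] at h2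
            have c1 : Commute (y : G) z := hzy
            have c2 : Commute (r : G) z := hzr
            have c3 : Commute t z := (h.Kt z hzK).symm
            intro s hs
            obtain ⟨k, rfl | rfl | rfl | rfl⟩ := hcov s hs
            · exact (c1.pow_left k).eq
            · exact ((c1.pow_left k).mul_left c2).eq
            · exact (c3.mul_left (c1.pow_left k)).eq
            · exact (c3.mul_left ((c1.pow_left k).mul_left c2)).eq
          comm := by
            intro a ha b hb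
            refine ⟨?_, ?_⟩
            · exact S.mul_mem (S.mul_mem (S.mul_mem ha hb) (S.inv_mem ha)) (S.inv_mem hb)
            · obtain ⟨i, k, hk, rfl⟩ := hquot a ha
              obtain ⟨j, l, hl, rfl⟩ := hquot b hb
              exact comm_mem (fun i k hk => h.normS (S.zpow_mem y.2 i) hk) hk hl i j
          z_comm := ⟨(y : G) ^ 2 ^ m, S.pow_mem y.2 _, r, hrS, hcom _⟩
          omega := by
            intro u hu huu huc
            -- the image of `u` is `1` or `conj z`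
            have a1 : h.act ⟨u, hu⟩ * c = c * h.act ⟨u, hu⟩ := by
              rw [← hyc, ← map_mul, ← map_mul]
              exact congrArg h.act (Subtype.ext (huc y y.2).symm)
            have a2 : h.act ⟨u, hu⟩ * MulAut.conj r = MulAut.conj r * h.act ⟨u, hu⟩ := by
              rw [← hact_r, ← map_mul, ← map_mul]
              exact congrArg h.act (Subtype.ext (huc r hrS).symm)
            have key : h.act ⟨u, hu⟩ = 1 ∨ h.act ⟨u, hu⟩ = MulAut.conj (d ^ 2 ^ m) := by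
              rcases hP.cov (h.act ⟨u, hu⟩) ⟨_, rfl⟩ with h1 | ⟨k, h1⟩
              · obtain ⟨k, hk⟩ := exists_nat_pow h1
                rw [hk] at a2 ⊢
                have h2 : c ^ k * c ^ k = 1 := by
                  have h3 := hP.r_pow k
                  rw [zpow_natCast, zpow_neg, zpow_natCast] at h3
                  have h4 : MulAut.conj r * c ^ k * (MulAut.conj r)⁻¹ = c ^ k := by
                    rw [← a2, mul_inv_cancel_right]
                  rw [h4] at h3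
                  nth_rewrite 1 [h3]
                  exact inv_mul_cancel _
                rcases Nat.even_or_odd' k with ⟨j, rfl | rfl⟩
                · rw [pow_mul, pow_two, hcc, ← map_pow, ← map_mul] at h2
                  have h5 : d ^ j * d ^ j = 1 := h.rep.conj_injective (by rw [h2, map_one])
                  rw [← pow_add, ← two_mul] at h5
                  have h6 := orderOf_dvd_of_pow_eq_one h5
                  rw [hm, pow_succ'] at h6
                  obtain ⟨l, rfl⟩ := Nat.dvd_of_mul_dvd_mul_left (by norm_num) h6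
                  rw [pow_mul, pow_two, hcc, ← map_pow, pow_mul]
                  have h7 : (d ^ 2 ^ m) ^ 2 = 1 := by rw [pow_two]; exact hm1
                  rcases Nat.even_or_odd' l with ⟨e, rfl | rfl⟩
                  · left; rw [pow_mul, h7, one_pow, map_one]
                  · right; rw [pow_succ, pow_mul, h7, one_pow, one_mul]
                · exfalso
                  have h5 : d ^ (2 * j + 1) = 1 := by
                    apply h.rep.conj_injective
                    rw [map_one, map_pow, ← hcc, (Commute.refl c).mul_pow, h2]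
                  have h6 := orderOf_dvd_of_pow_eq_one h5
                  rw [hm, pow_succ'] at h6
                  have h7 : 2 ∣ 2 * j + 1 := (dvd_mul_right _ _).trans h6
                  omega
              · exfalso
                rw [h1] at a1
                have h2 : MulAut.conj r * c = c⁻¹ * MulAut.conj r := by
                  rw [← hP.rd, inv_mul_cancel_right]
                rw [mul_assoc, h2, ← mul_assoc, ← mul_assoc, mul_left_inj] at a1
                have h3 : c * c ^ k = c ^ k * c := (Commute.refl c).zpow_right k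
                rw [h3, mul_right_inj] at a1
                have h4 : c * c = 1 := by
                  nth_rewrite 1 [← a1]
                  exact inv_mul_cancel c
                rw [hcc] at h4
                exact hd.d1 (h.rep.conj_injective (by rw [h4, map_one]))
            rcases key with h1 | h1
            · rcases h.act_eq_one h1 with h2 | h2
              · exact Or.inl h2
              · exact Or.inr (Or.inl h2)
            · have h2 : h.act ⟨u, hu⟩ = h.act ⟨z, hzS⟩ := by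
                rw [h1, h.act_K hzK hzS]; rfl
              rcases h.act_eq h2 with h3 | h3
              · exact Or.inr (Or.inr (Or.inl h3))
              · exact Or.inr (Or.inr (Or.inr h3)) }
    · intro x hx
      obtain ⟨i, k, hk, rfl⟩ := hquot x hx
      -- a natural number `j` with `y^j = y^{-i}`
      obtain ⟨j, hj⟩ := exists_nat_pow (L := S) (x := y ^ (-i)) (d := y) (zpow_mem (mem_zpowers y) _)
      have hj' : (y : G) ^ (-i) = (y : G) ^ j := by
        have := congrArg Subtype.val hj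
        simpa only [_root_.zpow_neg, _root_.InvMemClass.coe_inv, _root_.SubgroupClass.coe_zpow, _root_.SubmonoidClass.coe_pow] using this
      refine ⟨j, ?_⟩
      rw [← hj', mul_assoc, ← zpow_add, add_neg_cancel, zpow_zero, mul_one]
      refine ⟨?_, hk⟩
      have := S.mul_mem hx (S.zpow_mem y.2 (-i))
      rwa [mul_assoc, ← zpow_add, add_neg_cancel, zpow_zero, mul_one] at this

include h in
/-- the trichotomy -/
theorem tri [Finite G] : AltD t K S ∨ AltZ t K S ∨ AltE t K S := by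
  by_cases hin : h.img ≤ (MulAut.conj : K →* MulAut K).range
  · rcases h.inner_case hin with h1 | h1
    · exact Or.inl h1
    · exact Or.inr (Or.inr h1)
  · rcases h.outer_case hin with h1 | h1
    · exact Or.inl h1
    · exact Or.inr (Or.inl h1)

end SRel

end Cfsg.Agent.OddCyclic.B2Syl
end

-- part: OddCyclic/B2Loc
section
/-!
# S0342, case B2, piece [F]: the local data `Loc`, `TypeY`, `TypeZ`, `TypeN`

`Hyp F t K`: `K ≅ PSL(2,p)`, `p ≥ 5` prime, is normal in `C_G(t)`, `C_{C(t)}(K) = ⟨t⟩`, no conjugate of `t` in `K`.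
`Hyp.exists_loc`: every four-group `V ≤ K` has an element `h` of order three in `K` with `Loc t h V`, and one of
`TypeN t h V`, `∃ y, TypeY t h y V`, `∃ y, TypeZ t h y V` or the situation of section 2 holds.
-/

set_option autoImplicit false

namespace Cfsg.Agent.OddCyclic.B2Pgl

open Cfsg.Agent.LieExceptional.CITDefs (Elem IsSyl2)
open Cfsg.Agent.GH.L2Aut
open Cfsg.Agent.OddCyclic.B2Defs

variable {G : Type*} [Group G]

/-- The hypotheses of case B2: `K ≅ PSL(2,p)` normal in `C_G(t)`. -/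
structure Hyp (F : Type*) [Field F] [Fintype F] (t : G) (K : Subgroup G) : Prop where
  prime : (Fintype.card F).Prime
  five : 5 ≤ Fintype.card F
  iso : Nonempty (K ≃* Matrix.ProjectiveSpecialLinearGroup (Fin 2) F)
  cyc : ∀ P : Sylow 3 G, IsCyclic P
  t_sq : t * t = 1
  t_ne : t ≠ 1
  Kt : ∀ k ∈ K, k * t = t * k
  norm : ∀ g : G, g * t = t * g → ∀ k ∈ K, g * k * g⁻¹ ∈ K
  cent : ∀ g : G, g * t = t * g → (∀ k ∈ K, g * k = k * g) → g = 1 ∨ g = t
  not_conj : ∀ g : G, g * t * g⁻¹ ∉ K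
  not_syl : ∀ S : Subgroup G, IsSyl2 (Subgroup.centralizer ({t} : Set G)) S → ¬ IsSyl2 ⊤ S

theorem mem_cent {t g : G} : g ∈ Subgroup.centralizer ({t} : Set G) ↔ g * t = t * g := by
  rw [Subgroup.mem_centralizer_singleton_iff]

namespace Hyp

variable {F : Type*} [Field F] [Fintype F] {t : G} {K : Subgroup G} (h : Hyp F t K)

include h in
theorem two_ne : (2 : F) ≠ 0 := by
  apply two_ne_zero_of_odd
  have := h.prime.eq_two_or_odd'
  have := h.five
  rcases h.prime.eq_two_or_odd' with h1 | h1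
  · omega
  · exact h1

/-- the representation of `K` -/
noncomputable def rep : GH.L2Aut.Rep F K := GH.L2Aut.Rep.ofEquiv h.two_ne h.iso.some

include h in
theorem fld_one (σ : F ≃+* F) : σ = 1 := ringEquiv_eq_one h.prime σ

theorem mem_PGL (α : MulAut K) : α ∈ h.rep.PGL := by
  rw [Rep.mem_PGL_iff_fld]
  exact h.fld_one _

/-- conjugation of `C_G(t)` on `K` -/
noncomputable def act : ↥(Subgroup.centralizer ({t} : Set G)) →* MulAut K where
  toFun g :=
    { toFun := fun k => ⟨g * k * (g : G)⁻¹, h.norm g (mem_cent.1 g.2) k k.2⟩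
      invFun := fun k => ⟨(g : G)⁻¹ * k * g, by
        have := h.norm (g⁻¹ : ↥(Subgroup.centralizer ({t} : Set G))) (mem_cent.1 (g⁻¹).2) k k.2
        rwa [Subgroup.coe_inv, inv_inv] at this⟩
      left_inv := fun k => Subtype.ext (by simp only []; group)
      right_inv := fun k => Subtype.ext (by simp only []; group)
      map_mul' := fun k l => Subtype.ext (by simp only [Subgroup.coe_mul]; group) }
  map_one' := by
    ext k
    change (1 : G) * k * (1 : G)⁻¹ = k
    group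
  map_mul' g g' := by
    ext k
    change ((g * g' : G)) * k * (g * g' : G)⁻¹ = g * (g' * k * (g' : G)⁻¹) * (g : G)⁻¹
    group

theorem act_apply (g : ↥(Subgroup.centralizer ({t} : Set G))) (k : K) :
    (h.act g k : G) = g * k * (g : G)⁻¹ := rfl

theorem act_eq_one_iff {g : ↥(Subgroup.centralizer ({t} : Set G))} :
    h.act g = 1 ↔ (g : G) = 1 ∨ (g : G) = t := by
  constructor
  · intro h1
    apply h.cent g (mem_cent.1 g.2)
    intro k hk
    have h2 := congrArg (fun f : MulAut K => ((f ⟨k, hk⟩ : K) : G)) h1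
    have h3 : (g : G) * k * (g : G)⁻¹ = k := h2
    exact mul_inv_eq_iff_eq_mul.1 h3
  · intro h1
    ext k
    rw [h.act_apply, MulAut.one_apply]
    rcases h1 with h1 | h1
    · rw [h1]; group
    · rw [h1, ← h.Kt k k.2, mul_inv_cancel_right]

theorem act_eq_iff {g g' : ↥(Subgroup.centralizer ({t} : Set G))} :
    h.act g = h.act g' ↔ (g : G) = g' ∨ (g : G) = t * g' := by
  have h1 : h.act g = h.act g' ↔ h.act (g * g'⁻¹) = 1 := by
    rw [map_mul, map_inv, mul_inv_eq_one]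
  rw [h1, h.act_eq_one_iff, Subgroup.coe_mul, Subgroup.coe_inv, mul_inv_eq_one, mul_inv_eq_iff_eq_mul]

include h in
theorem K_le {k : G} (hk : k ∈ K) : k ∈ Subgroup.centralizer ({t} : Set G) := mem_cent.2 (h.Kt k hk)

theorem act_K {k : G} (hk : k ∈ K) : h.act ⟨k, h.K_le hk⟩ = MulAut.conj ⟨k, hk⟩ := by
  ext l
  rw [h.act_apply, MulAut.conj_apply]
  rfl

include h in
theorem t_not_mem : t ∉ K := by
  have := h.not_conj 1
  rwa [one_mul, inv_one, mul_one] at this

/-- an element acting as an inner automorphism -/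
theorem inner {g : ↥(Subgroup.centralizer ({t} : Set G))} (hg : h.act g ∈ (MulAut.conj : K →* MulAut K).range) :
    (g : G) ∈ K ∨ t * (g : G) ∈ K := by
  obtain ⟨k, hk⟩ := hg
  have h1 : h.act g = h.act ⟨k, h.K_le k.2⟩ := by rw [← hk]; exact (h.act_K k.2).symm
  rcases h.act_eq_iff.1 h1 with h2 | h2
  · left; rw [h2]; exact k.2
  · right
    rw [h2, ← mul_assoc, h.t_sq, one_mul]; exact k.2

theorem not_inner {g : ↥(Subgroup.centralizer ({t} : Set G))} (hg : (g : G) * g = t) :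
    h.act g ∉ (MulAut.conj : K →* MulAut K).range := by
  intro h1
  apply h.t_not_mem
  rcases h.inner h1 with h2 | h2
  · rw [← hg]; exact mul_mem h2 h2
  · have e : t * (g : G) * (t * g) = t := by
      have := mem_cent.1 g.2
      rw [mul_assoc, ← mul_assoc (g : G), this, mul_assoc t (g : G), ← mul_assoc t t, h.t_sq, one_mul, hg]
    rw [← e]; exact mul_mem h2 h2

include h in
theorem e16 (A : Subgroup G) (hA : Elem A) (hc : ∀ a ∈ A, a * t = t * a) [Finite G] : Nat.card A ≤ 8 := by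
  let f : A →* MulAut K := h.act.comp
    { toFun := fun a => ⟨a, mem_cent.2 (hc a a.2)⟩, map_one' := rfl, map_mul' := fun _ _ => rfl }
  have h1 : Nat.card f.range ≤ 4 := by
    apply card_elem h.rep
    · intro x _; exact h.mem_PGL x
    · rintro _ ⟨a, rfl⟩
      rw [← map_mul]
      have : a * a = 1 := Subtype.ext (hA a a.2)
      rw [this, map_one]
  have h2 : Nat.card f.ker ≤ 2 := by
    have h3 : f.ker.map A.subtype ≤ Subgroup.zpowers t := by
      rintro _ ⟨a, ha, rfl⟩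
      have ha' : h.act ⟨a, mem_cent.2 (hc a a.2)⟩ = 1 := ha
      rcases h.act_eq_one_iff.1 ha' with h4 | h4
      · change (a : G) ∈ _
        have h4' : (a : G) = 1 := h4
        rw [h4']; exact one_mem _
      · change (a : G) ∈ _
        have h4' : (a : G) = t := h4
        rw [h4']; exact Subgroup.mem_zpowers t
    have h4 := Subgroup.card_le_of_le h3
    rw [Nat.card_zpowers, Subgroup.card_map_of_injective A.subtype_injective] at h4
    have h5 : orderOf t ∣ 2 := by rw [orderOf_dvd_iff_pow_eq_one, sq]; exact h.t_sq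
    have := Nat.le_of_dvd (by norm_num) h5
    omega
  have h3 : Nat.card A = Nat.card f.ker * Nat.card f.range := by
    rw [← Subgroup.index_ker, Subgroup.card_mul_index]
  rw [h3]
  calc _ ≤ 2 * 4 := Nat.mul_le_mul h2 h1
    _ = 8 := by norm_num

include h in
theorem q8 (a b z : G) (hat : a * t = t * a) (hbt : b * t = t * b) (haa : a * a = z) (hbb : b * b = z)
    (hab : a * b * a⁻¹ * b⁻¹ = z) (hzz : z * z = 1) : z = 1 := by
  let a' : ↥(Subgroup.centralizer ({t} : Set G)) := ⟨a, mem_cent.2 hat⟩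
  let b' : ↥(Subgroup.centralizer ({t} : Set G)) := ⟨b, mem_cent.2 hbt⟩
  have hzt : z * t = t * z := by rw [← haa, mul_assoc, hat, ← mul_assoc, hat, mul_assoc]
  let z' : ↥(Subgroup.centralizer ({t} : Set G)) := ⟨z, mem_cent.2 hzt⟩
  have e1 : a' * a' = z' := Subtype.ext haa
  have e2 : b' * b' = z' := Subtype.ext hbb
  have e3 : a' * b' * a'⁻¹ * b'⁻¹ = z' := Subtype.ext hab
  have h1 : h.act z' = 1 := by
    apply no_q8 h.rep (x := h.act a') (y := h.act b') (h.mem_PGL _) (h.mem_PGL _)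
    · rw [← map_mul, e1]
    · rw [← map_mul, e2]
    · rw [← map_inv, ← map_inv, ← map_mul, ← map_mul, ← map_mul, e3]
  rcases h.act_eq_one_iff.1 h1 with h2 | h2
  · exact h2
  exfalso
  have hz : z = t := h2
  have ha : h.act a' ∉ (MulAut.conj : K →* MulAut K).range := h.not_inner (haa.trans hz)
  have hb : h.act b' ∉ (MulAut.conj : K →* MulAut K).range := h.not_inner (hbb.trans hz)
  have hc : h.act (a' * b') ∉ (MulAut.conj : K →* MulAut K).range := by
    apply h.not_inner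
    change a * b * (a * b) = t
    have e4 : a * b = z * (b * a) := by rw [← hab]; group
    have e5 : a * b * (a * b) = z * (b * a) * (a * b) := by rw [← e4]
    have e6 : z * (b * a) * (a * b) = z * (b * (a * a) * b) := by group
    have e7 : b * z * b = z * z := by
      rw [← hbb]; group
    rw [e5, e6, haa, e7, hzz, mul_one, hz]
  apply hc
  rw [map_mul]
  exact h.rep.mul_mem_inn (h.mem_PGL _) ha (h.mem_PGL _) hb

end Hyp

/-- two distinct involutions of a subgroup `V` of order four -/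
theorem exists_four_of_card [Finite G] {V : Subgroup G} (hE : Elem V) (h4 : Nat.card V = 4) :
    ∃ a b : G, a ∈ V ∧ b ∈ V ∧ Four a b ∧ ∀ v ∈ V, v = 1 ∨ v = a ∨ v = b ∨ v = a * b := by
  classical
  obtain ⟨a, haV, ha⟩ : ∃ a ∈ V, a ≠ 1 := by
    by_contra hcon
    push Not at hcon
    have : V = ⊥ := by rw [eq_bot_iff]; intro v hv; rw [hcon v hv]; exact one_mem _
    rw [this, Subgroup.card_bot] at h4
    omega
  obtain ⟨b, hbV, hb1, hba⟩ : ∃ b ∈ V, b ≠ 1 ∧ b ≠ a := by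
    by_contra hcon
    push Not at hcon
    have h1 : (V : Set G) ⊆ (({1, a} : Finset G) : Set G) := by
      intro v hv
      rw [Finset.mem_coe, Finset.mem_insert, Finset.mem_singleton]
      by_cases hv1 : v = 1
      · exact Or.inl hv1
      · exact Or.inr (hcon v hv hv1)
    have h2 := Set.ncard_le_ncard h1 (Finset.finite_toSet _)
    rw [Set.ncard_coe_finset] at h2
    have h3 : (V : Set G).ncard = 4 := h4
    have := Finset.card_le_two (a := (1 : G)) (b := a)
    omega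
  have hF : Four a b := ⟨hE a haV, hE b hbV, ha, hb1, hba.symm, hE.comm haV hbV⟩
  refine ⟨a, b, haV, hbV, hF, ?_⟩
  intro v hv
  by_contra hcon
  push Not at hcon
  obtain ⟨n1, n2, n3, n4⟩ := hcon
  have h1 : ((({v, 1, a, b, a * b} : Finset G)) : Set G) ⊆ V := by
    intro x hx
    rw [Finset.mem_coe] at hx
    simp only [Finset.mem_insert, Finset.mem_singleton] at hx
    rcases hx with rfl | rfl | rfl | rfl | rfl
    · exact hv
    · exact one_mem _
    · exact haV
    · exact hbV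
    · exact mul_mem haV hbV
  have h2 := Set.ncard_le_ncard h1 (Set.toFinite _)
  rw [Set.ncard_coe_finset] at h2
  have h3 : (V : Set G).ncard = 4 := h4
  have h5 : ({v, 1, a, b, a * b} : Finset G).card = 5 := by
    have k1 : a ≠ a * b := fun e => hb1 (left_eq_mul.1 e)
    have k2 : b ≠ a * b := fun e => ha (right_eq_mul.1 e)
    have k3 : (1 : G) ≠ a * b := fun e => hF.right.b1 e.symm
    rw [Finset.card_insert_of_notMem, Finset.card_insert_of_notMem, Finset.card_insert_of_notMem,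
      Finset.card_insert_of_notMem, Finset.card_singleton]
    · simp only [Finset.mem_singleton]; exact k2
    · simp only [Finset.mem_insert, Finset.mem_singleton, not_or]; exact ⟨hba.symm, k1⟩
    · simp only [Finset.mem_insert, Finset.mem_singleton, not_or]; exact ⟨ha.symm, hb1.symm, k3⟩
    · simp only [Finset.mem_insert, Finset.mem_singleton, not_or]; exact ⟨n1, n2, n3, n4⟩
  omega

/-- the situation of section 2: `y` an outer involution (type II, `d = 2`) with `t ∼ y ∼ t y` -/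
structure TypeS (F : Type*) [Field F] (t w y : G) (V K : Subgroup G) : Prop where
  y_sq : y * y = 1
  ty : t * y = y * t
  yV : ∀ v ∈ V, y * v * y⁻¹ ∈ V
  yh : y * w * y⁻¹ = w⁻¹
  conj_y : ∃ g : G, g * t * g⁻¹ = y
  conj_ty : ∃ g : G, g * t * g⁻¹ = t * y
  y_notin : y ∉ K
  ty_notin : t * y ∉ K
  two : ¬ IsSquare (2 : F)

namespace Hyp

variable {F : Type*} [Field F] [Fintype F] {t : G} {K : Subgroup G} (h : Hyp F t K)

include h in
/-- **(0.3)** the local data at a four-group of `K` -/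
theorem exists_loc [Finite G] {V : Subgroup G} (hV : V ≤ K) (hE : Elem V) (h4 : Nat.card V = 4) :
    ∃ w ∈ K, Loc t w V ∧ (TypeN t w V ∨ (∃ y, TypeY t w y V) ∨ (∃ y, TypeZ t w y V) ∨
      ∃ y, TypeS F t w y V K) := by
  obtain ⟨a, b, haV, hbV, hF, hall⟩ := exists_four_of_card hE h4
  have haK := hV haV
  have hbK := hV hbV
  have hF' : Four (⟨a, haK⟩ : K) ⟨b, hbK⟩ :=
    ⟨Subtype.ext hF.aa, Subtype.ext hF.bb, fun e => hF.a1 (congrArg Subtype.val e),
      fun e => hF.b1 (congrArg Subtype.val e), fun e => hF.ne (congrArg Subtype.val e), Subtype.ext hF.comm⟩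
  obtain ⟨w, δ, hw3, hw1, hwa, hwb, hδa, hδb, hδw, hδδ, hδi, hst⟩ := exists_frame h.rep h.fld_one hF'
  have hwa' : (w : G) * a * (w : G)⁻¹ = b := congrArg Subtype.val hwa
  have hwb' : (w : G) * b * (w : G)⁻¹ = a * b := congrArg Subtype.val hwb
  have hw3' : (w : G) * w * w = 1 := congrArg Subtype.val hw3
  have hwab' : (w : G) * (a * b) * (w : G)⁻¹ = a := by
    have e : (w : G) * (a * b) * (w : G)⁻¹ = (w * a * (w : G)⁻¹) * (w * b * (w : G)⁻¹) := by group
    rw [e, hwa', hwb', hF.comm, ← mul_assoc, hF.bb, one_mul]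
  have habV : a * b ∈ V := mul_mem haV hbV
  -- stabiliser of `V` pointwise, in `G`
  have hstG : ∀ g : G, g * t = t * g → g * a = a * g → g * b = b * g → ∃ v ∈ V, g = v ∨ g = t * v := by
    intro g hg h1 h2
    obtain ⟨u, hu, e⟩ := hst (h.act ⟨g, mem_cent.2 hg⟩)
      (Subtype.ext (by rw [h.act_apply]; change g * a * g⁻¹ = a; rw [h1, mul_inv_cancel_right]))
      (Subtype.ext (by rw [h.act_apply]; change g * b * g⁻¹ = b; rw [h2, mul_inv_cancel_right]))
    have huV : (u : G) ∈ V := by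
      rcases hu with rfl | rfl | rfl | rfl
      · exact one_mem _
      · exact haV
      · exact hbV
      · exact habV
    have e' : h.act ⟨g, mem_cent.2 hg⟩ = h.act ⟨u, h.K_le u.2⟩ := by rw [e]; exact (h.act_K u.2).symm
    exact ⟨u, huV, h.act_eq_iff.1 e'⟩
  have hwV : ∀ v ∈ V, (w : G) * v * (w : G)⁻¹ ∈ V := by
    intro v hv
    rcases hall v hv with rfl | rfl | rfl | rfl
    · rw [mul_one, mul_inv_cancel]; exact one_mem _
    · rw [hwa']; exact hbV
    · rw [hwb']; exact habV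
    · rw [hwab']; exact haV
  have hfpf : ∀ v ∈ V, (w : G) * v = v * w → v = 1 := by
    intro v hv hc
    have hc' : (w : G) * v * (w : G)⁻¹ = v := by rw [hc, mul_inv_cancel_right]
    rcases hall v hv with rfl | rfl | rfl | rfl
    · rfl
    · exact absurd (hc'.symm.trans hwa') hF.ne
    · exact absurd (right_eq_mul.1 (hc'.symm.trans hwb')) hF.a1
    · exact absurd (mul_eq_left.1 (hc'.symm.trans hwab')) hF.b1
  have hloc : Loc t (w : G) V :=
    { cyc := h.cyc
      t_sq := h.t_sq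
      t_ne := h.t_ne
      elem := hE
      card_V := h4
      h_cube := hw3'
      ht := h.Kt w w.2
      hV := hwV
      fpfV := hfpf
      tV := fun v hv => (h.Kt v (hV hv)).symm
      cent := fun g hg hgv => hstG g hg (hgv a haV) (hgv b hbV)
      not_conj := fun g hg => h.not_conj g (hV hg)
      e16 := fun A hA hc => h.e16 A hA hc
      q8 := fun a b z h1 h2 h3 h4 h5 _ => h.q8 a b z h1 h2 h3 h4 h5 (by assumption) }
  refine ⟨w, w.2, hloc, ?_⟩
  -- an element acting as `δ`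
  have hact : ∀ g : ↥(Subgroup.centralizer ({t} : Set G)), h.act g = δ →
      (∀ v ∈ V, (g : G) * v * (g : G)⁻¹ ∈ V) ∧ (g : G) * w * (g : G)⁻¹ = (w : G)⁻¹ := by
    intro g hg
    have ha : (g : G) * a * (g : G)⁻¹ = b := by
      have := congrArg Subtype.val hδa
      rw [← hg, h.act_apply] at this
      exact this
    have hb : (g : G) * b * (g : G)⁻¹ = a := by
      have := congrArg Subtype.val hδb
      rw [← hg, h.act_apply] at this
      exact this
    refine ⟨?_, ?_⟩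
    · intro v hv
      rcases hall v hv with rfl | rfl | rfl | rfl
      · rw [mul_one, mul_inv_cancel]; exact one_mem _
      · rw [ha]; exact hbV
      · rw [hb]; exact haV
      · have e : (g : G) * (a * b) * (g : G)⁻¹ = (g * a * (g : G)⁻¹) * (g * b * (g : G)⁻¹) := by group
        rw [e, ha, hb]; exact mul_mem hbV haV
    · have := congrArg Subtype.val hδw
      rw [← hg, h.act_apply] at this
      exact this
  by_cases hin : δ ∈ (MulAut.conj : K →* MulAut K).range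
  · right; left
    obtain ⟨y, hy⟩ := hin
    have hy2 : y * y = 1 := h.rep.conj_injective (by rw [map_mul, hy, hδδ, map_one])
    obtain ⟨h1, h2⟩ := hact ⟨y, h.K_le y.2⟩ (by rw [h.act_K]; exact hy)
    exact ⟨y, congrArg Subtype.val hy2, (h.Kt y y.2).symm, h1, h2, fun g hg => h.not_conj g (by rw [hg]; exact y.2)⟩
  by_cases hex : ∃ g : ↥(Subgroup.centralizer ({t} : Set G)), h.act g = δ
  · obtain ⟨g, hg⟩ := hex
    obtain ⟨h1, h2⟩ := hact g hg
    have hgt := mem_cent.1 g.2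
    have h3 : (g * g : ↥(Subgroup.centralizer ({t} : Set G))) = 1 ∨
        ((g * g : ↥(Subgroup.centralizer ({t} : Set G))) : G) = t := by
      rcases h.act_eq_one_iff.1 (show h.act (g * g) = 1 by rw [map_mul, hg, hδδ]) with h3 | h3
      · exact Or.inl (Subtype.ext h3)
      · exact Or.inr h3
    rcases h3 with h3 | h3
    · have h3' : (g : G) * g = 1 := congrArg Subtype.val h3
      have htg : t * (g : G) * (t * g) = 1 := by
        rw [mul_assoc, ← mul_assoc (g : G), hgt, mul_assoc t (g : G), ← mul_assoc t t, h.t_sq, one_mul, h3']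
      by_cases hc1 : ∃ x : G, x * t * x⁻¹ = g
      · by_cases hc2 : ∃ x : G, x * t * x⁻¹ = t * g
        · right; right; right
          have hn : ∀ z : ↥(Subgroup.centralizer ({t} : Set G)), h.act z = δ → (z : G) ∉ K := by
            intro z hz hzK
            apply hin
            rw [← hz]
            exact ⟨⟨z, hzK⟩, (h.act_K hzK).symm⟩
          refine ⟨g, h3', hgt.symm, h1, h2, hc1, hc2, hn g hg, ?_, fun hsq => hin (hδi.2 hsq)⟩
          refine hn (⟨t, mem_cent.2 rfl⟩ * g) ?_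
          rw [← hg, h.act_eq_iff]
          exact Or.inr rfl
        · right; left
          refine ⟨t * g, htg, ?_, ?_, ?_, fun x hx => hc2 ⟨x, hx⟩⟩
          · rw [mul_assoc t (g : G), hgt]
          · intro v hv
            have e : t * (g : G) * v * (t * (g : G))⁻¹ = t * (g * v * (g : G)⁻¹) * t⁻¹ := by group
            have h5 := h.Kt _ (hV (h1 v hv))
            rw [e, ← h5, mul_inv_cancel_right]
            exact h1 v hv
          · have e : t * (g : G) * w * (t * (g : G))⁻¹ = t * (g * w * (g : G)⁻¹) * t⁻¹ := by group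
            have h5 := h.Kt _ (inv_mem w.2)
            rw [e, h2, ← h5, mul_inv_cancel_right]
      · right; left
        exact ⟨g, h3', hgt.symm, h1, h2, fun x hx => hc1 ⟨x, hx⟩⟩
    · right; right; left
      exact ⟨g, h3, h1, h2⟩
  · left
    intro g hg hgV hgw
    apply hex
    let γ := h.act ⟨g, mem_cent.2 hg⟩
    have hγ : ∀ k : K, ((γ k : K) : G) = g * k * g⁻¹ := fun k => rfl
    -- it is enough to find an element of `⟨w⟩ γ` mapping `a` to `b`
    have key : ∀ x : K, x * w = w * x → (MulAut.conj x * γ) ⟨a, haK⟩ = ⟨b, hbK⟩ →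
        ∃ g : ↥(Subgroup.centralizer ({t} : Set G)), h.act g = δ := by
      intro x hx hxa
      set β := MulAut.conj x * γ with hβ
      have hβw : β w = w⁻¹ := by
        rw [hβ, MulAut.mul_apply]
        have e1 : γ w = w⁻¹ := Subtype.ext (by rw [hγ, hgw]; rfl)
        rw [e1, MulAut.conj_apply]
        have e2 : x * w⁻¹ = w⁻¹ * x := by
          rw [mul_inv_eq_iff_eq_mul, mul_assoc, hx, inv_mul_cancel_left]
        rw [e2, mul_inv_cancel_right]
      have hβb : β ⟨b, hbK⟩ = ⟨a, haK⟩ := by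
        rw [← hwa, map_mul, map_mul, map_inv, hβw, hxa, inv_inv]
        have : w⁻¹ * ⟨b, hbK⟩ * w = ⟨a, haK⟩ := by rw [← hwa]; group
        exact this
      obtain ⟨u, hu, hue⟩ := hst (δ * β) (by rw [MulAut.mul_apply, hxa, hδb])
        (by rw [MulAut.mul_apply, hβb, hδa])
      have hu1 : u = 1 := by
        apply fpf_of hF' hwa hwb hu
        have e1 : (δ * β) w = w := by rw [MulAut.mul_apply, hβw, map_inv, hδw, inv_inv]
        rw [hue, MulAut.conj_apply] at e1
        exact (mul_inv_eq_iff_eq_mul.1 e1).symm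
      have hβδ : β = δ := by
        have e1 : δ * β = 1 := by rw [hue, hu1, map_one]
        rw [← mul_right_inj δ, e1, hδδ]
      refine ⟨⟨x, h.K_le x.2⟩ * ⟨g, mem_cent.2 hg⟩, ?_⟩
      rw [map_mul, h.act_K x.2]
      exact hβδ
    rcases hall _ (hgV a haV) with h1 | h1 | h1 | h1
    · exfalso
      apply hF.a1
      have e : a = g⁻¹ * (g * a * g⁻¹) * g := by group
      rw [e, h1]; group
    · refine key w rfl ?_
      apply Subtype.ext
      rw [MulAut.mul_apply, MulAut.conj_apply]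
      change (w : G) * (g * a * g⁻¹) * (w : G)⁻¹ = b
      rw [h1, hwa']
    · refine key 1 (by rw [one_mul, mul_one]) ?_
      apply Subtype.ext
      rw [map_one, one_mul]
      exact h1
    · refine key w⁻¹ (by group) ?_
      apply Subtype.ext
      rw [MulAut.mul_apply, MulAut.conj_apply]
      change (w : G)⁻¹ * (g * a * g⁻¹) * ((w : G)⁻¹)⁻¹ = b
      rw [h1, inv_inv, ← hwb']; group

end Hyp

end Cfsg.Agent.OddCyclic.B2Pgl
end

-- part: OddCyclic/B2SpecDefs
section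
/-!
# S0342, case B2, section 2: type II, `d = 2`, all outer involutions are conjugate to `t`

`C_G(t) = ⟨t⟩ × PGL₂(p)`, `p ≥ 11`, `p ≡ ±3 mod 8`. `V` is a four-group of `PSL₂(p)`, `y` an involution of
`N(V) ∩ C(t)` acting non-trivially on `V`, `i ∈ V` commutes with `y`, `Z = O(C_G(⟨t, i⟩))`, so
`C_G(⟨t, i⟩) = Z (⟨t⟩ × V⟨y⟩)`.
-/

set_option autoImplicit false

namespace Cfsg.Agent.OddCyclic.B2Defs

open Cfsg.Agent.LieExceptional.CITDefs

variable {G : Type*} [Group G]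

/-- the situation of section 2 -/
structure Spec (t h y i : G) (V Z : Subgroup G) : Prop extends Loc t h V where
  y_sq : y * y = 1
  ty : t * y = y * t
  yV : ∀ v ∈ V, y * v * y⁻¹ ∈ V
  y_not : ∃ v ∈ V, y * v ≠ v * y
  i_mem : i ∈ V
  i_ne : i ≠ 1
  iy : i * y = y * i
  /-- all outer involutions are conjugate to `t` -/
  conj_y : ∃ g : G, g * t * g⁻¹ = y
  conj_ty : ∃ g : G, g * t * g⁻¹ = t * y
  /-- `Z ≠ 1` of odd order, centralised by `t` and `i`, inverted by `y` and by the elements of `V - ⟨i⟩` -/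
  Z_odd : Odd (Nat.card Z)
  Z_ne : Z ≠ ⊥
  Z_t : ∀ z ∈ Z, z * t = t * z
  Z_i : ∀ z ∈ Z, z * i = i * z
  Z_y : ∀ z ∈ Z, y * z * y⁻¹ = z⁻¹
  Z_v : ∀ v ∈ V, v ≠ 1 → v ≠ i → ∀ z ∈ Z, v * z * v⁻¹ = z⁻¹
  Z_gen : ∀ g : G, g * t = t * g → g * i = i * g →
    ∃ z ∈ Z, ∃ v ∈ V, g = z * v ∨ g = z * (t * v) ∨ g = z * (y * v) ∨ g = z * (t * (y * v))

end Cfsg.Agent.OddCyclic.B2Defs
end

-- part: OddCyclic/B2SpecFus
section
/-!
# S0342, case B2, section 2: the Sylow 2-subgroup `S = ⟨t⟩ × V⟨y⟩` of `C_G(t)` and fusion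

`exists_conj_inner`: `y` is conjugate to `t` by an element of `C_G(i)` normalising `{t^a y^b i^c}`, the same for
`t y`; `three_dvd`: there is an element of order 3 in `C_G(i)` normalising this group.
-/

set_option autoImplicit false

namespace Cfsg.Agent.OddCyclic.B2SpecFus

open Cfsg.Agent.LieExceptional.CITDefs Cfsg.Agent.LieExceptional.CITBasic Cfsg.Agent.OddCyclic.B2Defs

variable {G : Type*} [Group G] {t h y i : G} {V Z : Subgroup G}

theorem vv (s : Spec t h y i V Z) {v : G} (hv : v ∈ V) : v * v = 1 := s.elem v hv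

theorem vinv (s : Spec t h y i V Z) {v : G} (hv : v ∈ V) : v⁻¹ = v := inv_eq_of_mul_eq_one_left (vv s hv)

theorem vcomm (s : Spec t h y i V Z) {v w : G} (hv : v ∈ V) (hw : w ∈ V) : v * w = w * v :=
  s.elem.comm hv hw

theorem tinv (s : Spec t h y i V Z) : t⁻¹ = t := inv_eq_of_mul_eq_one_left s.t_sq
theorem yinv (s : Spec t h y i V Z) : y⁻¹ = y := inv_eq_of_mul_eq_one_left s.y_sq
theorem ii (s : Spec t h y i V Z) : i * i = 1 := vv s s.i_mem

/-- the elements of the four-group -/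
theorem four (s : Spec t h y i V Z) {a : G} (ha : a ∈ V) (ha1 : a ≠ 1) (hai : a ≠ i) {v : G} (hv : v ∈ V) :
    v = 1 ∨ v = i ∨ v = a ∨ v = i * a := by
  classical
  by_contra hcon
  push Not at hcon
  obtain ⟨h1, h2, h3, h4⟩ := hcon
  have hfin : Finite V := Nat.finite_of_card_ne_zero (by rw [s.card_V]; norm_num)
  have := Fintype.ofFinite V
  have hia : i * a ∈ V := V.mul_mem s.i_mem ha
  have hia1 : i * a ≠ 1 := by
    intro h
    apply hai
    rw [eq_inv_of_mul_eq_one_left h, vinv s ha]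
  have hiai : i * a ≠ i := fun h => ha1 (by simpa using h)
  have hiaa : i * a ≠ a := fun h => s.i_ne (by simpa using h)
  let S : Finset V := {⟨1, V.one_mem⟩, ⟨i, s.i_mem⟩, ⟨a, ha⟩, ⟨i * a, hia⟩, ⟨v, hv⟩}
  have hS : S.card = 5 := by
    simp only [S]
    rw [Finset.card_insert_of_notMem, Finset.card_insert_of_notMem, Finset.card_insert_of_notMem,
      Finset.card_insert_of_notMem, Finset.card_singleton]
    · simp only [Finset.mem_singleton, Subtype.mk.injEq]
      exact fun h => h4 h.symm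
    · simp only [Finset.mem_insert, Finset.mem_singleton, Subtype.mk.injEq, not_or]
      exact ⟨fun h => hiaa h.symm, fun h => h3 h.symm⟩
    · simp only [Finset.mem_insert, Finset.mem_singleton, Subtype.mk.injEq, not_or]
      exact ⟨fun h => hai h.symm, fun h => hiai h.symm, fun h => h2 h.symm⟩
    · simp only [Finset.mem_insert, Finset.mem_singleton, Subtype.mk.injEq, not_or]
      exact ⟨fun h => s.i_ne h.symm, fun h => ha1 h.symm, fun h => hia1 h.symm, fun h => h1 h.symm⟩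
  have h5 := Finset.card_le_univ S
  rw [hS, ← Nat.card_eq_fintype_card, s.card_V] at h5
  omega

/-- a third element of `V` and its conjugate under `y` -/
theorem exists_a (s : Spec t h y i V Z) : ∃ a ∈ V, a ≠ 1 ∧ a ≠ i ∧ y * a = i * a * y := by
  obtain ⟨a, ha, hya⟩ := s.y_not
  have ha1 : a ≠ 1 := by
    rintro rfl
    exact hya (by rw [mul_one, one_mul])
  have hai : a ≠ i := by
    rintro rfl
    exact hya s.iy.symm
  refine ⟨a, ha, ha1, hai, ?_⟩
  have h1 := s.yV a ha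
  rcases four s ha ha1 hai h1 with h | h | h | h
  · exfalso
    apply ha1
    have : a = y⁻¹ * (y * a * y⁻¹) * y := by group
    rw [this, h]; group
  · exfalso
    apply hai
    have h2 : a = y⁻¹ * (y * a * y⁻¹) * y := by group
    rw [h] at h2
    rw [h2, mul_assoc, s.iy]
    group
  · exfalso
    apply hya
    calc y * a = (y * a * y⁻¹) * y := by group
      _ = a * y := by rw [h]
  · calc y * a = (y * a * y⁻¹) * y := by group
      _ = i * a * y := by rw [h]

/-- the group `S = ⟨t⟩ × V⟨y⟩` -/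
def SS (t y : G) (V : Subgroup G) : Set G := {g | ∃ v ∈ V, g = v ∨ g = t * v ∨ g = y * v ∨ g = t * (y * v)}

theorem t_mul_mem (s : Spec t h y i V Z) {g : G} (hg : g ∈ SS t y V) : t * g ∈ SS t y V := by
  obtain ⟨v, hv, h | h | h | h⟩ := hg
  · exact ⟨v, hv, Or.inr (Or.inl (by rw [h]))⟩
  · exact ⟨v, hv, Or.inl (by rw [h, ← mul_assoc, s.t_sq, one_mul])⟩
  · exact ⟨v, hv, Or.inr (Or.inr (Or.inr (by rw [h])))⟩
  · exact ⟨v, hv, Or.inr (Or.inr (Or.inl (by rw [h, ← mul_assoc t, s.t_sq, one_mul])))⟩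

theorem y_mul_mem (s : Spec t h y i V Z) {g : G} (hg : g ∈ SS t y V) : y * g ∈ SS t y V := by
  obtain ⟨v, hv, h | h | h | h⟩ := hg
  · exact ⟨v, hv, Or.inr (Or.inr (Or.inl (by rw [h])))⟩
  · exact ⟨v, hv, Or.inr (Or.inr (Or.inr (by rw [h, ← mul_assoc, ← mul_assoc, s.ty])))⟩
  · exact ⟨v, hv, Or.inl (by rw [h, ← mul_assoc, s.y_sq, one_mul])⟩
  · refine ⟨v, hv, Or.inr (Or.inl ?_)⟩
    rw [h]
    calc y * (t * (y * v)) = (y * t) * (y * v) := by group
      _ = (t * y) * (y * v) := by rw [s.ty]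
      _ = t * (y * y) * v := by group
      _ = t * v := by rw [s.y_sq, mul_one]

theorem v_mul_mem (s : Spec t h y i V Z) {g w : G} (hw : w ∈ V) (hg : g ∈ SS t y V) : w * g ∈ SS t y V := by
  have hy' : y * w * y ∈ V := by
    have := s.yV w hw
    rwa [yinv s] at this
  have hwy : w * y = y * (y * w * y) := by
    calc w * y = (y * y) * w * y := by rw [s.y_sq, one_mul]
      _ = _ := by group
  have hwt : w * t = t * w := (s.tV w hw).symm
  obtain ⟨v, hv, h | h | h | h⟩ := hg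
  · exact ⟨w * v, V.mul_mem hw hv, Or.inl (by rw [h])⟩
  · exact ⟨w * v, V.mul_mem hw hv, Or.inr (Or.inl (by rw [h, ← mul_assoc, hwt, mul_assoc]))⟩
  · exact ⟨y * w * y * v, V.mul_mem hy' hv, Or.inr (Or.inr (Or.inl (by
      rw [h, ← mul_assoc, hwy, mul_assoc])))⟩
  · refine ⟨y * w * y * v, V.mul_mem hy' hv, Or.inr (Or.inr (Or.inr ?_))⟩
    rw [h]
    calc w * (t * (y * v)) = (w * t) * y * v := by group
      _ = t * (w * y) * v := by rw [hwt]; group
      _ = t * (y * (y * w * y)) * v := by rw [hwy]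
      _ = _ := by group

theorem mul_mem' (s : Spec t h y i V Z) {g k : G} (hk : k ∈ SS t y V) (hg : g ∈ SS t y V) : k * g ∈ SS t y V := by
  obtain ⟨v, hv, h | h | h | h⟩ := hk
  · rw [h]; exact v_mul_mem s hv hg
  · rw [h, mul_assoc]; exact t_mul_mem s (v_mul_mem s hv hg)
  · rw [h, mul_assoc]; exact y_mul_mem s (v_mul_mem s hv hg)
  · rw [h, mul_assoc, mul_assoc]; exact t_mul_mem s (y_mul_mem s (v_mul_mem s hv hg))

theorem inv_mem' (s : Spec t h y i V Z) {g : G} (hg : g ∈ SS t y V) : g⁻¹ ∈ SS t y V := by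
  have h1 : (1 : G) ∈ SS t y V := ⟨1, V.one_mem, Or.inl rfl⟩
  obtain ⟨v, hv, h | h | h | h⟩ := hg
  · rw [h, vinv s hv]; exact ⟨v, hv, Or.inl rfl⟩
  · rw [h, mul_inv_rev, vinv s hv, tinv s]
    exact v_mul_mem s hv (by simpa using t_mul_mem s h1)
  · rw [h, mul_inv_rev, vinv s hv, yinv s]
    exact v_mul_mem s hv (by simpa using y_mul_mem s h1)
  · rw [h, mul_inv_rev, mul_inv_rev, vinv s hv, tinv s, yinv s, mul_assoc]
    exact v_mul_mem s hv (y_mul_mem s (by simpa using t_mul_mem s h1))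

/-- `S` as a subgroup -/
def S (s : Spec t h y i V Z) : Subgroup G where
  carrier := SS t y V
  one_mem' := ⟨1, V.one_mem, Or.inl rfl⟩
  mul_mem' := fun ha hb => mul_mem' s ha hb
  inv_mem' := fun ha => inv_mem' s ha

theorem t_mem (s : Spec t h y i V Z) : t ∈ S s := ⟨1, V.one_mem, Or.inr (Or.inl (mul_one t).symm)⟩
theorem y_mem (s : Spec t h y i V Z) : y ∈ S s := ⟨1, V.one_mem, Or.inr (Or.inr (Or.inl (mul_one y).symm))⟩
theorem V_le (s : Spec t h y i V Z) : V ≤ S s := fun v hv => ⟨v, hv, Or.inl rfl⟩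

/-- `S` centralises `i` and `t` -/
theorem S_i (s : Spec t h y i V Z) {g : G} (hg : g ∈ S s) : g * i = i * g := by
  obtain ⟨v, hv, h | h | h | h⟩ := hg
  · rw [h]; exact vcomm s hv s.i_mem
  · rw [h, mul_assoc, vcomm s hv s.i_mem, ← mul_assoc, s.tV i s.i_mem, mul_assoc]
  · rw [h, mul_assoc, vcomm s hv s.i_mem, ← mul_assoc, ← s.iy, mul_assoc]
  · rw [h]
    calc t * (y * v) * i = t * y * (v * i) := by group
      _ = t * (y * i) * v := by rw [vcomm s hv s.i_mem]; group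
      _ = (t * i) * y * v := by rw [← s.iy]; group
      _ = _ := by rw [s.tV i s.i_mem]; group

theorem S_t (s : Spec t h y i V Z) {g : G} (hg : g ∈ S s) : g * t = t * g := by
  obtain ⟨v, hv, h | h | h | h⟩ := hg
  · rw [h]; exact (s.tV v hv).symm
  · rw [h, mul_assoc, ← s.tV v hv]
  · rw [h, mul_assoc, ← s.tV v hv, ← mul_assoc, ← s.ty, mul_assoc]
  · rw [h]
    calc t * (y * v) * t = t * y * (v * t) := by group
      _ = t * (y * t) * v := by rw [← s.tV v hv]; group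
      _ = _ := by rw [← s.ty]; group

/-- squares of elements of `S` -/
theorem S_sq (s : Spec t h y i V Z) {g : G} (hg : g ∈ S s) : g * g = 1 ∨ g * g = i := by
  obtain ⟨a, ha, ha1, hai, hya⟩ := exists_a s
  have hyv : ∀ v ∈ V, (y * v) * (y * v) = 1 ∨ (y * v) * (y * v) = i := by
    intro v hv
    rcases four s ha ha1 hai hv with h | h | h | h
    · left; rw [h, mul_one, s.y_sq]
    · left; rw [h]
      calc y * i * (y * i) = (y * i) * y * i := by group
        _ = i * (y * y) * i := by rw [← s.iy]; group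
        _ = 1 := by rw [s.y_sq, mul_one, ii s]
    · right; rw [h]
      calc y * a * (y * a) = (y * a) * y * a := by group
        _ = i * a * (y * y) * a := by rw [hya]; group
        _ = i * (a * a) := by rw [s.y_sq]; group
        _ = i := by rw [vv s ha, mul_one]
    · right; rw [h]
      have h1 : y * (i * a) = a * y := by
        calc y * (i * a) = (y * i) * a := by group
          _ = i * (y * a) := by rw [← s.iy]; group
          _ = (i * i) * a * y := by rw [hya]; group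
          _ = a * y := by rw [ii s, one_mul]
      calc y * (i * a) * (y * (i * a)) = (y * (i * a)) * y * (i * a) := by group
        _ = a * (y * y) * (i * a) := by rw [h1]; group
        _ = (a * i) * a := by rw [s.y_sq]; group
        _ = i * (a * a) := by rw [vcomm s ha s.i_mem]; group
        _ = i := by rw [vv s ha, mul_one]
  obtain ⟨v, hv, h | h | h | h⟩ := hg
  · left; rw [h]; exact vv s hv
  · left; rw [h]
    calc t * v * (t * v) = t * (v * t) * v := by group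
      _ = (t * t) * (v * v) := by rw [← s.tV v hv]; group
      _ = 1 := by rw [s.t_sq, vv s hv, one_mul]
  · rw [h]; exact hyv v hv
  · have h1 : g * g = (y * v) * (y * v) := by
      have h2 : y * v * t = t * (y * v) := S_t s (⟨v, hv, Or.inr (Or.inr (Or.inl rfl))⟩)
      rw [h]
      calc t * (y * v) * (t * (y * v)) = t * (y * v * t) * (y * v) := by group
        _ = (t * t) * (y * v) * (y * v) := by rw [h2]; group
        _ = _ := by rw [s.t_sq, one_mul]
    rw [h1]; exact hyv v hv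

theorem S_two (s : Spec t h y i V Z) : IsPGroup 2 (S s) := by
  rintro ⟨g, hg⟩
  refine ⟨2, ?_⟩
  apply Subtype.ext
  show g ^ 2 ^ 2 = 1
  have h1 : g ^ 2 ^ 2 = (g * g) * (g * g) := by
    rw [show (2 : ℕ) ^ 2 = 4 by norm_num]
    simp only [pow_succ, pow_zero, one_mul]
    group
  rw [h1]
  rcases S_sq s hg with h | h
  · rw [h, one_mul]
  · rw [h, ii s]

/-- `C(t) ∩ C(i) = Z S` -/
theorem gen (s : Spec t h y i V Z) {g : G} (ht : g * t = t * g) (hi : g * i = i * g) :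
    ∃ z ∈ Z, ∃ u ∈ S s, g = z * u := by
  obtain ⟨z, hz, v, hv, h⟩ := s.Z_gen g ht hi
  rcases h with h | h | h | h
  · exact ⟨z, hz, v, ⟨v, hv, Or.inl rfl⟩, h⟩
  · exact ⟨z, hz, _, ⟨v, hv, Or.inr (Or.inl rfl)⟩, h⟩
  · exact ⟨z, hz, _, ⟨v, hv, Or.inr (Or.inr (Or.inl rfl))⟩, h⟩
  · exact ⟨z, hz, _, ⟨v, hv, Or.inr (Or.inr (Or.inr rfl))⟩, h⟩

theorem eq_one_of_sq_sq {z : G} (hz : z ∈ Z) (hodd : Odd (Nat.card Z)) {k : ℕ} (h : z ^ 2 ^ k = 1) : z = 1 := by
  have h1 : orderOf z ∣ 2 ^ k := orderOf_dvd_of_pow_eq_one h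
  have h2 : orderOf z ∣ Nat.card Z := Z.orderOf_dvd_natCard hz
  have h3 : (Nat.card Z).Coprime (2 ^ k) := Nat.Coprime.pow_right _ (Nat.coprime_two_right.2 hodd)
  have h4 := Nat.dvd_gcd h2 h1
  rw [h3] at h4
  exact orderOf_eq_one_iff.1 (Nat.dvd_one.1 h4)

variable [Finite G]

/-- `S` is a Sylow 2-subgroup of `C_G(t)` -/
theorem S_syl (s : Spec t h y i V Z) : IsSyl2 (Subgroup.centralizer ({t} : Set G)) (S s) := by
  refine ⟨?_, S_two s, ?_⟩
  · intro g hg
    rw [Subgroup.mem_centralizer_singleton_iff]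
    exact S_t s hg
  · intro Y hY hY2 hSY
    by_contra hne
    have hlt : S s < Y := lt_of_le_of_ne hSY (fun h => hne h.symm)
    have : Fact (Nat.Prime 2) := ⟨Nat.prime_two⟩
    -- an element of `Y - S` normalising `S`
    obtain ⟨x, hxY, hxS, hxn⟩ : ∃ x ∈ Y, x ∉ S s ∧ ∀ u ∈ S s, x * u * x⁻¹ ∈ S s := by
      have hnil : Group.IsNilpotent Y := hY2.isNilpotent
      have h1 : (S s).subgroupOf Y < Subgroup.normalizer (((S s).subgroupOf Y : Subgroup Y) : Set Y) := by
        apply Group.normalizerCondition_of_isNilpotent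
        rw [lt_top_iff_ne_top]
        intro h
        rw [Subgroup.subgroupOf_eq_top] at h
        exact hlt.not_ge h
      obtain ⟨x, hx, hx'⟩ := SetLike.exists_of_lt h1
      refine ⟨x, x.2, hx', fun u hu => ?_⟩
      have h2 := (Subgroup.mem_normalizer_iff.1 hx ⟨u, hSY hu⟩).1 hu
      exact h2
    have hxt : x * t = t * x := Subgroup.mem_centralizer_singleton_iff.1 (hY hxY)
    obtain ⟨a, ha, ha1, hai, hya⟩ := exists_a s
    have hsq : (y * a) * (y * a) = i := by
      calc y * a * (y * a) = (y * a) * y * a := by group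
        _ = i * a * (y * y) * a := by rw [hya]; group
        _ = i * (a * a) := by rw [s.y_sq]; group
        _ = i := by rw [vv s ha, mul_one]
    have hm : y * a ∈ S s := ⟨a, ha, Or.inr (Or.inr (Or.inl rfl))⟩
    have h3 := S_sq s (hxn _ hm)
    have h4 : x * (y * a) * x⁻¹ * (x * (y * a) * x⁻¹) = x * i * x⁻¹ := by
      calc _ = x * ((y * a) * (y * a)) * x⁻¹ := by group
        _ = _ := by rw [hsq]
    rw [h4] at h3
    have hxi : x * i = i * x := by
      rcases h3 with h3 | h3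
      · exfalso
        apply s.i_ne
        have : i = x⁻¹ * (x * i * x⁻¹) * x := by group
        rw [this, h3]; group
      · exact mul_inv_eq_iff_eq_mul.1 h3
    obtain ⟨z, hz, u, hu, hxzu⟩ := gen s hxt hxi
    have hzY : z ∈ Y := by
      have : z = x * u⁻¹ := by rw [hxzu]; group
      rw [this]
      exact Y.mul_mem hxY (Y.inv_mem (hSY hu))
    obtain ⟨k, hk⟩ := hY2 ⟨z, hzY⟩
    have hz1 : z = 1 := eq_one_of_sq_sq hz s.Z_odd (congrArg Subtype.val hk)
    rw [hz1, one_mul] at hxzu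
    exact hxS (hxzu ▸ hu)

/-! ### conjugates of `t` -/

omit [Finite G] in
theorem h_inv (s : Spec t h y i V Z) : h⁻¹ = h * h := (eq_inv_of_mul_eq_one_left s.h_cube).symm

omit [Finite G] in
/-- the conjugates of `t` under `C_G(V)` -/
theorem exists_b (s : Spec t h y i V Z) (hn : NswAt t V) {v : G} (hv : v ∈ V) :
    ∃ b : G, (∀ w ∈ V, b * w = w * b) ∧ b * t * b⁻¹ = t * v := by
  by_cases hv1 : v = 1
  · exact ⟨1, fun w _ => by rw [one_mul, mul_one], by rw [hv1]; group⟩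
  obtain ⟨b, hb, hbt, hne⟩ := hn
  set v₀ := b * t * b⁻¹ * t with hv₀
  have hbt' : b * t * b⁻¹ = t * v₀ := by
    have h1 : b * t * b⁻¹ = v₀ * t := by
      rw [hv₀, mul_assoc (b * t * b⁻¹), s.t_sq, mul_one]
    rw [h1, s.tV v₀ hbt]
  have hv₀1 : v₀ ≠ 1 := by
    intro h
    apply hne
    have h2 : b * t * b⁻¹ = t := by rw [hbt', h, mul_one]
    exact mul_inv_eq_iff_eq_mul.1 h2
  -- the elements `v₀, v₀^h, v₀^(hh)`
  have key : ∀ k : G, k * t = t * k → (∀ w ∈ V, k⁻¹ * w * k ∈ V) → k * v₀ * k⁻¹ = v →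
      ∃ b : G, (∀ w ∈ V, b * w = w * b) ∧ b * t * b⁻¹ = t * v := by
    intro k hkt hkV hkv
    refine ⟨k * b * k⁻¹, fun w hw => ?_, ?_⟩
    · have h1 := hb _ (hkV w hw)
      calc k * b * k⁻¹ * w = k * (b * (k⁻¹ * w * k)) * k⁻¹ := by group
        _ = k * ((k⁻¹ * w * k) * b) * k⁻¹ := by rw [h1]
        _ = _ := by group
    · have hkt' : k⁻¹ * t * k = t := by
        rw [mul_assoc, ← hkt, ← mul_assoc, inv_mul_cancel, one_mul]
      calc k * b * k⁻¹ * t * (k * b * k⁻¹)⁻¹ = k * (b * (k⁻¹ * t * k) * b⁻¹) * k⁻¹ := by group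
        _ = k * (t * v₀) * k⁻¹ := by rw [hkt', hbt']
        _ = (k * t) * k⁻¹ * (k * v₀ * k⁻¹) := by group
        _ = t * v := by rw [hkt, hkv]; group
  have hhV : ∀ w ∈ V, h⁻¹ * w * h ∈ V := by
    intro w hw
    have h1 := s.hV _ (s.hV w hw)
    have h2 : h * (h * w * h⁻¹) * h⁻¹ = h⁻¹ * w * h := by
      have h3 : h * h * w * (h * h)⁻¹ = h⁻¹ * w * h := by rw [← h_inv s, inv_inv]
      rw [← h3]; group
    rwa [h2] at h1
  have hhV' : ∀ w ∈ V, (h * h)⁻¹ * w * (h * h) ∈ V := by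
    intro w hw
    have h1 := hhV _ (hhV w hw)
    have h2 : h⁻¹ * (h⁻¹ * w * h) * h = (h * h)⁻¹ * w * (h * h) := by group
    rwa [h2] at h1
  have hht : h * h * t = t * (h * h) := by rw [mul_assoc, s.ht, ← mul_assoc, s.ht, mul_assoc]
  by_cases e1 : v₀ = v
  · exact key 1 (by rw [one_mul, mul_one]) (fun w hw => by simpa using hw) (by rw [e1]; group)
  by_cases e2 : h * v₀ * h⁻¹ = v
  · exact key h s.ht hhV e2
  by_cases e3 : h * h * v₀ * (h * h)⁻¹ = v
  · exact key (h * h) hht hhV' e3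
  exfalso
  -- four different elements `v₀, v₁, v₂, v` of `V#`
  have hw1 : h * v₀ * h⁻¹ ≠ v₀ := fun h' => hv₀1 (s.fpfV v₀ hbt (mul_inv_eq_iff_eq_mul.1 h'))
  have hmem1 := s.hV v₀ hbt
  have hmem2 : h * h * v₀ * (h * h)⁻¹ ∈ V := by
    have := s.hV _ hmem1
    have h2 : h * (h * v₀ * h⁻¹) * h⁻¹ = h * h * v₀ * (h * h)⁻¹ := by group
    rwa [h2] at this
  have hw2 : h * h * v₀ * (h * h)⁻¹ ≠ v₀ := by
    intro h'
    apply hw1
    have h3 : h * (h * h * v₀ * (h * h)⁻¹) * h⁻¹ = h * v₀ * h⁻¹ := by rw [h']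
    have h4 : h * (h * h * v₀ * (h * h)⁻¹) * h⁻¹ = (h * h * h) * v₀ * (h * h * h)⁻¹ := by group
    rw [h4, s.h_cube] at h3
    rw [← h3]; group
  have hw3 : h * h * v₀ * (h * h)⁻¹ ≠ h * v₀ * h⁻¹ := by
    intro h'
    apply hw1
    have h3 : h * (h * v₀ * h⁻¹) * h⁻¹ = h * v₀ * h⁻¹ := by
      calc h * (h * v₀ * h⁻¹) * h⁻¹ = h * h * v₀ * (h * h)⁻¹ := by group
        _ = _ := h'
    calc h * v₀ * h⁻¹ = h⁻¹ * (h * (h * v₀ * h⁻¹) * h⁻¹) * h := by group
      _ = h⁻¹ * (h * v₀ * h⁻¹) * h := by rw [h3]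
      _ = v₀ := by group
  -- card
  classical
  have hfin : Finite V := Nat.finite_of_card_ne_zero (by rw [s.card_V]; norm_num)
  have := Fintype.ofFinite V
  let T : Finset V := {⟨1, V.one_mem⟩, ⟨v₀, hbt⟩, ⟨_, hmem1⟩, ⟨_, hmem2⟩, ⟨v, hv⟩}
  have hne1 : h * v₀ * h⁻¹ ≠ 1 := by
    intro h'
    apply hv₀1
    have : v₀ = h⁻¹ * (h * v₀ * h⁻¹) * h := by group
    rw [this, h']; group
  have hne2 : h * h * v₀ * (h * h)⁻¹ ≠ 1 := by
    intro h'
    apply hv₀1
    have : v₀ = (h * h)⁻¹ * (h * h * v₀ * (h * h)⁻¹) * (h * h) := by group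
    rw [this, h']; group
  have hT : T.card = 5 := by
    simp only [T]
    rw [Finset.card_insert_of_notMem, Finset.card_insert_of_notMem, Finset.card_insert_of_notMem,
      Finset.card_insert_of_notMem, Finset.card_singleton]
    · simp only [Finset.mem_singleton, Subtype.mk.injEq]
      exact e3
    · simp only [Finset.mem_insert, Finset.mem_singleton, Subtype.mk.injEq, not_or]
      exact ⟨fun h => hw3 h.symm, e2⟩
    · simp only [Finset.mem_insert, Finset.mem_singleton, Subtype.mk.injEq, not_or]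
      exact ⟨fun h => hw1 h.symm, fun h => hw2 h.symm, e1⟩
    · simp only [Finset.mem_insert, Finset.mem_singleton, Subtype.mk.injEq, not_or]
      exact ⟨fun h => hv₀1 h.symm, fun h => hne1 h.symm, fun h => hne2 h.symm, fun h => hv1 h.symm⟩
  have h5 := Finset.card_le_univ T
  rw [hT, ← Nat.card_eq_fintype_card, s.card_V] at h5
  omega

/-- the group `E' = ⟨t, y, i⟩` -/
def EE (t y i : G) : Set G := {g | (g = 1 ∨ g = i) ∨ (g = t ∨ g = t * i) ∨ (g = y ∨ g = y * i) ∨
  (g = t * y ∨ g = t * y * i)}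

/-- conjugate to `t` -/
def Cj (t x : G) : Prop := ∃ g : G, g * t * g⁻¹ = x

omit [Finite G] in
theorem cj_conj {x g : G} (h : Cj t x) : Cj t (g * x * g⁻¹) := by
  obtain ⟨k, rfl⟩ := h
  exact ⟨g * k, by group⟩

omit [Finite G] in
theorem cj_of_conj {x g : G} (h : Cj t (g * x * g⁻¹)) : Cj t x := by
  have := cj_conj (g := g⁻¹) h
  have h2 : g⁻¹ * (g * x * g⁻¹) * g⁻¹⁻¹ = x := by group
  rwa [h2] at this

omit [Finite G] in
theorem not_cj (s : Spec t h y i V Z) {v : G} (hv : v ∈ V) : ¬ Cj t v := by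
  rintro ⟨g, rfl⟩
  exact s.not_conj g hv

omit [Finite G] in
/-- the elements of `E' - ⟨i⟩` are conjugate to `t` -/
theorem cj_EE (s : Spec t h y i V Z) (hn : NswAt t V) {g : G} (hg : g ∈ EE t y i) (hg1 : g ≠ 1) (hgi : g ≠ i) :
    Cj t g := by
  obtain ⟨a, ha, ha1, hai, hya⟩ := exists_a s
  have hay : a * y * a⁻¹ = y * i := by
    have h1 : y * a = i * a * y := hya
    have h2 : a * y = y * i * a := by
      calc a * y = (i * i) * a * y := by rw [ii s, one_mul]
        _ = i * (i * a * y) := by group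
        _ = (i * y) * a := by rw [← hya]; group
        _ = _ := by rw [s.iy]
    rw [h2]; group
  rcases hg with (h | h) | (h | h) | (h | h) | (h | h)
  · exact (hg1 h).elim
  · exact (hgi h).elim
  · exact ⟨1, by rw [h]; group⟩
  · obtain ⟨b, -, hb⟩ := exists_b s hn s.i_mem
    exact ⟨b, by rw [h, hb]⟩
  · rw [h]; exact s.conj_y
  · rw [h, ← hay]; exact cj_conj s.conj_y
  · rw [h]; exact s.conj_ty
  · have : t * y * i = a * (t * y) * a⁻¹ := by
      calc t * y * i = t * (y * i) := by group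
        _ = t * (a * y * a⁻¹) := by rw [hay]
        _ = (t * a) * y * a⁻¹ := by group
        _ = _ := by rw [s.tV a ha]; group
    rw [h, this]
    exact cj_conj s.conj_ty

/-! ### the group `E'` -/

omit [Finite G] in
theorem t_i (s : Spec t h y i V Z) : t * i = i * t := s.tV i s.i_mem

omit [Finite G] in
/-- `E' = C_S(y)` -/
theorem mem_EE_iff (s : Spec t h y i V Z) {g : G} : g ∈ EE t y i ↔ g ∈ S s ∧ g * y = y * g := by
  have hti := t_i s
  constructor
  · rintro ((h | h) | (h | h) | (h | h) | (h | h))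
    · rw [h]; exact ⟨(S s).one_mem, by rw [one_mul, mul_one]⟩
    · rw [h]; exact ⟨V_le s s.i_mem, s.iy⟩
    · rw [h]; exact ⟨t_mem s, s.ty⟩
    · rw [h]; exact ⟨(S s).mul_mem (t_mem s) (V_le s s.i_mem), by
        rw [mul_assoc, s.iy, ← mul_assoc, s.ty, mul_assoc]⟩
    · rw [h]; exact ⟨y_mem s, rfl⟩
    · rw [h]; exact ⟨(S s).mul_mem (y_mem s) (V_le s s.i_mem), by rw [mul_assoc, s.iy]⟩
    · rw [h]; exact ⟨(S s).mul_mem (t_mem s) (y_mem s), by rw [← mul_assoc, ← s.ty]⟩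
    · rw [h]; exact ⟨(S s).mul_mem ((S s).mul_mem (t_mem s) (y_mem s)) (V_le s s.i_mem), by
        rw [mul_assoc, s.iy, ← mul_assoc, ← mul_assoc, ← mul_assoc, ← s.ty]⟩
  · rintro ⟨⟨v, hv, hg⟩, hgy⟩
    obtain ⟨a, ha, ha1, hai, hya⟩ := exists_a s
    have hvy : v * y = y * v := by
      rcases hg with h | h | h | h
      · rwa [h] at hgy
      · rw [h, mul_assoc, ← mul_assoc y, ← s.ty, mul_assoc] at hgy
        exact mul_left_cancel hgy
      · rw [h, mul_assoc] at hgy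
        exact mul_left_cancel hgy
      · rw [h] at hgy
        have h1 : t * y * (v * y) = t * y * (y * v) := by
          calc t * y * (v * y) = t * (y * v) * y := by group
            _ = y * (t * (y * v)) := hgy
            _ = (y * t) * y * v := by group
            _ = t * y * (y * v) := by rw [← s.ty]; group
        exact mul_left_cancel h1
    have hv' : v = 1 ∨ v = i := by
      rcases four s ha ha1 hai hv with h | h | h | h
      · exact Or.inl h
      · exact Or.inr h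
      · exfalso
        apply s.i_ne
        rw [h, hya] at hvy
        have h1 : i * a * y = 1 * a * y := by rw [← hvy]; group
        exact mul_right_cancel (mul_right_cancel h1)
      · exfalso
        apply s.i_ne
        have h1 : y * v = a * y := by
          rw [h]
          calc y * (i * a) = (y * i) * a := by group
            _ = i * (y * a) := by rw [← s.iy]; group
            _ = (i * i) * a * y := by rw [hya]; group
            _ = a * y := by rw [ii s, one_mul]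
        rw [h1, h] at hvy
        have h2 := mul_right_cancel hvy
        simpa using h2
    rcases hv' with rfl | rfl
    · rcases hg with h | h | h | h
      · exact Or.inl (Or.inl h)
      · exact Or.inr (Or.inl (Or.inl (by rw [h, mul_one])))
      · exact Or.inr (Or.inr (Or.inl (Or.inl (by rw [h, mul_one]))))
      · exact Or.inr (Or.inr (Or.inr (Or.inl (by rw [h, mul_one]))))
    · rcases hg with h | h | h | h
      · exact Or.inl (Or.inr h)
      · exact Or.inr (Or.inl (Or.inr h))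
      · exact Or.inr (Or.inr (Or.inl (Or.inr h)))
      · exact Or.inr (Or.inr (Or.inr (Or.inr (by rw [h, mul_assoc]))))

/-- `E'` as a subgroup -/
def EEs (s : Spec t h y i V Z) : Subgroup G := S s ⊓ Subgroup.centralizer ({y} : Set G)

omit [Finite G] in
theorem mem_EEs (s : Spec t h y i V Z) {g : G} : g ∈ EEs s ↔ g ∈ EE t y i := by
  rw [mem_EE_iff s, EEs, Subgroup.mem_inf, Subgroup.mem_centralizer_singleton_iff]

omit [Finite G] in
theorem EE_mul (s : Spec t h y i V Z) {g k : G} (hg : g ∈ EE t y i) (hk : k ∈ EE t y i) : g * k ∈ EE t y i := by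
  rw [← mem_EEs s] at *
  exact (EEs s).mul_mem hg hk

omit [Finite G] in
/-- `E'` is abelian -/
theorem EE_comm (s : Spec t h y i V Z) {g k : G} (hg : g ∈ EE t y i) (hk : k ∈ EE t y i) : g * k = k * g := by
  have h1 := (mem_EE_iff s).1 hg
  have ht : g * t = t * g := S_t s h1.1
  have hi : g * i = i * g := S_i s h1.1
  have hy := h1.2
  rcases hk with (h | h) | (h | h) | (h | h) | (h | h)
  · rw [h, one_mul, mul_one]
  · rw [h, hi]
  · rw [h, ht]
  · rw [h, ← mul_assoc, ht, mul_assoc, hi, ← mul_assoc]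
  · rw [h, hy]
  · rw [h, ← mul_assoc, hy, mul_assoc, hi, ← mul_assoc]
  · rw [h, ← mul_assoc, ht, mul_assoc, hy, ← mul_assoc]
  · rw [h, ← mul_assoc, ← mul_assoc, ht, mul_assoc t, hy, mul_assoc, mul_assoc, hi]
    group

omit [Finite G] in
/-- `E'` has exponent 2 -/
theorem EE_sq (s : Spec t h y i V Z) {g : G} (hg : g ∈ EE t y i) : g * g = 1 := by
  have hti := t_i s
  have h1 : (1 : G) ∈ EE t y i := Or.inl (Or.inl rfl)
  have htm : t ∈ EE t y i := Or.inr (Or.inl (Or.inl rfl))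
  have hym : y ∈ EE t y i := Or.inr (Or.inr (Or.inl (Or.inl rfl)))
  have him : i ∈ EE t y i := Or.inl (Or.inr rfl)
  have hmul : ∀ a b : G, a ∈ EE t y i → b ∈ EE t y i → a * a = 1 → b * b = 1 → (a * b) * (a * b) = 1 := by
    intro a b ha hb ha2 hb2
    calc a * b * (a * b) = a * (b * a) * b := by group
      _ = (a * a) * (b * b) := by rw [EE_comm s hb ha]; group
      _ = 1 := by rw [ha2, hb2, one_mul]
  rcases hg with (h | h) | (h | h) | (h | h) | (h | h)
  · rw [h, one_mul]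
  · rw [h, ii s]
  · rw [h, s.t_sq]
  · rw [h]; exact hmul _ _ htm him s.t_sq (ii s)
  · rw [h, s.y_sq]
  · rw [h]; exact hmul _ _ hym him s.y_sq (ii s)
  · rw [h]; exact hmul _ _ htm hym s.t_sq s.y_sq
  · rw [h]; exact hmul _ _ (EE_mul s htm hym) him (hmul _ _ htm hym s.t_sq s.y_sq) (ii s)

omit [Finite G] in
/-- involutions of `S` -/
theorem S_invol (s : Spec t h y i V Z) {x : G} (hx : x ∈ S s) (h2 : x * x = 1) :
    x ∈ V ∨ (∃ v ∈ V, x = t * v) ∨ x ∈ EE t y i := by
  obtain ⟨a, ha, ha1, hai, hya⟩ := exists_a s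
  have hbad : ∀ v ∈ V, (y * v) * (y * v) = 1 → v = 1 ∨ v = i := by
    intro v hv h2
    rcases four s ha ha1 hai hv with h | h | h | h
    · exact Or.inl h
    · exact Or.inr h
    · exfalso
      apply s.i_ne
      rw [← h2, h]
      symm
      calc y * a * (y * a) = (y * a) * y * a := by group
        _ = i * a * (y * y) * a := by rw [hya]; group
        _ = i * (a * a) := by rw [s.y_sq]; group
        _ = i := by rw [vv s ha, mul_one]
    · exfalso
      apply s.i_ne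
      rw [← h2, h]
      symm
      have h1 : y * (i * a) = a * y := by
        calc y * (i * a) = (y * i) * a := by group
          _ = i * (y * a) := by rw [← s.iy]; group
          _ = (i * i) * a * y := by rw [hya]; group
          _ = a * y := by rw [ii s, one_mul]
      calc y * (i * a) * (y * (i * a)) = (y * (i * a)) * y * (i * a) := by group
        _ = a * (y * y) * (i * a) := by rw [h1]; group
        _ = (a * i) * a := by rw [s.y_sq]; group
        _ = i * (a * a) := by rw [vcomm s ha s.i_mem]; group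
        _ = i := by rw [vv s ha, mul_one]
  obtain ⟨v, hv, h | h | h | h⟩ := hx
  · exact Or.inl (h ▸ hv)
  · exact Or.inr (Or.inl ⟨v, hv, h⟩)
  · rw [h] at h2
    right; right
    rcases hbad v hv h2 with rfl | rfl
    · exact Or.inr (Or.inr (Or.inl (Or.inl (by rw [h, mul_one]))))
    · exact Or.inr (Or.inr (Or.inl (Or.inr h)))
  · have h1 : x * x = (y * v) * (y * v) := by
      have h2 : y * v * t = t * (y * v) := S_t s (⟨v, hv, Or.inr (Or.inr (Or.inl rfl))⟩)
      rw [h]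
      calc t * (y * v) * (t * (y * v)) = t * (y * v * t) * (y * v) := by group
        _ = (t * t) * (y * v) * (y * v) := by rw [h2]; group
        _ = _ := by rw [s.t_sq, one_mul]
    rw [h1] at h2
    right; right
    rcases hbad v hv h2 with rfl | rfl
    · exact Or.inr (Or.inr (Or.inr (Or.inl (by rw [h, mul_one]))))
    · exact Or.inr (Or.inr (Or.inr (Or.inr (by rw [h, mul_assoc]))))

omit [Finite G] in
theorem t_ne_y (s : Spec t h y i V Z) : t ≠ y ∧ t ≠ y * i := by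
  obtain ⟨a, ha, ha1, hai, hya⟩ := exists_a s
  have h1 : y * a ≠ a * y := by
    rw [hya]
    intro h
    apply s.i_ne
    have h2 : i * a * y = 1 * a * y := by rw [h]; group
    exact mul_right_cancel (mul_right_cancel h2)
  constructor
  · rintro rfl
    exact h1 (s.tV a ha)
  · intro h
    apply h1
    have h2 : t * a = a * t := s.tV a ha
    rw [h] at h2
    have h3 : y * a * i = a * y * i := by
      calc y * a * i = y * (a * i) := by group
        _ = y * i * a := by rw [vcomm s ha s.i_mem]; group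
        _ = a * (y * i) := h2
        _ = _ := by group
    exact mul_right_cancel h3

omit [Finite G] in
theorem t_notin (s : Spec t h y i V Z) : t ∉ V := fun h => not_cj s h ⟨1, by group⟩

/-- an element of `E' - ⟨t, i⟩` is conjugate to `t` by an element of `C(i) ∩ N(E')` -/
theorem exists_conj (s : Spec t h y i V Z) (hn : NswAt t V) {e₀ : G} (he : e₀ ∈ EE t y i) (he1 : e₀ ≠ 1)
    (hei : e₀ ≠ i) (het : e₀ * t ≠ 1) (heti : e₀ * t ≠ i) :
    ∃ g : G, g * e₀ * g⁻¹ = t ∧ g * i = i * g ∧ ∀ e ∈ EE t y i, g * e * g⁻¹ ∈ EE t y i := by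
  have htm : t ∈ EE t y i := Or.inr (Or.inl (Or.inl rfl))
  have him : i ∈ EE t y i := Or.inl (Or.inr rfl)
  obtain ⟨g₀, hg₀⟩ := cj_EE s hn he he1 hei
  -- conjugate into `S`
  obtain ⟨g, hg, hgS⟩ : ∃ g : G, g * e₀ * g⁻¹ = t ∧ ∀ e ∈ EE t y i, g * e * g⁻¹ ∈ S s := by
    set A := (EEs s).map (MulAut.conj g₀⁻¹).toMonoidHom with hA
    have hg₀' : g₀⁻¹ * e₀ * g₀ = t := by rw [← hg₀]; group
    have hAC : A ≤ Subgroup.centralizer ({t} : Set G) := by
      rintro _ ⟨e, hemem, rfl⟩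
      rw [Subgroup.mem_centralizer_singleton_iff, ← hg₀']
      have h1 := EE_comm s ((mem_EEs s).1 hemem) he
      show g₀⁻¹ * e * g₀⁻¹⁻¹ * (g₀⁻¹ * e₀ * g₀) = g₀⁻¹ * e₀ * g₀ * (g₀⁻¹ * e * g₀⁻¹⁻¹)
      calc g₀⁻¹ * e * g₀⁻¹⁻¹ * (g₀⁻¹ * e₀ * g₀) = g₀⁻¹ * (e * e₀) * g₀ := by group
        _ = g₀⁻¹ * (e₀ * e) * g₀ := by rw [h1]
        _ = _ := by group
    have hA2 : IsPGroup 2 A := ((S_two s).to_le inf_le_left).map _
    obtain ⟨T, hT, hAT⟩ := exists_isSyl2 _ A hAC hA2
    obtain ⟨m, hm, hmT⟩ := IsSyl2.conj (S_syl s) hT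
    rw [Subgroup.mem_centralizer_singleton_iff] at hm
    refine ⟨m⁻¹ * g₀⁻¹, ?_, fun e he => ?_⟩
    · calc m⁻¹ * g₀⁻¹ * e₀ * (m⁻¹ * g₀⁻¹)⁻¹ = m⁻¹ * (g₀⁻¹ * e₀ * g₀) * m := by group
        _ = m⁻¹ * (t * m) := by rw [hg₀', mul_assoc]
        _ = t := by rw [← hm]; group
    · have h1 : g₀⁻¹ * e * g₀⁻¹⁻¹ ∈ T := hAT ⟨e, (mem_EEs s).2 he, rfl⟩
      rw [hmT] at h1
      obtain ⟨u, hu, hu'⟩ := h1
      have hu'' : m * u * m⁻¹ = g₀⁻¹ * e * g₀⁻¹⁻¹ := hu'
      have h2 : m⁻¹ * g₀⁻¹ * e * (m⁻¹ * g₀⁻¹)⁻¹ = u := by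
        calc m⁻¹ * g₀⁻¹ * e * (m⁻¹ * g₀⁻¹)⁻¹ = m⁻¹ * (g₀⁻¹ * e * g₀⁻¹⁻¹) * m := by group
          _ = u := by rw [← hu'']; group
      rw [h2]; exact hu
  have hsq : ∀ e ∈ EE t y i, g * e * g⁻¹ * (g * e * g⁻¹) = 1 := by
    intro e he
    calc g * e * g⁻¹ * (g * e * g⁻¹) = g * (e * e) * g⁻¹ := by group
      _ = 1 := by rw [EE_sq s he]; group
  have hcjV : ∀ e ∈ EE t y i, g * e * g⁻¹ ∈ V → e = 1 ∨ e = i := by
    intro e he hV
    by_contra hc
    push Not at hc
    exact not_cj s hV (cj_conj (cj_EE s hn he hc.1 hc.2))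
  -- `g` centralises `i`
  have hgi : g * i * g⁻¹ = i := by
    by_contra hne
    have hw1 : g * i * g⁻¹ ≠ 1 := by
      intro h
      apply s.i_ne
      have : i = g⁻¹ * (g * i * g⁻¹) * g := by group
      rw [this, h]; group
    have hncj : ¬ Cj t (g * i * g⁻¹) := fun h => not_cj s s.i_mem (cj_of_conj h)
    have hwV : g * i * g⁻¹ ∈ V := by
      rcases S_invol s (hgS i him) (hsq i him) with h | ⟨v, hv, h⟩ | h
      · exact h
      · exfalso
        obtain ⟨b, -, hb⟩ := exists_b s hn hv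
        exact hncj ⟨b, by rw [h, hb]⟩
      · exact (hncj (cj_EE s hn h hw1 hne)).elim
    obtain ⟨v, hv, hτ⟩ : ∃ v ∈ V, g * t * g⁻¹ = t * v := by
      have hτcj : Cj t (g * t * g⁻¹) := ⟨g, rfl⟩
      rcases S_invol s (hgS t htm) (hsq t htm) with h | h | h
      · exact (not_cj s h hτcj).elim
      · exact h
      · -- in `E'` and commuting with `w ∈ V - ⟨i⟩`
        have hcomm : (g * t * g⁻¹) * (g * i * g⁻¹) = (g * i * g⁻¹) * (g * t * g⁻¹) := by
          calc (g * t * g⁻¹) * (g * i * g⁻¹) = g * (t * i) * g⁻¹ := by group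
            _ = g * (i * t) * g⁻¹ := by rw [t_i s]
            _ = _ := by group
        set w := g * i * g⁻¹ with hw
        have hyw : y * w ≠ w * y := by
          intro hyw
          have h1 : w ∈ EE t y i := (mem_EE_iff s).2 ⟨V_le s hwV, hyw.symm⟩
          exact hncj (cj_EE s hn h1 hw1 hne)
        have hwi : w * i = i * w := vcomm s hwV s.i_mem
        have hwt : w * t = t * w := (s.tV w hwV).symm
        rcases h with (h | h) | (h | h) | (h | h) | (h | h)
        · exfalso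
          rw [h] at hτcj
          exact not_cj s V.one_mem hτcj
        · exfalso
          rw [h] at hτcj
          exact not_cj s s.i_mem hτcj
        · exact ⟨1, V.one_mem, by rw [h, mul_one]⟩
        · exact ⟨i, s.i_mem, h⟩
        · exfalso; rw [h] at hcomm; exact hyw hcomm
        · exfalso; rw [h] at hcomm; apply hyw
          have h1 : y * w * i = w * y * i := by
            calc y * w * i = y * i * w := by rw [mul_assoc, hwi, mul_assoc]
              _ = w * (y * i) := hcomm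
              _ = _ := by group
          exact mul_right_cancel h1
        · exfalso; rw [h] at hcomm; apply hyw
          have h1 : t * (y * w) = t * (w * y) := by
            calc t * (y * w) = t * y * w := by group
              _ = w * (t * y) := hcomm
              _ = w * t * y := by group
              _ = _ := by rw [hwt]; group
          exact mul_left_cancel h1
        · exfalso; rw [h] at hcomm; apply hyw
          have h1 : t * (y * w) * i = t * (w * y) * i := by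
            calc t * (y * w) * i = t * y * (w * i) := by group
              _ = t * y * i * w := by rw [hwi]; group
              _ = w * (t * y * i) := hcomm
              _ = w * t * y * i := by group
              _ = _ := by rw [hwt]; group
          exact mul_left_cancel (mul_right_cancel h1)
    -- `e₀ t` is conjugate to `t (t v) = v`
    have h1 : g * (e₀ * t) * g⁻¹ = v := by
      calc g * (e₀ * t) * g⁻¹ = (g * e₀ * g⁻¹) * (g * t * g⁻¹) := by group
        _ = (t * t) * v := by rw [hg, hτ]; group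
        _ = v := by rw [s.t_sq, one_mul]
    rcases hcjV _ (EE_mul s he htm) (h1 ▸ hv) with h2 | h2
    · exact het h2
    · exact heti h2
  refine ⟨g, hg, mul_inv_eq_iff_eq_mul.1 hgi, fun e hee => ?_⟩
  rcases S_invol s (hgS e hee) (hsq e hee) with h | ⟨v, hv, h⟩ | h
  · rcases hcjV e hee h with rfl | rfl
    · exact Or.inl (Or.inl (by group))
    · exact Or.inl (Or.inr hgi)
  · have h1 : g * (e₀ * e) * g⁻¹ = v := by
      calc g * (e₀ * e) * g⁻¹ = (g * e₀ * g⁻¹) * (g * e * g⁻¹) := by group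
        _ = (t * t) * v := by rw [hg, h]; group
        _ = v := by rw [s.t_sq, one_mul]
    rcases hcjV _ (EE_mul s he hee) (h1 ▸ hv) with h2 | h2
    · rw [h2] at h1
      have : v = 1 := by rw [← h1]; group
      exact Or.inr (Or.inl (Or.inl (by rw [h, this, mul_one])))
    · rw [h2, hgi] at h1
      exact Or.inr (Or.inl (Or.inr (by rw [h, ← h1])))
  · exact h

end Cfsg.Agent.OddCyclic.B2SpecFus
end

-- part: OddCyclic/B2SpecThree
section
/-!
# S0342, case B2, section 2: an element of order 3 in `C_G(i) ∩ N_G(E')`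
-/

set_option autoImplicit false

namespace Cfsg.Agent.OddCyclic.B2SpecThree

open Cfsg.Agent.LieExceptional.CITDefs Cfsg.Agent.OddCyclic.B2Defs Cfsg.Agent.OddCyclic.B2SpecFus

variable {G : Type*} [Group G]

/-- equal modulo `⟨i⟩` -/
def R (i a b : G) : Prop := b = a ∨ b = a * i

theorem R.conj {i k x x' b : G} (hi : k * i = i * k) (hii : i * i = 1) (h : R i x' (k * x * k⁻¹))
    (hb : R i x b) : R i x' (k * b * k⁻¹) := by
  rcases hb with rfl | rfl
  · exact h
  · have h1 : k * (x * i) * k⁻¹ = (k * x * k⁻¹) * i := by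
      have h2 : i * k⁻¹ = k⁻¹ * i := by
        calc i * k⁻¹ = k⁻¹ * (k * i) * k⁻¹ := by group
          _ = k⁻¹ * (i * k) * k⁻¹ := by rw [hi]
          _ = _ := by group
      calc k * (x * i) * k⁻¹ = k * x * (i * k⁻¹) := by group
        _ = _ := by rw [h2]; group
    rw [h1]
    rcases h with h | h
    · right; rw [h]
    · left; rw [h, mul_assoc, hii, mul_one]

/-- an element permuting three classes cyclically has order divisible by three -/
theorem three_dvd {i k a b c : G} (hi : k * i = i * k) (hii : i * i = 1) (h1 : R i b (k * a * k⁻¹))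
    (h2 : R i c (k * b * k⁻¹)) (h3 : R i a (k * c * k⁻¹)) (hab : ¬ R i b a) (hac : ¬ R i c a) :
    3 ∣ orderOf k := by
  have hcomm : ∀ n : ℕ, k ^ n * i = i * k ^ n := fun n => ((show Commute k i from hi).pow_left n).eq
  have h4 : R i c (k ^ 2 * a * (k ^ 2)⁻¹) := by
    have := R.conj hi hii h2 h1
    have e : k ^ 2 * a * (k ^ 2)⁻¹ = k * (k * a * k⁻¹) * k⁻¹ := by rw [pow_two]; group
    rw [e]; exact this
  have h5 : R i a (k ^ 3 * a * (k ^ 3)⁻¹) := by
    have := R.conj hi hii h3 h4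
    have e : k ^ 3 * a * (k ^ 3)⁻¹ = k * (k ^ 2 * a * (k ^ 2)⁻¹) * k⁻¹ := by
      rw [show (3 : ℕ) = 2 + 1 by norm_num, pow_succ']
      group
    rw [e]; exact this
  have h6 : ∀ n : ℕ, R i a (k ^ (3 * n) * a * (k ^ (3 * n))⁻¹) := by
    intro n
    induction n with
    | zero => left; simp
    | succ n ih =>
      have := R.conj (hcomm 3) hii h5 ih
      have e : k ^ (3 * (n + 1)) * a * (k ^ (3 * (n + 1)))⁻¹ =
          k ^ 3 * (k ^ (3 * n) * a * (k ^ (3 * n))⁻¹) * (k ^ 3)⁻¹ := by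
        rw [show 3 * (n + 1) = 3 + 3 * n by ring, pow_add]
        group
      rw [e]; exact this
  have h7 : ∀ n : ℕ, R i b (k ^ (3 * n + 1) * a * (k ^ (3 * n + 1))⁻¹) := by
    intro n
    have := R.conj hi hii h1 (h6 n)
    have e : k ^ (3 * n + 1) * a * (k ^ (3 * n + 1))⁻¹ = k * (k ^ (3 * n) * a * (k ^ (3 * n))⁻¹) * k⁻¹ := by
      rw [pow_succ']
      group
    rw [e]; exact this
  have h8 : ∀ n : ℕ, R i c (k ^ (3 * n + 2) * a * (k ^ (3 * n + 2))⁻¹) := by
    intro n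
    have := R.conj hi hii h2 (h7 n)
    have e : k ^ (3 * n + 2) * a * (k ^ (3 * n + 2))⁻¹ =
        k * (k ^ (3 * n + 1) * a * (k ^ (3 * n + 1))⁻¹) * k⁻¹ := by
      rw [show 3 * n + 2 = (3 * n + 1) + 1 by ring, pow_succ' k (3 * n + 1)]
      group
    rw [e]; exact this
  have h9 := pow_orderOf_eq_one k
  rcases (by omega : orderOf k % 3 = 0 ∨ orderOf k % 3 = 1 ∨ orderOf k % 3 = 2) with h | h | h
  · exact Nat.dvd_of_mod_eq_zero h
  · exfalso
    have h10 := h7 (orderOf k / 3)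
    rw [show 3 * (orderOf k / 3) + 1 = orderOf k by omega, h9] at h10
    apply hab
    simpa using h10
  · exfalso
    have h10 := h8 (orderOf k / 3)
    rw [show 3 * (orderOf k / 3) + 2 = orderOf k by omega, h9] at h10
    apply hac
    simpa using h10

variable {t h y i : G} {V Z : Subgroup G}

/-- elements normalising `E'` and centralising `i` -/
def Nm (t y i k : G) : Prop := k * i = i * k ∧ ∀ e ∈ EE t y i, k * e * k⁻¹ ∈ EE t y i

theorem Nm.mul {k k' : G} (h : Nm t y i k) (h' : Nm t y i k') : Nm t y i (k * k') := by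
  refine ⟨by rw [mul_assoc, h'.1, ← mul_assoc, h.1, mul_assoc], fun e he => ?_⟩
  have := h.2 _ (h'.2 e he)
  have e1 : k * k' * e * (k * k')⁻¹ = k * (k' * e * k'⁻¹) * k⁻¹ := by group
  rwa [e1]

theorem Nm.pow {k : G} (h : Nm t y i k) (n : ℕ) : Nm t y i (k ^ n) := by
  induction n with
  | zero => exact ⟨by simp, fun e he => by simpa using he⟩
  | succ n ih => rw [pow_succ]; exact ih.mul h

variable [Finite G]

theorem exists_g (s : Spec t h y i V Z) (hn : NswAt t V) :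
    (∃ g, g * y * g⁻¹ = t ∧ Nm t y i g) ∧ ∃ g, g * (t * y) * g⁻¹ = t ∧ Nm t y i g := by
  have hne := t_ne_y s
  have hyV : y ∉ V := by
    intro hy
    obtain ⟨v, hv, h⟩ := s.y_not
    exact h (vcomm s hy hv)
  have hyt : y * t = t * y := s.ty.symm
  have hti := t_i s
  constructor
  · obtain ⟨g, h1, h2, h3⟩ := exists_conj s hn (e₀ := y) (Or.inr (Or.inr (Or.inl (Or.inl rfl))))
      (fun h => hyV (h ▸ V.one_mem)) (fun h => hyV (h ▸ s.i_mem))
      (by
        intro h
        apply hne.1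
        have := eq_inv_of_mul_eq_one_left h
        rw [tinv s] at this
        exact this.symm)
      (by
        intro h
        apply hne.2
        calc t = y * (y * t) := by rw [← mul_assoc, s.y_sq, one_mul]
          _ = y * i := by rw [h])
    exact ⟨g, h1, h2, h3⟩
  · obtain ⟨g, h1, h2, h3⟩ := exists_conj s hn (e₀ := t * y) (Or.inr (Or.inr (Or.inr (Or.inl rfl))))
      (by
        intro h
        apply hne.1
        have := eq_inv_of_mul_eq_one_left h
        rw [yinv s] at this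
        exact this)
      (by
        intro h
        apply hne.2
        calc t = (t * y) * y := by rw [mul_assoc, s.y_sq, mul_one]
          _ = y * i := by rw [h, s.iy])
      (by
        intro h
        apply hyV
        rw [mul_assoc, hyt, ← mul_assoc, s.t_sq, one_mul] at h
        rw [h]; exact V.one_mem)
      (by
        intro h
        apply hyV
        rw [mul_assoc, hyt, ← mul_assoc, s.t_sq, one_mul] at h
        rw [h]; exact s.i_mem)
    exact ⟨g, h1, h2, h3⟩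

theorem exists_three_dvd (s : Spec t h y i V Z) (hn : NswAt t V) : ∃ k, Nm t y i k ∧ 3 ∣ orderOf k := by
  obtain ⟨⟨g₁, h1, N1⟩, ⟨g₂, h2, N2⟩⟩ := exists_g s hn
  have htm : t ∈ EE t y i := Or.inr (Or.inl (Or.inl rfl))
  have hne := t_ne_y s
  have hti := t_i s
  have hii := ii s
  have htV := t_notin s
  have hyV : y ∉ V := by
    intro hy
    obtain ⟨v, hv, h⟩ := s.y_not
    exact h (vcomm s hy hv)
  -- classes
  have n1 : ¬ R i y t := by
    rintro (h | h)
    · exact hne.1 h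
    · exact hne.2 h
  have n2 : ¬ R i (t * y) t := by
    rintro (h | h)
    · apply hyV
      have : y = 1 := by
        have h' : t * y = t * 1 := by rw [← h, mul_one]
        exact mul_left_cancel h'
      rw [this]; exact V.one_mem
    · apply hyV
      have h' : t * (y * i) = t * 1 := by rw [← mul_assoc, ← h, mul_one]
      have h'' := eq_inv_of_mul_eq_one_left (mul_left_cancel h')
      rw [vinv s s.i_mem] at h''
      rw [h'']; exact s.i_mem
  -- the image of `t` under an element of `Nm` mapping `e₀` to `t`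
  have key : ∀ g e₀ : G, Nm t y i g → g * e₀ * g⁻¹ = t → e₀ ≠ t → e₀ * i ≠ t →
      R i y (g * t * g⁻¹) ∨ R i (t * y) (g * t * g⁻¹) := by
    intro g e₀ hN hg h3 h4
    have hgi : g * i * g⁻¹ = i := by rw [hN.1]; group
    rcases hN.2 t htm with (h | h) | (h | h) | (h | h) | (h | h)
    · exfalso; apply s.t_ne
      have : t = g⁻¹ * (g * t * g⁻¹) * g := by group
      rw [this, h]; group
    · exfalso; apply htV
      have : t = i := by
        calc t = g⁻¹ * (g * t * g⁻¹) * g := by group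
          _ = g⁻¹ * (g * i * g⁻¹) * g := by rw [h, hgi]
          _ = i := by group
      rw [this]; exact s.i_mem
    · exfalso; apply h3
      calc e₀ = g⁻¹ * (g * e₀ * g⁻¹) * g := by group
        _ = g⁻¹ * (g * t * g⁻¹) * g := by rw [h, hg]
        _ = t := by group
    · exfalso; apply h4
      calc e₀ * i = g⁻¹ * ((g * e₀ * g⁻¹) * (g * i * g⁻¹)) * g := by group
        _ = g⁻¹ * (g * t * g⁻¹) * g := by rw [h, hg, hgi]
        _ = t := by group
    · exact Or.inl (Or.inl h)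
    · exact Or.inl (Or.inr h)
    · exact Or.inr (Or.inl h)
    · exact Or.inr (Or.inr h)
  have hyt : y * t = t * y := s.ty.symm
  have Rt : ∀ {a x : G}, R i a x → R i (a * t) (x * t) := by
    rintro a x (rfl | rfl)
    · exact Or.inl rfl
    · right; rw [mul_assoc, ← hti, mul_assoc]
  have Rt' : ∀ {a x : G}, R i a x → R i (t * a) (t * x) := by
    rintro a x (rfl | rfl)
    · exact Or.inl rfl
    · right; rw [mul_assoc]
  have etty : t * (t * y) = y := by rw [← mul_assoc, s.t_sq, one_mul]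
  have eyt : t * y * t = y := by rw [mul_assoc, hyt, etty]
  have k1 := key g₁ y N1 h1 hne.1.symm (fun h => hne.2 h.symm)
  have k2 := key g₂ (t * y) N2 h2 (fun h => n2 (Or.inl h.symm)) (fun h => n2 (Or.inr h.symm))
  rcases k1 with k1 | k1
  · rcases k2 with k2 | k2
    · -- `g₁ : y → t → y`, `g₂ : t y → t → y`
      refine ⟨g₂, N2, three_dvd (a := t) (b := y) (c := t * y) N2.1 hii k2 ?_ (Or.inl h2) n1 n2⟩
      have e : g₂ * y * g₂⁻¹ = (g₂ * (t * y) * g₂⁻¹) * (g₂ * t * g₂⁻¹) := by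
        calc g₂ * y * g₂⁻¹ = g₂ * (t * y * t) * g₂⁻¹ := by rw [eyt]
          _ = _ := by group
      rw [e, h2]
      exact Rt' k2
    · -- `g₂ : t y → t → t y`, `y → y`
      have k3 : R i y (g₂ * y * g₂⁻¹) := by
        have e : g₂ * y * g₂⁻¹ = (g₂ * (t * y) * g₂⁻¹) * (g₂ * t * g₂⁻¹) := by
          calc g₂ * y * g₂⁻¹ = g₂ * (t * y * t) * g₂⁻¹ := by rw [eyt]
            _ = _ := by group
        rw [e, h2]
        have := Rt' k2
        rwa [etty] at this
      have k4 : R i (t * y) (g₁ * (t * y) * g₁⁻¹) := by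
        have e : g₁ * (t * y) * g₁⁻¹ = (g₁ * t * g₁⁻¹) * (g₁ * y * g₁⁻¹) := by group
        rw [e, h1]
        have := Rt k1
        rwa [hyt] at this
      have N3 := N1.mul N2
      refine ⟨g₁ * g₂, N3, three_dvd (a := t) (b := t * y) (c := y) N3.1 hii ?_ ?_ ?_ n2 n1⟩
      · have := R.conj N1.1 hii k4 k2
        have e : g₁ * g₂ * t * (g₁ * g₂)⁻¹ = g₁ * (g₂ * t * g₂⁻¹) * g₁⁻¹ := by group
        rw [e]; exact this
      · have := R.conj N1.1 hii k1 (Or.inl h2)
        have e : g₁ * g₂ * (t * y) * (g₁ * g₂)⁻¹ = g₁ * (g₂ * (t * y) * g₂⁻¹) * g₁⁻¹ := by group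
        rw [e]; exact this
      · have := R.conj N1.1 hii (Or.inl h1) k3
        have e : g₁ * g₂ * y * (g₁ * g₂)⁻¹ = g₁ * (g₂ * y * g₂⁻¹) * g₁⁻¹ := by group
        rw [e]; exact this
  · -- `g₁ : y → t → t y`
    refine ⟨g₁, N1, three_dvd (a := t) (b := t * y) (c := y) N1.1 hii k1 ?_ (Or.inl h1) n2 n1⟩
    have e : g₁ * (t * y) * g₁⁻¹ = (g₁ * t * g₁⁻¹) * (g₁ * y * g₁⁻¹) := by group
    rw [e, h1]
    have := Rt k1
    rwa [eyt] at this

/-- an element of order three in `C(i) ∩ N(E')` -/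
theorem exists_order_three (s : Spec t h y i V Z) (hn : NswAt t V) : ∃ k, Nm t y i k ∧ orderOf k = 3 := by
  obtain ⟨k, hk, h3⟩ := exists_three_dvd s hn
  exact ⟨k ^ (orderOf k / 3), hk.pow _, orderOf_pow_orderOf_div (orderOf_pos k).ne' h3⟩

end Cfsg.Agent.OddCyclic.B2SpecThree
end

-- part: OddCyclic/T1Class2
section
/-!
# Fixed point free elements of order three (blueprints/S0342-T0eq1.md, 0.1) (helper867)

`Q` a finite group, `x` of order three acting fixed point freely: `u u^x u^(x²) = 1`, `[xax⁻¹, b] = [a, xbx⁻¹]`,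
class at most two, and `[n, c] = 1 ⇒ [n, xcx⁻¹] = 1`.
-/

set_option autoImplicit false

namespace Cfsg.Agent.OddCyclic.T1Class2

open Cfsg.Agent.LieExceptional.CITDefs Cfsg.Agent.OddCyclic.T1Defs

universe u

/-! ### abstract form -/

section abs

variable {Q : Type*} [Group Q] [Finite Q] (f : Q →* Q)

/-- `g ↦ g⁻¹ f(g)` is surjective if `f` has no fixed points -/
theorem exists_inv_mul (hf : ∀ u, f u = u → u = 1) (w : Q) : ∃ g, g⁻¹ * f g = w := by
  have hinj : Function.Injective (fun g => g⁻¹ * f g) := by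
    intro g h hgh
    have hgh' : g⁻¹ * f g = h⁻¹ * f h := hgh
    have h1 : f (h * g⁻¹) = h * g⁻¹ := by
      rw [map_mul, map_inv]
      calc f h * (f g)⁻¹ = h * (h⁻¹ * f h) * (f g)⁻¹ := by group
        _ = h * (g⁻¹ * f g) * (f g)⁻¹ := by rw [hgh']
        _ = h * g⁻¹ := by group
    exact (mul_inv_eq_one.1 (hf _ h1)).symm
  exact (Finite.surjective_of_injective hinj) w

variable (hf : ∀ u, f u = u → u = 1) (h3 : ∀ u, f (f (f u)) = u)

include hf h3

theorem triple_abs (u : Q) : u * f u * f (f u) = 1 := by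
  obtain ⟨g, rfl⟩ := exists_inv_mul f hf u
  have e1 : f (g⁻¹ * f g) = (f g)⁻¹ * f (f g) := by rw [map_mul, map_inv]
  have e2 : f (f (g⁻¹ * f g)) = (f (f g))⁻¹ * g := by rw [e1, map_mul, map_inv, h3]
  rw [e2, e1]
  group

theorem comm_self (u : Q) : u * f u = f u * u := by
  have h1 := triple_abs f hf h3 u
  have h2 := triple_abs f hf h3 u⁻¹
  rw [map_inv, map_inv] at h2
  have h4 : f (f u) * f u * u = 1 := by
    have := congrArg (·⁻¹) h2
    simpa only [mul_inv_rev, mul_assoc, _root_.inv_inv, _root_.inv_one] using this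
  have h5 : u * f u = (f (f u))⁻¹ := eq_inv_of_mul_eq_one_left h1
  have h6 : f u * u = (f (f u))⁻¹ := by
    rw [mul_assoc] at h4
    exact (eq_inv_of_mul_eq_one_right h4)
  rw [h5, h6]

theorem comm_conj_self (u h : Q) : u * (h * f u * h⁻¹) = (h * f u * h⁻¹) * u := by
  obtain ⟨g, rfl⟩ := exists_inv_mul f hf h
  have h1 := comm_self f hf h3 (g * u * g⁻¹)
  rw [map_mul, map_mul, map_inv] at h1
  calc u * (g⁻¹ * f g * f u * (g⁻¹ * f g)⁻¹) = g⁻¹ * (g * u * g⁻¹ * (f g * f u * (f g)⁻¹)) * g := by group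
    _ = g⁻¹ * (f g * f u * (f g)⁻¹ * (g * u * g⁻¹)) * g := by rw [h1]
    _ = _ := by group

/-- `[f(a)^h, b] = [a, f(b)^h]` -/
theorem shift (a b h : Q) : (h * f a * h⁻¹) * b * (h * f a * h⁻¹)⁻¹ * b⁻¹ =
    a * (h * f b * h⁻¹) * a⁻¹ * (h * f b * h⁻¹)⁻¹ := by
  have key : ∀ a b A B : Q, a * A = A * a → b * B = B * b → a * b * (A * B) = A * B * (a * b) →
      A⁻¹ * b * A * b⁻¹ = a⁻¹ * B * a * B⁻¹ := by
    intro a b A B h1 h2 h4
    have h1' : A⁻¹ * a⁻¹ = a⁻¹ * A⁻¹ := by rw [← mul_inv_rev, ← mul_inv_rev, h1]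
    have h2' : B⁻¹ * b⁻¹ = b⁻¹ * B⁻¹ := by rw [← mul_inv_rev, ← mul_inv_rev, h2]
    calc A⁻¹ * b * A * b⁻¹ = A⁻¹ * a⁻¹ * (a * b * (A * B)) * (B⁻¹ * b⁻¹) := by group
      _ = a⁻¹ * A⁻¹ * (A * B * (a * b)) * (b⁻¹ * B⁻¹) := by rw [h1', h2', h4]
      _ = _ := by group
  have hc := comm_conj_self f hf h3
  have h4 : (a⁻¹ * b) * ((h * f a⁻¹ * h⁻¹) * (h * f b * h⁻¹)) =
      ((h * f a⁻¹ * h⁻¹) * (h * f b * h⁻¹)) * (a⁻¹ * b) := by
    have := hc (a⁻¹ * b) h
    rw [map_mul] at this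
    have e : (h * f a⁻¹ * h⁻¹) * (h * f b * h⁻¹) = h * (f a⁻¹ * f b) * h⁻¹ := by group
    rw [e]; exact this
  have h5 := key a⁻¹ b (h * f a⁻¹ * h⁻¹) (h * f b * h⁻¹) (hc a⁻¹ h) (hc b h) h4
  rw [map_inv] at h5
  have e : (h * (f a)⁻¹ * h⁻¹)⁻¹ = h * f a * h⁻¹ := by group
  have e' : h * (f a)⁻¹ * h⁻¹ = (h * f a * h⁻¹)⁻¹ := by group
  rw [e, e', inv_inv] at h5
  exact h5

theorem shift_one (a b : Q) : f a * b * (f a)⁻¹ * b⁻¹ = a * f b * a⁻¹ * (f b)⁻¹ := by
  have := shift f hf h3 a b 1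
  simpa only [_root_.one_mul, _root_.inv_one, _root_.mul_one] using this

theorem shift_conj (a b c : Q) : (c * a * c⁻¹) * b * (c * a * c⁻¹)⁻¹ * b⁻¹ =
    a * (f c * b * (f c)⁻¹) * a⁻¹ * (f c * b * (f c)⁻¹)⁻¹ := by
  have hb : f (f (f b)) = b := h3 b
  set b' := f (f b) with hb'
  have h1 := shift f hf h3 a b' (f c)
  have h2 := shift_one f hf h3 (c * a * c⁻¹) b'
  rw [hb] at h1 h2
  rw [map_mul, map_mul, map_inv] at h2
  rw [← h2, h1]

theorem central_of (a b c : Q) : (c * a * c⁻¹) * b * (c * a * c⁻¹)⁻¹ * b⁻¹ =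
    (f (f c) * a * (f (f c))⁻¹) * b * (f (f c) * a * (f (f c))⁻¹)⁻¹ * b⁻¹ := by
  rw [shift_conj f hf h3 a b c]
  have h1 := shift_conj f hf h3 b a (f c)
  have h2 := congrArg (·⁻¹) h1
  simp only [mul_inv_rev, inv_inv] at h2
  simp only [mul_inv_rev, inv_inv, ← mul_assoc] at h2 ⊢
  exact h2

/-- class at most two -/
theorem class_two_abs (a b c : Q) : (a * b * a⁻¹ * b⁻¹) * c = c * (a * b * a⁻¹ * b⁻¹) := by
  have hf2 : ∀ u, (f.comp f) u = u → u = 1 := by
    intro u hu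
    apply hf
    have := h3 u
    have hu' : f (f u) = u := hu
    rwa [hu'] at this
  -- `w = (f²g)⁻¹ g`
  obtain ⟨g, hg⟩ := exists_inv_mul (f.comp f) hf2 a⁻¹
  have hg' : (f (f g))⁻¹ * g = a := by
    have : g⁻¹ * f (f g) = a⁻¹ := hg
    have h := congrArg (·⁻¹) this
    simpa only [_root_.mul_inv_rev, _root_.inv_inv] using h
  -- `g b g⁻¹` and `f²(g) b f²(g)⁻¹` act in the same way
  have key : ∀ y : Q, (g * b * g⁻¹) * y * (g * b * g⁻¹)⁻¹ =
      (f (f g) * b * (f (f g))⁻¹) * y * (f (f g) * b * (f (f g))⁻¹)⁻¹ := fun y =>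
    mul_right_cancel (central_of f hf h3 b y g)
  have hz : ∀ y : Q, ((f (f g) * b * (f (f g))⁻¹)⁻¹ * (g * b * g⁻¹)) * y =
      y * ((f (f g) * b * (f (f g))⁻¹)⁻¹ * (g * b * g⁻¹)) := by
    intro y
    have := key y
    set X := g * b * g⁻¹ with hX
    set Y := f (f g) * b * (f (f g))⁻¹ with hY
    calc Y⁻¹ * X * y = Y⁻¹ * (X * y * X⁻¹) * X := by group
      _ = Y⁻¹ * (Y * y * Y⁻¹) * X := by rw [this]
      _ = y * (Y⁻¹ * X) := by group
  -- `a b a⁻¹ b⁻¹` is conjugate to this central element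
  have h5 : b⁻¹ * (a * b * a⁻¹) = (f (f g))⁻¹ * ((f (f g) * b * (f (f g))⁻¹)⁻¹ * (g * b * g⁻¹)) * f (f g) := by
    rw [← hg']; group
  have h6 : b⁻¹ * (a * b * a⁻¹) = (f (f g) * b * (f (f g))⁻¹)⁻¹ * (g * b * g⁻¹) := by
    rw [h5, mul_assoc, hz, ← mul_assoc, inv_mul_cancel, one_mul]
  have h7 : a * b * a⁻¹ * b⁻¹ = (f (f g) * b * (f (f g))⁻¹)⁻¹ * (g * b * g⁻¹) := by
    calc a * b * a⁻¹ * b⁻¹ = b * (b⁻¹ * (a * b * a⁻¹)) * b⁻¹ := by group
      _ = b * ((f (f g) * b * (f (f g))⁻¹)⁻¹ * (g * b * g⁻¹)) * b⁻¹ := by rw [h6]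
      _ = _ := by rw [← hz, mul_inv_cancel_right]
  rw [h7, hz]

/-- LEMMA C -/
theorem comm_abs {n c : Q} (hc : n * c = c * n) : n * f c = f c * n := by
  have h1 := shift_one f hf h3 n (f (f c))
  rw [h3, hc, mul_inv_cancel_right, mul_inv_cancel] at h1
  have h2 : f (n * f c * n⁻¹ * (f c)⁻¹) = 1 := by
    rw [map_mul, map_mul, map_mul, map_inv, map_inv]
    exact h1
  have h4 : n * f c * n⁻¹ * (f c)⁻¹ = 1 := by
    have := h3 (n * f c * n⁻¹ * (f c)⁻¹)
    rw [h2, map_one, map_one] at this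
    exact this.symm
  have h5 := mul_inv_eq_one.1 h4
  exact mul_inv_eq_iff_eq_mul.1 h5

end abs

/-! ### ambient form -/

variable {G : Type u} [Group G] [Finite G]

/-- the action of `x` on `Q` -/
def act {Q : Subgroup G} {x : G} (hn : ∀ u ∈ Q, x * u * x⁻¹ ∈ Q) : Q →* Q where
  toFun u := ⟨x * u * x⁻¹, hn u u.2⟩
  map_one' := Subtype.ext (by simp)
  map_mul' u v := Subtype.ext (by
    show x * ((u : G) * v) * x⁻¹ = (x * (u : G) * x⁻¹) * (x * (v : G) * x⁻¹)
    group)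

omit [Finite G] in
theorem act_fix {Q : Subgroup G} {x : G} (hn : ∀ u ∈ Q, x * u * x⁻¹ ∈ Q)
    (hf : ∀ u ∈ Q, x * u = u * x → u = 1) (u : Q) (h : act hn u = u) : u = 1 := by
  apply Subtype.ext
  apply hf u u.2
  exact mul_inv_eq_iff_eq_mul.1 (congrArg Subtype.val h)

omit [Finite G] in
theorem act_three {Q : Subgroup G} {x : G} (hx : orderOf x = 3) (hn : ∀ u ∈ Q, x * u * x⁻¹ ∈ Q) (u : Q) :
    act hn (act hn (act hn u)) = u := by
  apply Subtype.ext
  show x * (x * (x * (u : G) * x⁻¹) * x⁻¹) * x⁻¹ = u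
  have h3 : x * x * x = 1 := by
    have := pow_orderOf_eq_one x
    rw [hx] at this
    simpa only [pow_succ, _root_.pow_zero, _root_.one_mul] using this
  calc x * (x * (x * (u : G) * x⁻¹) * x⁻¹) * x⁻¹ = (x * x * x) * u * (x * x * x)⁻¹ := by group
    _ = u := by rw [h3]; group

set_option linter.unusedVariables false in
theorem triple {Q : Subgroup G} (hQ : IsPGroup 2 Q) {x : G} (hx : orderOf x = 3) (hn : ∀ u ∈ Q, x * u * x⁻¹ ∈ Q)
    (hf : ∀ u ∈ Q, x * u = u * x → u = 1) {u : G} (hu : u ∈ Q) :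
    u * (x * u * x⁻¹) * (x * (x * u * x⁻¹) * x⁻¹) = 1 :=
  congrArg Subtype.val (triple_abs (act hn) (act_fix hn hf) (act_three hx hn) ⟨u, hu⟩)

set_option linter.unusedVariables false in
theorem class_two {Q : Subgroup G} (hQ : IsPGroup 2 Q) {x : G} (hx : orderOf x = 3) (hn : ∀ u ∈ Q, x * u * x⁻¹ ∈ Q)
    (hf : ∀ u ∈ Q, x * u = u * x → u = 1) {a b c : G} (ha : a ∈ Q) (hb : b ∈ Q) (hc : c ∈ Q) :
    (a * b * a⁻¹ * b⁻¹) * c = c * (a * b * a⁻¹ * b⁻¹) :=
  congrArg Subtype.val (class_two_abs (act hn) (act_fix hn hf) (act_three hx hn) ⟨a, ha⟩ ⟨b, hb⟩ ⟨c, hc⟩)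

set_option linter.unusedVariables false in
/-- LEMMA C -/
theorem comm_conj {Q : Subgroup G} (hQ : IsPGroup 2 Q) {x : G} (hx : orderOf x = 3) (hn : ∀ u ∈ Q, x * u * x⁻¹ ∈ Q)
    (hf : ∀ u ∈ Q, x * u = u * x → u = 1) {n c : G} (hnQ : n ∈ Q) (hcQ : c ∈ Q) (hc : n * c = c * n) :
    n * (x * c * x⁻¹) = (x * c * x⁻¹) * n :=
  congrArg Subtype.val (comm_abs (act hn) (act_fix hn hf) (act_three hx hn) (n := ⟨n, hnQ⟩) (c := ⟨c, hcQ⟩)
    (Subtype.ext hc))

theorem mem_normalizer {H : Subgroup G} {x : G} (h : ∀ y ∈ H, x * y * x⁻¹ ∈ H) :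
    x ∈ Subgroup.normalizer (H : Set G) := by
  rw [Subgroup.mem_normalizer_iff]
  have h1 : H.map (MulAut.conj x).toMonoidHom = H := by
    apply Subgroup.eq_of_le_of_card_ge
    · rintro _ ⟨y, hy, rfl⟩
      exact h y hy
    · rw [Subgroup.card_map_of_injective (MulAut.conj x).injective]
  intro y
  refine ⟨h y, fun hy => ?_⟩
  have hy' : x * y * x⁻¹ ∈ H.map (MulAut.conj x).toMonoidHom := by rw [h1]; exact hy
  obtain ⟨z, hz, hzy⟩ := hy'
  have : z = y := (MulAut.conj x).injective hzy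
  exact this ▸ hz

/-- corollary: `C_Q(A)` is normalised by `P` if the subgroup `A ⊆ Q` is `T`-invariant and `M` is of type 3t -/
theorem centralizer_invariant {M P Q T : Subgroup G} {q : ℕ} (h : ThreeType M P Q T q) {A : Subgroup G} (hA : A ≤ Q)
    (hAT : ∀ t ∈ T, ∀ a ∈ A, t * a * t⁻¹ ∈ A) :
    ∀ p ∈ P, ∀ c ∈ Q ⊓ Subgroup.centralizer (A : Set G), p * c * p⁻¹ ∈ Q ⊓ Subgroup.centralizer (A : Set G) := by
  have hP : P ≤ Subgroup.normalizer ((Q ⊓ Subgroup.centralizer (A : Set G) : Subgroup G) : Set G) := by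
    rw [h.gen, sup_le_iff, Subgroup.closure_le]
    constructor
    · intro t ht
      apply mem_normalizer
      intro c hc
      obtain ⟨hcQ, hcA⟩ := Subgroup.mem_inf.1 hc
      refine Subgroup.mem_inf.2 ⟨h.o2.normal t (h.syl.le ht) c hcQ, ?_⟩
      rw [Subgroup.mem_centralizer_iff] at hcA ⊢
      intro a ha
      have h1 : t⁻¹ * a * t ∈ A := by
        have := hAT t⁻¹ (T.inv_mem ht) a ha
        rwa [inv_inv] at this
      have h2 := hcA _ h1
      calc a * (t * c * t⁻¹) = t * ((t⁻¹ * a * t) * c) * t⁻¹ := by group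
        _ = t * (c * (t⁻¹ * a * t)) * t⁻¹ := by rw [h2]
        _ = _ := by group
    · rintro x ⟨hxM, hx3⟩
      apply mem_normalizer
      intro c hc
      obtain ⟨hcQ, hcA⟩ := Subgroup.mem_inf.1 hc
      refine Subgroup.mem_inf.2 ⟨h.o2.normal x hxM c hcQ, ?_⟩
      rw [Subgroup.mem_centralizer_iff] at hcA ⊢
      intro a ha
      exact comm_conj h.o2.two hx3 (h.o2.normal x hxM) (h.fpf x hxM hx3) (hA ha) hcQ (hcA a ha)
  intro p hp c hc
  exact (Subgroup.mem_normalizer_iff.1 (hP hp) c).1 hc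

end Cfsg.Agent.OddCyclic.T1Class2
end

-- part: OddCyclic/B2LemB
section
/-!
# S0342, case B2, (1.3): LEMMA B (helper51)

`T₄ = F⟨t, y⟩` Sylow in `N_G(V)`, not Sylow in `G`: `F` is elementary abelian of order 16.
-/

set_option autoImplicit false

namespace Cfsg.Agent.OddCyclic.B2LemB

open Cfsg.Agent.LieExceptional.CITDefs Cfsg.Agent.OddCyclic Cfsg.Agent.OddCyclic.B2Defs
open scoped commutatorElement

variable {G : Type*} [Group G]

/-! ### basic facts -/

section basic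

variable {t h : G} {V P F : Subgroup G}

theorem h_ne (L : Loc t h V) : h ≠ 1 := by
  intro h0
  have h1 : V = ⊥ := by
    rw [Subgroup.eq_bot_iff_forall]
    intro v hv
    exact L.fpfV v hv (by rw [h0, one_mul, mul_one])
  have h2 := L.card_V
  rw [h1, Subgroup.card_bot] at h2
  omega

theorem order_h (L : Loc t h V) : orderOf h = 3 := by
  have : Fact (Nat.Prime 3) := ⟨Nat.prime_three⟩
  exact orderOf_eq_prime (by rw [pow_succ, pow_two]; exact L.h_cube) (h_ne L)

theorem inv_h (L : Loc t h V) : h⁻¹ = h * h := (eq_inv_of_mul_eq_one_left L.h_cube).symm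

/-- a subgroup normalised by `h` is normalised by `h⁻¹` -/
theorem inv_conj (L : Loc t h V) {A : Subgroup G} (hA : ∀ a ∈ A, h * a * h⁻¹ ∈ A) {a : G} (ha : a ∈ A) :
    h⁻¹ * a * h ∈ A := by
  have h1 := hA _ (hA a ha)
  have h2 : h⁻¹ * a * h = h * (h * a * h⁻¹) * h⁻¹ := by
    calc h⁻¹ * a * h = h⁻¹ * a * (h⁻¹)⁻¹ := by rw [inv_inv]
      _ = (h * h) * a * (h * h)⁻¹ := by rw [inv_h L]
      _ = _ := by group
  rw [h2]; exact h1

theorem two (D : PData t h V P F) : IsPGroup 2 F := by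
  have hle : F ≤ P := fun f hf => (D.mem f).2 ⟨f, hf, Or.inl rfl⟩
  exact D.syl.two.to_le hle

theorem F_le_P (D : PData t h V P F) : F ≤ P := fun f hf => (D.mem f).2 ⟨f, hf, Or.inl rfl⟩

theorem t_mem_P (D : PData t h V P F) : t ∈ P := (D.mem t).2 ⟨1, F.one_mem, Or.inr (by rw [mul_one])⟩

theorem V_cent (D : PData t h V P F) {v f : G} (hv : v ∈ V) (hf : f ∈ F) : v * f = f * v :=
  (Subgroup.mem_centralizer_iff.1 (D.syl.le (F_le_P D hf)) v hv)

theorem tF (D : PData t h V P F) {f : G} (hf : f ∈ F) : t * f * t⁻¹ ∈ F := D.norm t (t_mem_P D) f hf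

theorem t_inv (L : Loc t h V) : t⁻¹ = t := inv_eq_of_mul_eq_one_left L.t_sq

/-- the elements of `V` -/
theorem cases_V [Finite G] (L : Loc t h V) {c v : G} (hc : c ∈ V) (hc1 : c ≠ 1) (hv : v ∈ V) :
    v = 1 ∨ v = c ∨ v = h * c * h⁻¹ ∨ v = h⁻¹ * c * h := by
  classical
  by_contra hno
  push Not at hno
  obtain ⟨n1, n2, n3, n4⟩ := hno
  have hc2 : h * c * h⁻¹ ≠ c := fun e => hc1 (L.fpfV c hc (mul_inv_eq_iff_eq_mul.1 e))
  have hc3 : h⁻¹ * c * h ≠ c := by
    intro e
    apply hc2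
    have : h * (h⁻¹ * c * h) * h⁻¹ = h * c * h⁻¹ := by rw [e]
    rw [← this]; group
  have hc4 : h * c * h⁻¹ ≠ h⁻¹ * c * h := by
    intro e
    apply hc3
    have h2 : h⁻¹ * c * h = h * (h * c * h⁻¹) * h⁻¹ := by
      calc h⁻¹ * c * h = h⁻¹ * c * (h⁻¹)⁻¹ := by rw [inv_inv]
        _ = (h * h) * c * (h * h)⁻¹ := by rw [inv_h L]
        _ = _ := by group
    rw [h2, e]; group
  have hn1 : h * c * h⁻¹ ≠ 1 := fun e => hc1 (by
    have : h⁻¹ * (h * c * h⁻¹) * h = c := by group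
    rw [← this, e]; group)
  have hn2 : h⁻¹ * c * h ≠ 1 := fun e => hc1 (by
    have : h * (h⁻¹ * c * h) * h⁻¹ = c := by group
    rw [← this, e]; group)
  have hsub : (({v, 1, c, h * c * h⁻¹, h⁻¹ * c * h} : Finset G) : Set G) ⊆ (V : Set G) := by
    intro x hx
    simp only [Finset.coe_insert, Finset.coe_singleton, Set.mem_insert_iff, Set.mem_singleton_iff] at hx
    rcases hx with rfl | rfl | rfl | rfl | rfl
    · exact hv
    · exact V.one_mem
    · exact hc
    · exact L.hV _ hc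
    · exact inv_conj L L.hV hc
  have h5 : ({v, 1, c, h * c * h⁻¹, h⁻¹ * c * h} : Finset G).card = 5 := by
    rw [Finset.card_insert_of_notMem, Finset.card_insert_of_notMem, Finset.card_insert_of_notMem,
      Finset.card_insert_of_notMem, Finset.card_singleton]
    · simpa only [_root_.Finset.mem_singleton, _root_.ne_eq] using hc4
    · simp only [Finset.mem_insert, Finset.mem_singleton, not_or]
      exact ⟨hc2.symm, hc3.symm⟩
    · simp only [Finset.mem_insert, Finset.mem_singleton, not_or]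
      exact ⟨hc1.symm, hn1.symm, hn2.symm⟩
    · simp only [Finset.mem_insert, Finset.mem_singleton, not_or]
      exact ⟨n1, n2, n3, n4⟩
  have h6 := Set.ncard_le_ncard hsub (Set.toFinite _)
  rw [Set.ncard_coe_finset, h5] at h6
  have h7 : (V : Set G).ncard = Nat.card V := (Nat.card_coe_set_eq _).symm
  rw [h7, L.card_V] at h6
  omega

/-- if `u⁻¹ u^h` is in the `h`-invariant subgroup `Z` of `F`, then `u ∈ Z` -/
theorem mem_of_fix [Finite G] (D : PData t h V P F) {Z : Subgroup G} (hZF : Z ≤ F) (hZ : ∀ z ∈ Z, h * z * h⁻¹ ∈ Z)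
    {u : G} (hu : u ∈ F) (h1 : u⁻¹ * (h * u * h⁻¹) ∈ Z) : u ∈ Z := by
  obtain ⟨z, hz⟩ := T1Class2.exists_inv_mul (T1Class2.act hZ)
    (T1Class2.act_fix hZ (fun w hw => D.fpf w (hZF hw))) ⟨_, h1⟩
  have hz' : (z : G)⁻¹ * (h * z * h⁻¹) = u⁻¹ * (h * u * h⁻¹) := congrArg Subtype.val hz
  have h2 : h * (u * (z : G)⁻¹) = (u * (z : G)⁻¹) * h := by
    have e1 : u * (z : G)⁻¹ * (h * z * h⁻¹) = h * u * h⁻¹ := by
      rw [mul_assoc, hz']; group
    calc h * (u * (z : G)⁻¹) = (h * u * h⁻¹) * (h * z * h⁻¹)⁻¹ * h := by group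
      _ = (u * (z : G)⁻¹ * (h * z * h⁻¹)) * (h * z * h⁻¹)⁻¹ * h := by rw [e1]
      _ = _ := by group
  have h3 := D.fpf _ (F.mul_mem hu (F.inv_mem (hZF z.2))) h2
  have h4 : u = z := by
    calc u = (u * (z : G)⁻¹) * z := by group
      _ = z := by rw [h3, one_mul]
  rw [h4]; exact z.2

/-- fixed points of `h` on `F/V` -/
theorem mem_V_of_fix [Finite G] (L : Loc t h V) (D : PData t h V P F) {u : G} (hu : u ∈ F)
    (h1 : h * u * h⁻¹ * u⁻¹ ∈ V) : u ∈ V := by
  refine mem_of_fix D D.V_le L.hV hu ?_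
  have h2 := V_cent D h1 (F.inv_mem hu)
  have h3 : u⁻¹ * (h * u * h⁻¹) = h * u * h⁻¹ * u⁻¹ := by
    calc u⁻¹ * (h * u * h⁻¹) = u⁻¹ * (h * u * h⁻¹ * u⁻¹) * u := by group
      _ = (h * u * h⁻¹ * u⁻¹) * u⁻¹ * u := by rw [h2]
      _ = _ := by group
  rw [h3]; exact h1

end basic

/-! ### elements acting trivially on `F/V` -/

/-- the subgroup of the elements of `N(F)` acting trivially on `F/V` -/
def KK (F V : Subgroup G) : Subgroup G where
  carrier := {x | x ∈ Subgroup.normalizer (F : Set G) ∧ ∀ f ∈ F, x * f * x⁻¹ * f⁻¹ ∈ V}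
  one_mem' := ⟨Subgroup.one_mem _, fun f _ => by
    have : (1 : G) * f * 1⁻¹ * f⁻¹ = 1 := by group
    rw [this]; exact V.one_mem⟩
  mul_mem' := by
    rintro a b ⟨ha, ha'⟩ ⟨hb, hb'⟩
    refine ⟨Subgroup.mul_mem _ ha hb, fun f hf => ?_⟩
    have h1 : b * f * b⁻¹ ∈ F := (Subgroup.mem_normalizer_iff.1 hb f).1 hf
    have h2 := V.mul_mem (ha' _ h1) (hb' f hf)
    have h3 : a * b * f * (a * b)⁻¹ * f⁻¹ =
        a * (b * f * b⁻¹) * a⁻¹ * (b * f * b⁻¹)⁻¹ * (b * f * b⁻¹ * f⁻¹) := by group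
    rw [h3]; exact h2
  inv_mem' := by
    rintro a ⟨ha, ha'⟩
    refine ⟨Subgroup.inv_mem _ ha, fun f hf => ?_⟩
    have h1 : a⁻¹ * f * a ∈ F := by
      have := (Subgroup.mem_normalizer_iff.1 (Subgroup.inv_mem _ ha) f).1 hf
      rwa [inv_inv] at this
    have h2 := V.inv_mem (ha' _ h1)
    have h3 : a⁻¹ * f * a⁻¹⁻¹ * f⁻¹ = (a * (a⁻¹ * f * a) * a⁻¹ * (a⁻¹ * f * a)⁻¹)⁻¹ := by group
    rw [h3]; exact h2

theorem KK_conj {F V : Subgroup G} {n x : G} (hn : n ∈ Subgroup.normalizer (F : Set G))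
    (hV : ∀ v ∈ V, n * v * n⁻¹ ∈ V) (hx : x ∈ KK F V) : n * x * n⁻¹ ∈ KK F V := by
  obtain ⟨h1, h2⟩ := hx
  refine ⟨Subgroup.mul_mem _ (Subgroup.mul_mem _ hn h1) (Subgroup.inv_mem _ hn), fun f hf => ?_⟩
  have h3 : n⁻¹ * f * n ∈ F := by
    have := (Subgroup.mem_normalizer_iff.1 (Subgroup.inv_mem _ hn) f).1 hf
    rwa [inv_inv] at this
  have h4 : n * x * n⁻¹ * f * (n * x * n⁻¹)⁻¹ * f⁻¹ =
      n * (x * (n⁻¹ * f * n) * x⁻¹ * (n⁻¹ * f * n)⁻¹) * n⁻¹ := by group
  rw [h4]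
  exact hV _ (h2 _ h3)

section main

variable [Finite G] {t h y : G} {V P F T₄ : Subgroup G}

theorem h_norm (D : PData t h V P F) : h ∈ Subgroup.normalizer (F : Set G) := T1Class2.mem_normalizer D.hF

theorem t_norm (D : PData t h V P F) : t ∈ Subgroup.normalizer (F : Set G) :=
  T1Class2.mem_normalizer (fun _ hf => tF D hf)

omit [Finite G] in
theorem F_norm {F : Subgroup G} {f : G} (hf : f ∈ F) : f ∈ Subgroup.normalizer (F : Set G) :=
  Subgroup.le_normalizer hf

/-- `D₀ = {f ∈ F | [f, t] ∈ V}` has order at most 16 -/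
theorem card_le_sixteen (L : Loc t h V) (D : PData t h V P F) {A : Subgroup G} (hA : A ≤ F)
    (hAt : ∀ a ∈ A, a * t * a⁻¹ * t⁻¹ ∈ V) : Nat.card A ≤ 16 := by
  let φ : A →* V :=
    { toFun := fun a => ⟨a * t * (a : G)⁻¹ * t⁻¹, hAt a a.2⟩
      map_one' := Subtype.ext (by
        show (1 : G) * t * 1⁻¹ * t⁻¹ = 1
        group)
      map_mul' := by
        intro a b
        apply Subtype.ext
        show (a * b : G) * t * (a * b : G)⁻¹ * t⁻¹ = (a * t * (a : G)⁻¹ * t⁻¹) * (b * t * (b : G)⁻¹ * t⁻¹)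
        have h1 := V_cent D (hAt b b.2) (hA a.2)
        have h2 : (b * t * (b : G)⁻¹ * t⁻¹) * t = t * (b * t * (b : G)⁻¹ * t⁻¹) := (L.tV _ (hAt b b.2)).symm
        calc (a * b : G) * t * (a * b : G)⁻¹ * t⁻¹
            = a * (b * t * (b : G)⁻¹ * t⁻¹) * t * (a : G)⁻¹ * t⁻¹ := by group
          _ = (b * t * (b : G)⁻¹ * t⁻¹) * (a * t * (a : G)⁻¹ * t⁻¹) := by rw [← h1]; group
          _ = (a * t * (a : G)⁻¹ * t⁻¹) * (b * t * (b : G)⁻¹ * t⁻¹) :=
            L.elem.comm (hAt b b.2) (hAt a a.2) }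
  have hker : Nat.card φ.ker ≤ 4 := by
    have h1 : Function.Injective (fun x : φ.ker => (⟨(x : A), by
        have hx : φ x = 1 := x.2
        have h2 : (x : A) * t * ((x : A) : G)⁻¹ * t⁻¹ = 1 := congrArg Subtype.val hx
        apply D.cF _ (hA (x : A).2)
        have h3 : ((x : A) : G) * t = t * (x : A) := by
          have := mul_inv_eq_one.1 h2
          exact mul_inv_eq_iff_eq_mul.1 this
        exact h3.symm⟩ : V)) := by
      intro x x' hxx
      have h9 : ((x : A) : G) = ((x' : A) : G) := congrArg (fun z : V => (z : G)) hxx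
      exact Subtype.ext (Subtype.ext h9)
    have := Nat.card_le_card_of_injective _ h1
    rwa [L.card_V] at this
  have hrange : Nat.card φ.range ≤ 4 := by
    have := Subgroup.card_le_card_group φ.range
    rwa [L.card_V] at this
  have h1 := φ.ker.card_mul_index
  rw [Subgroup.index_ker] at h1
  calc Nat.card A = Nat.card φ.ker * Nat.card φ.range := h1.symm
    _ ≤ 4 * 4 := Nat.mul_le_mul hker hrange
    _ = 16 := by norm_num

/-- an `h`-invariant subgroup of `F` strictly bigger than `V` has order at least 16 -/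
theorem sixteen_le (L : Loc t h V) (D : PData t h V P F) {A : Subgroup G} (hA : A ≤ F) (hVA : V ≤ A)
    (hAh : ∀ a ∈ A, h * a * h⁻¹ ∈ A) {a : G} (ha : a ∈ A) (haV : a ∉ V) : 16 ≤ Nat.card A := by
  -- the four cosets `V, aV, a^h V, a^(h⁻¹) V`
  have hfpf : ∀ b ∈ A, b ∉ V → b⁻¹ * (h * b * h⁻¹) ∉ V := by
    intro b hb hbV h1
    exact hbV (mem_of_fix D D.V_le L.hV (hA hb) h1)
  have key : ∀ v : V × Fin 4, (![1, a, h * a * h⁻¹, h⁻¹ * a * h] v.2) * (v.1 : G) ∈ A := by
    rintro ⟨v, i⟩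
    refine A.mul_mem ?_ (hVA v.2)
    fin_cases i
    · exact A.one_mem
    · exact ha
    · exact hAh a ha
    · exact inv_conj L hAh ha
  have hh3 : h⁻¹ * a * h = h * (h * a * h⁻¹) * h⁻¹ := by
    calc h⁻¹ * a * h = h⁻¹ * a * (h⁻¹)⁻¹ := by rw [inv_inv]
      _ = (h * h) * a * (h * h)⁻¹ := by rw [inv_h L]
      _ = _ := by group
  have haV' : h * a * h⁻¹ ∉ V := by
    intro h1
    apply haV
    have := inv_conj L L.hV h1
    have e : h⁻¹ * (h * a * h⁻¹) * h = a := by group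
    rwa [e] at this
  have haV'' : h⁻¹ * a * h ∉ V := by
    intro h1
    apply haV
    have := L.hV _ h1
    have e : h * (h⁻¹ * a * h) * h⁻¹ = a := by group
    rwa [e] at this
  have d12 : a⁻¹ * (h * a * h⁻¹) ∉ V := hfpf a ha haV
  have d23 : (h * a * h⁻¹)⁻¹ * (h⁻¹ * a * h) ∉ V := by
    rw [hh3]; exact hfpf _ (hAh a ha) haV'
  have d31 : (h⁻¹ * a * h)⁻¹ * a ∉ V := by
    have := hfpf _ (inv_conj L hAh ha) haV''
    have e : h * (h⁻¹ * a * h) * h⁻¹ = a := by group
    rwa [e] at this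
  have hinj : Function.Injective (fun v : V × Fin 4 => (⟨_, key v⟩ : A)) := by
    rintro ⟨v, i⟩ ⟨w, j⟩ hvw
    have h1 : (![1, a, h * a * h⁻¹, h⁻¹ * a * h] i) * (v : G) = (![1, a, h * a * h⁻¹, h⁻¹ * a * h] j) * (w : G) :=
      congrArg Subtype.val hvw
    have h2 : (![1, a, h * a * h⁻¹, h⁻¹ * a * h] j)⁻¹ * (![1, a, h * a * h⁻¹, h⁻¹ * a * h] i) ∈ V := by
      have : (![1, a, h * a * h⁻¹, h⁻¹ * a * h] j)⁻¹ * (![1, a, h * a * h⁻¹, h⁻¹ * a * h] i) = w * (v : G)⁻¹ := by
        calc (![1, a, h * a * h⁻¹, h⁻¹ * a * h] j)⁻¹ * (![1, a, h * a * h⁻¹, h⁻¹ * a * h] i)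
            = (![1, a, h * a * h⁻¹, h⁻¹ * a * h] j)⁻¹ * ((![1, a, h * a * h⁻¹, h⁻¹ * a * h] i) * (v : G)) * (v : G)⁻¹ := by group
          _ = w * (v : G)⁻¹ := by rw [h1]; group
      rw [this]; exact V.mul_mem w.2 (V.inv_mem v.2)
    have h3 := V.inv_mem h2
    rw [mul_inv_rev, inv_inv] at h3
    have hij : i = j := by
      fin_cases i <;> fin_cases j <;> first
        | rfl
        | (exfalso
           simp only [Fin.zero_eta, Fin.isValue, Fin.mk_one, Matrix.cons_val_zero, Matrix.cons_val_one,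
             Matrix.cons_val, inv_one, one_mul, mul_one, Fin.reduceFinMk] at h2 h3
           first
             | exact haV h2
             | exact haV h3
             | exact haV' h2
             | exact haV' h3
             | exact haV'' h2
             | exact haV'' h3
             | exact d12 h2
             | exact d12 h3
             | exact d23 h2
             | exact d23 h3
             | exact d31 h2
             | exact d31 h3)
    subst hij
    have h4 : v = w := Subtype.ext (mul_left_cancel h1)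
    rw [h4]
  have := Nat.card_le_card_of_injective _ hinj
  rw [Nat.card_prod, L.card_V, Nat.card_fin] at this
  omega

/-! ### the centre of `T₄` -/

omit [Finite G] in
theorem ne4 (L : Loc t h V) {c : G} (hc : c ∈ V) (hc1 : c ≠ 1) : h * c * h⁻¹ ≠ h⁻¹ * c * h := by
  intro e
  have h2 : h⁻¹ * c * h = h * (h * c * h⁻¹) * h⁻¹ := by
    calc h⁻¹ * c * h = h⁻¹ * c * (h⁻¹)⁻¹ := by rw [inv_inv]
      _ = (h * h) * c * (h * h)⁻¹ := by rw [inv_h L]
      _ = _ := by group
  have h3 : h⁻¹ * c * h = c := by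
    rw [h2, e]; group
  have h4 : h * c = c * h := by
    calc h * c = h * (h⁻¹ * c * h) := by rw [h3]
      _ = c * h := by group
  exact hc1 (L.fpfV c hc h4)

/-- the common part of `TypeY` and `TypeZ`, for `s = y` and `s = t y` -/
structure Inv (t h s : G) (V : Subgroup G) : Prop where
  ts : t * s = s * t
  sV : ∀ v ∈ V, s * v * s⁻¹ ∈ V
  sh : s * h * s⁻¹ = h⁻¹
  ss : ∀ v ∈ V, s * s * v = v * (s * s)

omit [Finite G] in
theorem inv_of (L : Loc t h V) (hy : TypeY t h y V ∨ TypeZ t h y V) : Inv t h y V := by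
  rcases hy with hy | hy
  · exact ⟨hy.ty, hy.yV, hy.yh, fun v _ => by rw [hy.y_sq, one_mul, mul_one]⟩
  · refine ⟨?_, hy.yV, hy.yh, fun v hv => by rw [hy.y_sq]; exact L.tV v hv⟩
    rw [← hy.y_sq]; group

omit [Finite G] in
theorem Inv.mul_t (L : Loc t h V) (H : Inv t h y V) : Inv t h (t * y) V := by
  refine ⟨?_, ?_, ?_, ?_⟩
  · calc t * (t * y) = t * (y * t) := by rw [H.ts]
      _ = _ := by group
  · intro v hv
    have h1 := H.sV v hv
    have h2 : t * y * v * (t * y)⁻¹ = t * (y * v * y⁻¹) * t⁻¹ := by group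
    rw [h2, L.tV _ h1]
    have : y * v * y⁻¹ * t * t⁻¹ = y * v * y⁻¹ := by group
    rw [this]; exact h1
  · have h1 : t * y * h * (t * y)⁻¹ = t * (y * h * y⁻¹) * t⁻¹ := by group
    rw [h1, H.sh]
    have h2 : t * h⁻¹ = h⁻¹ * t := by
      calc t * h⁻¹ = h⁻¹ * (h * t) * h⁻¹ := by group
        _ = h⁻¹ * (t * h) * h⁻¹ := by rw [L.ht]
        _ = _ := by group
    rw [h2]; group
  · intro v hv
    have h1 : t * y * (t * y) = y * y := by
      calc t * y * (t * y) = (t * y) * (y * t) := by rw [H.ts]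
        _ = (y * t) * (y * t) := by rw [H.ts]
        _ = y * (t * y) * t := by group
        _ = y * (y * t) * t := by rw [H.ts]
        _ = (y * y) * (t * t) := by group
        _ = _ := by rw [L.t_sq, mul_one]
    rw [h1]; exact H.ss v hv

omit [Finite G] in
/-- `s` inverts `h`, so it does not centralise `V` -/
theorem Inv.not_cent (L : Loc t h V) {s : G} (H : Inv t h s V) (hc : ∀ v ∈ V, s * v = v * s) : False := by
  have h1 : ∃ v ∈ V, v ≠ 1 := by
    by_contra hno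
    push Not at hno
    have : V = ⊥ := by rw [Subgroup.eq_bot_iff_forall]; exact hno
    have h2 := L.card_V
    rw [this, Subgroup.card_bot] at h2
    omega
  obtain ⟨v, hv, hv1⟩ := h1
  apply ne4 L hv hv1
  have h2 : s * (h * v * h⁻¹) * s⁻¹ = h * v * h⁻¹ := by
    rw [hc _ (L.hV v hv)]; group
  have h3 : s * v * s⁻¹ = v := by rw [hc v hv]; group
  have h4 : s * h⁻¹ * s⁻¹ = h := by
    have := congrArg (·⁻¹) H.sh
    simpa only [mul_inv_rev, mul_assoc, _root_.inv_inv] using this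
  calc h * v * h⁻¹ = s * (h * v * h⁻¹) * s⁻¹ := h2.symm
    _ = (s * h * s⁻¹) * (s * v * s⁻¹) * (s * h⁻¹ * s⁻¹) := by group
    _ = h⁻¹ * v * h := by rw [H.sh, h3, h4]

/-- `C_V(y)` has order at most two -/
theorem uniq (L : Loc t h V) (H : Inv t h y V) {a b : G} (ha : a ∈ V) (ha1 : a ≠ 1) (hb : b ∈ V) (hb1 : b ≠ 1)
    (hya : y * a = a * y) (hyb : y * b = b * y) : a = b := by
  have h4 : y * h⁻¹ * y⁻¹ = h := by
    have := congrArg (·⁻¹) H.sh
    simpa only [mul_inv_rev, mul_assoc, _root_.inv_inv] using this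
  have hya' : y * a * y⁻¹ = a := by rw [hya]; group
  have hyb' : y * b * y⁻¹ = b := by rw [hyb]; group
  rcases cases_V L ha ha1 hb with h1 | h1 | h1 | h1
  · exact absurd h1 hb1
  · exact h1.symm
  · exfalso
    apply ne4 L ha ha1
    calc h * a * h⁻¹ = y * b * y⁻¹ := by rw [hyb', h1]
      _ = (y * h * y⁻¹) * (y * a * y⁻¹) * (y * h⁻¹ * y⁻¹) := by rw [h1]; group
      _ = _ := by rw [H.sh, h4, hya']
  · exfalso
    apply ne4 L ha ha1
    calc h * a * h⁻¹ = (y * h⁻¹ * y⁻¹) * (y * a * y⁻¹) * (y * h * y⁻¹) := by rw [H.sh, h4, hya']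
      _ = y * b * y⁻¹ := by rw [h1]; group
      _ = _ := by rw [hyb', h1]

variable (D : FourData t h y V P F T₄) (L : Loc t h V) (H : Inv t h y V)

omit [Finite G] in
include D in
theorem F_le_T : F ≤ T₄ := fun f hf => (D.mem₄ f).2 ⟨f, hf, Or.inl rfl⟩

omit [Finite G] in
include D in
theorem t_mem_T : t ∈ T₄ := (D.mem₄ t).2 ⟨1, F.one_mem, Or.inr (Or.inl (by rw [mul_one]))⟩

omit [Finite G] in
include D in
theorem y_mem_T : y ∈ T₄ := (D.mem₄ y).2 ⟨1, F.one_mem, Or.inr (Or.inr (Or.inl (by rw [mul_one])))⟩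

omit [Finite G] in
include D in
theorem exists_F : ∃ f ∈ F, f ∉ V := by
  by_contra hno
  push Not at hno
  exact D.ne (le_antisymm D.V_le hno)

omit [Finite G] in
include D in
theorem comm_t_of_mul {s f : G} (hs : t * s = s * t) (hf : f ∈ F) (hz : t * (s * f) = s * f * t) : f ∈ V := by
  apply D.cF f hf
  have h1 : s * (t * f) = s * (f * t) := by
    calc s * (t * f) = (s * t) * f := by group
      _ = t * s * f := by rw [hs]
      _ = t * (s * f) := by group
      _ = s * f * t := hz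
      _ = _ := by group
  exact mul_left_cancel h1

omit [Finite G] in
include D L H in
/-- `Z(T₄) ≤ V` -/
theorem center_le {z : G} (hz : z ∈ T₄) (hc : ∀ x ∈ T₄, z * x = x * z) : z ∈ V := by
  have case_s : ∀ s f : G, Inv t h s V → f ∈ F → z = s * f → False := by
    intro s f hs hf hzf
    have h1 : f ∈ V := by
      apply comm_t_of_mul D hs.ts hf
      rw [← hzf]; exact (hc t (t_mem_T D)).symm
    apply hs.not_cent L
    intro v hv
    have h2 := hc v (F_le_T D (D.V_le hv))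
    rw [hzf] at h2
    have h3 : f * v = v * f := L.elem.comm h1 hv
    have h4 : s * v * f = v * s * f := by
      calc s * v * f = s * (v * f) := by group
        _ = s * f * v := by rw [← h3]; group
        _ = v * (s * f) := h2
        _ = _ := by group
    exact mul_right_cancel h4
  obtain ⟨f, hf, h1 | h1 | h1 | h1⟩ := (D.mem₄ z).1 hz
  · rw [h1]
    apply D.cF f hf
    rw [← h1]; exact (hc t (t_mem_T D)).symm
  · exfalso
    have hfV : f ∈ V := by
      apply comm_t_of_mul D rfl hf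
      rw [← h1]; exact (hc t (t_mem_T D)).symm
    obtain ⟨u, hu, huV⟩ := exists_F D
    apply huV
    apply D.cF u hu
    have h2 := hc u (F_le_T D hu)
    rw [h1] at h2
    have h3 : f * u = u * f := V_cent D.toPData hfV hu
    have h4 : t * u * f = u * t * f := by
      calc t * u * f = t * (u * f) := by group
        _ = t * f * u := by rw [← h3]; group
        _ = u * (t * f) := h2
        _ = _ := by group
    exact mul_right_cancel h4
  · exact (case_s y f H hf h1).elim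
  · exact (case_s (t * y) f (H.mul_t L) hf h1).elim

/-- the condition `z ∈ V ∩ C(y) = Z(T₄)` -/
def Zc (y : G) (V : Subgroup G) (z : G) : Prop := z ∈ V ∧ y * z = z * y

omit [Finite G] in
include D L H in
theorem zc_iff {z : G} : Zc y V z ↔ z ∈ T₄ ∧ ∀ x ∈ T₄, z * x = x * z := by
  constructor
  · rintro ⟨hz, hyz⟩
    refine ⟨F_le_T D (D.V_le hz), fun x hx => ?_⟩
    obtain ⟨f, hf, h1 | h1 | h1 | h1⟩ := (D.mem₄ x).1 hx
    · rw [h1]; exact V_cent D.toPData hz hf
    · rw [h1]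
      have h2 := V_cent D.toPData hz hf
      have h3 := L.tV z hz
      calc z * (t * f) = (z * t) * f := by group
        _ = t * (z * f) := by rw [← h3]; group
        _ = _ := by rw [h2]; group
    · rw [h1]
      have h2 := V_cent D.toPData hz hf
      calc z * (y * f) = (z * y) * f := by group
        _ = y * (z * f) := by rw [← hyz]; group
        _ = _ := by rw [h2]; group
    · rw [h1]
      have h2 := V_cent D.toPData hz hf
      have h3 := L.tV z hz
      calc z * (t * y * f) = (z * t) * y * f := by group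
        _ = t * (z * y) * f := by rw [← h3]; group
        _ = t * y * (z * f) := by rw [← hyz]; group
        _ = _ := by rw [h2]; group
  · rintro ⟨hz, hc⟩
    exact ⟨center_le D L H hz hc, (hc y (y_mem_T D)).symm⟩

omit [Finite G] in
include D L H in
/-- `[V, T₄] ≤ Z(T₄)` -/
theorem comm_V {v x : G} (hv : v ∈ V) (hx : x ∈ T₄) : Zc y V (v * x * v⁻¹ * x⁻¹) := by
  have hvi := L.elem v hv
  have hv' : v⁻¹ = v := inv_eq_of_mul_eq_one_left hvi
  have hone : Zc y V 1 := ⟨V.one_mem, by rw [one_mul, mul_one]⟩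
  have case_s : ∀ s f : G, Inv t h s V → f ∈ F → (∀ u ∈ V, s * u * s⁻¹ = y * u * y⁻¹) → x = s * f →
      Zc y V (v * x * v⁻¹ * x⁻¹) := by
    intro s f hs hf hsy hxf
    have h1 := V_cent D.toPData (V.inv_mem hv) hf
    have h2 : v * x * v⁻¹ * x⁻¹ = v * (s * v⁻¹ * s⁻¹) := by
      rw [hxf]
      calc v * (s * f) * v⁻¹ * (s * f)⁻¹ = v * s * (f * v⁻¹) * f⁻¹ * s⁻¹ := by group
        _ = _ := by rw [← h1]; group
    rw [h2, hsy _ (V.inv_mem hv), hv']
    have h3 := H.sV v hv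
    refine ⟨V.mul_mem hv h3, ?_⟩
    have h4 : y * (y * v * y⁻¹) * y⁻¹ = v := by
      calc y * (y * v * y⁻¹) * y⁻¹ = (y * y * v) * (y * y)⁻¹ := by group
        _ = v * (y * y) * (y * y)⁻¹ := by rw [H.ss v hv]
        _ = v := by group
    calc y * (v * (y * v * y⁻¹)) = (y * v * y⁻¹) * (y * (y * v * y⁻¹) * y⁻¹) * y := by group
      _ = (y * v * y⁻¹) * v * y := by rw [h4]
      _ = _ := by rw [L.elem.comm h3 hv]
  obtain ⟨f, hf, h1 | h1 | h1 | h1⟩ := (D.mem₄ x).1 hx
  · have h2 : v * x = x * v := by rw [h1]; exact V_cent D.toPData hv hf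
    have h3 : v * x * v⁻¹ * x⁻¹ = 1 := by rw [h2]; group
    rw [h3]; exact hone
  · have h2 : v * x = x * v := by
      rw [h1]
      have h3 := L.tV v hv
      calc v * (t * f) = (v * t) * f := by group
        _ = t * (v * f) := by rw [← h3]; group
        _ = _ := by rw [V_cent D.toPData hv hf]; group
    have h3 : v * x * v⁻¹ * x⁻¹ = 1 := by rw [h2]; group
    rw [h3]; exact hone
  · exact case_s y f H hf (fun _ _ => rfl) h1
  · refine case_s (t * y) f (H.mul_t L) hf (fun u hu => ?_) h1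
    have h2 : t * y * u * (t * y)⁻¹ = t * (y * u * y⁻¹) * t⁻¹ := by group
    rw [h2, L.tV _ (H.sV u hu)]; group

/-! ### an element `v ∉ V` of `T₄` with `[v, T₄] ≤ Z(T₄)` -/

include D in
theorem T_norm {x : G} (hx : x ∈ T₄) : x ∈ Subgroup.normalizer (F : Set G) := by
  have hy := T1Class2.mem_normalizer (fun f hf => D.yF f hf)
  have ht := t_norm D.toPData
  obtain ⟨f, hf, h1 | h1 | h1 | h1⟩ := (D.mem₄ x).1 hx
  · rw [h1]; exact F_norm hf
  · rw [h1]; exact Subgroup.mul_mem _ ht (F_norm hf)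
  · rw [h1]; exact Subgroup.mul_mem _ hy (F_norm hf)
  · rw [h1]; exact Subgroup.mul_mem _ (Subgroup.mul_mem _ ht hy) (F_norm hf)

include D L H in
/-- such an element is not in `tF` -/
theorem not_tF {v f₀ : G} (hc : ∀ f ∈ F, Zc y V (v * f * v⁻¹ * f⁻¹)) (hf₀ : f₀ ∈ F) (hv : v = t * f₀) : False := by
  have hti := t_inv L
  -- the common argument
  have key : ∀ a ∈ F, a ∉ V → f₀ * a = a * f₀ → f₀ * (h * a * h⁻¹) = (h * a * h⁻¹) * f₀ → False := by
    intro a ha haV hca hcah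
    have h1 := hc a ha
    have h2 := hc _ (D.hF a ha)
    have e1 : v * a * v⁻¹ * a⁻¹ = t * a * t⁻¹ * a⁻¹ := by
      rw [hv]
      calc t * f₀ * a * (t * f₀)⁻¹ * a⁻¹ = t * (f₀ * a) * f₀⁻¹ * t⁻¹ * a⁻¹ := by group
        _ = _ := by rw [hca]; group
    have e2 : v * (h * a * h⁻¹) * v⁻¹ * (h * a * h⁻¹)⁻¹ = h * (t * a * t⁻¹ * a⁻¹) * h⁻¹ := by
      rw [hv]
      calc t * f₀ * (h * a * h⁻¹) * (t * f₀)⁻¹ * (h * a * h⁻¹)⁻¹
          = t * (f₀ * (h * a * h⁻¹)) * f₀⁻¹ * t⁻¹ * (h * a * h⁻¹)⁻¹ := by group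
        _ = (t * h) * a * (h⁻¹ * t⁻¹) * (h * a⁻¹ * h⁻¹) := by rw [hcah]; group
        _ = (h * t) * a * (t * h)⁻¹ * (h * a⁻¹ * h⁻¹) := by rw [L.ht, mul_inv_rev t h]
        _ = (h * t) * a * (h * t)⁻¹ * (h * a⁻¹ * h⁻¹) := by rw [L.ht]
        _ = _ := by group
    rw [e1] at h1
    rw [e2] at h2
    have hne : t * a * t⁻¹ * a⁻¹ ≠ 1 := by
      intro e
      apply haV
      apply D.cF a ha
      exact mul_inv_eq_iff_eq_mul.1 (mul_inv_eq_one.1 e)
    have hne2 : h * (t * a * t⁻¹ * a⁻¹) * h⁻¹ ≠ 1 := by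
      intro e
      apply hne
      have : h⁻¹ * (h * (t * a * t⁻¹ * a⁻¹) * h⁻¹) * h = t * a * t⁻¹ * a⁻¹ := by group
      rw [← this, e]; group
    have h3 := uniq L H h1.1 hne h2.1 hne2 h1.2 h2.2
    apply hne
    apply L.fpfV _ h1.1
    exact mul_inv_eq_iff_eq_mul.1 h3.symm
  have hcs : f₀ * (h * f₀ * h⁻¹) = (h * f₀ * h⁻¹) * f₀ := by
    exact (T1Class2.comm_conj (two D.toPData) (order_h L) D.hF D.fpf hf₀ hf₀ rfl)
  by_cases hfV : f₀ ∈ V
  · obtain ⟨a, ha, haV⟩ := exists_F D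
    exact key a ha haV (V_cent D.toPData hfV ha) (V_cent D.toPData hfV (D.hF a ha))
  · exact key f₀ hf₀ hfV rfl hcs

include D L in
/-- such an element is not in `yF` or `tyF` -/
theorem not_sF {s v f₀ : G} (hs : Inv t h s V) (hsF : s ∈ Subgroup.normalizer (F : Set G))
    (hc : ∀ f ∈ F, v * f * v⁻¹ * f⁻¹ ∈ V) (hf₀ : f₀ ∈ F) (hv : v = s * f₀) : False := by
  have hvN : v ∈ Subgroup.normalizer (F : Set G) := by
    rw [hv]; exact Subgroup.mul_mem _ hsF (F_norm hf₀)
  have hvK : v ∈ KK F V := ⟨hvN, hc⟩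
  have hk : h * v * h⁻¹ * v⁻¹ ∈ KK F V :=
    (KK F V).mul_mem (KK_conj (h_norm D.toPData) L.hV hvK) ((KK F V).inv_mem hvK)
  have h4 : s * h⁻¹ * s⁻¹ = h := by
    have := congrArg (·⁻¹) hs.sh
    simpa only [mul_inv_rev, mul_assoc, _root_.inv_inv] using this
  set f₁ := s * (h * f₀ * h⁻¹ * f₀⁻¹) * s⁻¹ with hf₁
  have hf₁F : f₁ ∈ F := (Subgroup.mem_normalizer_iff.1 hsF _).1 (F.mul_mem (D.hF f₀ hf₀) (F.inv_mem hf₀))
  have hke : h * v * h⁻¹ * v⁻¹ = h * h * f₁ := by
    rw [hv, hf₁]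
    calc h * (s * f₀) * h⁻¹ * (s * f₀)⁻¹ = h * (s * h⁻¹ * s⁻¹) * (s * (h * f₀ * h⁻¹ * f₀⁻¹) * s⁻¹) := by group
      _ = _ := by rw [h4]
  rw [hke] at hk
  have : Fact (Nat.Prime 2) := ⟨Nat.prime_two⟩
  obtain ⟨z, hzF, hzV, hz⟩ := GTwoFour.Tools.exists_fixed_mod (two D.toPData) (le_refl F)
    (fun a ha b hb => F.mul_mem (F.mul_mem ha hb) (F.inv_mem ha))
    (fun a ha b hb => by
      have := V_cent D.toPData hb ha
      have e : a * b * a⁻¹ = b := by rw [← this]; group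
      rw [e]; exact hb) (exists_F D)
  apply hzV
  have h5 := hk.2 z hzF
  have h6 := hz f₁ hf₁F
  rw [commutatorElement_def] at h6
  -- `h h z h⁻¹ h⁻¹ z⁻¹ ∈ V`
  have h7 : h * (h * z * h⁻¹) * h⁻¹ * z⁻¹ ∈ V := by
    have e : h * h * f₁ * z * (h * h * f₁)⁻¹ * z⁻¹ =
        (h * (h * (f₁ * z * f₁⁻¹ * z⁻¹) * h⁻¹) * h⁻¹) * (h * (h * z * h⁻¹) * h⁻¹ * z⁻¹) := by group
    rw [e] at h5
    exact (V.mul_mem_cancel_left (L.hV _ (L.hV _ h6))).1 h5
  have h8 : h * (h * z * h⁻¹) * h⁻¹ = h⁻¹ * z * h := by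
    calc h * (h * z * h⁻¹) * h⁻¹ = (h * h) * z * (h * h)⁻¹ := by group
      _ = h⁻¹ * z * (h⁻¹)⁻¹ := by rw [inv_h L]
      _ = _ := by rw [inv_inv]
  rw [h8] at h7
  have h9 : h⁻¹ * z * h ∈ V := by
    apply mem_V_of_fix L D.toPData (inv_conj L D.hF hzF)
    have e : h * (h⁻¹ * z * h) * h⁻¹ * (h⁻¹ * z * h)⁻¹ = (h⁻¹ * z * h * z⁻¹)⁻¹ := by group
    rw [e]; exact V.inv_mem h7
  have h10 := L.hV _ h9
  have e : h * (h⁻¹ * z * h) * h⁻¹ = z := by group
  rwa [e] at h10

include D L H in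
/-- such an element in `F` is central in `F` -/
theorem cent_F {v : G} (hvF : v ∈ F) (hc : ∀ f ∈ F, Zc y V (v * f * v⁻¹ * f⁻¹)) : ∀ f ∈ F, v * f = f * v := by
  intro f hf
  by_contra hno
  have hC := fun {c : G} (hc : c ∈ F) (h1 : v * c = c * v) =>
    T1Class2.comm_conj (two D.toPData) (order_h L) D.hF D.fpf hvF hc h1
  have hf' := D.hF f hf
  have hf'' := D.hF _ hf'
  have e3 : h * (h * (h * f * h⁻¹) * h⁻¹) * h⁻¹ = f := by
    calc h * (h * (h * f * h⁻¹) * h⁻¹) * h⁻¹ = (h * h * h) * f * (h * h * h)⁻¹ := by group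
      _ = f := by rw [L.h_cube]; group
  have n2 : ¬ v * (h * (h * f * h⁻¹) * h⁻¹) = (h * (h * f * h⁻¹) * h⁻¹) * v := by
    intro h1
    have := hC hf'' h1
    rw [e3] at this
    exact hno this
  have n1 : ¬ v * (h * f * h⁻¹) = (h * f * h⁻¹) * v := fun h1 => n2 (hC hf' h1)
  have hne : ∀ x : G, ¬ v * x = x * v → v * x * v⁻¹ * x⁻¹ ≠ 1 := fun x hx e =>
    hx (mul_inv_eq_iff_eq_mul.1 (mul_inv_eq_one.1 e))
  have c0 := hc f hf
  have c1 := hc _ hf'
  have c2 := hc _ hf''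
  have u1 := uniq L H c0.1 (hne _ hno) c1.1 (hne _ n1) c0.2 c1.2
  have u2 := uniq L H c0.1 (hne _ hno) c2.1 (hne _ n2) c0.2 c2.2
  have ht := T1Class2.triple (two D.toPData) (order_h L) D.hF D.fpf hf
  set i := v * f * v⁻¹ * f⁻¹ with hi
  set f' := h * f * h⁻¹ with hf'def
  set f'' := h * f' * h⁻¹ with hf''def
  have hii : i * i = 1 := L.elem i c0.1
  have e0 : v * f * v⁻¹ = i * f := by rw [hi]; group
  have e1 : v * f' * v⁻¹ = i * f' := by rw [u1]; group
  have e2 : v * f'' * v⁻¹ = i * f'' := by rw [u2]; group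
  have k1 : f * i = i * f := (V_cent D.toPData c0.1 hf).symm
  have k2 : f' * i = i * f' := (V_cent D.toPData c0.1 hf').symm
  have h1 : v * (f * f' * f'') * v⁻¹ = i * (f * f' * f'') := by
    calc v * (f * f' * f'') * v⁻¹ = (v * f * v⁻¹) * (v * f' * v⁻¹) * (v * f'' * v⁻¹) := by group
      _ = (i * f) * (i * f') * (i * f'') := by rw [e0, e1, e2]
      _ = i * (f * i) * (f' * i) * f'' := by group
      _ = i * (i * f) * (i * f') * f'' := by rw [k1, k2]
      _ = (i * i) * (f * i) * f' * f'' := by group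
      _ = i * (f * f' * f'') := by rw [hii, k1]; group
  rw [ht] at h1
  have h2 : i = 1 := by
    have : v * 1 * v⁻¹ = 1 := by group
    rw [this, mul_one] at h1
    exact h1.symm
  exact hne _ hno h2

/-! ### `W = Ω₁(Z(F))` -/

/-- the central elements of `F` of order at most two -/
def WW (F : Subgroup G) : Subgroup G where
  carrier := {w | w ∈ F ∧ w * w = 1 ∧ ∀ f ∈ F, w * f = f * w}
  one_mem' := ⟨F.one_mem, by rw [mul_one], fun f _ => by rw [one_mul, mul_one]⟩
  mul_mem' := by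
    rintro a b ⟨ha, ha2, ha'⟩ ⟨hb, hb2, hb'⟩
    refine ⟨F.mul_mem ha hb, ?_, fun f hf => ?_⟩
    · calc a * b * (a * b) = a * (b * a) * b := by group
        _ = a * (a * b) * b := by rw [ha' b hb]
        _ = (a * a) * (b * b) := by group
        _ = 1 := by rw [ha2, hb2, one_mul]
    · calc a * b * f = a * (b * f) := by group
        _ = (a * f) * b := by rw [hb' f hf]; group
        _ = f * (a * b) := by rw [ha' f hf]; group
  inv_mem' := by
    rintro a ⟨ha, ha2, ha'⟩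
    have : a⁻¹ = a := inv_eq_of_mul_eq_one_left ha2
    show a⁻¹ ∈ F ∧ a⁻¹ * a⁻¹ = 1 ∧ ∀ f ∈ F, a⁻¹ * f = f * a⁻¹
    rw [this]; exact ⟨ha, ha2, ha'⟩

omit [Finite G] in
theorem WW_conj {F : Subgroup G} {n w : G} (hn : n ∈ Subgroup.normalizer (F : Set G)) (hw : w ∈ WW F) :
    n * w * n⁻¹ ∈ WW F := by
  obtain ⟨h1, h2, h3⟩ := hw
  refine ⟨(Subgroup.mem_normalizer_iff.1 hn _).1 h1, ?_, fun f hf => ?_⟩
  · calc n * w * n⁻¹ * (n * w * n⁻¹) = n * (w * w) * n⁻¹ := by group
      _ = 1 := by rw [h2]; group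
  · have h4 : n⁻¹ * f * n ∈ F := by
      have := (Subgroup.mem_normalizer_iff.1 (Subgroup.inv_mem _ hn) f).1 hf
      rwa [inv_inv] at this
    have h5 := h3 _ h4
    calc n * w * n⁻¹ * f = n * (w * (n⁻¹ * f * n)) * n⁻¹ := by group
      _ = n * (n⁻¹ * f * n * w) * n⁻¹ := by rw [h5]
      _ = _ := by group

/-- `D₀ = {f ∈ F | [f, t] ∈ V}` -/
def DD (L : Loc t h V) (D : PData t h V P F) : Subgroup G where
  carrier := {f | f ∈ F ∧ f * t * f⁻¹ * t⁻¹ ∈ V}
  one_mem' := ⟨F.one_mem, by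
    have : (1 : G) * t * 1⁻¹ * t⁻¹ = 1 := by group
    rw [this]; exact V.one_mem⟩
  mul_mem' := by
    rintro a b ⟨ha, ha'⟩ ⟨hb, hb'⟩
    refine ⟨F.mul_mem ha hb, ?_⟩
    have h1 := V_cent D hb' ha
    have h2 : (b * t * b⁻¹ * t⁻¹) * t = t * (b * t * b⁻¹ * t⁻¹) := (L.tV _ hb').symm
    have h3 : a * b * t * (a * b)⁻¹ * t⁻¹ = (b * t * b⁻¹ * t⁻¹) * (a * t * a⁻¹ * t⁻¹) := by
      calc a * b * t * (a * b)⁻¹ * t⁻¹ = a * (b * t * b⁻¹ * t⁻¹) * t * a⁻¹ * t⁻¹ := by group
        _ = _ := by rw [← h1]; group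
    rw [h3]; exact V.mul_mem hb' ha'
  inv_mem' := by
    rintro a ⟨ha, ha'⟩
    refine ⟨F.inv_mem ha, ?_⟩
    have h1 := V_cent D ha' (F.inv_mem ha)
    have h2 := L.tV _ ha'
    have h3 : a⁻¹ * t * a⁻¹⁻¹ * t⁻¹ = (a * t * a⁻¹ * t⁻¹)⁻¹ := by
      have h4 : a * t * a⁻¹ = (a * t * a⁻¹ * t⁻¹) * t := by group
      set c := a * t * a⁻¹ * t⁻¹ with hc
      have h5 : a⁻¹ * t * a = c⁻¹ * t := by
        have h6 : t = a⁻¹ * (c * t) * a := by rw [← h4]; group
        have h7 : a⁻¹ * t * a = c⁻¹ * (a⁻¹ * (c * t) * a) := by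
          calc a⁻¹ * t * a = c⁻¹ * (c * a⁻¹) * t * a := by group
            _ = c⁻¹ * (a⁻¹ * c) * t * a := by rw [h1]
            _ = _ := by group
        rw [h7, ← h6]
      rw [inv_inv, h5]; group
    show a⁻¹ * t * a⁻¹⁻¹ * t⁻¹ ∈ V
    rw [h3]; exact V.inv_mem ha'

omit [Finite G] in
theorem WW_comm_t (L : Loc t h V) (D : PData t h V P F) {w : G} (hw : w ∈ WW F) : w * t * w⁻¹ * t⁻¹ ∈ V := by
  obtain ⟨h1, h2, h3⟩ := hw
  have hti := t_inv L
  have hwi : w⁻¹ = w := inv_eq_of_mul_eq_one_left h2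
  have h4 := tF D h1
  have h5 : w * t * w⁻¹ * t⁻¹ = w * (t * w * t⁻¹) := by rw [hwi]; group
  rw [h5]
  apply D.cF _ (F.mul_mem h1 h4)
  calc t * (w * (t * w * t⁻¹)) = (t * w * t⁻¹) * (t * t) * w * t⁻¹ := by group
    _ = (t * w * t⁻¹) * w * t⁻¹ := by rw [L.t_sq, mul_one]
    _ = w * (t * w * t⁻¹) * t := by rw [← h3 _ h4, hti]

/-- from an element of `W` outside `V`: `F` is elementary abelian of order 16 -/
theorem sixteen_of_WW (L : Loc t h V) (D : PData t h V P F) {v : G} (hv : v ∈ WW F) (hvV : v ∉ V) :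
    Elem F ∧ Nat.card F = 16 := by
  have hVW : V ≤ WW F := fun u hu => ⟨D.V_le hu, L.elem u hu, fun f hf => V_cent D hu hf⟩
  have hWF : WW F ≤ F := fun u hu => hu.1
  have h16 := sixteen_le L D hWF hVW (fun a ha => WW_conj (h_norm D) ha) hv hvV
  have hDF : DD L D ≤ F := fun u hu => hu.1
  have hWD : WW F ≤ DD L D := fun u hu => ⟨hu.1, WW_comm_t L D hu⟩
  have hD16 := card_le_sixteen L D hDF (fun a ha => ha.2)
  have hWDe : WW F = DD L D := Subgroup.eq_of_le_of_card_ge hWD (hD16.trans h16)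
  have hFW : F ≤ WW F := by
    by_contra hno
    have : Fact (Nat.Prime 2) := ⟨Nat.prime_two⟩
    obtain ⟨n, hn, hnW, hfix⟩ := GTwoFour.Tools.exists_fixed_mod (Y := P) (N := F) (M := WW F) D.syl.two
      (F_le_P D) D.norm
      (fun y hy m hm => WW_conj (T1Class2.mem_normalizer (D.norm y hy)) hm)
      (by
        by_contra h1
        push Not at h1
        exact hno h1)
    have h1 := hfix t (t_mem_P D)
    rw [commutatorElement_def] at h1
    apply hnW
    rw [hWDe]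
    refine ⟨hn, ?_⟩
    have hti := t_inv L
    obtain ⟨h2, h3, h4⟩ := h1
    have h5 : t * n * t⁻¹ * n⁻¹ ∈ V := by
      apply D.cF _ h2
      have h6 : (t * n * t⁻¹ * n⁻¹)⁻¹ = t * n * t⁻¹ * n⁻¹ := inv_eq_of_mul_eq_one_left h3
      calc t * (t * n * t⁻¹ * n⁻¹) = (t * t) * n * t⁻¹ * n⁻¹ := by group
        _ = n * t⁻¹ * n⁻¹ := by rw [L.t_sq, one_mul]
        _ = (t * n * t⁻¹ * n⁻¹)⁻¹ * t := by
          have e : (t * n * t⁻¹ * n⁻¹)⁻¹ * t = n * t * n⁻¹ * (t⁻¹ * t) := by group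
          rw [e, inv_mul_cancel, mul_one, hti]
        _ = (t * n * t⁻¹ * n⁻¹) * t := by rw [h6]
    have h7 : n * t * n⁻¹ * t⁻¹ = (t * n * t⁻¹ * n⁻¹)⁻¹ := by group
    rw [h7]; exact V.inv_mem h5
  have hFe : F = WW F := le_antisymm hFW hWF
  refine ⟨fun x hx => (hFW hx).2.1, ?_⟩
  have h1 : Nat.card F = Nat.card (WW F) := by rw [← hFe]
  rw [h1]
  have h2 : Nat.card (WW F) ≤ 16 := by rw [hWDe]; exact hD16
  omega

/-! ### LEMMA B -/

include D in
/-- an element of `T - T₄` normalising `T₄` -/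
theorem exists_norm {T : Subgroup G} (hT : IsPGroup 2 T) (hle : T₄ ≤ T) (hne : T₄ ≠ T) :
    ∃ g ∈ T, g ∉ T₄ ∧ g ∈ Subgroup.normalizer (T₄ : Set G) ∧ ∃ v ∈ V, g * v * g⁻¹ ∉ V := by
  have : Fact (Nat.Prime 2) := ⟨Nat.prime_two⟩
  have hnil : Group.IsNilpotent T := hT.isNilpotent
  have hcond := Group.normalizerCondition_of_isNilpotent (G := T)
  have hlt : T₄.subgroupOf T < ⊤ := by
    refine lt_top_iff_ne_top.2 fun h => hne (le_antisymm hle ?_)
    exact Subgroup.subgroupOf_eq_top.1 h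
  obtain ⟨n, hn1, hn2⟩ := SetLike.exists_of_lt (hcond _ hlt)
  have hnT : (n : G) ∉ T₄ := fun h => hn2 (Subgroup.mem_subgroupOf.2 h)
  have hnN : (n : G) ∈ Subgroup.normalizer (T₄ : Set G) := by
    apply T1Class2.mem_normalizer
    intro c hc
    have := (Subgroup.mem_normalizer_iff.1 hn1 ⟨c, hle hc⟩).1 (by rw [Subgroup.mem_subgroupOf]; exact hc)
    rw [Subgroup.mem_subgroupOf] at this
    exact this
  refine ⟨n, n.2, hnT, hnN, ?_⟩
  by_contra hno
  push Not at hno
  apply hnT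
  have hnV : (n : G) ∈ Subgroup.normalizer (V : Set G) := T1Class2.mem_normalizer hno
  have h1 := D.syl₄.max (T ⊓ Subgroup.normalizer (V : Set G)) inf_le_right (hT.to_le inf_le_left)
    (le_inf hle D.syl₄.le)
  rw [← h1]
  exact ⟨n.2, hnV⟩

end main

/-- piece D (blueprints/B2Stub.lean.txt): LEMMA B, (1.3) -/
theorem elem_sixteen [Finite G] {t h y : G} {V P F T₄ T : Subgroup G} (L : Loc t h V) (D : FourData t h y V P F T₄)
    (hy : TypeY t h y V ∨ TypeZ t h y V) (hT : IsSyl2 ⊤ T) (hle : T₄ ≤ T) (hne : T₄ ≠ T) :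
    Elem F ∧ Nat.card F = 16 := by
  have H := inv_of L hy
  obtain ⟨g, -, -, hgN, v₀, hv₀, hgv⟩ := exists_norm D hT.two hle hne
  set v := g * v₀ * g⁻¹ with hv
  have hvT : v ∈ T₄ := (Subgroup.mem_normalizer_iff.1 hgN _).1 (F_le_T D (D.V_le hv₀))
  have hc : ∀ x ∈ T₄, Zc y V (v * x * v⁻¹ * x⁻¹) := by
    intro x hx
    have hx' : g⁻¹ * x * g ∈ T₄ := by
      have := (Subgroup.mem_normalizer_iff.1 (Subgroup.inv_mem _ hgN) x).1 hx
      rwa [inv_inv] at this
    have h1 := (zc_iff D L H).1 (comm_V D L H hv₀ hx')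
    have h2 : v * x * v⁻¹ * x⁻¹ = g * (v₀ * (g⁻¹ * x * g) * v₀⁻¹ * (g⁻¹ * x * g)⁻¹) * g⁻¹ := by
      rw [hv]; group
    rw [h2]
    apply (zc_iff D L H).2
    refine ⟨(Subgroup.mem_normalizer_iff.1 hgN _).1 h1.1, fun z hz => ?_⟩
    have hz' : g⁻¹ * z * g ∈ T₄ := by
      have := (Subgroup.mem_normalizer_iff.1 (Subgroup.inv_mem _ hgN) z).1 hz
      rwa [inv_inv] at this
    have h3 := h1.2 _ hz'
    set c := v₀ * (g⁻¹ * x * g) * v₀⁻¹ * (g⁻¹ * x * g)⁻¹
    calc g * c * g⁻¹ * z = g * (c * (g⁻¹ * z * g)) * g⁻¹ := by group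
      _ = g * ((g⁻¹ * z * g) * c) * g⁻¹ := by rw [h3]
      _ = _ := by group
  have hcF : ∀ f ∈ F, Zc y V (v * f * v⁻¹ * f⁻¹) := fun f hf => hc f (F_le_T D hf)
  obtain ⟨f, hf, h1 | h1 | h1 | h1⟩ := (D.mem₄ v).1 hvT
  · have hvF : v ∈ F := by rw [h1]; exact hf
    have hv2 : v * v = 1 := by
      rw [hv]
      calc g * v₀ * g⁻¹ * (g * v₀ * g⁻¹) = g * (v₀ * v₀) * g⁻¹ := by group
        _ = 1 := by rw [L.elem v₀ hv₀]; group
    exact sixteen_of_WW L D.toPData ⟨hvF, hv2, cent_F D L H hvF hcF⟩ hgv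
  · exact (not_tF D L H hcF hf h1).elim
  · exact (not_sF D L H (T_norm D (y_mem_T D)) (fun f hf => (hcF f hf).1) hf h1).elim
  · exact (not_sF D L (H.mul_t L) (Subgroup.mul_mem _ (t_norm D.toPData) (T_norm D (y_mem_T D)))
      (fun f hf => (hcF f hf).1) hf h1).elim

end Cfsg.Agent.OddCyclic.B2LemB
end

-- part: OddCyclic/B2LemA
section
/-!
# S0342, case B2, piece B: the Sylow 2-subgroup `P = F⟨t⟩` of `C_G(V)`

(0.4), (0.5), (0.7) of blueprints/S0342-B2.md.
-/

set_option autoImplicit false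
universe u

namespace Cfsg.Agent.OddCyclic.B2LemA

open Cfsg.Agent.LieExceptional.CITDefs Cfsg.Agent.OddCyclic.B2Defs Subgroup

section Abstract

/-- the situation of Lemma A -/
structure Sit {P : Type u} [Group P] (f : P →* P) (t : P) : Prop where
  two : IsPGroup 2 P
  cube : ∀ x, f (f (f x)) = x
  sq : t * t = 1
  ne : t ≠ 1
  ft : f t = t
  fix : ∀ x, f x = x → x = 1 ∨ x = t
  exp : ∀ x, x * t = t * x → x * x = 1
  card : Nat.card (centralizer ({t} : Set P)) = 8

variable {P : Type u} [Group P] {f : P →* P} {t : P}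

theorem Sit.inj (S : Sit f t) : Function.Injective f := by
  intro a b h
  rw [← S.cube a, ← S.cube b, h]

theorem Sit.surj (S : Sit f t) : Function.Surjective f := fun a => ⟨f (f a), S.cube a⟩

theorem mem_cent {x t : P} : x ∈ centralizer ({t} : Set P) ↔ x * t = t * x := by
  rw [mem_centralizer_singleton_iff]

/-- `x⁻¹ f(x) = t` is impossible. -/
theorem Sit.ne_t (S : Sit f t) {x : P} : x⁻¹ * f x ≠ t := by
  intro h
  have h1 : f x = x * t := by rw [← h]; group
  have h2 : f (f (f x)) = x * t := by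
    rw [h1, map_mul, map_mul, h1, S.ft, map_mul, h1, S.ft, mul_assoc x, S.sq, mul_one]
  rw [S.cube] at h2
  exact S.ne (mul_eq_left.mp h2.symm)

/-- A finite group with an automorphism `f`, `f³ = 1`, without non-trivial fixed points has order `≡ 1 mod 3`. -/
theorem card_mod [Finite P] (N : Subgroup P) (hN : ∀ x ∈ N, f x ∈ N) (h3 : ∀ x, f (f (f x)) = x)
    (hf : ∀ x ∈ N, f x = x → x = 1) : Nat.card N % 3 = 1 := by
  classical
  have := Fintype.ofFinite N
  have hpf : Fact (Nat.Prime 3) := ⟨Nat.prime_three⟩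
  let σ : Function.End N := fun x => ⟨f x, hN x x.2⟩
  have hσ : σ ^ 3 ^ 1 = 1 := by
    rw [pow_one]
    funext x
    apply Subtype.ext
    exact h3 x
  have h1 := Equiv.Perm.card_fixedPoints_modEq (f := σ) (p := 3) (n := 1) hσ
  have h2 : Fintype.card (Function.fixedPoints σ) = 1 := by
    rw [Fintype.card_eq_one_iff]
    refine ⟨⟨1, Subtype.ext (map_one f)⟩, ?_⟩
    rintro ⟨x, hx⟩
    apply Subtype.ext
    apply Subtype.ext
    exact hf x x.2 (congrArg Subtype.val hx)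
  rw [h2, ← Nat.card_eq_fintype_card] at h1
  exact h1

/-- the case `P` abelian -/
theorem Sit.exists_of_comm [Finite P] (S : Sit f t) (h : ∀ x, x * t = t * x) :
    ∃ N : Subgroup P, N.index = 2 ∧ t ∉ N ∧ ∀ x ∈ N, f x ∈ N := by
  have hexp : ∀ x : P, x * x = 1 := fun x => S.exp x (h x)
  have hinv : ∀ x : P, x⁻¹ = x := fun x => inv_eq_of_mul_eq_one_left (hexp x)
  have hcomm : ∀ x y : P, x * y = y * x := by
    intro x y
    have h1 := hexp (x * y)
    have h2 : x * y = (x * y)⁻¹ := eq_inv_of_mul_eq_one_left h1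
    rw [mul_inv_rev, hinv, hinv] at h2
    exact h2
  let g : P →* P :=
    { toFun := fun x => x⁻¹ * f x
      map_one' := by rw [map_one]; group
      map_mul' := by
        intro x y
        rw [map_mul, mul_inv_rev, hcomm y⁻¹ x⁻¹]
        calc x⁻¹ * y⁻¹ * (f x * f y) = x⁻¹ * (y⁻¹ * f x) * f y := by group
          _ = x⁻¹ * (f x * y⁻¹) * f y := by rw [hcomm y⁻¹]
          _ = _ := by group }
  have hker : Nat.card g.ker = 2 := by
    have h1 : (g.ker : Set P) = {1, t} := by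
      ext x
      rw [SetLike.mem_coe, MonoidHom.mem_ker]
      constructor
      · intro hx
        have h2 : f x = x := (inv_mul_eq_one.mp hx).symm
        rcases S.fix x h2 with h3 | h3
        · left; exact h3
        · right; exact h3
      · rintro (hx | hx)
        · rw [hx]; exact map_one g
        · rw [Set.mem_singleton_iff.mp hx]
          show t⁻¹ * f t = 1
          rw [S.ft]; group
    have h2 : Nat.card g.ker = (g.ker : Set P).ncard := rfl
    rw [h2, h1, Set.ncard_pair S.ne.symm]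
  have h8 : Nat.card P = 8 := by
    rw [← S.card]
    have : centralizer ({t} : Set P) = ⊤ := by
      rw [eq_top_iff]
      intro x _
      exact mem_cent.mpr (h x)
    rw [this, Subgroup.card_top]
  have hrange : Nat.card g.range = 4 := by
    have h1 := Subgroup.card_mul_index g.ker
    rw [Subgroup.index_ker, hker, h8] at h1
    omega
  refine ⟨g.range, ?_, ?_, ?_⟩
  · have h1 := Subgroup.card_mul_index g.range
    rw [hrange, h8] at h1
    omega
  · rintro ⟨x, hx⟩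
    exact S.ne_t hx
  · rintro _ ⟨x, rfl⟩
    refine ⟨f x, ?_⟩
    show (f x)⁻¹ * f (f x) = f (x⁻¹ * f x)
    rw [map_mul, map_inv]

section step

variable [Finite P] (S : Sit f t) (hx : ∃ x, x * t ≠ t * x)

include S hx

omit [Finite P] S in
theorem Sit.t_notMem : t ∉ center P := by
  obtain ⟨x, hx⟩ := hx
  intro h
  exact hx (mem_center_iff.mp h x)

omit hx [Finite P] in
theorem Sit.f_center : ∀ z ∈ center P, f z ∈ center P := by
  intro z hz
  rw [mem_center_iff] at hz ⊢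
  intro y
  obtain ⟨x, rfl⟩ := S.surj y
  rw [← map_mul, ← map_mul, hz]

theorem Sit.fix_center : ∀ z ∈ center P, f z = z → z = 1 := by
  intro z hz hf
  rcases S.fix z hf with h | h
  · exact h
  · rw [h] at hz
    exact absurd hz (Sit.t_notMem hx)

theorem Sit.card_center : Nat.card (center P) = 4 := by
  have hpf : Fact (Nat.Prime 2) := ⟨Nat.prime_two⟩
  have h1 := card_mod (center P) (S.f_center) S.cube (S.fix_center hx)
  have hnt : Nontrivial P := ⟨⟨t, 1, S.ne⟩⟩
  have h2 : Nontrivial (center P) := S.two.center_nontrivial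
  have h3 : Nat.card (center P) ∣ 8 := by
    rw [← S.card]
    apply Subgroup.card_dvd_of_le
    intro z hz
    exact mem_cent.mpr ((mem_center_iff.mp hz t).symm)
  have h4 : Nat.card (center P) ≠ 1 := by
    intro h5
    rw [Finite.one_lt_card_iff_nontrivial.symm] at h2
    omega
  have h5 : Nat.card (center P) ≤ 8 := Nat.le_of_dvd (by norm_num) h3
  interval_cases hc : Nat.card (center P) <;> omega

theorem Sit.mem_or {c : P} (hc : c * t = t * c) : c ∈ center P ∨ t⁻¹ * c ∈ center P := by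
  set C := centralizer ({t} : Set P) with hC
  have hZC : center P ≤ C := by
    intro z hz
    exact mem_cent.mpr ((mem_center_iff.mp hz t).symm)
  have h1 : ((center P).subgroupOf C).index = 2 := by
    have h2 := Subgroup.card_mul_index ((center P).subgroupOf C)
    have h3 : Nat.card ((center P).subgroupOf C) = 4 := by
      rw [Nat.card_congr (Subgroup.subgroupOfEquivOfLe hZC).toEquiv]
      exact S.card_center hx
    rw [h3, S.card] at h2
    omega
  by_cases h : c ∈ center P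
  · exact Or.inl h
  right
  have htC : t ∈ C := mem_cent.mpr rfl
  have hcC : c ∈ C := mem_cent.mpr hc
  have h4 := Subgroup.mul_mem_iff_of_index_two h1 (a := (⟨t, htC⟩ : C)⁻¹) (b := ⟨c, hcC⟩)
  have h5 : (⟨t, htC⟩ : C)⁻¹ ∉ (center P).subgroupOf C := by
    intro h6
    exact Sit.t_notMem hx ((inv_mem_iff (S := Subgroup P)).mp h6)
  have h6 : (⟨c, hcC⟩ : C) ∉ (center P).subgroupOf C := h
  exact h4.mpr ⟨fun h7 => absurd h7 h5, fun h7 => absurd h7 h6⟩

/-- `B = {x | [x, t] ∈ Z(P)}` -/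
def BB (P : Type u) [Group P] (t : P) : Subgroup P where
  carrier := {x | x * t * x⁻¹ * t⁻¹ ∈ center P}
  one_mem' := by
    show (1 : P) * t * 1⁻¹ * t⁻¹ ∈ center P
    have : (1 : P) * t * 1⁻¹ * t⁻¹ = 1 := by group
    rw [this]; exact one_mem _
  mul_mem' := by
    intro x y hx hy
    show x * y * t * (x * y)⁻¹ * t⁻¹ ∈ center P
    have hy' := mem_center_iff.mp hy x
    have e : x * y * t * (x * y)⁻¹ * t⁻¹ = (x * (y * t * y⁻¹ * t⁻¹)) * t * x⁻¹ * t⁻¹ := by group
    rw [e, hy']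
    have e2 : y * t * y⁻¹ * t⁻¹ * x * t * x⁻¹ * t⁻¹ = (y * t * y⁻¹ * t⁻¹) * (x * t * x⁻¹ * t⁻¹) := by
      group
    rw [e2]
    exact mul_mem hy hx
  inv_mem' := by
    intro x hx
    show x⁻¹ * t * x⁻¹⁻¹ * t⁻¹ ∈ center P
    have hx' := mem_center_iff.mp hx x⁻¹
    have e : x⁻¹ * t * x⁻¹⁻¹ * t⁻¹ = (x⁻¹ * (x * t * x⁻¹ * t⁻¹) * x)⁻¹ := by group
    rw [e, hx']
    have e2 : x * t * x⁻¹ * t⁻¹ * x⁻¹ * x = x * t * x⁻¹ * t⁻¹ := by group
    rw [e2]
    exact inv_mem hx

omit S hx [Finite P] in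
theorem mem_BB {x : P} : x ∈ BB P t ↔ x * t * x⁻¹ * t⁻¹ ∈ center P := Iff.rfl

/-- `x ↦ [x, t]` -/
def psi (P : Type u) [Group P] (t : P) : BB P t →* P where
  toFun x := (x : P) * t * (x : P)⁻¹ * t⁻¹
  map_one' := by
    show (1 : P) * t * 1⁻¹ * t⁻¹ = 1
    group
  map_mul' := by
    intro x y
    have hy' := mem_center_iff.mp y.2 (x : P)
    show (x : P) * y * t * ((x : P) * y)⁻¹ * t⁻¹ =
      ((x : P) * t * (x : P)⁻¹ * t⁻¹) * ((y : P) * t * (y : P)⁻¹ * t⁻¹)
    have e : (x : P) * y * t * ((x : P) * y)⁻¹ * t⁻¹ =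
        (x * ((y : P) * t * (y : P)⁻¹ * t⁻¹)) * t * (x : P)⁻¹ * t⁻¹ := by group
    rw [e, hy', mem_center_iff.mp y.2 ((x : P) * t * (x : P)⁻¹ * t⁻¹)]
    group

omit hx in
theorem Sit.f_BB {x : P} (h : x ∈ BB P t) : f x ∈ BB P t := by
  rw [mem_BB] at h ⊢
  have e : f x * t * (f x)⁻¹ * t⁻¹ = f (x * t * x⁻¹ * t⁻¹) := by
    simp only [map_mul, map_inv, S.ft]
  rw [e]
  exact S.f_center _ h

theorem Sit.card_BB : Nat.card (BB P t) = 32 := by
  have h1 := Subgroup.card_mul_index (psi P t).ker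
  rw [Subgroup.index_ker] at h1
  have hker : Nat.card (psi P t).ker = 8 := by
    rw [← S.card]
    have hle : centralizer ({t} : Set P) ≤ BB P t := by
      intro x hx
      rw [mem_BB, mem_cent.mp hx]
      have : t * x * x⁻¹ * t⁻¹ = 1 := by group
      rw [this]; exact one_mem _
    have : (psi P t).ker = (centralizer ({t} : Set P)).subgroupOf (BB P t) := by
      ext x
      rw [MonoidHom.mem_ker, mem_subgroupOf, mem_cent]
      show (x : P) * t * (x : P)⁻¹ * t⁻¹ = 1 ↔ _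
      rw [mul_inv_eq_one, mul_inv_eq_iff_eq_mul]
    rw [this]
    exact Nat.card_congr (Subgroup.subgroupOfEquivOfLe hle).toEquiv
  have hrange : Nat.card (psi P t).range = 4 := by
    have hle : (psi P t).range ≤ center P := by
      rintro _ ⟨x, rfl⟩
      exact x.2
    have h2 := card_mod (psi P t).range (f := f) (by
      rintro _ ⟨x, rfl⟩
      refine ⟨⟨f x, S.f_BB x.2⟩, ?_⟩
      show f x * t * (f x)⁻¹ * t⁻¹ = f (x * t * (x : P)⁻¹ * t⁻¹)
      simp only [map_mul, map_inv, S.ft]) S.cube (fun z hz => S.fix_center hx z (hle hz))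
    have h3 : Nat.card (psi P t).range ∣ 4 := by
      rw [← S.card_center hx]
      exact Subgroup.card_dvd_of_le hle
    have h4 : Nat.card (psi P t).range ≠ 1 := by
      intro h5
      have hpf : Fact (Nat.Prime 2) := ⟨Nat.prime_two⟩
      -- the normaliser of the centraliser of `t` is larger
      have hnil : Group.IsNilpotent P := S.two.isNilpotent
      have hlt : centralizer ({t} : Set P) < ⊤ := by
        rw [lt_top_iff_ne_top]
        intro h6
        obtain ⟨x, hx⟩ := hx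
        apply hx
        have : x ∈ centralizer ({t} : Set P) := by rw [h6]; exact mem_top x
        exact mem_cent.mp this
      obtain ⟨x, hxn, hxc⟩ := SetLike.exists_of_lt
        (Group.normalizerCondition_of_isNilpotent (G := P) _ hlt)
      have h7 : x * t * x⁻¹ ∈ centralizer ({t} : Set P) :=
        (mem_normalizer_iff.mp hxn t).mp (mem_cent.mpr rfl)
      have h8 : x ∈ BB P t := by
        rw [mem_BB]
        rcases S.mem_or hx (mem_cent.mp h7) with h8 | h8
        · exfalso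
          apply Sit.t_notMem hx
          have h9 := mem_center_iff.mp h8 x⁻¹
          have e : t = x * t * x⁻¹ := by
            calc t = x⁻¹ * (x * t * x⁻¹) * x := by group
              _ = x * t * x⁻¹ * x⁻¹ * x := by rw [h9]
              _ = _ := by group
          rw [e]; exact h8
        · have h9 := mem_center_iff.mp h8 t⁻¹
          have e : x * t * x⁻¹ * t⁻¹ = t⁻¹ * (x * t * x⁻¹) := by
            calc x * t * x⁻¹ * t⁻¹ = t * (t⁻¹ * (x * t * x⁻¹) * t⁻¹) := by group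
              _ = t * (t⁻¹ * (t⁻¹ * (x * t * x⁻¹))) := by rw [h9]
              _ = _ := by group
          rw [e]; exact h8
      have h9 : psi P t ⟨x, h8⟩ ∈ (psi P t).range := ⟨_, rfl⟩
      rw [Subgroup.card_eq_one.mp h5, Subgroup.mem_bot] at h9
      apply hxc
      rw [mem_cent]
      have h10 : x * t * x⁻¹ * t⁻¹ = 1 := h9
      rwa [mul_inv_eq_one, mul_inv_eq_iff_eq_mul] at h10
    have h5 : Nat.card (psi P t).range ≤ 4 := Nat.le_of_dvd (by norm_num) h3
    interval_cases hc : Nat.card (psi P t).range <;> omega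
  rw [hker, hrange] at h1
  omega

theorem Sit.sq_mem {x : P} (h : x ∈ BB P t) : x * x ∈ center P := by
  by_cases hxt : x * t = t * x
  · rw [S.exp x hxt]; exact one_mem _
  have h1 : (psi P t ⟨x, h⟩) * (psi P t ⟨x, h⟩) = 1 := by
    apply S.exp
    exact (mem_center_iff.mp h t).symm
  have h2 : x * x * t = t * (x * x) := by
    rw [← map_mul] at h1
    have h10 : x * x * t * (x * x)⁻¹ * t⁻¹ = 1 := h1
    rwa [mul_inv_eq_one, mul_inv_eq_iff_eq_mul] at h10
  rcases S.mem_or hx h2 with h3 | h3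
  · exact h3
  · exfalso
    apply hxt
    have h4 := mem_center_iff.mp h3 x
    have h5 : x * t⁻¹ * (x * x) = t⁻¹ * x * (x * x) := by
      calc x * t⁻¹ * (x * x) = x * (t⁻¹ * (x * x)) := by group
        _ = t⁻¹ * (x * x) * x := h4
        _ = _ := by group
    have h6 : x * t⁻¹ = t⁻¹ * x := mul_right_cancel h5
    calc x * t = t * (t⁻¹ * x) * t := by group
      _ = t * (x * t⁻¹) * t := by rw [h6]
      _ = _ := by group

/-- the induced map on `P / Z(P)` -/
def fq (f : P →* P) (h : ∀ z ∈ center P, f z ∈ center P) : P ⧸ center P →* P ⧸ center P :=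
  QuotientGroup.map (center P) (center P) f h

omit [Finite P] S hx in
theorem fq_mk {h : ∀ z ∈ center P, f z ∈ center P} (x : P) :
    fq f h (x : P ⧸ center P) = (f x : P ⧸ center P) := rfl

omit S hx [Finite P] in
theorem mk_comm (x : P) : ((x : P ⧸ center P) * (t : P ⧸ center P) = (t : P ⧸ center P) * (x : P ⧸ center P)) ↔
    x ∈ BB P t := by
  rw [← QuotientGroup.mk_mul, ← QuotientGroup.mk_mul, eq_comm, QuotientGroup.eq, mem_BB]
  have e : (t * x)⁻¹ * (x * t) = (t * x)⁻¹ * (x * t * x⁻¹ * t⁻¹) * (t * x) := by group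
  rw [e]
  constructor
  · intro h
    have h1 := mem_center_iff.mp h (t * x)
    have e2 : x * t * x⁻¹ * t⁻¹ = t * x * ((t * x)⁻¹ * (x * t * x⁻¹ * t⁻¹) * (t * x)) * (t * x)⁻¹ := by
      group
    rw [e2, h1, mul_inv_cancel_right]
    exact h
  · intro h
    have h1 := mem_center_iff.mp h (t * x)⁻¹
    rw [h1, inv_mul_cancel_right]
    exact h

theorem Sit.quot : Sit (fq f S.f_center) (t : P ⧸ center P) := by
  refine ⟨S.two.to_quotient _, ?_, ?_, ?_, ?_, ?_, ?_, ?_⟩
  · intro x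
    induction x using QuotientGroup.induction_on with
    | H x => rw [fq_mk, fq_mk, fq_mk, S.cube]
  · rw [← QuotientGroup.mk_mul, S.sq, QuotientGroup.mk_one]
  · intro h
    exact Sit.t_notMem hx ((QuotientGroup.eq_one_iff t).mp h)
  · rw [fq_mk, S.ft]
  · intro x
    induction x using QuotientGroup.induction_on with
    | H x =>
      intro h
      rw [fq_mk] at h
      have h1 : x⁻¹ * f x ∈ center P := by
        rw [← QuotientGroup.eq]; exact h.symm
      -- solve `z⁻¹ f z = x⁻¹ f x`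
      have hinj : Function.Injective (fun z : center P => (⟨(z : P)⁻¹ * f z,
          mul_mem (inv_mem z.2) (S.f_center z z.2)⟩ : center P)) := by
        intro a b hab
        have h2 : (a : P)⁻¹ * f a = (b : P)⁻¹ * f b := congrArg Subtype.val hab
        have h3 : f ((b : P) * (a : P)⁻¹) = (b : P) * (a : P)⁻¹ := by
          rw [map_mul, map_inv, mul_inv_eq_iff_eq_mul, mul_assoc, h2, mul_inv_cancel_left]
        have h4 := S.fix_center hx _ (mul_mem b.2 (inv_mem a.2)) h3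
        exact Subtype.ext (mul_inv_eq_one.mp h4).symm
      obtain ⟨⟨z, hz⟩, hz'⟩ := (Finite.injective_iff_surjective.mp hinj) ⟨_, h1⟩
      have h2 : z⁻¹ * f z = x⁻¹ * f x := congrArg Subtype.val hz'
      have h3 : f (x * z⁻¹) = x * z⁻¹ := by
        have h4 : f x = x * z⁻¹ * f z := by rw [mul_assoc, h2]; group
        rw [map_mul, map_inv, h4, mul_inv_cancel_right]
      rcases S.fix _ h3 with h4 | h4
      · left
        rw [mul_inv_eq_one] at h4
        rw [h4]
        exact (QuotientGroup.eq_one_iff z).mpr hz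
      · right
        rw [mul_inv_eq_iff_eq_mul] at h4
        rw [h4, QuotientGroup.mk_mul, (QuotientGroup.eq_one_iff z).mpr hz, mul_one]
  · intro x
    induction x using QuotientGroup.induction_on with
    | H x =>
      intro h
      rw [← QuotientGroup.mk_mul, ← QuotientGroup.mk_mul] at h
      rw [← QuotientGroup.mk_mul, QuotientGroup.eq_one_iff]
      apply S.sq_mem hx
      exact (mk_comm x).mp h
  · have h1 : (centralizer ({(t : P ⧸ center P)} : Set (P ⧸ center P))).comap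
        (QuotientGroup.mk' (center P)) = BB P t := by
      ext x
      rw [mem_comap, mem_cent]
      exact mk_comm x
    have h2 := Subgroup.card_mul_index (centralizer ({(t : P ⧸ center P)} : Set (P ⧸ center P)))
    have h3 := Subgroup.card_mul_index (BB P t)
    rw [← h1, Subgroup.index_comap_of_surjective _ (QuotientGroup.mk'_surjective _), h1,
      S.card_BB hx] at h3
    have h4 := Subgroup.card_eq_card_quotient_mul_card_subgroup (center P)
    rw [S.card_center hx] at h4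
    rw [h4, ← h2] at h3
    have h5 : 0 < (centralizer ({(t : P ⧸ center P)} : Set (P ⧸ center P))).index := by
      have h6 : 0 < Nat.card (P ⧸ center P) := Nat.card_pos
      rw [← h2] at h6
      exact Nat.pos_of_mul_pos_left h6
    have h6 : 32 * (centralizer ({(t : P ⧸ center P)} : Set (P ⧸ center P))).index =
        (Nat.card (centralizer ({(t : P ⧸ center P)} : Set (P ⧸ center P))) * 4) *
          (centralizer ({(t : P ⧸ center P)} : Set (P ⧸ center P))).index := by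
      rw [h3]; ring
    have h7 := Nat.eq_of_mul_eq_mul_right h5 h6
    omega

end step

/-- Lemma A, abstract form -/
theorem exists_index_two : ∀ (n : ℕ) (P : Type u) [Group P] [Finite P] (f : P →* P) (t : P), Sit f t →
    Nat.card P = n → ∃ N : Subgroup P, N.index = 2 ∧ t ∉ N ∧ ∀ x ∈ N, f x ∈ N := by
  intro n
  induction n using Nat.strong_induction_on with
  | _ n ih =>
    intro P _ _ f t S hn
    by_cases hx : ∀ x, x * t = t * x
    · exact S.exists_of_comm hx
    push Not at hx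
    have hlt : Nat.card (P ⧸ center P) < n := by
      rw [← hn]
      have h1 := Subgroup.card_eq_card_quotient_mul_card_subgroup (center P)
      rw [S.card_center hx] at h1
      have h2 : 0 < Nat.card (P ⧸ center P) := Nat.card_pos
      omega
    obtain ⟨N, h2, h3, h4⟩ := ih _ hlt (P ⧸ center P) (fq f S.f_center) t (S.quot hx) rfl
    refine ⟨N.comap (QuotientGroup.mk' (center P)), ?_, ?_, ?_⟩
    · rw [Subgroup.index_comap_of_surjective _ (QuotientGroup.mk'_surjective _), h2]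
    · exact h3
    · intro x hx
      exact h4 _ hx

end Abstract

variable {G : Type u} [Group G] {t h : G} {V P F : Subgroup G}

/-! ### (0.4) -/

/-- A normal subgroup of order divisible by 3 contains all elements of order 3. -/
theorem mem_of_orderOf {H : Type*} [Group H] [Finite H] (hc : ∀ P : Sylow 3 H, IsCyclic P)
    {N : Subgroup H} (hN : N.Normal) (hpN : 3 ∣ Nat.card N) {x : H} (hx : orderOf x = 3) : x ∈ N := by
  have hpf : Fact (Nat.Prime 3) := ⟨Nat.prime_three⟩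
  obtain ⟨⟨y, hyN⟩, hy⟩ := exists_prime_orderOf_dvd_card' (G := N) 3 hpN
  rw [Subgroup.orderOf_mk] at hy
  have hxp : IsPGroup 3 (zpowers x) := IsPGroup.of_card (n := 1) (by
    rw [Nat.card_zpowers, hx, pow_one])
  have hyp : IsPGroup 3 (zpowers y) := IsPGroup.of_card (n := 1) (by
    rw [Nat.card_zpowers, hy, pow_one])
  obtain ⟨P, hP⟩ := hxp.exists_le_sylow
  obtain ⟨Q, hQ⟩ := hyp.exists_le_sylow
  obtain ⟨g, hg⟩ := MulAction.exists_smul_eq H Q P
  have hxP : x ∈ (P : Subgroup H) := hP (mem_zpowers x)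
  have hyP : g * y * g⁻¹ ∈ (P : Subgroup H) := by
    rw [← hg]
    exact ⟨y, hQ (mem_zpowers y), rfl⟩
  have := hc P
  have h1 : zpowers (⟨x, hxP⟩ : P) = zpowers (⟨g * y * g⁻¹, hyP⟩ : P) := by
    apply CompBasic.zpowers_eq_of_cyclic
    rw [Subgroup.orderOf_mk, Subgroup.orderOf_mk, hx]
    have : orderOf (g * y * g⁻¹) = orderOf y := by
      rw [← MulAut.conj_apply]
      exact orderOf_injective (MulAut.conj g).toMonoidHom (MulAut.conj g).injective y
    rw [this, hy]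
  have h2 : (⟨x, hxP⟩ : P) ∈ zpowers (⟨g * y * g⁻¹, hyP⟩ : P) := by
    rw [← h1]; exact mem_zpowers _
  obtain ⟨n, hn⟩ := h2
  have h3 : (g * y * g⁻¹) ^ n = x := congrArg Subtype.val hn
  rw [← h3]
  exact N.zpow_mem (hN.conj_mem y hyN g) n

theorem cyc_subgroup [Finite G] (hc : ∀ P : Sylow 3 G, IsCyclic P) (H : Subgroup G) (P : Sylow 3 H) :
    IsCyclic P := by
  have h1 : IsPGroup 3 ((P : Subgroup H).map H.subtype) := P.isPGroup'.map _
  obtain ⟨Q, hQ⟩ := h1.exists_le_sylow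
  have := hc Q
  have h2 : IsCyclic ((P : Subgroup H).map H.subtype) :=
    isCyclic_of_injective (Subgroup.inclusion hQ) (Subgroup.inclusion_injective hQ)
  exact isCyclic_of_injective
    ((P : Subgroup H).equivMapOfInjective H.subtype H.subtype_injective).toMonoidHom
    ((P : Subgroup H).equivMapOfInjective H.subtype H.subtype_injective).injective

/-- (0.4) -/
theorem three [Finite G] (L : Loc t h V) : ¬ 3 ∣ Nat.card (centralizer (V : Set G)) := by
  intro h3
  set C := centralizer (V : Set G) with hC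
  have hhN : h ∈ normalizer (C : Set G) := B2Four.mem_norm fun x hx => B2Four.cent_conj L.hV hx
  have hN : (C.subgroupOf (normalizer (C : Set G))).Normal := Subgroup.normal_subgroupOf_of_le_normalizer le_rfl
  have h1 : 3 ∣ Nat.card (C.subgroupOf (normalizer (C : Set G))) := by
    rw [Nat.card_congr (Subgroup.subgroupOfEquivOfLe Subgroup.le_normalizer).toEquiv]
    exact h3
  have h2 := mem_of_orderOf (cyc_subgroup L.cyc (normalizer (C : Set G))) hN h1
    (x := ⟨h, hhN⟩) (by rw [Subgroup.orderOf_mk]; exact B2LemB.order_h L)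
  have h4 : h ∈ C := h2
  obtain ⟨v, hv, hv1⟩ := B2Four.exists_ne_one L.card_V
  exact hv1 (L.fpfV v hv (mem_centralizer_iff.mp h4 v hv).symm)

/-! ### (0.5) -/

/-- `E = ⟨t⟩V` -/
def EE (L : Loc t h V) : Subgroup G where
  carrier := {x | x ∈ V ∨ t * x ∈ V}
  one_mem' := Or.inl V.one_mem
  mul_mem' := by
    have key : ∀ x, t * x ∈ V → x * t = t * x := by
      intro x hx
      have h1 := L.tV _ hx
      have h2 : t * (t * x) = x := by rw [← mul_assoc, L.t_sq, one_mul]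
      rw [h2] at h1
      calc x * t = (t * x * t) * t := by rw [← h1]
        _ = t * x * (t * t) := by group
        _ = t * x := by rw [L.t_sq, mul_one]
    rintro a b (ha | ha) (hb | hb)
    · exact Or.inl (V.mul_mem ha hb)
    · right
      have e : t * (a * b) = a * (t * b) := by rw [← mul_assoc, L.tV a ha, mul_assoc]
      rw [e]; exact V.mul_mem ha hb
    · right
      have e : t * (a * b) = (t * a) * b := by group
      rw [e]; exact V.mul_mem ha hb
    · left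
      have e : a * b = (t * a) * (t * b) := by
        rw [← key a ha]
        calc a * b = a * (t * t) * b := by rw [L.t_sq, mul_one]
          _ = _ := by group
      rw [e]; exact V.mul_mem ha hb
  inv_mem' := by
    rintro a (ha | ha)
    · exact Or.inl (V.inv_mem ha)
    · right
      have e : t * a⁻¹ = (t * a)⁻¹ := by
        have h1 := L.tV _ ha
        have h2 : t * (t * a) = a := by rw [← mul_assoc, L.t_sq, one_mul]
        rw [h2] at h1
        -- `a = t a t`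
        rw [mul_inv_rev, B2LemB.t_inv L]
        calc t * a⁻¹ = t * (t * a * t)⁻¹ := by rw [← h1]
          _ = (t * t⁻¹) * a⁻¹ * t⁻¹ := by group
          _ = a⁻¹ * t := by rw [mul_inv_cancel, one_mul, B2LemB.t_inv L]
      rw [e]; exact V.inv_mem ha

theorem t_mem_EE (L : Loc t h V) : t ∈ EE L := Or.inr (by rw [L.t_sq]; exact V.one_mem)

theorem V_le_EE (L : Loc t h V) : V ≤ EE L := fun _ hx => Or.inl hx

theorem EE_comm (L : Loc t h V) {x : G} (hx : x ∈ EE L) : x * t = t * x := by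
  rcases hx with hx | hx
  · exact (L.tV x hx).symm
  · have h1 := L.tV _ hx
    have h2 : t * (t * x) = x := by rw [← mul_assoc, L.t_sq, one_mul]
    rw [h2] at h1
    calc x * t = (t * x * t) * t := by rw [← h1]
      _ = t * x * (t * t) := by group
      _ = t * x := by rw [L.t_sq, mul_one]

theorem EE_sq (L : Loc t h V) {x : G} (hx : x ∈ EE L) : x * x = 1 := by
  have hc := EE_comm L hx
  rcases hx with hx | hx
  · exact L.elem x hx
  · have h1 := L.elem _ hx
    calc x * x = x * (t * t) * x := by rw [L.t_sq, mul_one]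
      _ = (x * t) * (t * x) := by group
      _ = (t * x) * (t * x) := by rw [hc]
      _ = 1 := h1

theorem isPGroup_EE (L : Loc t h V) : IsPGroup 2 (EE L) := by
  rintro ⟨x, hx⟩
  refine ⟨1, Subtype.ext ?_⟩
  show x ^ 2 ^ 1 = 1
  rw [pow_one, pow_two, EE_sq L hx]

theorem mem_EE_iff (L : Loc t h V) {x : G} : x ∈ EE L ↔ x ∈ centralizer (V : Set G) ∧ x * t = t * x := by
  constructor
  · intro hx
    refine ⟨?_, EE_comm L hx⟩
    rw [mem_centralizer_iff]
    intro v hv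
    exact (show Elem (EE L) from fun y hy => EE_sq L hy).comm (V_le_EE L hv) hx
  · rintro ⟨h1, h2⟩
    obtain ⟨v, hv, h3 | h3⟩ := L.cent x h2 fun v hv => (mem_centralizer_iff.mp h1 v hv).symm
    · rw [h3]; exact V_le_EE L hv
    · right
      rw [h3, ← mul_assoc, L.t_sq, one_mul]; exact hv

theorem EE_conj (L : Loc t h V) : ∀ x ∈ EE L, h * x * h⁻¹ ∈ EE L := by
  rintro x (hx | hx)
  · exact Or.inl (L.hV x hx)
  · right
    have e : t * (h * x * h⁻¹) = h * (t * x) * h⁻¹ := by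
      calc t * (h * x * h⁻¹) = (t * h) * x * h⁻¹ := by group
        _ = (h * t) * x * h⁻¹ := by rw [L.ht]
        _ = _ := by group
    rw [e]; exact L.hV _ hx

theorem t_notMem_V (L : Loc t h V) : t ∉ V := by
  intro h1
  apply L.not_conj 1
  simpa using h1

theorem card_EE [Finite G] (L : Loc t h V) : Nat.card (EE L) = 8 := by
  have h1 : ((V.subgroupOf (EE L)).index) = 2 := by
    rw [Subgroup.index_eq_two_iff]
    refine ⟨⟨t, t_mem_EE L⟩, fun b => ?_⟩
    rw [mem_subgroupOf, mem_subgroupOf]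
    show Xor (((b : G) * t) ∈ V) ((b : G) ∈ V)
    rw [EE_comm L b.2]
    rcases b.2 with hb | hb
    · refine Or.inr ⟨hb, fun h2 => t_notMem_V L ?_⟩
      have e : t = (t * b) * (b : G)⁻¹ := by group
      rw [e]; exact V.mul_mem h2 (V.inv_mem hb)
    · refine Or.inl ⟨hb, fun h2 => t_notMem_V L ?_⟩
      have e : t = (t * b) * (b : G)⁻¹ := by group
      rw [e]; exact V.mul_mem hb (V.inv_mem h2)
  have h2 := Subgroup.card_mul_index (V.subgroupOf (EE L))
  rw [h1, Nat.card_congr (Subgroup.subgroupOfEquivOfLe (V_le_EE L)).toEquiv, L.card_V] at h2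
  exact h2.symm

/-- elements of the 2-group `P` commuting with `h` -/
theorem fix_P [Finite G] (L : Loc t h V) {P : Subgroup G} (hP : IsPGroup 2 P)
    (hPC : P ≤ centralizer (V : Set G)) (ht : t ∈ P) {x : G} (hx : x ∈ P) (hc : h * x = x * h) :
    x = 1 ∨ x = t := by
  have hpf : Fact (Nat.Prime 2) := ⟨Nat.prime_two⟩
  set X : Subgroup G := P ⊓ centralizer ({h} : Set G) with hX
  have hXp : IsPGroup 2 X := hP.to_le inf_le_left
  have htX : t ∈ X := ⟨ht, mem_centralizer_singleton_iff.mpr L.ht.symm⟩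
  have hself : ∀ y ∈ X, y * t = t * y → y = 1 ∨ y = t := by
    intro y hy hyt
    exact B2Four.eq_of_comm L (hPC hy.1) hyt (mem_centralizer_singleton_iff.mp hy.2)
  have hnt : Nontrivial X := ⟨⟨⟨t, htX⟩, 1, fun h1 => L.t_ne (congrArg Subtype.val h1)⟩⟩
  obtain ⟨⟨⟨z, hzX⟩, hz⟩, hz1⟩ := @exists_ne _ hXp.center_nontrivial (1 : center X)
  have hzc : ∀ y ∈ X, y * z = z * y := fun y hy => congrArg Subtype.val (mem_center_iff.mp hz ⟨y, hy⟩)
  have hzt : z = t := by
    rcases hself z hzX (hzc t htX).symm with h1 | h1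
    · exact absurd (Subtype.ext (Subtype.ext h1)) hz1
    · exact h1
  rw [hzt] at hzc
  have hxX : x ∈ X := ⟨hx, mem_centralizer_singleton_iff.mpr hc.symm⟩
  exact hself x hxX (hzc x hxX)

theorem conj_comm_t (L : Loc t h V) : h * t * h⁻¹ = t := by
  rw [L.ht, mul_inv_cancel_right]

/-- (0.5): the `h`-invariant maximal subgroup `F` of the `h`-invariant 2-subgroup `P` containing `E` -/
theorem exists_F [Finite G] (L : Loc t h V) {P : Subgroup G} (hP : IsPGroup 2 P)
    (hPC : P ≤ centralizer (V : Set G)) (hE : EE L ≤ P) (hPh : ∀ x ∈ P, h * x * h⁻¹ ∈ P) :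
    ∃ F : Subgroup G, F ≤ P ∧ t ∉ F ∧ (∀ x ∈ F, h * x * h⁻¹ ∈ F) ∧
      ∀ a ∈ P, ∀ b ∈ P, (a * b ∈ F ↔ (a ∈ F ↔ b ∈ F)) := by
  have ht : t ∈ P := hE (t_mem_EE L)
  let f : P →* P := T1Class2.act hPh
  have hf : ∀ x : P, ((f x : P) : G) = h * x * h⁻¹ := fun x => rfl
  have S : Sit f (⟨t, ht⟩ : P) := by
    refine ⟨hP, ?_, ?_, ?_, ?_, ?_, ?_, ?_⟩
    · intro x
      exact T1Class2.act_three (B2LemB.order_h L) hPh x
    · exact Subtype.ext L.t_sq
    · intro h1; exact L.t_ne (congrArg Subtype.val h1)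
    · exact Subtype.ext (conj_comm_t L)
    · intro x hx
      have h1 : h * (x : G) = x * h := by
        have := congrArg Subtype.val hx
        rw [hf] at this
        rwa [mul_inv_eq_iff_eq_mul] at this
      rcases fix_P L hP hPC ht x.2 h1 with h2 | h2
      · left; exact Subtype.ext h2
      · right; exact Subtype.ext h2
    · intro x hx
      apply Subtype.ext
      have h1 : (x : G) * t = t * x := congrArg Subtype.val hx
      exact EE_sq L ((mem_EE_iff L).mpr ⟨hPC x.2, h1⟩)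
    · rw [← card_EE L]
      have h1 : centralizer ({(⟨t, ht⟩ : P)} : Set P) = (EE L).subgroupOf P := by
        ext x
        rw [mem_cent, mem_subgroupOf, mem_EE_iff]
        constructor
        · intro h1
          exact ⟨hPC x.2, congrArg Subtype.val h1⟩
        · rintro ⟨-, h1⟩
          exact Subtype.ext h1
      rw [h1]
      exact Nat.card_congr (Subgroup.subgroupOfEquivOfLe hE).toEquiv
  obtain ⟨N, h2, h3, h4⟩ := exists_index_two _ P f _ S rfl
  refine ⟨N.map P.subtype, Subgroup.map_subtype_le N, ?_, ?_, ?_⟩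
  · rintro ⟨x, hx, hxt⟩
    apply h3
    have : x = ⟨t, ht⟩ := Subtype.ext hxt
    rw [← this]; exact hx
  · rintro _ ⟨x, hx, rfl⟩
    exact ⟨f x, h4 x hx, rfl⟩
  · have key : ∀ x : P, (x : G) ∈ N.map P.subtype ↔ x ∈ N := by
      intro x
      constructor
      · rintro ⟨y, hy, hyx⟩
        have : y = x := Subtype.ext hyx
        rwa [← this]
      · intro hx; exact ⟨x, hx, rfl⟩
    intro a ha b hb
    have h5 := Subgroup.mul_mem_iff_of_index_two h2 (a := ⟨a, ha⟩) (b := ⟨b, hb⟩)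
    rw [← key, ← key, ← key] at h5
    exact h5

/-- if `E` is a Sylow 2-subgroup of `C_G(V)` then (nsw) fails -/
theorem ne_EE [Finite G] (L : Loc t h V) (hn : NswAt t V) (hE : IsSyl2 (centralizer (V : Set G)) (EE L)) :
    False := by
  have hpf : Fact (Nat.Prime 2) := ⟨Nat.prime_two⟩
  obtain ⟨b, hbV, hbt, hbn⟩ := hn
  obtain ⟨k, m, hm, hkm⟩ := Nat.exists_eq_two_pow_mul_odd (n := orderOf b) (orderOf_pos b).ne'
  -- `b ^ n t b ^ (-n) = v ^ n t`
  set v := b * t * b⁻¹ * t with hv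
  have hti := B2LemB.t_inv L
  have h1 : b * t * b⁻¹ = v * t := by
    rw [hv]
    calc b * t * b⁻¹ = b * t * b⁻¹ * (t * t) := by rw [L.t_sq, mul_one]
      _ = _ := by group
  have h2 : ∀ n : ℕ, b ^ n * t * (b ^ n)⁻¹ = v ^ n * t := by
    intro n
    induction n with
    | zero => simp
    | succ n ih =>
      have hbvn : Commute b (v ^ n) := (show Commute b v from hbV v hbt).pow_right n
      calc b ^ (n + 1) * t * (b ^ (n + 1))⁻¹ = b * (b ^ n * t * (b ^ n)⁻¹) * b⁻¹ := by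
            rw [pow_succ']; group
        _ = (b * v ^ n) * t * b⁻¹ := by rw [ih]; group
        _ = v ^ n * (b * t * b⁻¹) := by rw [hbvn.eq]; group
        _ = v ^ (n + 1) * t := by rw [h1, pow_succ]; group
  have hvv : v * v = 1 := L.elem v hbt
  have hv1 : v ≠ 1 := by
    intro h3
    apply hbn
    rw [h3, one_mul, mul_inv_eq_iff_eq_mul] at h1
    exact h1
  have hvm : v ^ m = v := by
    obtain ⟨r, hr⟩ := hm
    rw [hr, pow_succ, pow_mul, pow_two, hvv, one_pow, one_mul]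
  set c := b ^ m with hc
  have hct : c * t * c⁻¹ = v * t := by rw [hc, h2, hvm]
  have hcp : IsPGroup 2 (zpowers c) := by
    rw [IsPGroup.iff_card]
    refine ⟨k, ?_⟩
    rw [Nat.card_zpowers, hc, orderOf_pow, hkm, Nat.gcd_eq_right (Dvd.intro_left _ rfl)]
    exact Nat.mul_div_cancel _ hm.pos
  have hcC : c ∈ centralizer (V : Set G) := by
    apply Subgroup.pow_mem
    rw [mem_centralizer_iff]
    intro x hx
    exact (hbV x hx).symm
  -- `c` normalises `E`
  have hcE : c ∈ normalizer (EE L : Set G) := by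
    apply B2Four.mem_norm
    have hcV : ∀ x ∈ V, c * x * c⁻¹ = x := by
      intro x hx
      rw [← mem_centralizer_iff.mp hcC x hx, mul_inv_cancel_right]
    rintro x (hx | hx)
    · left; rw [hcV x hx]; exact hx
    · right
      have e : t * (c * x * c⁻¹) = t * ((c * t * c⁻¹) * (c * (t * x) * c⁻¹)) := by
        have : (c * t * c⁻¹) * (c * (t * x) * c⁻¹) = c * ((t * t) * x) * c⁻¹ := by group
        rw [this, L.t_sq, one_mul]
      rw [e, hct, hcV _ hx]
      have e2 : t * (v * t * (t * x)) = v * (t * x) := by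
        calc t * (v * t * (t * x)) = (t * v) * (t * t) * x := by group
          _ = (t * v) * x := by rw [L.t_sq, mul_one]
          _ = v * t * x := by rw [L.tV v hbt]
          _ = _ := by group
      rw [e2]
      exact V.mul_mem hbt hx
  have hsup : IsPGroup 2 (zpowers c ⊔ EE L : Subgroup G) :=
    hcp.to_sup_of_normal_right' (isPGroup_EE L) (zpowers_le.mpr hcE)
  have h5 := hE.max _ (sup_le (zpowers_le.mpr hcC) hE.le) hsup le_sup_right
  have h6 : c ∈ EE L := by
    rw [← h5]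
    exact (le_sup_left : zpowers c ≤ _) (mem_zpowers c)
  have h7 := EE_comm L h6
  rw [h7, mul_inv_cancel_right] at hct
  exact hv1 (mul_eq_right.mp hct.symm)

/-- (0.4), (0.5) -/
theorem exists_pData [Finite G] (L : Loc t h V) (hn : NswAt t V) : ∃ P F, PData t h V P F := by
  have hpf2 : Fact (Nat.Prime 2) := ⟨Nat.prime_two⟩
  have hpf3 : Fact (Nat.Prime 3) := ⟨Nat.prime_three⟩
  have hA : IsPGroup 3 (zpowers h) := IsPGroup.of_card (n := 1) (by
    rw [Nat.card_zpowers, B2LemB.order_h L, pow_one])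
  have hzp : ∀ {B : Subgroup G}, (∀ x ∈ B, h * x * h⁻¹ ∈ B) → ∀ b ∈ zpowers h, ∀ x ∈ B, b * x * b⁻¹ ∈ B := by
    intro B hB b hb
    have h1 : h ∈ normalizer (B : Set G) := B2Four.mem_norm hB
    exact B2Four.of_mem_norm ((zpowers_le.mpr h1) hb)
  obtain ⟨P, hT, hPinv, hEP⟩ := Lib.PGroupCoprimeAction.exists_invariant_sylow_ge hA (three L)
    (hzp fun x hx => B2Four.cent_conj L.hV hx) (q := 2) (R := EE L)
    (fun x hx => ((mem_EE_iff L).mp hx).1) (isPGroup_EE L) (hzp (EE_conj L))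
  rw [Blocks.SylowIn.exists_sylow_map_eq_iff] at hT
  obtain ⟨hPC, hP2, hPmax⟩ := hT
  have hPs : IsSyl2 (centralizer (V : Set G)) P := ⟨hPC, hP2, fun Y h1 h2 h3 => hPmax Y h1 h2 h3⟩
  have hPh : ∀ x ∈ P, h * x * h⁻¹ ∈ P := hPinv h (mem_zpowers h)
  obtain ⟨F, hFP, htF, hFh, hF2⟩ := exists_F L hP2 hPC hEP hPh
  have htP : t ∈ P := hEP (t_mem_EE L)
  have hFh' : ∀ x ∈ F, h⁻¹ * x * h ∈ F := fun x hx => B2LemB.inv_conj L hFh hx
  have hVF : V ≤ F := by
    intro v hv
    obtain ⟨w, hw⟩ := T1Class2.exists_inv_mul (T1Class2.act L.hV)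
      (T1Class2.act_fix L.hV L.fpfV) ⟨v, hv⟩
    have hw' : (w : G)⁻¹ * (h * w * h⁻¹) = v := congrArg Subtype.val hw
    rw [← hw']
    have hwP : (w : G) ∈ P := hEP (V_le_EE L w.2)
    rw [hF2 _ (P.inv_mem hwP) _ (hPh _ hwP), inv_mem_iff]
    constructor
    · intro h1; exact hFh _ h1
    · intro h1
      have h2 := hFh' _ h1
      have e : h⁻¹ * (h * (w : G) * h⁻¹) * h = w := by group
      rwa [e] at h2
  refine ⟨P, F, hPs, hPh, hFh, ?_, ?_, htF, ?_, hVF, ?_, ?_⟩
  · intro x hx f hf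
    rw [hF2 _ (P.mul_mem hx (hFP hf)) _ (P.inv_mem hx), hF2 _ hx _ (hFP hf), inv_mem_iff]
    constructor
    · intro h1; exact h1.mpr hf
    · intro h1; exact ⟨fun _ => hf, fun _ => h1⟩
  · intro x
    constructor
    · intro hx
      by_cases h1 : x ∈ F
      · exact ⟨x, h1, Or.inl rfl⟩
      · refine ⟨t * x, ?_, Or.inr ?_⟩
        · rw [hF2 _ htP _ hx]
          exact ⟨fun h2 => absurd h2 htF, fun h2 => absurd h2 h1⟩
        · rw [← mul_assoc, L.t_sq, one_mul]
    · rintro ⟨f, hf, h1 | h1⟩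
      · rw [h1]; exact hFP hf
      · rw [h1]; exact P.mul_mem htP (hFP hf)
  · intro f hf hc
    rcases fix_P L hP2 hPC htP (hFP hf) hc with h1 | h1
    · exact h1
    · rw [h1] at hf; exact absurd hf htF
  · intro f hf hc
    have h1 : f ∈ EE L := (mem_EE_iff L).mpr ⟨hPC (hFP hf), hc.symm⟩
    rcases h1 with h1 | h1
    · exact h1
    · exfalso
      apply htF
      have e : t = (t * f) * f⁻¹ := by group
      rw [e]
      exact F.mul_mem (hVF h1) (F.inv_mem hf)
  · intro hVF'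
    apply ne_EE L hn
    have : EE L = P := by
      apply le_antisymm hEP
      intro x hx
      by_cases h1 : x ∈ F
      · rw [← hVF'] at h1
        exact V_le_EE L h1
      · right
        rw [hVF', hF2 _ htP _ hx]
        exact ⟨fun h2 => absurd h2 htF, fun h2 => absurd h2 h1⟩
    rw [this]; exact hPs

/-- (0.7) -/
theorem not_conj_F [Finite G] (L : Loc t h V) (D : PData t h V P F) (g : G) : g * t * g⁻¹ ∉ F := by
  intro hu
  set u := g * t * g⁻¹ with hu'
  have huu : u * u = 1 := by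
    rw [hu']
    calc g * t * g⁻¹ * (g * t * g⁻¹) = g * (t * t) * g⁻¹ := by group
      _ = 1 := by rw [L.t_sq]; group
  set u₁ := h * u * h⁻¹ with hu₁
  have hu₁F : u₁ ∈ F := D.hF u hu
  have huu₁ : u₁ * u₁ = 1 := by
    rw [hu₁]
    calc h * u * h⁻¹ * (h * u * h⁻¹) = h * (u * u) * h⁻¹ := by group
      _ = 1 := by rw [huu]; group
  have htr := T1Class2.triple (B2LemB.two D) (B2LemB.order_h L) D.hF D.fpf hu
  have hcomm : u * u₁ = u₁ * u :=
    T1Class2.comm_conj (B2LemB.two D) (B2LemB.order_h L) D.hF D.fpf hu hu rfl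
  set gens : Set G := (V : Set G) ∪ {u, u₁} with hg
  have hgc : ∀ a ∈ gens, ∀ b ∈ gens, a * b = b * a := by
    rintro a (ha | ha | ha) b (hb | hb | hb)
    · exact L.elem.comm ha hb
    · rw [hb]; exact B2LemB.V_cent D ha hu
    · rw [Set.mem_singleton_iff.mp hb]; exact B2LemB.V_cent D ha hu₁F
    · rw [ha]; exact (B2LemB.V_cent D hb hu).symm
    · rw [ha, hb]
    · rw [ha, Set.mem_singleton_iff.mp hb]; exact hcomm
    · rw [Set.mem_singleton_iff.mp ha]; exact (B2LemB.V_cent D hb hu₁F).symm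
    · rw [Set.mem_singleton_iff.mp ha, hb]; exact hcomm.symm
    · rw [Set.mem_singleton_iff.mp ha, Set.mem_singleton_iff.mp hb]
  set A := closure gens with hA
  have hAc := Subgroup.isMulCommutative_closure hgc
  have hAcomm : ∀ a ∈ A, ∀ b ∈ A, a * b = b * a := fun a ha b hb =>
    congrArg Subtype.val (hAc.is_comm.comm (⟨a, ha⟩ : A) ⟨b, hb⟩)
  have hAE : Elem A := by
    intro x hx
    induction hx using Subgroup.closure_induction with
    | mem z hz =>
      rcases hz with hz | hz | hz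
      · exact L.elem z hz
      · rw [hz]; exact huu
      · rw [Set.mem_singleton_iff.mp hz]; exact huu₁
    | one => exact one_mul 1
    | mul a b ha hb iha ihb =>
      calc a * b * (a * b) = a * (b * a) * b := by group
        _ = a * (a * b) * b := by rw [hAcomm b hb a ha]
        _ = (a * a) * (b * b) := by group
        _ = 1 := by rw [iha, ihb, one_mul]
    | inv a ha iha =>
      rw [← mul_inv_rev, iha, inv_one]
  have huA : u ∈ A := _root_.Subgroup.subset_closure (Or.inr (Or.inl rfl))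
  have hu₁A : u₁ ∈ A := _root_.Subgroup.subset_closure (Or.inr (Or.inr rfl))
  have hVA : V ≤ A := fun v hv => _root_.Subgroup.subset_closure (Or.inl hv)
  have hAF : A ≤ F := by
    rw [hA, closure_le]
    rintro x (hx | hx | hx)
    · exact D.V_le hx
    · rw [hx]; exact hu
    · rw [Set.mem_singleton_iff.mp hx]; exact hu₁F
  have hAh : ∀ a ∈ A, h * a * h⁻¹ ∈ A := by
    intro a ha
    have hle : A ≤ A.comap (MulAut.conj h).toMonoidHom := by
      rw [hA, closure_le]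
      rintro x (hx | hx | hx)
      · exact hVA (L.hV x hx)
      · rw [hx]; exact hu₁A
      · rw [Set.mem_singleton_iff.mp hx]
        show h * u₁ * h⁻¹ ∈ A
        have e : h * u₁ * h⁻¹ = (u * u₁)⁻¹ := by
          rw [eq_comm, inv_eq_iff_mul_eq_one]
          exact htr
        rw [e]
        exact A.inv_mem (A.mul_mem huA hu₁A)
    exact hle ha
  have huV : u ∉ V := L.not_conj g
  have h16 := B2LemB.sixteen_le L D hAF hVA hAh huA huV
  -- conjugate `A` into `C_G(t)`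
  have h8 := L.e16 (A.map (MulAut.conj g⁻¹).toMonoidHom) (by
      rintro _ ⟨a, ha, rfl⟩
      rw [← map_mul, hAE a ha, map_one]) (by
      rintro _ ⟨a, ha, rfl⟩
      have h1 := hAcomm a ha u huA
      show g⁻¹ * a * g⁻¹⁻¹ * t = t * (g⁻¹ * a * g⁻¹⁻¹)
      have e1 : g⁻¹ * a * g⁻¹⁻¹ * t = g⁻¹ * (a * u) * g := by rw [hu']; group
      have e2 : t * (g⁻¹ * a * g⁻¹⁻¹) = g⁻¹ * (u * a) * g := by rw [hu']; group
      rw [e1, e2, h1])
  rw [Subgroup.card_map_of_injective (MulAut.conj g⁻¹).injective] at h8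
  omega

end Cfsg.Agent.OddCyclic.B2LemA
end

-- part: OddCyclic/B2Tools
section
/-!
# Tools for case B2 (blueprints/S0342-B2.md)
-/

set_option autoImplicit false

namespace Cfsg.Agent.OddCyclic.B2Tools

open Cfsg.Agent.LieExceptional Cfsg.Agent.LieExceptional.CITDefs Cfsg.Agent.OddCyclic.B2Defs

variable {G : Type*} [Group G]

theorem mem_norm [Finite G] {S : Subgroup G} {x : G} (h : ∀ s ∈ S, x * s * x⁻¹ ∈ S) :
    x ∈ Subgroup.normalizer (S : Set G) := by
  rw [Subgroup.mem_normalizer_iff]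
  intro s
  constructor
  · exact h s
  · intro hs
    have hinj : Function.Injective (fun s : S => (⟨x * s * x⁻¹, h s s.2⟩ : S)) := by
      intro a b hab
      have := congrArg Subtype.val hab
      simp only at this
      apply Subtype.ext
      exact mul_left_cancel (mul_right_cancel this)
    obtain ⟨⟨t, ht⟩, h⟩ := Finite.surjective_of_injective hinj ⟨_, hs⟩
    have h1 : x * t * x⁻¹ = x * s * x⁻¹ := congrArg Subtype.val h
    have h2 : t = s := mul_left_cancel (mul_right_cancel h1)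
    rw [← h2]
    exact ht

theorem conj_inv_mem [Finite G] {S : Subgroup G} {x : G} (h : ∀ s ∈ S, x * s * x⁻¹ ∈ S) {s : G} (hs : s ∈ S) :
    x⁻¹ * s * x ∈ S := by
  have h1 := Subgroup.inv_mem _ (mem_norm h)
  have h2 := (Subgroup.mem_normalizer_iff.1 h1 s).1 hs
  rwa [inv_inv] at h2

/-- normalisers grow in 2-groups -/
theorem grow [Finite G] {A T : Subgroup G} (hAT : A ≤ T) (hT : IsPGroup 2 T) (hne : A ≠ T) :
    ∃ g ∈ T, g ∉ A ∧ ∀ a ∈ A, g * a * g⁻¹ ∈ A := by
  obtain ⟨Q, hQ, hQT, hQ2, hQN⟩ := CITGlobal.exists_bigger hAT (hT.to_le hAT) (by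
    intro hs
    exact hne (hs.max T le_rfl hT hAT).symm)
  obtain ⟨g, hgQ, hgA⟩ := SetLike.exists_of_lt hQ
  exact ⟨g, hQT hgQ, hgA, fun a ha => (Subgroup.mem_normalizer_iff.1 (hQN hgQ) a).1 ha⟩

/-- a 2-element normalising the 2-group `S` lies with `S` in a Sylow 2-subgroup -/
theorem exists_syl [Finite G] {S : Subgroup G} {x : G} (hS : IsPGroup 2 S) (hx : ∃ k : ℕ, x ^ 2 ^ k = 1)
    (hxS : ∀ s ∈ S, x * s * x⁻¹ ∈ S) : ∃ T : Subgroup G, IsSyl2 ⊤ T ∧ S ≤ T ∧ x ∈ T := by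
  have hz : IsPGroup 2 (Subgroup.zpowers x) := by
    obtain ⟨k, hk⟩ := hx
    rintro ⟨y, m, rfl⟩
    refine ⟨k, ?_⟩
    apply Subtype.ext
    show (x ^ m) ^ 2 ^ k = 1
    rw [← zpow_natCast, zpow_comm, zpow_natCast, hk, one_zpow]
  have h1 : IsPGroup 2 (Subgroup.zpowers x ⊔ S : Subgroup G) := by
    refine IsPGroup.to_sup_of_normal_right' hz hS ?_
    rw [Subgroup.zpowers_le]
    exact mem_norm hxS
  obtain ⟨T, hT, hle⟩ := CITBasic.exists_isSyl2 ⊤ _ le_top h1
  exact ⟨T, hT, le_sup_right.trans hle, hle (Subgroup.mem_sup_left (Subgroup.mem_zpowers x))⟩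

/-- `S` Sylow in `C(t)`, `S ≤ T`: `T ∩ C(t) = S` -/
theorem mem_of_comm {t : G} {S T : Subgroup G} (hS : IsSyl2 (Subgroup.centralizer ({t} : Set G)) S)
    (hT : IsPGroup 2 T) (hST : S ≤ T) {g : G} (hg : g ∈ T) (hgt : g * t = t * g) : g ∈ S := by
  have h1 := hS.max (T ⊓ Subgroup.centralizer ({t} : Set G)) inf_le_right (hT.to_le inf_le_left) (le_inf hST hS.le)
  rw [← h1, Subgroup.mem_inf, Subgroup.mem_centralizer_singleton_iff]
  exact ⟨hg, hgt⟩

theorem relIndex_two {T₀ T : Subgroup G} (h : T₀ ≤ T) {g : G} (hg : g ∈ T) (hg' : g ∉ T₀)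
    (hall : ∀ x ∈ T, x ∈ T₀ ∨ g⁻¹ * x ∈ T₀) : T₀.relIndex T = 2 := by
  rw [Subgroup.relIndex_eq_two_iff_exists_notMem_and']
  refine ⟨g⁻¹, inv_mem hg, fun h' => hg' ((Subgroup.inv_mem_iff _).1 h'), fun b hb => ?_⟩
  exact (hall b hb).symm

end Cfsg.Agent.OddCyclic.B2Tools
end

private theorem dce_635c31414afc : _root_.True := by
  try have : _root_.True := by simp only [_root_.Cfsg.Agent.OddCyclic.B2SpecFus.EEs.eq_1]
  exact _root_.True.intro
end

-- part: OddCyclic/CaseATools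
section
prune_inst 0x20201200512212000000000200001d4282000000004b8001b1610702068edc0080020e20c8200e1358200004003400681200001000100000000000004b1801a08022d0069208a10406000f80b007580c00000000000000000000000000041000000000000
set_option linter.all false
open scoped Cfsg.Agent.FastGrp

-- part: OddCyclic/CaseATransfer
section
/-!
# S0342, component case A: transfer lemmas

`exists_conj_of_min`: Thompson's transfer lemma for an element of minimal order outside a maximal
subgroup of a Sylow 2-subgroup.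
-/

set_option autoImplicit false

namespace Cfsg.Agent.OddCyclic.CaseATransfer

open Subgroup

variable {G : Type*} [Group G]

/-- If `G = [G, G]`, `T₁` is a maximal subgroup of the Sylow 2-subgroup `T` and `g` has minimal order
among the elements of `T ∖ T₁`, then `g` is conjugate to an element of `T₁`. -/
theorem exists_conj_of_min [Finite G] (hG : commutator G = ⊤) (T : Sylow 2 G) (T₁ : Subgroup G)
    (h1 : T₁ ≤ (T : Subgroup G)) (h2 : T₁.relIndex (T : Subgroup G) = 2) {g : G}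
    (hgT : g ∈ (T : Subgroup G)) (hg1 : g ∉ T₁)
    (hmin : ∀ x ∈ (T : Subgroup G), x ∉ T₁ → orderOf g ≤ orderOf x) :
    ∃ a, a * g * a⁻¹ ∈ T₁ := by
  by_contra hno
  push Not at hno
  have f2 : Fact (Nat.Prime 2) := ⟨Nat.prime_two⟩
  have hidx : (T₁.subgroupOf (T : Subgroup G)).index = 2 := h2
  have hmul : ∀ x ∈ (T : Subgroup G), ∀ y ∈ (T : Subgroup G),
      (x * y ∈ T₁ ↔ (x ∈ T₁ ↔ y ∈ T₁)) := by
    intro x hx y hy
    have := Subgroup.mul_mem_iff_of_index_two hidx (a := ⟨x, hx⟩) (b := ⟨y, hy⟩)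
    simpa [mem_subgroupOf] using this
  obtain ⟨k, hk⟩ := (IsPGroup.iff_orderOf.mp T.isPGroup') ⟨g, hgT⟩
  rw [Subgroup.orderOf_mk] at hk
  have hg1' : g ≠ 1 := fun h => hg1 (h ▸ T₁.one_mem)
  have hk0 : k ≠ 0 := by
    rintro rfl
    rw [pow_zero, orderOf_eq_one_iff] at hk
    exact hg1' hk
  have hsq : g * g ∈ T₁ := (hmul g hgT g hgT).2 Iff.rfl
  have key := Cfsg.Agent.S1241.result (p := 2) (T : Subgroup G) T₁ h1
    (Subgroup.normal_of_index_eq_two hidx) ?_ ?_ g hgT hg1 ⟨k, hk⟩ ?_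
  · exact key (hG ▸ mem_top g)
  · intro x hx y hy
    rw [mul_assoc, mul_assoc,
      hmul _ hx _ (mul_mem hy (mul_mem (inv_mem hx) (inv_mem hy))),
      hmul _ hy _ (mul_mem (inv_mem hx) (inv_mem hy)), hmul _ (inv_mem hx) _ (inv_mem hy),
      inv_mem_iff, inv_mem_iff]
    (clear * -; tauto)
  · rw [Nat.coprime_comm, Nat.coprime_comm]
    exact (Nat.Prime.coprime_iff_not_dvd Nat.prime_two).2 T.not_dvd_index
  · intro m a ha
    have hgm : g ^ m ∈ (T : Subgroup G) := zpow_mem hgT m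
    rw [hmul _ ha _ (inv_mem hgm), inv_mem_iff]
    rcases Int.even_or_odd m with ⟨n, hn⟩ | hm
    · have e1 : g ^ m = (g * g) ^ n := by
        rw [hn, ← pow_two, ← zpow_natCast, ← zpow_mul]
        congr 1
        push_cast
        ring
      have e2 : g ^ m ∈ T₁ := by rw [e1]; exact zpow_mem hsq n
      refine iff_of_true ?_ e2
      by_contra h3
      have h4 := hmin _ ha h3
      have h5 : orderOf (a * g ^ m * a⁻¹) = orderOf (g ^ m) := by
        rw [← MulAut.conj_apply]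
        exact orderOf_injective (MulAut.conj a).toMonoidHom (MulAut.conj a).injective _
      rw [h5] at h4
      have h6 : orderOf (g ^ m) ∣ orderOf (g * g) := by
        rw [e1]; exact orderOf_dvd_of_mem_zpowers (zpow_mem (mem_zpowers _) n)
      have h7 : orderOf (g * g) = 2 ^ (k - 1) := by
        rw [← pow_two, orderOf_pow' g two_ne_zero, hk]
        obtain ⟨j, rfl⟩ := Nat.exists_eq_succ_of_ne_zero hk0
        rw [pow_succ, Nat.gcd_mul_left_left, Nat.mul_div_cancel _ (by norm_num)]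
        rfl
      rw [h7] at h6
      have h8 := Nat.le_of_dvd (by positivity) h6
      rw [hk] at h4
      have h9 : 2 ^ (k - 1) < 2 ^ k := Nat.pow_lt_pow_right (by norm_num) (by omega)
      omega
    · have e2 : g ^ m ∉ T₁ := by
        intro h3
        obtain ⟨n, hn⟩ := hm
        have e1 : g = g ^ m * ((g * g) ^ n)⁻¹ := by
          rw [hn, ← pow_two, ← zpow_natCast, ← zpow_mul, zpow_add, zpow_one]
          push_cast
          group
        apply hg1
        rw [e1]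
        exact mul_mem h3 (inv_mem (zpow_mem hsq n))
      refine iff_of_false (fun h3 => ?_) e2
      apply hno a
      have h4 : g ∈ zpowers (g ^ m) := by
        rw [mem_zpowers_zpow_iff]
        rw [hk, Int.gcd_eq_natAbs, Int.natAbs_natCast]
        exact Nat.Coprime.pow_right _ (Nat.Coprime.symm
          ((Nat.coprime_two_left).2 (Int.natAbs_odd.2 hm)))
      obtain ⟨n, hn⟩ := h4
      have h5 : a * g * a⁻¹ = (a * g ^ m * a⁻¹) ^ n := by
        rw [conj_zpow]
        congr 2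
        exact hn.symm
      rw [h5]
      exact zpow_mem h3 n

end Cfsg.Agent.OddCyclic.CaseATransfer
end

-- part: OddCyclic/CaseATools
section
/-!
# S0342, component case A: small tools on 2-groups and fusion
-/

set_option autoImplicit false

namespace Cfsg.Agent.OddCyclic.CaseATools

open Subgroup
open scoped commutatorElement
open Cfsg.Agent.LieExceptional.CITDefs
open Cfsg.Agent.OddCyclic.CompStandard

variable {G : Type*} [Group G]

theorem inv_eq_self {e : G} (he : e * e = 1) : e⁻¹ = e := inv_eq_of_mul_eq_one_right he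

theorem orderOf_eq_two {e : G} (he : e * e = 1) (h1 : e ≠ 1) : orderOf e = 2 :=
  orderOf_eq_prime (by rw [pow_two, he]) h1

theorem sq_of_orderOf {e : G} (he : orderOf e = 2) : e * e = 1 := by
  rw [← pow_two, ← he, pow_orderOf_eq_one]

theorem conj_eq_iff_comm {x e : G} : x * e * x⁻¹ = e ↔ x * e = e * x :=
  mul_inv_eq_iff_eq_mul

/-- The map `e ↦ [e, x]` on a normalised elementary abelian subgroup. -/
def commHom {E : Subgroup G} (hE : Elem E) {x : G} (hx : ∀ e ∈ E, x * e * x⁻¹ ∈ E) : E →* E where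
  toFun e := ⟨e.1 * (x * e.1⁻¹ * x⁻¹), E.mul_mem e.2 (hx _ (E.inv_mem e.2))⟩
  map_one' := by ext; simp
  map_mul' a b := by
    apply Subtype.ext
    show a.1 * b.1 * (x * (a.1 * b.1)⁻¹ * x⁻¹) =
      a.1 * (x * a.1⁻¹ * x⁻¹) * (b.1 * (x * b.1⁻¹ * x⁻¹))
    have h1 := hE.comm b.2 (hx _ (E.inv_mem a.2))
    have h2 := hE.comm (hx _ (E.inv_mem a.2)) (hx _ (E.inv_mem b.2))
    calc a.1 * b.1 * (x * (a.1 * b.1)⁻¹ * x⁻¹)
        = a.1 * (b.1 * ((x * b.1⁻¹ * x⁻¹) * (x * a.1⁻¹ * x⁻¹))) := by group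
      _ = a.1 * (b.1 * ((x * a.1⁻¹ * x⁻¹) * (x * b.1⁻¹ * x⁻¹))) := by rw [h2]
      _ = a.1 * ((b.1 * (x * a.1⁻¹ * x⁻¹)) * (x * b.1⁻¹ * x⁻¹)) := by group
      _ = a.1 * (((x * a.1⁻¹ * x⁻¹) * b.1) * (x * b.1⁻¹ * x⁻¹)) := by rw [h1]
      _ = _ := by group

theorem mem_ker_commHom {E : Subgroup G} (hE : Elem E) {x : G} (hx : ∀ e ∈ E, x * e * x⁻¹ ∈ E)
    (e : E) : e ∈ (commHom hE hx).ker ↔ x * e.1 = e.1 * x := by
  rw [MonoidHom.mem_ker, Subtype.ext_iff]
  show e.1 * (x * e.1⁻¹ * x⁻¹) = 1 ↔ _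
  have h0 : x * e.1⁻¹ * x⁻¹ = (x * e.1 * x⁻¹)⁻¹ := by group
  rw [h0, mul_inv_eq_one, ← conj_eq_iff_comm, eq_comm]

/-- the centralizer of `x` in `E` -/
theorem mem_inf_cent {E : Subgroup G} {x e : G} :
    e ∈ (E ⊓ centralizer ({x} : Set G) : Subgroup G) ↔ e ∈ E ∧ x * e = e * x := by
  rw [mem_inf, mem_centralizer_singleton_iff, eq_comm (a := e * x)]

theorem card_ker_commHom {E : Subgroup G} (hE : Elem E) {x : G} (hx : ∀ e ∈ E, x * e * x⁻¹ ∈ E) :
    Nat.card (commHom hE hx).ker = Nat.card (E ⊓ centralizer ({x} : Set G) : Subgroup G) := by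
  have h1 : (commHom hE hx).ker = (E ⊓ centralizer ({x} : Set G)).subgroupOf E := by
    ext e
    rw [mem_ker_commHom, mem_subgroupOf, mem_inf_cent]
    exact ⟨fun h => ⟨e.2, h⟩, fun h => h.2⟩
  rw [h1]
  exact Nat.card_congr (Subgroup.subgroupOfEquivOfLe inf_le_left).toEquiv

/-- If `x²` centralises `E` then `[E, x] ≤ C_E(x)`. -/
theorem commHom_mem {E : Subgroup G} (hE : Elem E) {x : G} (hx : ∀ e ∈ E, x * e * x⁻¹ ∈ E)
    (hx2 : ∀ e ∈ E, x * x * e = e * (x * x)) (e : E) :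
    x * (commHom hE hx e).1 = (commHom hE hx e).1 * x := by
  rw [← conj_eq_iff_comm]
  show x * (e.1 * (x * e.1⁻¹ * x⁻¹)) * x⁻¹ = e.1 * (x * e.1⁻¹ * x⁻¹)
  have h1 : e.1⁻¹ = e.1 := inv_eq_self (hE _ e.2)
  have h2 := hE.comm e.2 (hx _ e.2)
  have h3 := hx2 e.1 e.2
  rw [h1]
  calc x * (e.1 * (x * e.1 * x⁻¹)) * x⁻¹
      = (x * e.1 * x⁻¹) * ((x * x) * e.1) * (x * x)⁻¹ := by group
    _ = (x * e.1 * x⁻¹) * (e.1 * (x * x)) * (x * x)⁻¹ := by rw [h3]
    _ = (x * e.1 * x⁻¹) * e.1 := by group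
    _ = e.1 * (x * e.1 * x⁻¹) := h2.symm

/-- The involutions of `Ex` are `E`-conjugate if `|C_E(x)|² ≤ |E|`. -/
theorem exists_conj_mul [Finite G] {E : Subgroup G} (hE : Elem E) {x : G}
    (hx : ∀ e ∈ E, x * e * x⁻¹ ∈ E) (hx2 : x * x = 1)
    (hc : Nat.card (E ⊓ centralizer ({x} : Set G) : Subgroup G) ^ 2 ≤ Nat.card E) {e : G}
    (he : e ∈ E) (hex : e * x * (e * x) = 1) : ∃ f ∈ E, f * x * f⁻¹ = e * x := by
  have hxc : ∀ e ∈ E, x * x * e = e * (x * x) := fun e _ => by rw [hx2, one_mul, mul_one]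
  have hle : (commHom hE hx).range ≤ (commHom hE hx).ker := by
    rintro _ ⟨e, rfl⟩
    rw [mem_ker_commHom]
    exact commHom_mem hE hx hxc e
  have h1 := Subgroup.card_eq_card_quotient_mul_card_subgroup (commHom hE hx).ker
  rw [Nat.card_congr (QuotientGroup.quotientKerEquivRange (commHom hE hx)).toEquiv] at h1
  rw [← card_ker_commHom hE hx] at hc
  have heq : (commHom hE hx).range = (commHom hE hx).ker := by
    apply Subgroup.eq_of_le_of_card_ge hle
    have h3 : 0 < Nat.card (commHom hE hx).ker := Nat.card_pos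
    rw [h1, pow_two] at hc
    exact Nat.le_of_mul_le_mul_right hc h3
  have hxinv : x⁻¹ = x := inv_eq_self hx2
  have hcomm : x * e = e * x := by
    rw [← conj_eq_iff_comm]
    have h4 : e * (x * e * x⁻¹) = 1 := by
      calc e * (x * e * x⁻¹) = e * x * (e * x) * (x * x)⁻¹ := by group
        _ = 1 := by rw [hex, hx2]; simp
    rw [← inv_eq_of_mul_eq_one_right h4, inv_eq_self (hE e he)]
  have h5 : (⟨e, he⟩ : E) ∈ (commHom hE hx).range := by
    rw [heq, mem_ker_commHom]; exact hcomm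
  obtain ⟨f, hf⟩ := h5
  refine ⟨f.1, f.2, ?_⟩
  have h6 : f.1 * (x * f.1⁻¹ * x⁻¹) = e := congrArg Subtype.val hf
  calc f.1 * x * f.1⁻¹ = f.1 * (x * f.1⁻¹ * x⁻¹) * x := by group
    _ = e * x := by rw [h6]

/-! ### The commutator subgroup of a Sylow subgroup -/

theorem comm_conj_mem [Finite G] {T : Subgroup G} {n x : G} (hn : n ∈ normalizer (T : Set G))
    (hx : x ∈ ⁅T, T⁆) : n * x * n⁻¹ ∈ ⁅T, T⁆ := by
  have h1 : (⁅T, T⁆).map (MulAut.conj n).toMonoidHom = ⁅T, T⁆ := by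
    rw [Subgroup.map_commutator]
    have h2 : T.map (MulAut.conj n).toMonoidHom = T := cj_eq_iff.mpr hn
    rw [h2]
  rw [← h1]
  exact ⟨x, hx, rfl⟩

/-- Central elements of a Sylow subgroup which are conjugate in `G` both lie in the commutator
subgroup of the Sylow subgroup, or none does. -/
theorem mem_comm_of_conj [Finite G] (T : Sylow 2 G) {x y g : G}
    (hx : ∀ s ∈ (T : Subgroup G), s * x = x * s) (hy : ∀ s ∈ (T : Subgroup G), s * y = y * s)
    (hg : g * x * g⁻¹ = y) (hxT : x ∈ ⁅(T : Subgroup G), (T : Subgroup G)⁆) :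
    y ∈ ⁅(T : Subgroup G), (T : Subgroup G)⁆ := by
  have hpf : Fact (Nat.Prime 2) := ⟨Nat.prime_two⟩
  obtain ⟨n, hn, hn'⟩ := T.conj_eq_normalizer_conj_of_mem_centralizer x g⁻¹
    (mem_centralizer_iff.mpr hx) (mem_centralizer_iff.mpr (by rw [inv_inv, hg]; exact hy))
  rw [inv_inv, hg] at hn'
  have h1 := comm_conj_mem (T := (T : Subgroup G)) (n := n⁻¹) (inv_mem hn) hxT
  rw [inv_inv] at h1
  rw [hn']
  exact h1

theorem exists_comm_center {T : Subgroup G} (hT : IsPGroup 2 T) [Finite G]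
    (hnab : ¬ ∀ x ∈ T, ∀ y ∈ T, x * y = y * x) :
    ∃ e ∈ ⁅T, T⁆, e ≠ 1 ∧ e ∈ T ∧ ∀ y ∈ T, y * e = e * y := by
  have hpf : Fact (Nat.Prime 2) := ⟨Nat.prime_two⟩
  have hN : Group.IsNilpotent T := hT.isNilpotent
  have hne : _root_.commutator T ≠ ⊥ := by
    intro hb
    apply hnab
    intro x hx y hy
    have h1 : ⁅(⟨x, hx⟩ : T), (⟨y, hy⟩ : T)⁆ ∈ _root_.commutator T :=
      Subgroup.commutator_mem_commutator (mem_top _) (mem_top _)
    rw [hb, mem_bot, commutatorElement_eq_one_iff_mul_comm] at h1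
    exact congrArg Subtype.val h1
  have h2 := Cfsg.Agent.Lib.NormalAbelian.normal_inf_center_ne_bot (_root_.commutator T) hne
  obtain ⟨⟨e, he⟩, he1⟩ := Subgroup.ne_bot_iff_exists_ne_one.mp h2
  refine ⟨e.1, ?_, fun h => he1 (Subtype.ext (Subtype.ext h)), e.2, fun y hy => ?_⟩
  · have h3 : (_root_.commutator T).map T.subtype = ⁅T, T⁆ := by
      rw [_root_.commutator_def, Subgroup.map_commutator, ← MonoidHom.range_eq_map,
        Subgroup.range_subtype]
    rw [← h3]
    exact ⟨e, he.1, rfl⟩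
  · exact (congrArg Subtype.val (mem_center_iff.mp he.2 ⟨y, hy⟩))

/-- A nontrivial normal subgroup of a 2-group contains a central involution. -/
theorem exists_central_involution [Finite G] {T E : Subgroup G} (hT : IsPGroup 2 T) (hET : E ≤ T)
    (hn : ∀ x ∈ T, ∀ e ∈ E, x * e * x⁻¹ ∈ E) (hE : E ≠ ⊥) :
    ∃ e ∈ E, orderOf e = 2 ∧ ∀ y ∈ T, y * e = e * y := by
  have hpf : Fact (Nat.Prime 2) := ⟨Nat.prime_two⟩
  have hN : Group.IsNilpotent T := hT.isNilpotent
  have h1 : (E.subgroupOf T).Normal := Subgroup.normal_subgroupOf_of_le_normalizer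
    fun x hx => mem_normalizer_of_forall (hn x hx)
  have hne : E.subgroupOf T ≠ ⊥ := by
    intro hb
    apply hE
    have h3 := congrArg (Subgroup.map T.subtype) hb
    rwa [Subgroup.subgroupOf_map_subtype, Subgroup.map_bot, inf_eq_left.mpr hET] at h3
  have h2 := Cfsg.Agent.Lib.NormalAbelian.normal_inf_center_ne_bot (E.subgroupOf T) hne
  have h5 : IsPGroup 2 (E.subgroupOf T ⊓ center T : Subgroup T) := hT.to_subgroup _
  have h6 := (Subgroup.nontrivial_iff_ne_bot _).mpr h2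
  obtain ⟨n, hn0, hn'⟩ := h5.nontrivial_iff_card.mp h6
  obtain ⟨⟨z, hzS⟩, hz, hz2⟩ := exists_involution
    (H := (E.subgroupOf T ⊓ center T : Subgroup T))
    (by rw [hn']; exact (Nat.even_pow.mpr ⟨even_two, Nat.pos_iff_ne_zero.mp hn0⟩))
  rw [Subgroup.orderOf_mk] at hz2
  exact ⟨z, hz.1, hz2, fun y hy => (congrArg Subtype.val (mem_center_iff.mp hz.2 ⟨y, hy⟩))⟩

/-! ### Products, index two, orbits -/

theorem mem_sup_iff [Finite G] {E S : Subgroup G} (h : ∀ s ∈ S, ∀ e ∈ E, s * e * s⁻¹ ∈ E) {x : G} :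
    x ∈ E ⊔ S ↔ ∃ e ∈ E, ∃ s ∈ S, x = e * s := by
  have h1 : S ≤ normalizer (E : Set G) := fun s hs => mem_normalizer_of_forall (h s hs)
  have h2 := coe_mul_of_right_le_normalizer_left E S h1
  rw [← SetLike.mem_coe, h2, Set.mem_mul]
  constructor
  · rintro ⟨e, he, s, hs, rfl⟩
    exact ⟨e, he, s, hs, rfl⟩
  · rintro ⟨e, he, s, hs, rfl⟩
    exact ⟨e, he, s, hs, rfl⟩

theorem zpow_conj_mem {E : Subgroup G} {φ : G} [Finite G] (h : ∀ e ∈ E, φ * e * φ⁻¹ ∈ E) (j : ℤ) :
    ∀ e ∈ E, φ ^ j * e * (φ ^ j)⁻¹ ∈ E :=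
  forall_of_mem_normalizer (zpow_mem (mem_normalizer_of_forall h) j)

theorem mem_sup_zpowers_iff [Finite G] {E : Subgroup G} {φ : G} (h : ∀ e ∈ E, φ * e * φ⁻¹ ∈ E)
    {x : G} : x ∈ E ⊔ zpowers φ ↔ ∃ e ∈ E, ∃ j : ℤ, x = e * φ ^ j := by
  rw [mem_sup_iff]
  · constructor
    · rintro ⟨e, he, _, ⟨j, rfl⟩, rfl⟩
      exact ⟨e, he, j, rfl⟩
    · rintro ⟨e, he, j, rfl⟩
      exact ⟨e, he, _, ⟨j, rfl⟩, rfl⟩
  · rintro _ ⟨j, rfl⟩
    exact zpow_conj_mem h j

theorem card_mul_relIndex {H K : Subgroup G} (h : H ≤ K) :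
    Nat.card H * H.relIndex K = Nat.card K := by
  have := Subgroup.relIndex_mul_relIndex ⊥ H K bot_le h
  rwa [relIndex_bot_left, relIndex_bot_left] at this

theorem relIndex_eq_two {T T₁ : Subgroup G} {a : G} (haT : a ∈ T) (ha : a ∉ T₁)
    (h : ∀ b ∈ T, b ∉ T₁ → b * a ∈ T₁) : T₁.relIndex T = 2 := by
  rw [relIndex_eq_two_iff]
  refine ⟨a, haT, fun b hb => ?_⟩
  by_cases hb1 : b ∈ T₁
  · right; exact ⟨hb1, fun h' => ha ((Subgroup.mul_mem_cancel_left T₁ hb1).mp h')⟩
  · left; exact ⟨h b hb hb1, hb1⟩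

theorem card_le_two_mul [Finite G] {A B : Subgroup G}
    (h : ∀ x ∈ A, ∀ y ∈ A, x ∉ B → y ∉ B → x * y ∈ B) :
    Nat.card A ≤ 2 * Nat.card (A ⊓ B : Subgroup G) := by
  classical
  by_cases hAB : A ≤ B
  · rw [inf_eq_left.mpr hAB]
    omega
  · obtain ⟨a, haA, haB⟩ := SetLike.not_le_iff_exists.mp hAB
    have h1 : Nat.card A ≤ Nat.card ((A ⊓ B : Subgroup G) ⊕ (A ⊓ B : Subgroup G)) := by
      refine Nat.card_le_card_of_injective
        (fun x : A => if hx : x.1 ∈ B then Sum.inl ⟨x.1, x.2, hx⟩ else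
          Sum.inr ⟨a * x.1, A.mul_mem haA x.2, h a haA x.1 x.2 haB hx⟩) ?_
      intro x y hxy
      by_cases hx : x.1 ∈ B <;> by_cases hy : y.1 ∈ B
      · simp only [hx, hy, dif_pos, Sum.inl.injEq] at hxy
        exact Subtype.ext (Subtype.mk.inj hxy)
      · simp only [hx, hy, dif_pos, dif_neg, not_false_iff, reduceCtorEq] at hxy
      · simp only [hx, hy, dif_pos, dif_neg, not_false_iff, reduceCtorEq] at hxy
      · simp only [hx, hy, dif_neg, not_false_iff, Sum.inr.injEq] at hxy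
        have h2 : a * x.1 = a * y.1 := Subtype.mk.inj hxy
        exact Subtype.ext (mul_left_cancel h2)
    rw [Nat.card_sum] at h1
    omega

/-! ### Sylow subgroups of centralizers -/

theorem card_le_sylow [Finite G] (T : Sylow 2 G) {Q : Subgroup G} (hQ : IsPGroup 2 Q) :
    Nat.card Q ≤ Nat.card (T : Subgroup G) := by
  have hpf : Fact (Nat.Prime 2) := ⟨Nat.prime_two⟩
  obtain ⟨S, hS⟩ := hQ.exists_le_sylow
  refine (Subgroup.card_le_of_le hS).trans ?_
  exact (Nat.card_congr (S.equiv T).toEquiv).le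

/-- If `v = geg⁻¹` with `e` central in the Sylow subgroup `T`, then each 2-subgroup of `C(v)` lies in
`g'Tg'⁻¹` for some `g'` with `v = g'eg'⁻¹`. -/
theorem exists_conj_le [Finite G] (T : Sylow 2 G) {e v g : G}
    (he : ∀ x ∈ (T : Subgroup G), x * e = e * x) (hg : g * e * g⁻¹ = v) {Q : Subgroup G}
    (hQ : IsPGroup 2 Q) (hQv : ∀ x ∈ Q, x * v = v * x) :
    ∃ g' : G, g' * e * g'⁻¹ = v ∧ ∀ x ∈ Q, g'⁻¹ * x * g' ∈ (T : Subgroup G) := by
  have h1 : cj g (T : Subgroup G) ≤ centralizer ({v} : Set G) := by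
    rintro _ ⟨x, hx, rfl⟩
    rw [mem_centralizer_singleton_iff, ← hg]
    simp only [MulEquiv.coe_toMonoidHom, MulAut.conj_apply]
    have := he x hx
    calc g * x * g⁻¹ * (g * e * g⁻¹) = g * (x * e) * g⁻¹ := by group
      _ = g * (e * x) * g⁻¹ := by rw [this]
      _ = _ := by group
  have h2 : IsSyl2 (centralizer ({v} : Set G)) (cj g (T : Subgroup G)) := by
    refine ⟨h1, T.isPGroup'.map _, fun Y hY hY2 hle => ?_⟩
    refine (Subgroup.eq_of_le_of_card_ge hle ?_).symm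
    rw [card_cj]
    exact card_le_sylow T hY2
  have h3 : Q ≤ centralizer ({v} : Set G) := fun x hx =>
    mem_centralizer_singleton_iff.mpr (hQv x hx)
  obtain ⟨S, hS, hQS⟩ := Cfsg.Agent.LieExceptional.CITBasic.exists_isSyl2 _ Q h3 hQ
  obtain ⟨c, hc, hcS⟩ := Cfsg.Agent.LieExceptional.CITBasic.IsSyl2.conj h2 hS
  have hcv := mem_centralizer_singleton_iff.mp hc
  refine ⟨c * g, ?_, fun x hx => ?_⟩
  · calc c * g * e * (c * g)⁻¹ = c * (g * e * g⁻¹) * c⁻¹ := by group
      _ = v := by rw [hg, hcv]; group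
  · have h4 : x ∈ cj c (cj g (T : Subgroup G)) := by
      have := hQS hx
      rw [hcS] at this
      exact this
    rw [← cj_mul, mem_cj] at h4
    exact h4

end Cfsg.Agent.OddCyclic.CaseATools
end
end

-- part: OddCyclic/CaseAPumpL2
section
prune_inst 0x302047006520020000000002200001203000000000400001806001000809c000000208000a000112186080802004002002000010401000000a0000000a0001208020d204927c0d04260009801004000000000000000000000000000000000000000000000
set_option linter.all false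
open scoped Cfsg.Agent.FastGrp

/-!
# S0342, case A, [A-h1]: pump-ups of `PSL(2,q₀)`

`card_eq`: let `G` have cyclic odd Sylow subgroups and let all proper quasisimple subgroups be covers of groups of the
list `KZero`. If an involution `t` normalises the quasisimple `J ≠ G` and `L ≅ PSL(2,q₀)`, `q = q₀² ≥ 16` even, `L ≠ J`
is a subgroup of `C_J(t)` normalised by `C_J(t)`, then `|J| = q(q² - 1)`, or `q = 16` and `|J| = |J₁|`.
-/

set_option autoImplicit false

namespace Cfsg.Agent.OddCyclic.CaseAPumpL2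

open Subgroup Cfsg.Agent.OddCyclic.T1Defs Cfsg.Agent.OddCyclic.PumpMain
open Cfsg.Agent.OddCyclic.CompBasic Cfsg.Agent.OddCyclic.CompStandard
open scoped commutatorElement

/-- a group with the local structure of `J₁` has its order -/
theorem card_local {S : Type*} [Group S] [Finite S] (h : SporRec.J1.Defs.Local S) {k : S} (hk : orderOf k = 2) :
    Nat.card S = 175560 := by
  obtain ⟨φ⟩ := SporRec.J1.Main.iso_of_local h k hk
  exact (Nat.card_congr φ.toEquiv).trans SporadicB.J1.Main.isJ1.2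

/-- involutory automorphisms of `PSL(2,2^f)` with a nontrivial perfect subgroup of fixed points -/
theorem exists_fix_two {S : Type*} [Group S] {F : Type} [Field F] [Fintype F] {f : ℕ} (hF : Fintype.card F = 2 ^ f)
    (e : S ≃* Matrix.ProjectiveSpecialLinearGroup (Fin 2) F) {α : MulAut S} (hα : α ≠ 1) (hα2 : ∀ z, α (α z) = z)
    {H : Subgroup S} (hH : PF α H) (hne : H ≠ ⊥) :
    ∃ (K : Type) (_ : Field K) (_ : Fintype K) (m : ℕ) (A : Subgroup S),
      Fintype.card F = Fintype.card K ^ 2 ∧ Fintype.card K = 2 ^ m ∧ 4 ≤ Fintype.card K ∧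
      Nonempty (A ≃* Matrix.SpecialLinearGroup (Fin 2) K) ∧ ∀ x, α x = x ↔ x ∈ A := by
  have hchar := charP_two hF
  obtain ⟨e'⟩ := WeakTI.PslTwo.nonempty_equiv (F := F)
  let π : Matrix.SpecialLinearGroup (Fin 2) F →* S := (e'.trans e.symm).toMonoidHom
  have hπ : Function.Bijective π := (e'.trans e.symm).bijective
  have hk : π.ker ≤ Subgroup.center (Matrix.SpecialLinearGroup (Fin 2) F) := by
    rw [(MonoidHom.ker_eq_bot_iff π).mpr hπ.1]
    exact bot_le
  by_cases hg : ∃ g : Matrix.GeneralLinearGroup (Fin 2) F,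
      ∀ x, α (π x) = π (Cfsg.Agent.Lib.SL2Mat.conjGL g x)
  · obtain ⟨g, hg⟩ := hg
    exact absurd (PumpPsl.eq_bot_of_gl hπ.2 hk hα hg hH.fix hH.perf) hne
  · obtain ⟨K, φ, hK, hφ, hfix⟩ := PumpPsl.exists_fix hπ hα2 hg
    have hKf : Finite K := inferInstance
    let _ := Fintype.ofFinite K
    rw [Nat.card_eq_fintype_card, Nat.card_eq_fintype_card] at hK
    obtain ⟨m, hm, hKm⟩ := (Nat.dvd_prime_pow Nat.prime_two).mp
      (show Fintype.card K ∣ 2 ^ f by rw [← hF, hK]; exact dvd_pow_self _ (by norm_num))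
    have hK1 : 1 < Fintype.card K := Fintype.one_lt_card
    rcases Nat.lt_or_ge 1 m with h | h
    · have h4 : 4 ≤ Fintype.card K := by
        rw [hKm]
        calc 4 = 2 ^ 2 := by norm_num
          _ ≤ 2 ^ m := Nat.pow_le_pow_right (by norm_num) h
      exact ⟨K, inferInstance, inferInstance, m, φ.range, hK, hKm, h4, ⟨(MonoidHom.ofInjective hφ).symm⟩,
        hfix⟩
    · exfalso
      apply hne
      have hK2 : Fintype.card K = 2 := by
        have : m = 0 ∨ m = 1 := by omega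
        rcases this with rfl | rfl
        · rw [hKm] at hK1
          norm_num at hK1
        · simpa using hKm
      have hle : H ≤ φ.range := fun x hx => (hfix x).mp (hH.fix x hx)
      have h6 : Nat.card φ.range = 6 := by
        rw [← Nat.card_congr (MonoidHom.ofInjective hφ).toEquiv, ClassicalGeometry.PSL2Basic.card_SL2, hK2]
        norm_num
      have h7 : Nat.card H ∣ 6 := by
        rw [← h6]
        exact Subgroup.card_dvd_of_le hle
      have hsq : Squarefree (Nat.card H) := by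
        have : Squarefree 6 := by decide +kernel
        exact this.squarefree_of_dvd h7
      have hfin : Finite H := Nat.finite_of_card_ne_zero (fun h0 => by rw [h0] at h7; norm_num at h7)
      have := IsZGroup.of_squarefree hsq
      exact Cfsg.Agent.Schreier.Basic.eq_bot_of_perfect_of_solvable hH.perf inferInstance

theorem cube_inj {a b : ℕ} (ha : 1 ≤ a) (hb : 1 ≤ b) (h : a * (a ^ 2 - 1) = b * (b ^ 2 - 1)) (ha4 : 4 ≤ a) :
    a = b := by
  have h1 : 1 ≤ a ^ 2 := Nat.one_le_pow _ _ ha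
  have h2 : 1 ≤ b ^ 2 := Nat.one_le_pow _ _ hb
  zify [h1, h2] at h ⊢
  have ha' : (4 : ℤ) ≤ a := by exact_mod_cast ha4
  have hb' : (1 : ℤ) ≤ b := by exact_mod_cast hb
  have h3 : ((a : ℤ) - b) * (a ^ 2 + a * b + b ^ 2 - 1) = 0 := by linear_combination h
  rcases mul_eq_zero.mp h3 with h4 | h4
  · linarith
  · exfalso
    nlinarith

universe u

variable {G : Type u} [Group G] [Finite G]

/-- **[A-h1]** -/
theorem card_eq (hG : OddCyc G)
    (hk : ∀ J : Subgroup G, J ≠ ⊤ → IsQuasisimple J → KZero (J ⧸ center J)) {J L : Subgroup G} {t : G}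
    (ht : orderOf t = 2) (hJt : J ≠ ⊤) (hJ : IsQuasisimple J) (htJ : t ∈ normalizer (J : Set G)) (hLJ : L ≤ J)
    (hne : L ≠ J) (hLt : ∀ x ∈ L, x * t = t * x) (hn : ∀ y ∈ J, y * t = t * y → ∀ x ∈ L, y * x * y⁻¹ ∈ L)
    {F₀ : Type*} [Field F₀] [Fintype F₀] {q f : ℕ} (hF : Fintype.card F₀ = 2 ^ f) (hq : q = Fintype.card F₀ ^ 2)
    (h16 : 16 ≤ q) (e : L ≃* Matrix.ProjectiveSpecialLinearGroup (Fin 2) F₀) :
    Nat.card J = q * (q ^ 2 - 1) ∨ (q = 16 ∧ Nat.card J = 175560) := by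
  have h4 : 4 ≤ Fintype.card F₀ := by
    by_contra h
    have : Fintype.card F₀ ≤ 3 := by omega
    have : Fintype.card F₀ ^ 2 ≤ 3 ^ 2 := Nat.pow_le_pow_left this 2
    omega
  have hLs : IsSimpleGroup L := by
    have := TwoFusion.SLTwoFacts.isSimpleGroup_psl (F := F₀) (by omega)
    exact e.isSimpleGroup
  have heven : Even (Fintype.card F₀) := by
    rw [hF]
    have : f ≠ 0 := by
      rintro rfl
      rw [hF] at h4
      norm_num at h4
    exact (even_two.pow_of_ne_zero this)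
  have hLc : Nat.card L = Fintype.card F₀ * (Fintype.card F₀ ^ 2 - 1) := by
    rw [Nat.card_congr e.toEquiv]
    exact ClassicalGeometry.PSL2Basic.card_PSL2_even F₀ heven
  have hJc : OddCyc J := oddCyc_subgroup hG J
  -- `L` is perfect and not trivial
  have hLnc : ¬ ∀ a b : L, a * b = b * a := by
    intro hc
    let _ : CommGroup L := { (inferInstance : Group L) with mul_comm := hc }
    have h2 : (Nat.card L).Prime := IsSimpleGroup.prime_card
    rw [hLc] at h2
    have h3 : ¬ (Fintype.card F₀ * (Fintype.card F₀ ^ 2 - 1)).Prime := by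
      apply Nat.not_prime_mul
      · omega
      · have : 4 ^ 2 ≤ Fintype.card F₀ ^ 2 := Nat.pow_le_pow_left h4 2
        omega
    exact h3 h2
  have hLp : ⁅L, L⁆ = L := by
    have h1 : (commutator L).Normal := inferInstance
    rcases h1.eq_bot_or_eq_top with h2 | h2
    · exfalso
      apply hLnc
      rw [_root_.commutator_def, Subgroup.commutator_eq_bot_iff_le_centralizer] at h2
      exact fun a b => (mem_centralizer_iff.mp (h2 (mem_top b)) a (Set.mem_univ _))
    · have h3 := congrArg (Subgroup.map L.subtype) h2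
      rwa [_root_.commutator_def, Subgroup.map_commutator, ← MonoidHom.range_eq_map, Subgroup.range_subtype] at h3
  have hLnb : L ≠ ⊥ := by
    rintro rfl
    obtain ⟨a, ha⟩ := exists_ne (1 : (⊥ : Subgroup G))
    exact ha (Subsingleton.elim _ _)
  -- the automorphism
  let β : MulAut J := J.normalizerMonoidHom ⟨t, htJ⟩
  have hβ : ∀ x : J, ((β x : J) : G) = t * x * t⁻¹ := fun x => rfl
  have htt : t * t = 1 := by
    rw [← pow_two, ← ht, pow_orderOf_eq_one]
  have hβ2 : ∀ x, β (β x) = x := by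
    intro x
    apply Subtype.ext
    rw [hβ, hβ]
    calc t * (t * x * t⁻¹) * t⁻¹ = (t * t) * x * (t * t)⁻¹ := by group
      _ = x := by rw [htt]; simp
  have hLnc' : ¬ L.subgroupOf J ≤ center J := by
    intro h2
    apply hLnc
    intro a b
    apply Subtype.ext
    have h3 := mem_center_iff.mp (h2 (show (⟨(b : G), hLJ b.2⟩ : J) ∈ L.subgroupOf J from b.2)) ⟨a, hLJ a.2⟩
    exact congrArg (fun x : J => (x : G)) h3
  have hβ1 : β ≠ 1 := by
    intro h1
    have hcomm : ∀ y ∈ J, y * t = t * y := by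
      intro y hy
      have h2 : ((β ⟨y, hy⟩ : J) : G) = y := by rw [h1]; rfl
      rw [hβ] at h2
      exact (mul_inv_eq_iff_eq_mul.mp h2).symm
    have hnorm : (L.subgroupOf J).Normal := by
      refine ⟨fun x hx y => ?_⟩
      exact hn y y.2 (hcomm y y.2) x hx
    rcases SignalizersComponents.Components.quasisimple_normal hJ _ hnorm with h2 | h2
    · rw [Subgroup.subgroupOf_eq_top] at h2
      exact hne (le_antisymm hLJ h2)
    · exact hLnc' h2
  set α : MulAut (J ⧸ center J) := ThreePrime.AutQuot.autQuot J β with hα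
  have hα1 : α ≠ 1 := fun h1 => hβ1 (ThreePrime.AutQuot.eq_one_of_autQuot_eq_one hJ.1 h1)
  have hα2 : ∀ z, α (α z) = z := by
    intro z
    obtain ⟨x, rfl⟩ := QuotientGroup.mk_surjective z
    rw [hα, ThreePrime.AutQuot.autQuot_mk, ThreePrime.AutQuot.autQuot_mk, hβ2]
  have hαπ : ∀ x : J, α (QuotientGroup.mk' (center J) x) = QuotientGroup.mk' (center J) (β x) := fun x => by
    rw [hα]
    exact ThreePrime.AutQuot.autQuot_mk _ _
  -- the image of `L`
  let H : Subgroup (J ⧸ center J) := (L.subgroupOf J).map (QuotientGroup.mk' (center J))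
  have hLJp : ⁅L.subgroupOf J, L.subgroupOf J⁆ = L.subgroupOf J := by
    apply Subgroup.map_injective J.subtype_injective
    rw [Subgroup.map_commutator, Subgroup.map_subgroupOf_eq_of_le hLJ, hLp]
  have hH : PF α H := by
    refine ⟨?_, Schreier.Basic.map_perfect _ hLJp⟩
    rintro _ ⟨x, hx, rfl⟩
    rw [hαπ]
    congr 1
    apply Subtype.ext
    rw [hβ, ← hLt x hx, mul_inv_cancel_right]
  have hHne : H ≠ ⊥ := by
    intro h1
    apply hLnc'
    intro x hx
    have h3 : (QuotientGroup.mk' (center J)) x ∈ H := ⟨x, hx, rfl⟩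
    rw [h1, mem_bot, ← MonoidHom.mem_ker, QuotientGroup.ker_mk'] at h3
    exact h3
  have hs : IsSimpleGroup (J ⧸ center J) := hJ.2
  -- the order of `H`
  have hcardH : center J = ⊥ → Nat.card H = Nat.card L := by
    intro hc
    have hinj : Function.Injective (QuotientGroup.mk' (center J)) := by
      rw [← MonoidHom.ker_eq_bot_iff, QuotientGroup.ker_mk', hc]
    rw [Subgroup.card_map_of_injective hinj]
    exact Nat.card_congr (Subgroup.subgroupOfEquivOfLe hLJ).toEquiv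
  have hcardJ : center J = ⊥ → Nat.card (J ⧸ center J) = Nat.card J := by
    intro hc
    rw [hc]
    exact (Nat.card_congr (QuotientGroup.quotientBot (G := J)).toEquiv)
  rcases hk J hJt hJ with ⟨F, _, _, hFp, -, ⟨e2⟩⟩ | ⟨F, _, _, f2, hf2, hF2, ⟨e2⟩⟩ | h | ⟨h, k, hko⟩
  · exact absurd (triv_of_prime hFp e2 α hα1 hα2 H hH) hHne
  · left
    obtain ⟨K, _, _, m, A, hKF, hKm, hK4, ⟨eA⟩, hA⟩ := exists_fix_two hF2 e2 hα1 hα2 hH hHne
    have hF4 : 4 < Fintype.card F := by
      rw [hKF]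
      nlinarith
    have hc := center_eq_bot_of_two hJc hJ.1 hF2 hF4 e2
    have hinj : Function.Injective (QuotientGroup.mk' (center J)) := by
      rw [← MonoidHom.ker_eq_bot_iff, QuotientGroup.ker_mk', hc]
    have hHA : H ≤ A := fun x hx => (hA x).mp (hH.fix x hx)
    have hnorm : (H.subgroupOf A).Normal := by
      refine ⟨?_⟩
      rintro ⟨x, hxA⟩ ⟨x', hx', hxx⟩ ⟨a, ha⟩
      obtain ⟨y, rfl⟩ := QuotientGroup.mk'_surjective (center J) a
      have h1 := (hA _).mpr ha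
      rw [hαπ] at h1
      have h2 := hinj h1
      have h3 : (y : G) * t = t * y := by
        have h4 := congrArg Subtype.val h2
        rw [hβ] at h4
        exact (mul_inv_eq_iff_eq_mul.mp h4).symm
      refine ⟨y * x' * y⁻¹, hn y y.2 h3 x' hx', ?_⟩
      rw [map_mul, map_mul, map_inv, hxx]
      rfl
    have hcharK := charP_two hKm
    have hAs : IsSimpleGroup A := by
      obtain ⟨e3⟩ := WeakTI.PslTwo.nonempty_equiv (F := K)
      have := TwoFusion.SLTwoFacts.isSimpleGroup_psl (F := K) (by omega)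
      exact (eA.trans e3).isSimpleGroup
    have hHA' : H = A := by
      rcases hnorm.eq_bot_or_eq_top with h5 | h5
      · rw [Subgroup.subgroupOf_eq_bot] at h5
        exact absurd (disjoint_self.mp (h5.mono_right hHA)) hHne
      · rw [Subgroup.subgroupOf_eq_top] at h5
        exact le_antisymm hHA h5
    have hcA : Nat.card A = Fintype.card K * (Fintype.card K ^ 2 - 1) := by
      rw [Nat.card_congr eA.toEquiv, ClassicalGeometry.PSL2Basic.card_SL2]
    have h6 : Fintype.card K * (Fintype.card K ^ 2 - 1) = Fintype.card F₀ * (Fintype.card F₀ ^ 2 - 1) := by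
      rw [← hcA, ← hHA', hcardH hc, hLc]
    have h7 := cube_inj (by omega) (by omega) h6 hK4
    have h8 : Even (Fintype.card F) := by
      rw [hF2]
      exact even_two.pow_of_ne_zero (by omega)
    rw [← hcardJ hc, Nat.card_congr e2.toEquiv, ClassicalGeometry.PSL2Basic.card_PSL2_even F h8, hKF, h7, ← hq]
  · exact absurd (triv_of_suzuki h α hα1 hα2 H hH) hHne
  · right
    have hc := center_eq_bot_of_local hJc hJ.1 h hko
    obtain ⟨A, ⟨eA⟩, h1, h2⟩ := PumpJOne.exists_fix_local h hko hα1 hα2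
    have hHA : H ≤ A := h2 H hH.fix hH.perf
    have hcA : Nat.card A = 60 := by
      rw [Nat.card_congr eA.toEquiv, nat_card_alternatingGroup]
      simp [Nat.factorial]
    have h60 : Nat.card L ∣ 60 := by
      rw [← hcardH hc, ← hcA]
      exact Subgroup.card_dvd_of_le hHA
    have h60' := Nat.le_of_dvd (by norm_num) h60
    have hF4 : Fintype.card F₀ = 4 := by
      by_contra h5
      have h6 : 5 ≤ Fintype.card F₀ := by omega
      have h7 : 5 ^ 2 ≤ Fintype.card F₀ ^ 2 := Nat.pow_le_pow_left h6 2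
      have h8 : 5 * (5 ^ 2 - 1) ≤ Fintype.card F₀ * (Fintype.card F₀ ^ 2 - 1) :=
        Nat.mul_le_mul h6 (Nat.sub_le_sub_right h7 1)
      rw [hLc] at h60'
      norm_num at h8
      omega
    refine ⟨by rw [hq, hF4]; norm_num, ?_⟩
    rw [← hcardJ hc]
    exact card_local h hko

end Cfsg.Agent.OddCyclic.CaseAPumpL2
end

-- part: OddCyclic/T1Tools
section
set_option linter.all false
open scoped Cfsg.Agent.FastGrp

/-!
# S0342, no elements of order 6: tools for the pieces M and N (blueprints/S0342-T0eq1.md, 4.3 and 4.4)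
-/

set_option autoImplicit false
set_option linter.unusedSectionVars false
open Cfsg

namespace Cfsg.Agent.OddCyclic.T1Tools

open Cfsg.Agent.LieExceptional.CITDefs Cfsg.Agent.LieExceptional.CITBasic Cfsg.Agent.OddCyclic.T1Defs
open Cfsg.Agent.LieExceptional
open Subgroup

/-! ### counting -/

section count

variable {G : Type*} [Group G]

theorem card_subgroupOf {H K : Subgroup G} (h : H ≤ K) : Nat.card (H.subgroupOf K) = Nat.card H :=
  Nat.card_congr (Subgroup.subgroupOfEquivOfLe h).toEquiv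

theorem card_mul_relIndex {H K : Subgroup G} (h : H ≤ K) :
    Nat.card H * H.relIndex K = Nat.card K := by
  rw [Subgroup.relIndex, ← card_subgroupOf h]
  exact Subgroup.card_mul_index _

/-- `|K H| |K ∩ H| = |K| |H|` -/
theorem card_sup_mul [Finite G] {K H : Subgroup G} (h : H ≤ normalizer (K : Set G)) :
    Nat.card (K ⊔ H : Subgroup G) * Nat.card (K ⊓ H : Subgroup G) = Nat.card K * Nat.card H := by
  have hKn : (K.subgroupOf (K ⊔ H)).Normal :=
    normal_subgroupOf_of_le_normalizer (sup_le le_normalizer h)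
  have h1 := relIndex_sup_left (H.subgroupOf (K ⊔ H)) (K.subgroupOf (K ⊔ H))
  rw [← Subgroup.subgroupOf_sup le_sup_left le_sup_right, Subgroup.subgroupOf_self,
    Subgroup.relIndex_subgroupOf le_sup_right, relIndex_top_right] at h1
  have h2 : Nat.card K * K.relIndex H = Nat.card (K ⊔ H : Subgroup G) := by
    rw [← h1]
    exact card_mul_relIndex le_sup_left
  have h3 : Nat.card (K ⊓ H : Subgroup G) * K.relIndex H = Nat.card H := by
    rw [← inf_relIndex_right]
    exact card_mul_relIndex inf_le_right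
  rw [← h2, ← h3]
  ring

/-- If `A` and `B` are subgroups of `X` with `|X| ≤ n |A|` then `|B| ≤ n |A ∩ B|`. -/
theorem card_le_inf [Finite G] {A B X : Subgroup G} (hA : A ≤ X) (hB : B ≤ X) {n : ℕ}
    (h : Nat.card X ≤ n * Nat.card A) : Nat.card B ≤ n * Nat.card (A ⊓ B : Subgroup G) := by
  have h1 : A.relIndex X ≤ n := by
    have h2 := card_mul_relIndex hA
    rw [← h2, mul_comm n] at h
    exact Nat.le_of_mul_le_mul_left h Nat.card_pos
  have h2 : (A ⊓ B).relIndex B ≤ A.relIndex X := by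
    rw [inf_relIndex_right]
    exact relIndex_le_of_le_right hB (by
      rw [relIndex]; exact Subgroup.index_ne_zero_of_finite)
  have h3 := card_mul_relIndex (inf_le_right : A ⊓ B ≤ B)
  rw [← h3, mul_comm n]
  exact Nat.mul_le_mul_left _ (h2.trans h1)

end count

/-! ### coprime action -/

section coprime

variable {G : Type*} [Group G] [Finite G]

/-- `[u, y] ∈ C`, `C` a 2-group centralised by `y` of odd order: `y` centralises `u`. -/
theorem commute_of_mem {y u : G} (hodd : Odd (orderOf y)) {C : Subgroup G} (h2 : IsPGroup 2 C)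
    (hC : ∀ c ∈ C, y * c = c * y) (h : y * u * y⁻¹ * u⁻¹ ∈ C) : y * u = u * y := by
  set c : G := y * u * y⁻¹ * u⁻¹ with hc
  have hyc := hC c h
  have h1 : ∀ n : ℕ, y ^ n * u * (y ^ n)⁻¹ = c ^ n * u := by
    intro n
    induction n with
    | zero => simp
    | succ n ih =>
      have hyn : y * c ^ n = c ^ n * y := (Commute.pow_right (show Commute y c from hyc) n).eq
      calc y ^ (n + 1) * u * (y ^ (n + 1))⁻¹ = y * (y ^ n * u * (y ^ n)⁻¹) * y⁻¹ := by
            rw [pow_succ']; group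
        _ = y * (c ^ n * u) * y⁻¹ := by rw [ih]
        _ = (y * c ^ n) * u * y⁻¹ := by group
        _ = c ^ n * (y * u * y⁻¹ * u⁻¹) * u := by rw [hyn]; group
        _ = c ^ (n + 1) * u := by rw [← hc, pow_succ]
  have h3 := h1 (orderOf y)
  rw [pow_orderOf_eq_one, one_mul, inv_one, mul_one] at h3
  have h4 : c ^ orderOf y = 1 := by
    have h4 : c ^ orderOf y * u = 1 * u := by rw [← h3, one_mul]
    exact mul_right_cancel h4
  obtain ⟨k, hk⟩ := h2 ⟨c, h⟩
  have hk' : c ^ 2 ^ k = 1 := congrArg Subtype.val hk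
  have h5 : c = 1 := by
    have h6 := orderOf_dvd_of_pow_eq_one h4
    have h7 := orderOf_dvd_of_pow_eq_one hk'
    have h8 : Nat.Coprime (orderOf y) (2 ^ k) := Nat.Coprime.pow_right k hodd.coprime_two_right
    exact orderOf_eq_one_iff.1 (Nat.eq_one_of_dvd_coprimes h8 h6 h7)
  rw [hc] at h5
  have h6 : y * u * y⁻¹ = u := mul_inv_eq_one.1 h5
  calc y * u = (y * u * y⁻¹) * y := by group
    _ = u * y := by rw [h6]

/-- **Lemma (L)**: a `{2,3}'`-element `y` normalising the 2-group `W` and centralising a subgroup of index `≤ 4`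
of `W` centralises `W`. -/
theorem commute_of_index_le_four {y : G} (hodd : Odd (orderOf y)) (h3 : ¬ 3 ∣ orderOf y)
    {W C : Subgroup G} (hW : IsPGroup 2 W) (hy : ∀ w ∈ W, y * w * y⁻¹ ∈ W) (hCW : C ≤ W)
    (hC : ∀ c ∈ C, y * c = c * y) (hidx : Nat.card W ≤ 4 * Nat.card C) :
    ∀ w ∈ W, y * w = w * y := by
  intro w hw
  have hyn : ∀ n : ℕ, ∀ w ∈ W, y ^ n * w * (y ^ n)⁻¹ ∈ W := by
    intro n
    induction n with
    | zero => intro w hw; simpa using hw
    | succ n ih =>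
      intro w hw
      have e : y ^ (n + 1) * w * (y ^ (n + 1))⁻¹ = y * (y ^ n * w * (y ^ n)⁻¹) * y⁻¹ := by
        rw [pow_succ']; group
      rw [e]
      exact hy _ (ih w hw)
  -- pigeonhole
  have hidx' : Nat.card (W ⧸ C.subgroupOf W) ≤ 4 := by
    have h1 := card_mul_relIndex hCW
    have h2 : C.relIndex W ≤ 4 := by
      rw [← h1, mul_comm 4] at hidx
      exact Nat.le_of_mul_le_mul_left hidx Nat.card_pos
    exact h2
  let f : Fin 5 → W ⧸ C.subgroupOf W := fun i =>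
    QuotientGroup.mk (⟨y ^ (i : ℕ) * w * (y ^ (i : ℕ))⁻¹, hyn i w hw⟩ : W)
  have hnf : ¬ Function.Injective f := by
    intro hf
    have := Nat.card_le_card_of_injective f hf
    rw [Nat.card_eq_fintype_card, Fintype.card_fin] at this
    omega
  have hex : ∃ i j : ℕ, i < j ∧ j ≤ 4 ∧
      (y ^ i * w * (y ^ i)⁻¹)⁻¹ * (y ^ j * w * (y ^ j)⁻¹) ∈ C := by
    rw [Function.Injective] at hnf
    push Not at hnf
    obtain ⟨i, j, hij, hne⟩ := hnf
    have key : ∀ i j : Fin 5, f i = f j →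
        (y ^ (i : ℕ) * w * (y ^ (i : ℕ))⁻¹)⁻¹ * (y ^ (j : ℕ) * w * (y ^ (j : ℕ))⁻¹) ∈ C := by
      intro i j hij
      have h1 : (QuotientGroup.mk (⟨y ^ (i : ℕ) * w * (y ^ (i : ℕ))⁻¹, hyn i w hw⟩ : W) :
          W ⧸ C.subgroupOf W) =
          QuotientGroup.mk (⟨y ^ (j : ℕ) * w * (y ^ (j : ℕ))⁻¹, hyn j w hw⟩ : W) := hij
      have h2 := QuotientGroup.eq.1 h1
      exact h2
    rcases lt_or_gt_of_ne (fun h : (i : ℕ) = j => hne (Fin.ext h)) with h | h
    · exact ⟨i, j, h, by have := j.2; omega, key i j hij⟩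
    · exact ⟨j, i, h, by have := i.2; omega, key j i hij.symm⟩
  obtain ⟨i, j, hij, hj4, hmem⟩ := hex
  obtain ⟨k, rfl⟩ := Nat.exists_eq_add_of_lt hij
  set z : G := y ^ (k + 1) with hz
  have hCn : ∀ n : ℕ, ∀ c ∈ C, y ^ n * c = c * y ^ n := fun n c hc =>
    (Commute.pow_left (show Commute y c from hC c hc) n).eq
  have hzw : z * w⁻¹ * z⁻¹ * w⁻¹⁻¹ ∈ C := by
    set c : G := (y ^ i * w * (y ^ i)⁻¹)⁻¹ * (y ^ (i + k + 1) * w * (y ^ (i + k + 1))⁻¹) with hc
    have h1 : y ^ i * (w⁻¹ * (z * w * z⁻¹)) * (y ^ i)⁻¹ = c := by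
      rw [hc, hz, show i + k + 1 = i + (k + 1) by ring, pow_add]
      group
    have h2 : w⁻¹ * (z * w * z⁻¹) = c := by
      have h3 := hCn i c hmem
      calc w⁻¹ * (z * w * z⁻¹) = (y ^ i)⁻¹ * (y ^ i * (w⁻¹ * (z * w * z⁻¹)) * (y ^ i)⁻¹) * y ^ i := by
            group
        _ = (y ^ i)⁻¹ * (c * y ^ i) := by rw [h1]; group
        _ = (y ^ i)⁻¹ * (y ^ i * c) := by rw [h3]
        _ = c := by group
    have h4 : z * w⁻¹ * z⁻¹ * w⁻¹⁻¹ = (w⁻¹ * (z * w * z⁻¹))⁻¹ := by group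
    rw [h4, h2]
    exact inv_mem hmem
  have hzo : Odd (orderOf z) := Odd.of_dvd_nat hodd (orderOf_pow_dvd _)
  have h5 := commute_of_mem hzo (hW.to_le hCW) (hCn (k + 1)) hzw
  have h6 : Commute w z := by
    have h7 : Commute z w⁻¹ := h5
    exact (Commute.inv_right_iff.1 h7).symm
  have hcop : Nat.Coprime (k + 1) (orderOf y) := by
    have h8 : k + 1 ≤ 4 := by omega
    have h9 : ¬ 2 ∣ orderOf y := hodd.not_two_dvd_nat
    have h10 : Nat.Coprime 2 (orderOf y) := (Nat.Prime.coprime_iff_not_dvd Nat.prime_two).2 h9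
    have h11 : Nat.Coprime 3 (orderOf y) := (Nat.Prime.coprime_iff_not_dvd Nat.prime_three).2 h3
    interval_cases h : k + 1
    · exact absurd h (by omega)
    · exact Nat.coprime_one_left _
    · exact h10
    · exact h11
    · exact Nat.Coprime.mul_left h10 h10
  obtain ⟨m, hm⟩ := exists_pow_eq_self_of_coprime hcop
  have h7 : Commute w (z ^ m) := h6.pow_right m
  rw [hz, hm] at h7
  exact h7.symm.eq

end coprime

/-! ### Case II -/

section caseII

variable {G : Type*} [Group G] [Finite G]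

/-- A Sylow 2-subgroup of `G` is one of every subgroup containing it. -/
theorem isSyl2_of_le {S K : Subgroup G} (h : IsSyl2 (⊤ : Subgroup G) S) (hK : S ≤ K) : IsSyl2 K S :=
  ⟨hK, h.two, fun Y _ h2 h3 => h.max Y le_top h2 h3⟩

theorem mem_normalizer_of_map_eq {S : Subgroup G} {g : G}
    (h : S = S.map (MulAut.conj g).toMonoidHom) : g ∈ normalizer (S : Set G) := by
  rw [mem_normalizer_iff]
  intro x
  constructor
  · intro hx
    rw [h]
    exact ⟨x, hx, rfl⟩
  · intro hx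
    rw [h] at hx
    obtain ⟨y, hy, hyx⟩ := hx
    have h1 : g * y * g⁻¹ = g * x * g⁻¹ := hyx
    have h2 : y = x := mul_left_cancel (mul_right_cancel h1)
    rwa [← h2]

/-- The conjugate of a Sylow 2-subgroup of `G`. -/
theorem isSyl2_map {S K : Subgroup G} (h : IsSyl2 (⊤ : Subgroup G) S) (g : G)
    (hK : S.map (MulAut.conj g).toMonoidHom ≤ K) :
    IsSyl2 K (S.map (MulAut.conj g).toMonoidHom) := by
  refine ⟨hK, h.two.map _, fun Y _ h2 h3 => ?_⟩
  have h4 : S ≤ Y.map (MulAut.conj g⁻¹).toMonoidHom := by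
    intro s hs
    refine ⟨g * s * g⁻¹, h3 ⟨s, hs, rfl⟩, ?_⟩
    show g⁻¹ * (g * s * g⁻¹) * g⁻¹⁻¹ = s
    group
  have h5 := h.max _ le_top (h2.map _) h4
  apply le_antisymm _ h3
  intro y hy
  refine ⟨g⁻¹ * y * g⁻¹⁻¹, ?_, ?_⟩
  · rw [← h5]
    exact ⟨y, hy, rfl⟩
  · show g * (g⁻¹ * y * g⁻¹⁻¹) * g⁻¹ = y
    group

/-- Frattini and minimality: a normal subgroup of `P₂` containing `S` is `P₂`. -/
theorem eq_of_sylow_le {M P Q S P₂ Q₂ : Subgroup G} {q : ℕ} (h : CaseII M P Q S P₂ Q₂ q)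
    {N : Subgroup G} (hN : NormalIn P₂ N) (hS : S ≤ N) : N = P₂ := by
  by_contra hne
  have hNM : N ≤ M := h.min N hS hN.1 hne
  apply h.not_le
  intro g hg
  have h1 : IsSyl2 N S := isSyl2_of_le h.sylow hS
  have h2 : IsSyl2 N (S.map (MulAut.conj g).toMonoidHom) := by
    apply isSyl2_map h.sylow
    rintro _ ⟨s, hs, rfl⟩
    exact hN.2 g hg s (hS hs)
  obtain ⟨m, hm, hmS⟩ := IsSyl2.conj h2 h1
  have h3 : m * g ∈ normalizer (S : Set G) := by
    apply mem_normalizer_of_map_eq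
    rw [Subgroup.map_map] at hmS
    have e : (MulAut.conj (m * g)).toMonoidHom =
        (MulAut.conj m).toMonoidHom.comp (MulAut.conj g).toMonoidHom := by
      ext x
      simp [mul_assoc]
    rw [e]
    exact hmS
  have h4 := M.mul_mem (M.inv_mem (hNM hm)) (h.norm h3)
  rwa [inv_mul_cancel_left] at h4

/-- If `Z = Ω₁(Z(S))` is normal in `P₂`, it is central in `P₂`. -/
theorem central_of_normal {M P Q S P₂ Q₂ : Subgroup G} {q : ℕ} (h : CaseII M P Q S P₂ Q₂ q)
    (hZ : ∀ g ∈ P₂, ∀ z ∈ omegaZ S, g * z * g⁻¹ ∈ omegaZ S) :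
    ∀ g ∈ P₂, ∀ z ∈ omegaZ S, g * z = z * g := by
  have hN : NormalIn P₂ (P₂ ⊓ centralizer (omegaZ S : Set G)) := by
    refine ⟨inf_le_left, fun m hm n hn => mem_inf.2 ⟨P₂.mul_mem (P₂.mul_mem hm hn.1) (P₂.inv_mem hm),
      mem_centralizer_iff.2 fun z hz => ?_⟩⟩
    have hz' : m⁻¹ * z * m ∈ omegaZ S := by
      have := hZ m⁻¹ (inv_mem hm) z hz
      rwa [inv_inv] at this
    have h1 := mem_centralizer_iff.1 hn.2 _ hz'
    calc z * (m * n * m⁻¹) = m * ((m⁻¹ * z * m) * n) * m⁻¹ := by group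
      _ = m * (n * (m⁻¹ * z * m)) * m⁻¹ := by rw [h1]
      _ = m * n * m⁻¹ * z := by group
  have hS : S ≤ P₂ ⊓ centralizer (omegaZ S : Set G) := by
    intro s hs
    refine ⟨h.le hs, mem_centralizer_iff.2 fun z hz => ?_⟩
    exact hz.2.2 s hs
  have h1 := eq_of_sylow_le h hN hS
  intro g hg z hz
  have h2 : g ∈ P₂ ⊓ centralizer (omegaZ S : Set G) := by rw [h1]; exact hg
  exact (mem_centralizer_iff.1 h2.2 z hz).symm

theorem Q₂_le_S {M P Q S P₂ Q₂ : Subgroup G} {q : ℕ} (h : CaseII M P Q S P₂ Q₂ q) : Q₂ ≤ S :=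
  CITNonCommute.o2_le_syl h.o2 (isSyl2_of_le h.sylow h.le)

theorem Q_le_S {M P Q S P₂ Q₂ : Subgroup G} {q : ℕ} (h : CaseII M P Q S P₂ Q₂ q) : Q ≤ S :=
  CITNonCommute.o2_le_syl h.t₁.o2 h.t₁.syl

/-- `Z ≤ Z(Q₂)` -/
theorem Z_le_Q₂ {M P Q S P₂ Q₂ : Subgroup G} {q : ℕ} (h : CaseII M P Q S P₂ Q₂ q) :
    omegaZ S ≤ Q₂ := by
  intro z hz
  exact h.cent z (h.le hz.1) fun x hx => hz.2.2 x (Q₂_le_S h hx)

/-- elements of `S` act on `V` -/
theorem V_conj {M P Q S P₂ Q₂ : Subgroup G} {q : ℕ} (h : CaseII M P Q S P₂ Q₂ q) {m : G}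
    (hm : m ∈ M) {v : G} (hv : v ∈ omegaZ Q) : m * v * m⁻¹ ∈ omegaZ Q :=
  CITFFAux.omegaZ_conj h.t₁.o2.normal m hm v hv

end caseII

end Cfsg.Agent.OddCyclic.T1Tools
end

-- part: OddCyclic/CaseABase
section
set_option linter.all false
open scoped Cfsg.Agent.FastGrp

-- part: OddCyclic/CaseADefs
section
/-!
# S0342, component type, case A: the data

Facts on `K ≅ PSL₂(q)`, `q = 2^f ≥ 4`, in the ambient group `G`, with `M = N(K)`, `Y = C(K)`
(blueprints/S0342-caseA.md, (K1), (K2)).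
-/

set_option autoImplicit false

namespace Cfsg.Agent.OddCyclic.CaseADefs

open Subgroup
open Cfsg.Agent.LieExceptional Cfsg.Agent.LieExceptional.CITDefs
open Cfsg.Agent.OddCyclic.CompStandard

variable {G : Type*} [Group G]

/-- `E` is a Sylow 2-subgroup of `K ≅ PSL₂(q)`, `H` a complement of `E` in its normalizer. -/
structure Borel (K E H : Subgroup G) (q : ℕ) : Prop where
  leE : E ≤ K
  leH : H ≤ K
  elem : Elem E
  cardE : Nat.card E = q
  cardH : Nat.card H = q - 1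
  cyc : IsCyclic H
  norm : ∀ h ∈ H, ∀ e ∈ E, h * e * h⁻¹ ∈ E
  cent : ∀ e ∈ E, e ≠ 1 → ∀ k ∈ K, k * e = e * k → k ∈ E
  /-- `N_K(E) = EH` -/
  nK : ∀ k ∈ K, (∀ e ∈ E, k * e * k⁻¹ ∈ E) → ∃ e ∈ E, ∃ h ∈ H, k = e * h

/-- The facts on `K ≅ PSL₂(q)` used in the counting arguments. -/
structure L2K (K : Subgroup G) (q : ℕ) : Prop where
  four : 4 ≤ q
  pow : ∃ f : ℕ, q = 2 ^ f
  inf : K ⊓ centralizer (K : Set G) = ⊥
  borel : ∀ E : Subgroup G, IsSyl2 K E → ∃ H : Subgroup G, Borel K E H q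
  /-- `C_M(E) = YE` -/
  centE : ∀ E : Subgroup G, IsSyl2 K E → ∀ x ∈ normalizer (K : Set G),
    (∀ e ∈ E, x * e = e * x) → ∃ y ∈ centralizer (K : Set G), ∃ e ∈ E, x = y * e
  /-- the fixed points on `E` of a field automorphism -/
  field : ∀ E : Subgroup G, IsSyl2 K E → ∀ x ∈ normalizer (K : Set G),
    (∀ e ∈ E, x * e * x⁻¹ ∈ E) → (∃ n : ℕ, x ^ 2 ^ n = 1) →
    (∃ y ∈ centralizer (K : Set G), ∃ e ∈ E, x = y * e) ∨
      Nat.card (E ⊓ centralizer ({x} : Set G) : Subgroup G) ^ 2 ≤ q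
  /-- `Out K` has at most one involution -/
  out : ∀ x ∈ normalizer (K : Set G), ∀ y ∈ normalizer (K : Set G),
    x * x ∈ K ⊔ centralizer (K : Set G) → y * y ∈ K ⊔ centralizer (K : Set G) →
    x ∈ K ⊔ centralizer (K : Set G) ∨ y ∈ K ⊔ centralizer (K : Set G) ∨
      x * y ∈ K ⊔ centralizer (K : Set G)

/-- `k = 0` or `q ≥ 16` -/
def Big (K : Subgroup G) (q : ℕ) : Prop :=
  16 ≤ q ∨ ∀ x ∈ normalizer (K : Set G), (∃ n : ℕ, x ^ 2 ^ n = 1) →
    x ∈ K ⊔ centralizer (K : Set G)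

/-- `R ∈ Syl₂(Y)`, `E ∈ Syl₂(K)`, `H` a complement, `V = R × E`; `R` is elementary abelian of order at
most `q` and some conjugate of `R` by an element outside `M` lies in `V`. This is the output of A1. -/
structure Beta (K R E H : Subgroup G) (q : ℕ) : Prop where
  l2 : L2K K q
  big : Big K q
  sylR : IsSyl2 (centralizer (K : Set G)) R
  sylE : IsSyl2 K E
  bor : Borel K E H q
  elemR : Elem R
  cardR : Nat.card R ≤ q
  ex : ∃ g : G, g ∉ normalizer (K : Set G) ∧ cj g R ≤ R ⊔ E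

end Cfsg.Agent.OddCyclic.CaseADefs
end

-- part: OddCyclic/CaseABase
section
/-!
# S0342, component type, case A: tools
-/

set_option autoImplicit false

namespace Cfsg.Agent.OddCyclic.CaseABase

open Subgroup
open Cfsg.Agent.LieExceptional Cfsg.Agent.LieExceptional.CITDefs
open Cfsg.Agent.LieExceptional.CITBasic
open Cfsg.Agent.OddCyclic.T1Tools
open Cfsg.Agent.OddCyclic.CompBasic Cfsg.Agent.OddCyclic.CompStandard
open Cfsg.Agent.OddCyclic.CaseADefs

variable {G : Type*} [Group G]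

/-! ### products of commuting subgroups -/

theorem mem_sup_comm {A B : Subgroup G} (hc : ∀ a ∈ A, ∀ b ∈ B, a * b = b * a) {x : G} :
    x ∈ A ⊔ B ↔ ∃ a ∈ A, ∃ b ∈ B, x = a * b := by
  constructor
  · intro hx
    have hle : A ⊔ B ≤
        { carrier := {x | ∃ a ∈ A, ∃ b ∈ B, x = a * b}
          one_mem' := ⟨1, A.one_mem, 1, B.one_mem, (mul_one 1).symm⟩
          mul_mem' := by
            rintro _ _ ⟨a, ha, b, hb, rfl⟩ ⟨a', ha', b', hb', rfl⟩
            refine ⟨a * a', A.mul_mem ha ha', b * b', B.mul_mem hb hb', ?_⟩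
            calc a * b * (a' * b') = a * (b * a') * b' := by group
              _ = a * (a' * b) * b' := by rw [hc a' ha' b hb]
              _ = a * a' * (b * b') := by group
          inv_mem' := by
            rintro _ ⟨a, ha, b, hb, rfl⟩
            refine ⟨a⁻¹, A.inv_mem ha, b⁻¹, B.inv_mem hb, ?_⟩
            rw [mul_inv_rev, hc _ (A.inv_mem ha) _ (B.inv_mem hb)] } := by
      refine sup_le (fun a ha => ⟨a, ha, 1, B.one_mem, (mul_one a).symm⟩)
        (fun b hb => ⟨1, A.one_mem, b, hb, (one_mul b).symm⟩)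
    exact hle hx
  · rintro ⟨a, ha, b, hb, rfl⟩
    exact Subgroup.mul_mem _ (mem_sup_left ha) (mem_sup_right hb)

theorem card_sup_comm [Finite G] {A B : Subgroup G} (hc : ∀ a ∈ A, ∀ b ∈ B, a * b = b * a)
    (hd : A ⊓ B = ⊥) : Nat.card (A ⊔ B : Subgroup G) = Nat.card A * Nat.card B := by
  have h1 : B ≤ normalizer (A : Set G) := by
    intro b hb
    refine mem_normalizer_of_forall fun a ha => ?_
    rw [← hc a ha b hb, mul_inv_cancel_right]
    exact ha
  have h2 := card_sup_mul (K := A) (H := B) h1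
  rw [hd, Subgroup.card_bot, mul_one] at h2
  exact h2

/-! ### counting -/

theorem card_ne_one [Finite G] (A : Subgroup G) :
    Nat.card {x : A // x ≠ 1} = Nat.card A - 1 := by
  classical
  have h1 := Nat.card_congr (Equiv.sumCompl (fun x : A => x = 1))
  rw [Nat.card_sum] at h1
  have h2 : Nat.card {x : A // x = 1} = 1 := by
    rw [Nat.card_eq_one_iff_unique]
    exact ⟨⟨fun a b => Subtype.ext (a.2.trans b.2.symm)⟩, ⟨⟨1, rfl⟩⟩⟩
  have h3 : Nat.card {x : A // x ≠ 1} = Nat.card {x : A // ¬ x = 1} := rfl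
  omega

theorem sum_card_le [Finite G] {ι : Type*} [Fintype ι] (F : ι → Subgroup G) (V : Subgroup G)
    (hle : ∀ i, F i ≤ V) (hdis : ∀ i j, i ≠ j → ∀ s ∈ F i, s ∈ F j → s = 1) :
    ∑ i, (Nat.card (F i) - 1) ≤ Nat.card V - 1 := by
  classical
  rw [← card_ne_one V]
  have h1 : Nat.card (Σ i : ι, {x : F i // x ≠ 1}) = ∑ i, (Nat.card (F i) - 1) := by
    rw [Nat.card_sigma]
    exact Finset.sum_congr rfl fun i _ => card_ne_one (F i)
  rw [← h1]
  refine Nat.card_le_card_of_injective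
    (fun y : (Σ i : ι, {x : F i // x ≠ 1}) =>
      (⟨⟨(y.2.1 : G), hle y.1 y.2.1.2⟩,
        fun h => y.2.2 (Subtype.ext (congrArg (fun z : V => (z : G)) h :))⟩ :
        {x : V // x ≠ 1})) ?_
  rintro ⟨i, ⟨⟨x, hx⟩, hx1⟩⟩ ⟨j, ⟨⟨y, hy⟩, hy1⟩⟩ hxy
  have h2 : x = y := congrArg (fun z : {x : V // x ≠ 1} => ((z : V) : G)) hxy
  subst h2
  have hij : i = j := by
    by_contra hne
    exact hx1 (Subtype.ext (hdis i j hne x hx hy))
  subst hij
  rfl

/-- The union of the disjoint subgroups `F i`. -/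
theorem card_union [Finite G] {ι : Type*} [Fintype ι] (F : ι → Subgroup G)
    (hdis : ∀ i j, i ≠ j → ∀ s ∈ F i, s ∈ F j → s = 1) :
    Nat.card {x : G // x ≠ 1 ∧ ∃ i, x ∈ F i} = ∑ i, (Nat.card (F i) - 1) := by
  classical
  have h1 : Nat.card (Σ i : ι, {x : F i // x ≠ 1}) = ∑ i, (Nat.card (F i) - 1) := by
    rw [Nat.card_sigma]
    exact Finset.sum_congr rfl fun i _ => card_ne_one (F i)
  rw [← h1]
  symm
  refine Nat.card_eq_of_bijective
    (fun y : (Σ i : ι, {x : F i // x ≠ 1}) =>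
      (⟨(y.2.1 : G), fun h => y.2.2 (Subtype.ext h), y.1, y.2.1.2⟩ :
        {x : G // x ≠ 1 ∧ ∃ i, x ∈ F i})) ⟨?_, ?_⟩
  · rintro ⟨i, ⟨⟨x, hx⟩, hx1⟩⟩ ⟨j, ⟨⟨y, hy⟩, hy1⟩⟩ hxy
    have h2 : x = y := congrArg Subtype.val hxy
    subst h2
    have hij : i = j := by
      by_contra hne
      exact hx1 (Subtype.ext (hdis i j hne x hx hy))
    subst hij
    rfl
  · rintro ⟨x, hx1, i, hx⟩
    exact ⟨⟨i, ⟨⟨x, hx⟩, fun h => hx1 (congrArg Subtype.val h)⟩⟩, rfl⟩

/-! ### 2-groups -/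

theorem isPGroup_two_of_forall [Finite G] {H : Subgroup G}
    (h : ∀ r : ℕ, r.Prime → r ≠ 2 → ∀ x ∈ H, orderOf x ≠ r) : IsPGroup 2 H := by
  have hpf : Fact (Nat.Prime 2) := ⟨Nat.prime_two⟩
  rw [IsPGroup.iff_card]
  refine ⟨_, Nat.eq_prime_pow_of_unique_prime_dvd Nat.card_pos.ne' ?_⟩
  intro r hr hrH
  by_contra hr2
  have hrf : Fact r.Prime := ⟨hr⟩
  obtain ⟨x, hx⟩ := exists_prime_orderOf_dvd_card' r hrH
  refine h r hr hr2 x x.2 ?_
  rw [← hx, Subgroup.orderOf_coe]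

theorem isPGroup_of_elem {A : Subgroup G} (h : Elem A) : IsPGroup 2 A := by
  rintro ⟨x, hx⟩
  refine ⟨1, Subtype.ext ?_⟩
  simp only [pow_one, SubmonoidClass.mk_pow, OneMemClass.coe_one]
  rw [pow_two]
  exact h x hx

theorem isPGroup_cj {g : G} {A : Subgroup G} (h : IsPGroup 2 A) : IsPGroup 2 (cj g A) :=
  h.map _

theorem elem_cj {g : G} {A : Subgroup G} (h : Elem A) : Elem (cj g A) := by
  rintro _ ⟨x, hx, rfl⟩
  simp only [MulEquiv.coe_toMonoidHom, MulAut.conj_apply]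
  have := h x hx
  calc g * x * g⁻¹ * (g * x * g⁻¹) = g * (x * x) * g⁻¹ := by group
    _ = 1 := by rw [this]; group

theorem isSyl2_cj (g : G) {M S : Subgroup G} (h : IsSyl2 M S) : IsSyl2 (cj g M) (cj g S) := by
  refine ⟨cj_mono h.le, isPGroup_cj h.two, fun Z hZ hZ2 hle => ?_⟩
  have h1 : cj g⁻¹ Z ≤ M := by
    have := cj_mono (g := g⁻¹) hZ
    rwa [cj_inv_cj] at this
  have h2 : S ≤ cj g⁻¹ Z := by
    have := cj_mono (g := g⁻¹) hle
    rwa [cj_inv_cj] at this
  have h3 := h.max _ h1 (isPGroup_cj hZ2) h2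
  rw [← h3, cj_cj_inv]

theorem isSyl2_conj [Finite G] {M S T : Subgroup G} (hS : IsSyl2 M S) (hT : IsSyl2 M T) :
    ∃ m ∈ M, T = cj m S := CITBasic.IsSyl2.conj hS hT

theorem isSyl2_card [Finite G] {M S T : Subgroup G} (hS : IsSyl2 M S) (hT : IsSyl2 M T) :
    Nat.card T = Nat.card S := by
  obtain ⟨m, -, rfl⟩ := isSyl2_conj hS hT
  exact card_cj m S

/-- a 2-subgroup of `M` at least as large as a Sylow 2-subgroup is a Sylow 2-subgroup -/
theorem isSyl2_of_card [Finite G] {M S T : Subgroup G} (hS : IsSyl2 M S) (hTM : T ≤ M)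
    (hT : IsPGroup 2 T) (hc : Nat.card S ≤ Nat.card T) : IsSyl2 M T := by
  obtain ⟨Q, hQ, hTQ⟩ := exists_isSyl2 M T hTM hT
  have h1 : T = Q := Subgroup.eq_of_le_of_card_ge hTQ (by rw [isSyl2_card hS hQ]; exact hc)
  rw [h1]; exact hQ

theorem card_le_of_isSyl2 [Finite G] {M S T : Subgroup G} (hS : IsSyl2 M S) (hTM : T ≤ M)
    (hT : IsPGroup 2 T) : Nat.card T ≤ Nat.card S := by
  obtain ⟨Q, hQ, hTQ⟩ := exists_isSyl2 M T hTM hT
  rw [← isSyl2_card hS hQ]
  exact Subgroup.card_le_of_le hTQ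

theorem mem_of_pow_two {P : Subgroup G} (hP : IsPGroup 2 P) {x : G} (hx : x ∈ P) :
    ∃ n : ℕ, x ^ 2 ^ n = 1 := by
  obtain ⟨n, hn⟩ := hP ⟨x, hx⟩
  exact ⟨n, congrArg Subtype.val hn⟩

theorem isPGroup_zpowers_of_pow {x : G} (h : ∃ n : ℕ, x ^ 2 ^ n = 1) : IsPGroup 2 (zpowers x) := by
  obtain ⟨n, hn⟩ := h
  rintro ⟨y, hy⟩
  obtain ⟨k, rfl⟩ := hy
  refine ⟨n, Subtype.ext ?_⟩
  simp only [OneMemClass.coe_one]
  calc (x ^ k) ^ 2 ^ n = (x ^ 2 ^ n) ^ k := by
        rw [← zpow_natCast, ← zpow_mul, mul_comm, zpow_mul, zpow_natCast]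
    _ = 1 := by rw [hn, one_zpow]

/-- a 2-element of `M` normalizing a Sylow 2-subgroup `S` of `M` lies in `S` -/
theorem mem_isSyl2 {M S : Subgroup G} [Finite G] (hS : IsSyl2 M S) {x : G} (hx : x ∈ M)
    (h2 : ∃ n : ℕ, x ^ 2 ^ n = 1) (hn : ∀ s ∈ S, x * s * x⁻¹ ∈ S) : x ∈ S := by
  have hpf : Fact (Nat.Prime 2) := ⟨Nat.prime_two⟩
  have h1 : zpowers x ≤ normalizer (S : Set G) := by
    rw [zpowers_le]
    exact mem_normalizer_of_forall hn
  have h2' : IsPGroup 2 (zpowers x ⊔ S : Subgroup G) :=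
    IsPGroup.to_sup_of_normal_right' (isPGroup_zpowers_of_pow h2) hS.two h1
  have h3 := hS.max _ (sup_le (zpowers_le.mpr hx) hS.le) h2' le_sup_right
  have h4 : x ∈ zpowers x ⊔ S := mem_sup_left (mem_zpowers x)
  rwa [h3] at h4

/-- a normal 2-subgroup lies in each Sylow 2-subgroup -/
theorem le_isSyl2 {M S E : Subgroup G} [Finite G] (hS : IsSyl2 M S) (hE : E ≤ M)
    (h2 : IsPGroup 2 E) (hn : ∀ s ∈ S, ∀ e ∈ E, s * e * s⁻¹ ∈ E) : E ≤ S := by
  have hpf : Fact (Nat.Prime 2) := ⟨Nat.prime_two⟩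
  have h1 : S ≤ normalizer (E : Set G) := fun s hs => mem_normalizer_of_forall (hn s hs)
  have h2' : IsPGroup 2 (S ⊔ E : Subgroup G) := IsPGroup.to_sup_of_normal_right' hS.two h2 h1
  have h3 := hS.max _ (sup_le hS.le hE) h2' le_sup_left
  have h4 : E ≤ S ⊔ E := le_sup_right
  rwa [h3] at h4

theorem orderOf_eq_two {x : G} (h1 : x ≠ 1) (h2 : x * x = 1) : orderOf x = 2 :=
  orderOf_eq_prime (by rw [pow_two]; exact h2) h1

theorem sq_of_orderOf {x : G} (h : orderOf x = 2) : x * x = 1 := by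
  rw [← pow_two, ← h, pow_orderOf_eq_one]

theorem ne_one_of_orderOf {x : G} (h : orderOf x = 2) : x ≠ 1 := by
  rintro rfl
  rw [orderOf_one] at h
  omega

theorem isSyl2_ne_bot [Finite G] {M S : Subgroup G} (hS : IsSyl2 M S) {t : G} (ht : t ∈ M)
    (h2 : orderOf t = 2) : S ≠ ⊥ := by
  intro hb
  obtain ⟨Q, hQ, htQ⟩ := exists_isSyl2 M (zpowers t) (zpowers_le.mpr ht) (isPGroup_zpowers h2)
  have h1 := isSyl2_card hS hQ
  rw [hb, Subgroup.card_bot] at h1
  have h3 : t ∈ Q := htQ (mem_zpowers t)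
  rw [Subgroup.card_eq_one.mp h1, mem_bot] at h3
  exact ne_one_of_orderOf h2 h3

theorem exists_involution_of_ne_bot [Finite G] {A : Subgroup G} (hA : IsPGroup 2 A)
    (h : A ≠ ⊥) : ∃ a ∈ A, orderOf a = 2 := by
  have hpf : Fact (Nat.Prime 2) := ⟨Nat.prime_two⟩
  obtain ⟨n, hn0, hn⟩ := hA.nontrivial_iff_card.mp ((Subgroup.nontrivial_iff_ne_bot _).mpr h)
  refine exists_involution ?_
  rw [hn]
  exact (Nat.even_pow.mpr ⟨even_two, Nat.pos_iff_ne_zero.mp hn0⟩)

/-! ### conjugates of `C(K)` -/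

section

variable [Finite G] {p : ℕ} {K : Subgroup G}

/-- tight embedding -/
theorem mem_of_cj (h : Std p K) {u v s : G} (hs : orderOf s = 2)
    (h1 : s ∈ cj u (centralizer (K : Set G))) (h2 : s ∈ cj v (centralizer (K : Set G))) :
    u⁻¹ * v ∈ normalizer (K : Set G) := by
  have h3 : orderOf (u⁻¹ * s * u) = 2 := by
    have := orderOf_conj u⁻¹ s
    rw [inv_inv] at this
    rw [this, hs]
  refine h.mem_of_involution h3 (mem_cj.mp h1) ?_
  rw [mem_cj]
  have h4 := mem_cj.mp h2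
  have e : (u⁻¹ * v)⁻¹ * (u⁻¹ * s * u) * (u⁻¹ * v) = v⁻¹ * s * v := by group
  rw [e]; exact h4

omit [Finite G] in
theorem exists_involution_cent (h : Std p K) :
    ∃ t ∈ centralizer (K : Set G), orderOf t = 2 := by
  obtain ⟨t, ht, hK⟩ := h.ex
  exact ⟨t, mem_centralizer_of_cmp hK, ht⟩

theorem sylR_ne_bot (h : Std p K) {R : Subgroup G} (hR : IsSyl2 (centralizer (K : Set G)) R) :
    R ≠ ⊥ := by
  obtain ⟨t, htY, ht⟩ := exists_involution_cent h
  exact isSyl2_ne_bot hR htY ht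

omit [Finite G] in
theorem comm_KY : ∀ k ∈ K, ∀ y ∈ centralizer (K : Set G), k * y = y * k :=
  fun _ hk _ hy => mem_centralizer_iff.mp hy _ hk

omit [Finite G] in
theorem mem_KY {x : G} : x ∈ K ⊔ centralizer (K : Set G) ↔
    ∃ k ∈ K, ∃ y ∈ centralizer (K : Set G), x = k * y := mem_sup_comm comm_KY

omit [Finite G] in
theorem KY_le : K ⊔ centralizer (K : Set G) ≤ normalizer (K : Set G) :=
  sup_le Subgroup.le_normalizer (centralizer_le_normalizer _)

omit [Finite G] in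
/-- powers of a product -/
theorem pow_KY {k y : G} (hk : k ∈ K) (hy : y ∈ centralizer (K : Set G)) (n : ℕ) :
    (k * y) ^ n = k ^ n * y ^ n := (show Commute k y from comm_KY k hk y hy).mul_pow n

omit [Finite G] in
theorem pow_eq_one_KY (hi : K ⊓ centralizer (K : Set G) = ⊥) {k y : G} (hk : k ∈ K)
    (hy : y ∈ centralizer (K : Set G)) {n : ℕ} (h : (k * y) ^ n = 1) : k ^ n = 1 ∧ y ^ n = 1 := by
  rw [pow_KY hk hy] at h
  have h1 : k ^ n = (y ^ n)⁻¹ := eq_inv_of_mul_eq_one_left h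
  have h2 : k ^ n ∈ K ⊓ centralizer (K : Set G) :=
    ⟨Subgroup.pow_mem _ hk n, by rw [h1]; exact Subgroup.inv_mem _ (Subgroup.pow_mem _ hy n)⟩
  rw [hi, mem_bot] at h2
  refine ⟨h2, ?_⟩
  rw [h2, one_mul] at h
  exact h

end

end Cfsg.Agent.OddCyclic.CaseABase
end
end

-- part: OddCyclic/CaseACount
section
prune_inst 0x302013007522120000000002200001200000000200408000b1210702020f5040800208004a000d1358208000000400281300001000000000000000000a0001208022d2041240010426000f803003580c00000000000000000000000000041000000000000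
set_option linter.all false
open scoped Cfsg.Agent.FastGrp

/-!
# S0342, component type, case A: A1(c), (d)

`K ≅ PSL₂(q)`; `g ∉ M = N(K)`, `Y = C(K)`, `Y^g ∩ M` of even order, all involutions of `Y^g ∩ M` induce
inner automorphisms of `K` and symmetrically. Then a Sylow 2-subgroup `R` of `Y` is elementary abelian
of order at most `q` and a conjugate of `R` lies in `R × E`.
-/

set_option autoImplicit false

namespace Cfsg.Agent.OddCyclic.CaseACount

open Subgroup
open Cfsg.Agent.LieExceptional Cfsg.Agent.LieExceptional.CITDefs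
open Cfsg.Agent.LieExceptional.CITBasic
open Cfsg.Agent.OddCyclic.T1Tools
open Cfsg.Agent.OddCyclic.CompBasic Cfsg.Agent.OddCyclic.CompStandard
open Cfsg.Agent.OddCyclic.CaseADefs Cfsg.Agent.OddCyclic.CaseABase

variable {G : Type*} [Group G] [Finite G] {p : ℕ} {K : Subgroup G} {q : ℕ} {g : G}

/-- The centralizer in `K` of an involution is a Sylow 2-subgroup. -/
theorem exists_sylow (hL : L2K K q) {k : G} (hk : k ∈ K) (hk2 : orderOf k = 2) :
    ∃ E H : Subgroup G, IsSyl2 K E ∧ Borel K E H q ∧ k ∈ E ∧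
      ∀ x ∈ K, x * k = k * x ↔ x ∈ E := by
  obtain ⟨E, hE, hkE⟩ := exists_isSyl2 K (zpowers k) (zpowers_le.mpr hk) (isPGroup_zpowers hk2)
  obtain ⟨H, hB⟩ := hL.borel E hE
  have hkE' : k ∈ E := hkE (mem_zpowers k)
  refine ⟨E, H, hE, hB, hkE', fun x hx => ⟨fun h => ?_, fun h => ?_⟩⟩
  · exact hB.cent k hkE' (ne_one_of_orderOf hk2) x hx h
  · exact hB.elem.comm h hkE'

omit [Finite G] in
theorem even_q (hL : L2K K q) : Even q := by
  obtain ⟨f, rfl⟩ := hL.pow
  have := hL.four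
  rcases Nat.eq_zero_or_pos f with h | h
  · subst h; norm_num at this
  · exact (Nat.even_pow.mpr ⟨even_two, h.ne'⟩)

omit [Finite G] in
theorem odd_card_H (hL : L2K K q) : Odd (q - 1) := by
  have h4 := hL.four
  obtain ⟨m, hm⟩ := even_q hL
  exact ⟨m - 1, by omega⟩

omit [Finite G] in
theorem H_inf (hL : L2K K q) {E H : Subgroup G} (hB : Borel K E H q)
    {h : G} (hh : h ∈ H) (he : h ∈ E) : h = 1 := by
  have h1 : h * h = 1 := hB.elem h he
  have h4 := hL.four
  have hf : Finite H := Nat.finite_of_card_ne_zero (by rw [hB.cardH]; omega)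
  have h2 : orderOf h ∣ q - 1 := by
    rw [← hB.cardH]; exact H.orderOf_dvd_natCard hh
  have h3 : orderOf h ∣ 2 := orderOf_dvd_of_pow_eq_one (by rw [pow_two]; exact h1)
  have h5 : orderOf h ∣ 1 := by
    have h6 : Nat.Coprime (q - 1) 2 := Nat.coprime_two_right.mpr (odd_card_H hL)
    rw [← Nat.Coprime.gcd_eq_one h6]
    exact Nat.dvd_gcd h2 h3
  exact orderOf_eq_one_iff.mp (Nat.dvd_one.mp h5)

/-- (c) For an inner involution `a` of `Y^g ∩ M`: `E = C_K(a)` is a Sylow 2-subgroup of `K` and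
`K ∩ M^g = E`. -/
theorem exists_E (h : Std p K) (hL : L2K K q) (hg : g ∉ normalizer (K : Set G)) {a : G}
    (haY : a ∈ cj g (centralizer (K : Set G))) (ha2 : orderOf a = 2)
    (haK : a ∈ K ⊔ centralizer (K : Set G)) :
    ∃ E H : Subgroup G, IsSyl2 K E ∧ Borel K E H q ∧ (∀ e ∈ E, a * e = e * a) ∧
      K ⊓ cj g (normalizer (K : Set G)) = E := by
  obtain ⟨k, hk, y, hy, rfl⟩ := mem_KY.mp haK
  have h1 : (k * y) ^ 2 = 1 := by rw [← ha2, pow_orderOf_eq_one]
  obtain ⟨hk2, hy2⟩ := pow_eq_one_KY hL.inf hk hy h1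
  have hk1 : k ≠ 1 := by
    rintro rfl
    rw [one_mul] at haY ha2
    exact hg (h.mem_of_involution ha2 hy haY)
  have hko : orderOf k = 2 := orderOf_eq_prime hk2 hk1
  obtain ⟨E, H, hE, hB, hkE, hcent⟩ := exists_sylow hL hk hko
  have hca : ∀ x ∈ K, x * (k * y) = (k * y) * x ↔ x ∈ E := by
    intro x hx
    rw [← hcent x hx]
    have hxy : x * y = y * x := comm_KY x hx y hy
    constructor
    · intro h2
      have : x * k * y = k * x * y := by
        calc x * k * y = x * (k * y) := by group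
          _ = k * y * x := h2
          _ = k * (y * x) := by group
          _ = k * (x * y) := by rw [hxy]
          _ = k * x * y := by group
      exact mul_right_cancel this
    · intro h2
      calc x * (k * y) = (x * k) * y := by group
        _ = k * x * y := by rw [h2]
        _ = k * (x * y) := by group
        _ = k * (y * x) := by rw [hxy]
        _ = k * y * x := by group
  have hEle : E ≤ cj g (normalizer (K : Set G)) := by
    intro e he
    refine h.centralizer_le_cj ha2 haY ?_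
    rw [mem_centralizer_singleton_iff]
    exact (hca e (hE.le he)).mpr he
  have h2g : IsPGroup 2 (K ⊓ cj g (normalizer (K : Set G)) : Subgroup G) := by
    refine isPGroup_two_of_forall fun r hr hr2 x hx hxr => ?_
    have hrK : r ∣ Nat.card K := by rw [← hxr]; exact K.orderOf_dvd_natCard hx.1
    have h3 := h.commute_of_dvd g hr hr2 hrK hx.2 hxr haY
    have h4 : x ∈ E := (hca x hx.1).mp h3
    have h5 : x * x = 1 := hB.elem x h4
    have h6 : r ∣ 2 := by
      rw [← hxr]; exact orderOf_dvd_of_pow_eq_one (by rw [pow_two]; exact h5)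
    exact hr2 ((Nat.prime_dvd_prime_iff_eq hr Nat.prime_two).mp h6)
  refine ⟨E, H, hE, hB, fun e he => ((hca e (hE.le he)).mpr he).symm, ?_⟩
  exact hE.max _ inf_le_left h2g (le_inf hE.le hEle)

/-- The situation of A1(c). -/
structure Sit (p : ℕ) (K : Subgroup G) (q : ℕ) (g : G) (S P E H : Subgroup G) : Prop where
  std : Std p K
  l2 : L2K K q
  big : Big K q
  hg : g ∉ normalizer (K : Set G)
  pair : PairAt K g S P
  sylE : IsSyl2 K E
  bor : Borel K E H q
  inf : K ⊓ cj g (normalizer (K : Set G)) = E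
  neA : P ⊓ cj g (centralizer (K : Set G)) ≠ ⊥

variable {S P E H : Subgroup G}

omit [Finite G] in
theorem Sit.normE (s : Sit p K q g S P E H) {d : G} (hd : d ∈ normalizer (K : Set G))
    (hd' : d ∈ cj g (normalizer (K : Set G))) {e : G} (he : e ∈ E) : d * e * d⁻¹ ∈ E := by
  have h1 : e ∈ K ⊓ cj g (normalizer (K : Set G)) := by rw [s.inf]; exact he
  have h2 : d * e * d⁻¹ ∈ K ⊓ cj g (normalizer (K : Set G)) := by
    refine Subgroup.mem_inf.mpr ⟨forall_of_mem_normalizer hd e h1.1, ?_⟩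
    exact Subgroup.mul_mem _ (Subgroup.mul_mem _ hd' h1.2) (Subgroup.inv_mem _ hd')
  rwa [s.inf] at h2

omit [Finite G] in
theorem Sit.E_le_cj (s : Sit p K q g S P E H) : E ≤ cj g (normalizer (K : Set G)) := by
  rw [← s.inf]; exact inf_le_right

theorem Sit.E_le_P (s : Sit p K q g S P E H) : E ≤ P :=
  le_isSyl2 s.pair.sylD (le_inf (s.sylE.le.trans Subgroup.le_normalizer) s.E_le_cj)
    (isPGroup_of_elem s.bor.elem)
    (fun _ hs _ he => s.normE (s.pair.sylD.le hs).1 (s.pair.sylD.le hs).2 he)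

theorem Sit.H_fix (s : Sit p K q g S P E H) {h e : G} (hh : h ∈ H) (he : e ∈ E) (he1 : e ≠ 1)
    (h1 : e ∈ cj g (centralizer (K : Set G)))
    (h2 : h * e * h⁻¹ ∈ cj g (centralizer (K : Set G))) : h = 1 := by
  have ho : orderOf e = 2 := orderOf_eq_two he1 (s.bor.elem e he)
  have h3 : e ∈ cj (h⁻¹ * g) (centralizer (K : Set G)) := by
    rw [mem_cj]
    have := mem_cj.mp h2
    have e1 : (h⁻¹ * g)⁻¹ * e * (h⁻¹ * g) = g⁻¹ * (h * e * h⁻¹) * g := by group
    rw [e1]; exact this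
  have h4 := mem_of_cj s.std ho h3 h1
  have h5 : h ∈ cj g (normalizer (K : Set G)) := by
    rw [mem_cj]
    have e1 : (h⁻¹ * g)⁻¹ * g = g⁻¹ * h * g := by group
    rwa [e1] at h4
  have h6 : h ∈ K ⊓ cj g (normalizer (K : Set G)) := ⟨s.bor.leH hh, h5⟩
  rw [s.inf] at h6
  exact H_inf s.l2 s.bor hh h6

theorem Sit.card_E0 (s : Sit p K q g S P E H) :
    Nat.card (E ⊓ cj g (centralizer (K : Set G)) : Subgroup G) ≤ 2 := by
  classical
  have hfH : Fintype H := Fintype.ofFinite H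
  set E0 := E ⊓ cj g (centralizer (K : Set G)) with hE0
  have h1 := sum_card_le (ι := H) (fun h => cj (h : G) E0) E
    (by
      intro h
      rintro _ ⟨x, hx, rfl⟩
      exact s.bor.norm h h.2 x hx.1)
    (by
      intro h h' hne x hx hx'
      by_contra hx1
      apply hne
      rw [mem_cj] at hx hx'
      have h3 : (h : G)⁻¹ * x * h ≠ 1 := by
        intro h4
        apply hx1
        have : x = h * ((h : G)⁻¹ * x * h) * (h : G)⁻¹ := by group
        rw [this, h4]; group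
      have h4 := s.H_fix (h := (h' : G)⁻¹ * h) (e := (h : G)⁻¹ * x * h)
        (H.mul_mem (H.inv_mem h'.2) h.2) hx.1 h3 hx.2 (by
          have e1 : (h' : G)⁻¹ * h * ((h : G)⁻¹ * x * h) * ((h' : G)⁻¹ * h)⁻¹ =
              (h' : G)⁻¹ * x * h' := by group
          rw [e1]; exact hx'.2)
      have h5 : (h' : G) = h := inv_mul_eq_one.mp h4
      exact Subtype.ext h5.symm)
  have h2 : ∀ h : H, Nat.card (cj (h : G) E0) - 1 = Nat.card E0 - 1 := fun h => by rw [card_cj]
  rw [Finset.sum_congr rfl (fun h _ => h2 h), Finset.sum_const, smul_eq_mul, Finset.card_univ,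
    ← Nat.card_eq_fintype_card, s.bor.cardH, s.bor.cardE] at h1
  have h4 := s.l2.four
  have h5 : Nat.card E0 - 1 ≤ 1 := by
    by_contra hc
    have h6 : (q - 1) * 2 ≤ (q - 1) * (Nat.card E0 - 1) := Nat.mul_le_mul_left _ (by omega)
    omega
  omega

/-- The commutator map `e ↦ e x e⁻¹ x⁻¹`. -/
theorem card_comm_le {E E0 : Subgroup G} (hE : Elem E) {x : G}
    (h0 : ∀ e ∈ E, e * x * e⁻¹ * x⁻¹ ∈ E0) (hn : ∀ e ∈ E, x * e * x⁻¹ ∈ E) :
    Nat.card E ≤ Nat.card (E ⊓ centralizer ({x} : Set G) : Subgroup G) * Nat.card E0 := by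
  let φ : E →* G :=
    { toFun := fun e => (e : G) * x * (e : G)⁻¹ * x⁻¹
      map_one' := by simp
      map_mul' := by
        intro e f
        have h1 : x * (e : G)⁻¹ * x⁻¹ ∈ E := hn _ (E.inv_mem e.2)
        have h2 : x * (f : G)⁻¹ * x⁻¹ ∈ E := hn _ (E.inv_mem f.2)
        have h3 := hE.comm h1 (E.mul_mem f.2 h2)
        calc (e : G) * f * x * ((e : G) * f)⁻¹ * x⁻¹
            = e * ((f * (x * (f : G)⁻¹ * x⁻¹)) * (x * (e : G)⁻¹ * x⁻¹)) := by group
          _ = e * ((x * (e : G)⁻¹ * x⁻¹) * (f * (x * (f : G)⁻¹ * x⁻¹))) := by rw [h3]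
          _ = (e : G) * x * (e : G)⁻¹ * x⁻¹ * (f * x * (f : G)⁻¹ * x⁻¹) := by group }
  have h1 : Nat.card E = Nat.card φ.range * Nat.card φ.ker := by
    have h2 := Subgroup.card_eq_card_quotient_mul_card_subgroup φ.ker
    rw [h2, Nat.card_congr (QuotientGroup.quotientKerEquivRange φ).toEquiv]
  have h2 : Nat.card φ.range ≤ Nat.card E0 := by
    refine Subgroup.card_le_of_le ?_
    rintro _ ⟨e, rfl⟩
    exact h0 e e.2
  have h3 : Nat.card φ.ker ≤ Nat.card (E ⊓ centralizer ({x} : Set G) : Subgroup G) := by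
    refine Nat.card_le_card_of_injective (fun y : φ.ker =>
      (⟨((y : E) : G), ⟨(y : E).2, ?_⟩⟩ : (E ⊓ centralizer ({x} : Set G) : Subgroup G))) ?_
    · have h4 : ((y : E) : G) * x * ((y : E) : G)⁻¹ * x⁻¹ = 1 := y.2
      have h5 := mul_inv_eq_one.mp h4
      exact mem_centralizer_singleton_iff.mpr (mul_inv_eq_iff_eq_mul.mp h5)
    · intro y z hyz
      have h4 : ((y : E) : G) = ((z : E) : G) :=
        (congrArg (fun w : (E ⊓ centralizer ({x} : Set G) : Subgroup G) => (w : G)) hyz :)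
      exact Subtype.ext (Subtype.ext h4)
  rw [h1, mul_comm]
  exact Nat.mul_le_mul h3 h2

/-- A 2-element of `M` which normalizes `E` and centralizes it modulo a group of order `≤ 2` is in
`YE`. -/
theorem exists_of_small (hL : L2K K q) (hb : Big K q) {E E0 : Subgroup G} (hE : IsSyl2 K E)
    (h0 : Nat.card E0 ≤ 2) {x : G} (hx : x ∈ normalizer (K : Set G))
    (hn : ∀ e ∈ E, x * e * x⁻¹ ∈ E) (h2 : ∃ n : ℕ, x ^ 2 ^ n = 1)
    (hc : ∀ e ∈ E, e * x * e⁻¹ * x⁻¹ ∈ E0) :
    ∃ y ∈ centralizer (K : Set G), ∃ e ∈ E, x = y * e := by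
  rcases hb with hb | hb
  · rcases hL.field E hE x hx hn h2 with h3 | h3
    · exact h3
    · exfalso
      obtain ⟨H, hB⟩ := hL.borel E hE
      have h4 := card_comm_le hB.elem hc hn
      rw [hB.cardE] at h4
      set c := Nat.card (E ⊓ centralizer ({x} : Set G) : Subgroup G) with hcdef
      have h5 : q ≤ c * 2 := h4.trans (Nat.mul_le_mul_left _ h0)
      nlinarith only [hb, h3, h5]
  · obtain ⟨k, hk, y, hy, rfl⟩ := mem_KY.mp (hb x hx h2)
    obtain ⟨n, hn2⟩ := h2
    obtain ⟨hk2, -⟩ := pow_eq_one_KY hL.inf hk hy hn2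
    refine ⟨y, hy, k, ?_, comm_KY k hk y hy⟩
    refine mem_isSyl2 hE hk ⟨n, hk2⟩ fun e he => ?_
    have h3 := hn e he
    have h4 : y * e = e * y := (comm_KY e (hE.le he) y hy).symm
    have e1 : k * y * e * (k * y)⁻¹ = k * e * k⁻¹ := by
      calc k * y * e * (k * y)⁻¹ = k * (y * e) * y⁻¹ * k⁻¹ := by group
        _ = k * (e * y) * y⁻¹ * k⁻¹ := by rw [h4]
        _ = k * e * k⁻¹ := by group
    rwa [e1] at h3

theorem Sit.A_le (s : Sit p K q g S P E H) {x : G}
    (hx : x ∈ P ⊓ cj g (centralizer (K : Set G))) :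
    ∃ y ∈ P ⊓ centralizer (K : Set G), ∃ e ∈ E, x = y * e := by
  have hxD := s.pair.sylD.le hx.1
  obtain ⟨y, hy, e, he, hxy⟩ := exists_of_small s.l2 s.big s.sylE s.card_E0 hxD.1
    (fun e he => s.normE hxD.1 hxD.2 he) (mem_of_pow_two s.pair.sylD.two hx.1)
    (fun e he => by
      refine Subgroup.mem_inf.mpr ⟨?_, ?_⟩
      · have h1 := s.normE hxD.1 hxD.2 (E.inv_mem he)
        have e1 : e * x * e⁻¹ * x⁻¹ = e * (x * e⁻¹ * x⁻¹) := by group
        rw [e1]; exact E.mul_mem he h1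
      · have h1 := normal_cj_cent g K e (s.E_le_cj he) x hx.2
        exact Subgroup.mul_mem _ h1 (Subgroup.inv_mem _ hx.2))
  refine ⟨y, ⟨?_, hy⟩, e, he, hxy⟩
  have h1 : y = x * e⁻¹ := by rw [hxy]; group
  rw [h1]
  exact P.mul_mem hx.1 (P.inv_mem (s.E_le_P he))

theorem Sit.A_inf (s : Sit p K q g S P E H) {x : G}
    (hx : x ∈ P ⊓ cj g (centralizer (K : Set G))) (hxY : x ∈ centralizer (K : Set G)) :
    x = 1 := by
  have h1 := s.std.inf_eq_bot s.hg
    (A := P ⊓ cj g (centralizer (K : Set G))) (s.pair.sylD.two.to_le inf_le_left) inf_le_right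
  have h2 : x ∈ P ⊓ cj g (centralizer (K : Set G)) ⊓ centralizer (K : Set G) := ⟨hx, hxY⟩
  rwa [h1, mem_bot] at h2

theorem Sit.A_elem (s : Sit p K q g S P E H) :
    Elem (P ⊓ cj g (centralizer (K : Set G)) : Subgroup G) := by
  intro x hx
  obtain ⟨y, hy, e, he, hxy⟩ := s.A_le hx
  refine s.A_inf (Subgroup.mul_mem _ hx hx) ?_
  have h1 : e * y = y * e := comm_KY e (s.sylE.le he) y hy.2
  have h2 : x * x = y * y := by
    rw [hxy]
    calc y * e * (y * e) = y * (e * y) * e := by group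
      _ = y * (y * e) * e := by rw [h1]
      _ = y * y * (e * e) := by group
      _ = y * y := by rw [s.bor.elem e he, mul_one]
  rw [h2]
  exact Subgroup.mul_mem _ hy.2 hy.2

theorem Sit.card_A (s : Sit p K q g S P E H) :
    Nat.card (P ⊓ cj g (centralizer (K : Set G)) : Subgroup G) ≤ q := by
  rw [← s.bor.cardE]
  have hex : ∀ x : (P ⊓ cj g (centralizer (K : Set G)) : Subgroup G),
      ∃ e : E, ∃ y ∈ P ⊓ centralizer (K : Set G), (x : G) = y * e := by
    intro x
    obtain ⟨y, hy, e, he, hxy⟩ := s.A_le x.2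
    exact ⟨⟨e, he⟩, y, hy, hxy⟩
  choose f y hy hf using hex
  refine Nat.card_le_card_of_injective f ?_
  intro x x' hxx
  have h1 : (x : G) * (x' : G)⁻¹ = y x * (y x')⁻¹ := by
    rw [hf x, hf x', hxx]; group
  have h2 := s.A_inf (x := (x : G) * (x' : G)⁻¹)
    (Subgroup.mul_mem _ x.2 (Subgroup.inv_mem _ x'.2)) (by
      rw [h1]; exact Subgroup.mul_mem _ (hy x).2 (Subgroup.inv_mem _ (hy x').2))
  exact Subtype.ext (mul_inv_eq_one.mp h2)

/-! ### (d) -/

omit [Finite G] in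
theorem Sit.comm_A'E (s : Sit p K q g S P E H) :
    ∀ a ∈ P ⊓ centralizer (K : Set G), ∀ e ∈ E, a * e = e * a :=
  fun a ha e he => (comm_KY e (s.sylE.le he) a ha.2).symm

theorem Sit.A_le_V0 (s : Sit p K q g S P E H) :
    P ⊓ cj g (centralizer (K : Set G)) ≤ (P ⊓ centralizer (K : Set G)) ⊔ E := by
  intro x hx
  obtain ⟨y, hy, e, he, rfl⟩ := s.A_le hx
  exact Subgroup.mul_mem _ (mem_sup_left hy) (mem_sup_right he)

theorem Sit.card_V0 (s : Sit p K q g S P E H) :
    Nat.card ((P ⊓ centralizer (K : Set G)) ⊔ E : Subgroup G) =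
      Nat.card (P ⊓ centralizer (K : Set G) : Subgroup G) * q := by
  rw [card_sup_comm s.comm_A'E, s.bor.cardE]
  rw [eq_bot_iff]
  intro x hx
  have h1 : x ∈ K ⊓ centralizer (K : Set G) := ⟨s.sylE.le hx.2, hx.1.2⟩
  rwa [s.l2.inf] at h1

theorem Sit.eqR (s : Sit p K q g S P E H)
    (hle : Nat.card (P ⊓ centralizer (K : Set G) : Subgroup G) ≤
      Nat.card (P ⊓ cj g (centralizer (K : Set G)) : Subgroup G)) :
    P ⊓ centralizer (K : Set G) = S ⊓ centralizer (K : Set G) := by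
  classical
  have hpf : Fact (Nat.Prime 2) := ⟨Nat.prime_two⟩
  by_contra hne
  set A := P ⊓ cj g (centralizer (K : Set G)) with hA
  set A' := P ⊓ centralizer (K : Set G) with hA'
  set R := S ⊓ centralizer (K : Set G) with hR
  have hA'R : A' ≤ R := inf_le_inf_right _ s.pair.le
  have hR2 : IsPGroup 2 R := s.pair.sylM.two.to_le inf_le_left
  obtain ⟨x, hxn, hxR, hxA⟩ : ∃ x, x ∈ normalizer (A' : Set G) ∧ x ∈ R ∧ x ∉ A' := by
    by_contra hno
    push Not at hno
    exact hne (Cfsg.Agent.Blocks.SylowIn.eq_of_normalizer_inf_le (p := 2) hR2 hA'R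
      (fun x hx => hno x hx.1 hx.2)).symm
  have hxn' : ∀ a ∈ A', x * a * x⁻¹ ∈ A' := forall_of_mem_normalizer hxn
  -- `x` commutes with `K`
  have hxK : ∀ k ∈ K, k * x = x * k := fun k hk => comm_KY k hk x hxR.2
  -- `x ∉ M^g`
  have hxg : x ∉ cj g (normalizer (K : Set G)) := by
    intro hxg
    apply hxA
    exact mem_isSyl2 s.pair.sylA' ⟨hxR.2, hxg⟩ (mem_of_pow_two hR2 hxR) hxn'
  have hA'K : ∀ a ∈ A', ∀ k ∈ K, k * a = a * k := fun a ha k hk => comm_KY k hk a ha.2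
  -- the conjugating elements
  set c : H × Bool → G := fun i => (i.1 : G) * (if i.2 then x else 1) with hc
  have hcM : ∀ i, c i ∈ normalizer (K : Set G) := by
    intro i
    refine Subgroup.mul_mem _ (Subgroup.le_normalizer (s.bor.leH i.1.2)) ?_
    split_ifs
    · exact KY_le (mem_sup_right hxR.2)
    · exact Subgroup.one_mem _
  have hHV : ∀ h ∈ H, ∀ v ∈ A' ⊔ E, h * v * h⁻¹ ∈ A' ⊔ E := by
    intro h hh v hv
    obtain ⟨a, ha, e, he, rfl⟩ := (mem_sup_comm s.comm_A'E).mp hv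
    have e1 : h * (a * e) * h⁻¹ = a * (h * e * h⁻¹) := by
      calc h * (a * e) * h⁻¹ = (h * a) * e * h⁻¹ := by group
        _ = (a * h) * e * h⁻¹ := by rw [hA'K a ha h (s.bor.leH hh)]
        _ = a * (h * e * h⁻¹) := by group
    rw [e1]
    exact Subgroup.mul_mem _ (mem_sup_left ha) (mem_sup_right (s.bor.norm h hh e he))
  have hxV : ∀ v ∈ A' ⊔ E, x * v * x⁻¹ ∈ A' ⊔ E := by
    intro v hv
    obtain ⟨a, ha, e, he, rfl⟩ := (mem_sup_comm s.comm_A'E).mp hv
    have e1 : x * (a * e) * x⁻¹ = (x * a * x⁻¹) * e := by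
      calc x * (a * e) * x⁻¹ = x * a * (e * x⁻¹) := by group
        _ = x * a * (x⁻¹ * e) := by
            have h1 := hxK e (s.sylE.le he)
            have h2 : e * x⁻¹ = x⁻¹ * e := by
              calc e * x⁻¹ = x⁻¹ * (x * e) * x⁻¹ := by group
                _ = x⁻¹ * (e * x) * x⁻¹ := by rw [h1]
                _ = x⁻¹ * e := by group
            rw [h2]
        _ = (x * a * x⁻¹) * e := by group
    rw [e1]
    exact Subgroup.mul_mem _ (mem_sup_left (hxn' a ha)) (mem_sup_right he)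
  have hcV : ∀ i, ∀ v ∈ A' ⊔ E, c i * v * (c i)⁻¹ ∈ A' ⊔ E := by
    rintro ⟨h, b⟩ v hv
    cases b
    · have e1 : c (h, false) = h := by simp [hc]
      rw [e1]; exact hHV h h.2 v hv
    · have e1 : c (h, true) = h * x := by simp [hc]
      rw [e1]
      have e2 : (h : G) * x * v * ((h : G) * x)⁻¹ = h * (x * v * x⁻¹) * (h : G)⁻¹ := by group
      rw [e2]
      exact hHV h h.2 _ (hxV v hv)
  have hAE := s.A_elem
  have hAsq : ∀ a ∈ A, a ≠ 1 → orderOf a = 2 := fun a ha h1 => orderOf_eq_two h1 (hAE a ha)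
  -- a common element forces `c⁻¹ c' ∈ M^g`
  have hkey : ∀ u v t : G, t ≠ 1 → t ∈ cj u A → t ∈ cj v A →
      u⁻¹ * v ∈ cj g (normalizer (K : Set G)) := by
    intro u v t ht hu hv
    have ho : orderOf t = 2 := by
      rw [mem_cj] at hu
      have h1 : orderOf (u⁻¹ * t * u) = 2 := by
        refine hAsq _ hu fun h2 => ht ?_
        have : t = u * (u⁻¹ * t * u) * u⁻¹ := by group
        rw [this, h2]; group
      have h2 := orderOf_conj u (u⁻¹ * t * u)
      have e1 : u * (u⁻¹ * t * u) * u⁻¹ = t := by group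
      rw [e1] at h2
      rw [h2, h1]
    have h1 : t ∈ cj (u * g) (centralizer (K : Set G)) := by
      rw [cj_mul]; exact cj_mono inf_le_right hu
    have h2 : t ∈ cj (v * g) (centralizer (K : Set G)) := by
      rw [cj_mul]; exact cj_mono inf_le_right hv
    have h3 := mem_of_cj s.std ho h1 h2
    rw [mem_cj]
    have e1 : (u * g)⁻¹ * (v * g) = g⁻¹ * (u⁻¹ * v) * g := by group
    rwa [e1] at h3
  -- elements of `H` in `M^g` are trivial
  have hHg : ∀ h ∈ H, h ∈ cj g (normalizer (K : Set G)) → h = 1 := by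
    intro h hh h1
    have h2 : h ∈ K ⊓ cj g (normalizer (K : Set G)) := ⟨s.bor.leH hh, h1⟩
    rw [s.inf] at h2
    exact H_inf s.l2 s.bor hh h2
  -- `h x^{±1} ∉ M^g`
  have hHx : ∀ h ∈ H, ∀ z : G, z = x ∨ z = x⁻¹ → h * z ∉ cj g (normalizer (K : Set G)) := by
    intro h hh z hz h1
    apply hxg
    have hzx : z ∈ cj g (normalizer (K : Set G)) → x ∈ cj g (normalizer (K : Set G)) := by
      rcases hz with rfl | rfl
      · exact id
      · intro h2
        have := Subgroup.inv_mem _ h2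
        rwa [inv_inv] at this
    apply hzx
    have hzR : z ∈ R := by
      rcases hz with rfl | rfl
      · exact hxR
      · exact Subgroup.inv_mem _ hxR
    have hcz : Commute h z := comm_KY h (s.bor.leH hh) z hzR.2
    have h2 : (h * z) ^ (q - 1) ∈ cj g (normalizer (K : Set G)) := Subgroup.pow_mem _ h1 _
    have h3 : h ^ (q - 1) = 1 := by
      rw [← s.bor.cardH]
      have := pow_card_eq_one' (x := (⟨h, hh⟩ : H))
      exact congrArg Subtype.val this
    rw [hcz.mul_pow, h3, one_mul] at h2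
    obtain ⟨n, hn⟩ := mem_of_pow_two hR2 hzR
    have h4 : (q - 1).Coprime (orderOf z) := by
      have h5 : orderOf z ∣ 2 ^ n := orderOf_dvd_of_pow_eq_one hn
      refine Nat.Coprime.coprime_dvd_right h5 ?_
      exact Nat.Coprime.pow_right n (Nat.coprime_two_right.mpr (odd_card_H s.l2))
    obtain ⟨m, hm⟩ := exists_pow_eq_self_of_coprime h4
    rw [← hm]
    exact Subgroup.pow_mem _ h2 _
  have hfH : Fintype H := Fintype.ofFinite H
  have hV0 : ∀ i, cj (c i) A ≤ A' ⊔ E := by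
    intro i
    rintro _ ⟨a, ha, rfl⟩
    exact hcV i a (s.A_le_V0 ha)
  let F : Option (H × Bool) → Subgroup G := fun o => o.elim A' (fun i => cj (c i) A)
  have hsum := sum_card_le F (A' ⊔ E)
    (by
      intro o
      cases o with
      | none => exact le_sup_left
      | some i => exact hV0 i)
    (by
      have hns : ∀ i t, t ∈ A' → t ∈ cj (c i) A → t = 1 := by
        intro i t ht hti
        by_contra ht1
        have ho : orderOf t = 2 := by
          rw [mem_cj] at hti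
          have h1 : orderOf ((c i)⁻¹ * t * c i) = 2 := by
            refine hAsq _ hti fun h2 => ht1 ?_
            have : t = c i * ((c i)⁻¹ * t * c i) * (c i)⁻¹ := by group
            rw [this, h2]; group
          have h2 := orderOf_conj (c i) ((c i)⁻¹ * t * c i)
          have e1 : c i * ((c i)⁻¹ * t * c i) * (c i)⁻¹ = t := by group
          rw [e1] at h2
          rw [h2, h1]
        have h1 : t ∈ cj 1 (centralizer (K : Set G)) := by rw [cj_one]; exact ht.2
        have h2 : t ∈ cj (c i * g) (centralizer (K : Set G)) := by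
          rw [cj_mul]; exact cj_mono inf_le_right hti
        have h3 := mem_of_cj s.std ho h1 h2
        apply s.hg
        have h4 := Subgroup.mul_mem _ (Subgroup.inv_mem _ (hcM i)) h3
        have e1 : (c i)⁻¹ * (1⁻¹ * (c i * g)) = g := by group
        rwa [e1] at h4
      rintro (_ | ⟨h, b⟩) (_ | ⟨h', b'⟩) hne t ht ht'
      · exact absurd rfl hne
      · exact hns _ t ht ht'
      · exact hns _ t ht' ht
      · by_contra ht1
        have h1 := hkey _ _ t ht1 ht ht'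
        cases b <;> cases b'
        · apply hne
          have e1 : (c (h, false))⁻¹ * c (h', false) = (h : G)⁻¹ * h' := by simp [hc]
          rw [e1] at h1
          have h2 := hHg _ (H.mul_mem (H.inv_mem h.2) h'.2) h1
          have h3 : (h : G) = h' := inv_mul_eq_one.mp h2
          rw [Subtype.ext h3]
        · have e1 : (c (h, false))⁻¹ * c (h', true) = ((h : G)⁻¹ * h') * x := by
            simp only [hc, mul_assoc, _root_.mul_ite, _root_.mul_one, _root_.Bool.false_eq_true, ↓ _root_.reduceIte]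
          rw [e1] at h1
          exact hHx _ (H.mul_mem (H.inv_mem h.2) h'.2) x (Or.inl rfl) h1
        · have e1 : (c (h, true))⁻¹ * c (h', false) = ((h : G)⁻¹ * h') * x⁻¹ := by
            have h3 := hxK _ (s.bor.leH (H.mul_mem (H.inv_mem h.2) h'.2))
            have h4 : x⁻¹ * ((h : G)⁻¹ * h') = ((h : G)⁻¹ * h') * x⁻¹ := by
              calc x⁻¹ * ((h : G)⁻¹ * h') = x⁻¹ * (((h : G)⁻¹ * h') * x) * x⁻¹ := by group
                _ = x⁻¹ * (x * ((h : G)⁻¹ * h')) * x⁻¹ := by rw [h3]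
                _ = ((h : G)⁻¹ * h') * x⁻¹ := by group
            rw [← h4]
            simp only [hc, mul_assoc, _root_.mul_ite, _root_.mul_one, ↓ _root_.reduceIte, _root_.mul_inv_rev, _root_.Bool.false_eq_true]
          rw [e1] at h1
          exact hHx _ (H.mul_mem (H.inv_mem h.2) h'.2) x⁻¹ (Or.inr rfl) h1
        · apply hne
          have e1 : (c (h, true))⁻¹ * c (h', true) = x⁻¹ * (((h : G)⁻¹ * h') * x) := by
            simp only [hc, mul_assoc, _root_.mul_ite, _root_.mul_one, ↓ _root_.reduceIte, _root_.mul_inv_rev]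
          have h3 := hxK _ (s.bor.leH (H.mul_mem (H.inv_mem h.2) h'.2))
          rw [e1, h3, inv_mul_cancel_left] at h1
          have h2 := hHg _ (H.mul_mem (H.inv_mem h.2) h'.2) h1
          have h3 : (h : G) = h' := inv_mul_eq_one.mp h2
          rw [Subtype.ext h3])
  rw [Fintype.sum_option] at hsum
  have hF0 : F none = A' := rfl
  have hF1 : ∀ i : H × Bool, Nat.card (F (some i)) - 1 = Nat.card A - 1 := by
    intro i
    have : F (some i) = cj (c i) A := rfl
    rw [this, card_cj]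
  rw [hF0, Finset.sum_congr rfl (fun i _ => hF1 i), Finset.sum_const, smul_eq_mul,
    Finset.card_univ, Fintype.card_prod, Fintype.card_bool, ← Nat.card_eq_fintype_card,
    s.bor.cardH, s.card_V0] at hsum
  have h4 := s.l2.four
  -- numerical conclusion
  have hA'1 : A' ≠ ⊥ := s.pair.ne_bot s.std s.hg s.neA
  have hcA' : 2 ≤ Nat.card A' := by
    have h1 : Nat.card A' ≠ 1 := fun h => hA'1 (Subgroup.card_eq_one.mp h)
    have h2 : 0 < Nat.card A' := Nat.card_pos
    omega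
  have hcA : Nat.card A' = 2 := by
    set a := Nat.card A with ha
    set b := Nat.card A' with hb
    have h6 : a ≤ 2 := by
      by_contra h7
      obtain ⟨r, rfl⟩ : ∃ r, q = r + 1 := ⟨q - 1, by omega⟩
      obtain ⟨a', ha'⟩ : ∃ a', a = a' + 1 := ⟨a - 1, by omega⟩
      obtain ⟨b', hb'⟩ : ∃ b', b = b' + 1 := ⟨b - 1, by omega⟩
      rw [ha', hb'] at hsum
      simp only [Nat.add_sub_cancel] at hsum
      have h8 : b' + r * 2 * a' ≤ (b' + 1) * (r + 1) - 1 := hsum
      have h9 : (b' + 1) * (r + 1) - 1 = b' * r + b' + r := by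
        have : (b' + 1) * (r + 1) = b' * r + b' + r + 1 := by ring
        omega
      rw [h9] at h8
      have h10 : r * 2 * a' ≤ b' * r + r := by omega
      have h11 : r * (2 * a') ≤ r * (b' + 1) := by linarith only [h8]
      have h12 : 2 * a' ≤ b' + 1 := Nat.le_of_mul_le_mul_left h11 (by omega)
      omega
    omega
  -- an involution of `A`
  obtain ⟨a, haA, ha2⟩ := exists_involution_of_ne_bot
    (s.pair.sylD.two.to_le (inf_le_left : A ≤ P)) s.neA
  obtain ⟨y, hy, e, he, hay⟩ := s.A_le haA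
  -- `x` commutes with `y`
  have hxy : x * y * x⁻¹ = y := by
    by_cases hy1 : y = 1
    · rw [hy1]; group
    · have h1 : x * y * x⁻¹ ∈ A' := hxn' y hy
      have h2 : x * y * x⁻¹ ≠ 1 := by
        intro h2
        apply hy1
        have : y = x⁻¹ * (x * y * x⁻¹) * x := by group
        rw [this, h2]; group
      obtain ⟨u, hu, huu⟩ := (Nat.card_eq_two_iff' (1 : A')).mp hcA
      have h3 : (⟨y, hy⟩ : A') = u := huu _ (fun h => hy1 (congrArg Subtype.val h))
      have h4 : (⟨x * y * x⁻¹, h1⟩ : A') = u := huu _ (fun h => h2 (congrArg Subtype.val h))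
      exact congrArg Subtype.val (h4.trans h3.symm)
  have hxa : a * x = x * a := by
    have h1 : y * x = x * y := (mul_inv_eq_iff_eq_mul.mp hxy).symm
    have h2 := hxK e (s.sylE.le he)
    rw [hay]
    calc y * e * x = y * (e * x) := by group
      _ = y * (x * e) := by rw [h2]
      _ = (y * x) * e := by group
      _ = x * y * e := by rw [h1]
      _ = x * (y * e) := by group
  have h5 := (s.pair.mem_iff s.std s.hg haA ha2 hxR.1 hxR.2).mp hxa
  exact hxA ⟨h5, hxR.2⟩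

/-! ### the result -/

theorem Sit.exists_conj (s : Sit p K q g S P E H)
    (hle : Nat.card (P ⊓ centralizer (K : Set G) : Subgroup G) ≤
      Nat.card (P ⊓ cj g (centralizer (K : Set G)) : Subgroup G)) :
    Elem (S ⊓ centralizer (K : Set G) : Subgroup G) ∧
      Nat.card (S ⊓ centralizer (K : Set G) : Subgroup G) ≤ q ∧
      ∃ g' : G, g' ∉ normalizer (K : Set G) ∧
        cj g' (S ⊓ centralizer (K : Set G)) ≤ (S ⊓ centralizer (K : Set G)) ⊔ E := by
  have hAV := s.A_le_V0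
  have heq := s.eqR hle
  rw [heq] at hAV hle
  have hR := s.pair.sylR
  set R := S ⊓ centralizer (K : Set G) with hRdef
  set A := P ⊓ cj g (centralizer (K : Set G)) with hA
  have hAs : IsSyl2 (cj g (centralizer (K : Set G))) A :=
    isSyl2_of_card (isSyl2_cj g hR) inf_le_right (s.pair.sylD.two.to_le inf_le_left)
      (by rw [card_cj]; exact hle)
  obtain ⟨m, hm, hmA⟩ := isSyl2_conj (isSyl2_cj g hR) hAs
  rw [← cj_mul] at hmA
  have hcard : Nat.card A = Nat.card R := by rw [hmA, card_cj]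
  refine ⟨?_, by rw [← hcard]; exact s.card_A, m * g, ?_, by rw [← hmA]; exact hAV⟩
  · have h1 : R = cj (m * g)⁻¹ A := by rw [hmA, cj_inv_cj]
    rw [h1]
    exact elem_cj s.A_elem
  · intro hmg
    apply s.hg
    rw [mem_cj] at hm
    have h1 := Subgroup.mul_mem _ hmg (Subgroup.inv_mem _ (centralizer_le_normalizer _ hm))
    have e1 : m * g * (g⁻¹ * m * g)⁻¹ = g := by group
    rwa [e1] at h1

omit [Finite G] in
theorem cj_sup (m : G) (A B : Subgroup G) : cj m (A ⊔ B) = cj m A ⊔ cj m B := Subgroup.map_sup _ _ _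

theorem cj_eq_of_comm {A : Subgroup G} {k : G} (h : ∀ a ∈ A, k * a = a * k) : cj k A = A := by
  rw [cj_eq_iff]
  refine mem_normalizer_of_forall fun a ha => ?_
  rw [h a ha, mul_inv_cancel_right]
  exact ha

theorem exists_sit (h : Std p K) (hL : L2K K q) (hb : Big K q) (hg : g ∉ normalizer (K : Set G))
    (he : Even (Nat.card (cj g (centralizer (K : Set G)) ⊓ normalizer (K : Set G) : Subgroup G)))
    (h1 : ∀ a ∈ cj g (centralizer (K : Set G)) ⊓ normalizer (K : Set G), orderOf a = 2 →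
      a ∈ K ⊔ centralizer (K : Set G))
    (h2 : ∀ a ∈ centralizer (K : Set G) ⊓ cj g (normalizer (K : Set G)), orderOf a = 2 →
      a ∈ cj g (K ⊔ centralizer (K : Set G))) :
    ∃ (g' : G) (S P E H : Subgroup G), Sit p K q g' S P E H ∧
      Nat.card (P ⊓ centralizer (K : Set G) : Subgroup G) ≤
      Nat.card (P ⊓ cj g' (centralizer (K : Set G)) : Subgroup G) := by
  obtain ⟨a, ha, ha2⟩ := exists_involution he
  obtain ⟨S, P, hP, haP⟩ := exists_pairAt K g (isPGroup_zpowers ha2)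
    (zpowers_le.mpr ⟨ha.2, cj_centralizer_le_normalizer g K ha.1⟩)
  have hA : P ⊓ cj g (centralizer (K : Set G)) ≠ ⊥ := by
    intro hb
    have h2 : a ∈ P ⊓ cj g (centralizer (K : Set G)) := ⟨haP (mem_zpowers a), ha.1⟩
    rw [hb, mem_bot] at h2
    exact ne_one_of_orderOf ha2 h2
  rcases le_total (Nat.card (P ⊓ centralizer (K : Set G) : Subgroup G))
    (Nat.card (P ⊓ cj g (centralizer (K : Set G)) : Subgroup G)) with hle | hle
  · obtain ⟨E, H, hE, hB, -, hinf⟩ := exists_E h hL hg ha.1 ha2 (h1 a ha ha2)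
    exact ⟨g, S, P, E, H, ⟨h, hL, hb, hg, hP, hE, hB, hinf, hA⟩, hle⟩
  · -- the symmetric situation
    have hA' := hP.ne_bot h hg hA
    have hg' : g⁻¹ ∉ normalizer (K : Set G) := fun hh => hg (by
      have := Subgroup.inv_mem _ hh
      rwa [inv_inv] at this)
    have hD : cj g⁻¹ (normalizer (K : Set G) ⊓ cj g (normalizer (K : Set G))) =
        normalizer (K : Set G) ⊓ cj g⁻¹ (normalizer (K : Set G)) := by
      rw [cj_inf, cj_inv_cj, inf_comm]
    have hP' := isSyl2_cj g⁻¹ hP.sylD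
    rw [hD] at hP'
    obtain ⟨S', hS', hPS'⟩ := exists_isSyl2 (normalizer (K : Set G)) (cj g⁻¹ P)
      (hP'.le.trans inf_le_left) hP'.two
    have hPair : PairAt K g⁻¹ S' (cj g⁻¹ P) := ⟨hS', hP', hPS'⟩
    have e1 : cj g⁻¹ P ⊓ cj g⁻¹ (centralizer (K : Set G)) =
        cj g⁻¹ (P ⊓ centralizer (K : Set G)) := (cj_inf _ _ _).symm
    have e2 : cj g⁻¹ P ⊓ centralizer (K : Set G) =
        cj g⁻¹ (P ⊓ cj g (centralizer (K : Set G))) := by
      rw [cj_inf, cj_inv_cj]
    obtain ⟨b, hb', hb2⟩ := exists_involution_of_ne_bot hP.sylA'.two hA'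
    have hbM : b ∈ cj g (normalizer (K : Set G)) := (hP.sylD.le hb'.1).2
    have hb3 := h2 b ⟨hb'.2, hbM⟩ hb2
    have hb4 : g⁻¹ * b * g ∈ cj g⁻¹ (centralizer (K : Set G)) := by
      have := conj_mem_cj (g := g⁻¹) hb'.2
      rwa [inv_inv] at this
    have hb5 : orderOf (g⁻¹ * b * g) = 2 := by
      have := orderOf_conj g⁻¹ b
      rw [inv_inv] at this
      rw [this, hb2]
    obtain ⟨E, H, hE, hB, -, hinf⟩ := exists_E h hL hg' hb4 hb5 (mem_cj.mp hb3)
    refine ⟨g⁻¹, S', cj g⁻¹ P, E, H, ⟨h, hL, hb, hg', hPair, hE, hB, hinf, ?_⟩, ?_⟩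
    · rw [e1]
      intro hbot
      have h3 := card_cj g⁻¹ (P ⊓ centralizer (K : Set G))
      rw [hbot, Subgroup.card_bot] at h3
      exact hA' (Subgroup.card_eq_one.mp h3.symm)
    · rw [e1, e2, card_cj, card_cj]
      exact hle

/-- **A1 (c), (d).** -/
theorem beta (h : Std p K) (hL : L2K K q) (hb : Big K q) (hg : g ∉ normalizer (K : Set G))
    (he : Even (Nat.card (cj g (centralizer (K : Set G)) ⊓ normalizer (K : Set G) : Subgroup G)))
    (h1 : ∀ a ∈ cj g (centralizer (K : Set G)) ⊓ normalizer (K : Set G), orderOf a = 2 →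
      a ∈ K ⊔ centralizer (K : Set G))
    (h2 : ∀ a ∈ centralizer (K : Set G) ⊓ cj g (normalizer (K : Set G)), orderOf a = 2 →
      a ∈ cj g (K ⊔ centralizer (K : Set G)))
    {R E H : Subgroup G} (hR : IsSyl2 (centralizer (K : Set G)) R) (hE : IsSyl2 K E)
    (hB : Borel K E H q) : Beta K R E H q := by
  obtain ⟨g', S, P, E₁, H₁, s, hle⟩ := exists_sit h hL hb hg he h1 h2
  obtain ⟨hel, hcq, g₁, hg₁, hg₁R⟩ := s.exists_conj hle
  have hR₁ := s.pair.sylR
  set R₁ := S ⊓ centralizer (K : Set G) with hR₁def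
  obtain ⟨y, hy, hyR⟩ := isSyl2_conj hR₁ hR
  obtain ⟨k, hk, hkE⟩ := isSyl2_conj s.sylE hE
  have hc : Nat.card R = Nat.card R₁ := by rw [hyR, card_cj]
  refine ⟨hL, hb, hR, hE, hB, by rw [hyR]; exact elem_cj hel, by rw [hc]; exact hcq, ?_⟩
  have e1 : cj (k * y) R₁ = R := by
    rw [cj_mul, ← hyR]
    exact cj_eq_of_comm fun r hr => comm_KY k hk r (hR.le hr)
  have e2 : cj (k * y) E₁ = E := by
    rw [cj_mul, cj_eq_of_comm (A := E₁) (k := y) fun e he =>
      (comm_KY e (s.sylE.le he) y hy).symm]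
    exact hkE.symm
  refine ⟨(k * y) * g₁ * (k * y)⁻¹, ?_, ?_⟩
  · intro hmem
    apply hg₁
    have hkyM : k * y ∈ normalizer (K : Set G) :=
      KY_le (Subgroup.mul_mem _ (mem_sup_left hk) (mem_sup_right hy))
    have h3 := Subgroup.mul_mem _ (Subgroup.mul_mem _ (Subgroup.inv_mem _ hkyM) hmem) hkyM
    have e3 : (k * y)⁻¹ * (k * y * g₁ * (k * y)⁻¹) * (k * y) = g₁ := by group
    rwa [e3] at h3
  · have e3 : cj (k * y)⁻¹ R = R₁ := by rw [← e1, cj_inv_cj]
    rw [cj_mul, cj_mul, e3]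
    have h4 := cj_mono (g := k * y) hg₁R
    rw [cj_sup, e1, e2] at h4
    exact h4

end Cfsg.Agent.OddCyclic.CaseACount
end

-- part: OddCyclic/CompSL2Outer_mg
section
prune_inst 0x20120000001200000000020000190280000000000b80009121070006061c000000062040000c035820000000000008120000100000000000000000000000008020d0041200a10406000f801003580c00000000000000000000000000041000000000000
set_option linter.all false
open scoped Cfsg.Agent.FastGrp

-- part: OddCyclic/CompSL2Pair
section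
/-!
# S0342, case C: pairs of commuting conjugates of `z`

(C1)-(C3) of blueprints/S0342-caseC.md: `Hyp.eq_z_of_cent`, `Hyp.isSyl2_top`, `Hyp.twist`, `exists_pair`.
-/

set_option autoImplicit false

namespace Cfsg.Agent.OddCyclic.CompSL2Amb

open Subgroup Cfsg
open Cfsg.Agent.OddCyclic.T1Defs Cfsg.Agent.OddCyclic.CompBasic
open Cfsg.Agent.OddCyclic.CompStandard Cfsg.Agent.OddCyclic.CompSL2Facts
open Cfsg.Agent.LieExceptional Cfsg.Agent.LieExceptional.CITDefs
open Cfsg.Agent.LieExceptional.CITBasic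

variable {G : Type*} [Group G] [Finite G] {K : Subgroup G} {z : G} {p m n : ℕ}

/-- conjugates -/
theorem Hyp.conj (h : Hyp K z p m n) (g : G) : Hyp (cj g K) (g * z * g⁻¹) p m n := by
  refine ⟨h.cyc, conj_mem_cj h.zK, ?_, ?_, ?_, ?_⟩
  · exact h.dat.of_equiv (K.equivMapOfInjective (MulAut.conj g).toMonoidHom
      (MulAut.conj g).injective).symm
  · intro s hs hs2
    rw [← cj_centralizer, mem_cj] at hs
    have h1 := h.cent _ hs (by
      have := orderOf_conj g⁻¹ s
      rw [inv_inv] at this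
      rw [this, hs2])
    have h2 := cj_mono (g := g) h1
    rw [cj_centralizer_singleton, cj_normalizer] at h2
    have e : g * (g⁻¹ * s * g) * g⁻¹ = s := by group
    rwa [e] at h2
  · intro a s hs2 hs hsa
    rw [← cj_centralizer, mem_cj] at hs hsa
    rw [← cj_normalizer, mem_cj]
    refine h.ti _ (g⁻¹ * s * g) ?_ hs ?_
    · have := orderOf_conj g⁻¹ s
      rw [inv_inv] at this
      rw [this, hs2]
    · have e : g⁻¹ * a * g * (g⁻¹ * s * g) * (g⁻¹ * a * g)⁻¹ = g⁻¹ * (a * s * a⁻¹) * g := by group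
      rwa [e]
  · intro r hr hr2 hrK x hx hxr
    rw [← cj_normalizer, mem_cj] at hx
    rw [card_cj] at hrK
    rw [mem_cj]
    refine h.mem r hr hr2 hrK _ hx ?_
    have := orderOf_conj g⁻¹ x
    rw [inv_inv] at this
    rw [this, hxr]

omit [Finite G] in
/-- (C1) -/
theorem Hyp.eq_z_of_cent (h : Hyp K z p m n) {g : G}
    (hg : g * z * g⁻¹ ∈ centralizer (K : Set G)) : g * z * g⁻¹ = z :=
  h.conj_z (h.ti g z h.z2 h.zY hg)

omit [Finite G] in
theorem Hyp.inn_inv (h : Hyp K z p m n) {u : G} (huu : u * u = 1)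
    (huY : u ∉ centralizer (K : Set G)) (hI : Inn K u) :
    ∃ k ∈ K, ∃ y ∈ centralizer (K : Set G), u = k * y ∧ k * k = z ∧ y * y = z := by
  obtain ⟨k, hk, y, hy, rfl⟩ := hI
  have hky := comm hk hy
  have h1 : k * k * (y * y) = 1 := by
    calc k * k * (y * y) = k * (k * y) * y := by group
      _ = k * (y * k) * y := by rw [hky]
      _ = 1 := by rw [← huu]; group
  have h2 : k * k = (y * y)⁻¹ := eq_inv_of_mul_eq_one_left h1
  have h3 : k * k ∈ centralizer (K : Set G) := by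
    rw [h2]; exact inv_mem (Subgroup.mul_mem _ hy hy)
  rcases h.inter (K.mul_mem hk hk) h3 with h4 | h4
  · exfalso
    apply huY
    refine Subgroup.mul_mem _ ?_ hy
    rcases h.eq_z hk h4 with h5 | h5
    · rw [h5]; exact one_mem _
    · rw [h5]; exact h.zY
  · refine ⟨k, hk, y, hy, rfl, h4, ?_⟩
    rw [h4] at h1
    have h5 : y * y = z⁻¹ := eq_inv_of_mul_eq_one_right h1
    rw [h5, h.z_inv]

omit [Finite G] in
theorem four_dvd_of {x : G} {j : ℕ} (hx : x ^ 2 ^ j = 1) (h2 : x * x ≠ 1) : 4 ∣ orderOf x := by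
  obtain ⟨i, -, hi⟩ := (Nat.dvd_prime_pow Nat.prime_two).mp (orderOf_dvd_of_pow_eq_one hx)
  rw [hi]
  rcases i with _ | _ | i
  · exfalso
    rw [pow_zero, orderOf_eq_one_iff] at hi
    rw [hi, one_mul] at h2
    exact h2 rfl
  · exfalso
    apply h2
    rw [← sq]
    have : orderOf x = 2 := by rw [hi]; norm_num
    rw [← this, pow_orderOf_eq_one]
  · exact ⟨2 ^ i, by rw [pow_succ, pow_succ]; ring⟩

omit [Finite G] in
/-- 2-elements of the centralizer of an outer involution -/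
theorem Hyp.two_elt (h : Hyp K z p m n) {g x : G}
    (hg : Nat.card (K ⊓ centralizer ({g} : Set G) : Subgroup G) = n) (hx : x ∈ K)
    (hxg : x * g = g * x) {j : ℕ} (hxj : x ^ 2 ^ j = 1) : x = 1 ∨ x = z := by
  by_contra hcon
  push Not at hcon
  have h1 : x * x ≠ 1 := fun h1 => by
    rcases h.eq_z hx h1 with h2 | h2
    · exact hcon.1 h2
    · exact hcon.2 h2
  have h2 := four_dvd_of hxj h1
  have h3 : orderOf x ∣ n := by
    rw [← hg]
    exact (K ⊓ centralizer ({g} : Set G)).orderOf_dvd_natCard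
      ⟨hx, mem_centralizer_singleton_iff.mpr hxg⟩
  obtain ⟨d, m', n', hd, hm', hn', hm, hn, -, -⟩ := h.nums
  have h4 := h2.trans h3
  obtain ⟨i, hi⟩ := hn'
  omega

theorem exists_sylK {T : Subgroup G} (hT : IsSyl2 (normalizer (K : Set G)) T) :
    IsSyl2 K (T ⊓ K) := isSyl2_inf hT le_normalizer fun _ hd _ hw => mem_norm hd hw

theorem Hyp.z_mem (h : Hyp K z p m n) {T : Subgroup G} (hT : IsSyl2 (normalizer (K : Set G)) T) :
    z ∈ T := by
  refine mem_of_central hT (centralizer_le_normalizer _ h.zY) (fun y hy => ?_)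
    (isPGroup_zpowers h.z2)
  exact (h.mem_iff.mp hy).symm

omit [Finite G] in
theorem Hyp.card_K (h : Hyp K z p m n) {d m' n' : ℕ} (hm : m = 2 ^ d * m') (hn : n = 2 * n') :
    Nat.card K = 2 ^ (d + 1) * (p * m' * n') := by
  rw [h.dat.card, hm, hn, pow_succ]; ring

theorem Hyp.card_Q (h : Hyp K z p m n) {T : Subgroup G} (hT : IsSyl2 (normalizer (K : Set G)) T)
    {d m' n' : ℕ} (hm : m = 2 ^ d * m') (hn : n = 2 * n') (hm' : Odd m') (hn' : Odd n')
    (hp : Odd p) : Nat.card (T ⊓ K : Subgroup G) = 2 ^ (d + 1) :=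
  card_isSyl2 (exists_sylK hT) (h.card_K hm hn) ((hp.mul hm').mul hn')

/-- (P2) -/
theorem Hyp.twist (h : Hyp K z p m n) {u : G} (hu : u ∈ normalizer (K : Set G)) (huu : u * u = 1)
    (huY : u ∉ centralizer (K : Set G)) : ∃ k ∈ K, k * k = z ∧ k * u * k⁻¹ = u * z := by
  by_cases hI : Inn K u
  · obtain ⟨k, hk, y, hy, rfl, hkk, hyy⟩ := h.inn_inv huu huY hI
    obtain ⟨w, hw, hwk, hww⟩ := h.conj_inv hk hkk
    refine ⟨w, hw, hww, ?_⟩
    have h1 := comm hw hy
    calc w * (k * y) * w⁻¹ = (w * k * w⁻¹) * (w * y * w⁻¹) := by group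
      _ = (k * z) * y := by rw [hwk, h1, h.inv_k hkk, mul_inv_cancel_right]
      _ = k * y * z := by rw [mul_assoc, comm h.zK hy, mul_assoc]
  · have huu' : u * u ∈ centralizer (K : Set G) := by rw [huu]; exact one_mem _
    have hc := h.outer hu huu' hI
    have hu1 : u ≠ 1 := by rintro rfl; exact huY (one_mem _)
    obtain ⟨T, hT, huT⟩ := exists_isSyl2 (normalizer (K : Set G)) (zpowers u)
      (zpowers_le.mpr hu) (isPGroup_zpowers (orderOf_eq_two hu1 huu))
    obtain ⟨d, m', n', hd, hm', hn', hm, hn, -, hp⟩ := h.nums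
    have hQ := h.card_Q hT hm hn hm' hn' hp
    have hQ2 := (exists_sylK hT).two
    have huT' : u ∈ T := huT (mem_zpowers u)
    have hne : Nat.card (T ⊓ K : Subgroup G) ≠ 2 := by
      rw [hQ]
      have : 2 ^ 2 ≤ 2 ^ (d + 1) := Nat.pow_le_pow_right (by norm_num) (by omega)
      omega
    obtain ⟨x, hx, hx1, hxz, hux⟩ := exists_twist hQ2 (z := z) (u := u) ⟨h.z_mem hT, h.zK⟩ h.zz
      h.z_ne (fun x hx => (comm hx.2 h.zY).symm) hne (fun x hx =>
        ⟨T.mul_mem (T.mul_mem huT' hx.1) (T.inv_mem huT'), mem_norm hu hx.2⟩)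
      (h.mem_iff.mp hu) (j := 1) (by rw [pow_one, sq, huu])
    obtain ⟨j, hj⟩ := exists_pow_eq_one hQ2 hx
    have hux' : u * x * u⁻¹ = x * z := by
      rcases hux with h1 | h1
      · exfalso
        rcases h.two_elt hc hx.2 (mul_inv_eq_iff_eq_mul.mp h1).symm hj with h2 | h2
        · exact hx1 h2
        · exact hxz h2
      · exact h1
    have hxx : x * x = z := by
      have h1 : u * (x * x) * u⁻¹ = x * x := by
        calc u * (x * x) * u⁻¹ = (u * x * u⁻¹) * (u * x * u⁻¹) := by group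
          _ = x * (z * x) * z := by rw [hux']; group
          _ = x * (x * z) * z := by rw [comm hx.2 h.zY]
          _ = x * x * (z * z) := by group
          _ = x * x := by rw [h.zz, mul_one]
      rcases h.two_elt hc (K.mul_mem hx.2 hx.2) (mul_inv_eq_iff_eq_mul.mp h1).symm (j := j) (by
        rw [← sq, ← pow_mul, mul_comm, pow_mul, hj, one_pow]) with h2 | h2
      · exfalso
        rcases h.eq_z hx.2 h2 with h3 | h3
        · exact hx1 h3
        · exact hxz h3
      · exact h2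
    refine ⟨x, hx.2, hxx, ?_⟩
    have h1 : u * x = x * z * u := mul_inv_eq_iff_eq_mul.mp hux'
    have h2 : u * z = z * u := h.mem_iff.mp hu
    rw [mul_inv_eq_iff_eq_mul]
    calc x * u = x * (z * z) * u := by rw [h.zz, mul_one]
      _ = x * z * (z * u) := by group
      _ = x * z * (u * z) := by rw [h2]
      _ = (x * z * u) * z := by group
      _ = u * x * z := by rw [h1]
      _ = u * (x * z) := by group
      _ = u * (z * x) := by rw [comm hx.2 h.zY]
      _ = u * z * x := by group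

/-- (C2) a Sylow 2-subgroup of `N(K)` is a Sylow 2-subgroup of `G` -/
theorem Hyp.isSyl2_top (h : Hyp K z p m n) {T : Subgroup G}
    (hT : IsSyl2 (normalizer (K : Set G)) T) : IsSyl2 (⊤ : Subgroup G) T := by
  have hpf : Fact (Nat.Prime 2) := ⟨Nat.prime_two⟩
  obtain ⟨T', hTT'⟩ := hT.two.exists_le_sylow
  have hzT := h.z_mem hT
  have hN : normalizer (T : Set G) ≤ normalizer (K : Set G) := by
    intro x hx
    have hz'T : x * z * x⁻¹ ∈ T := forall_of_mem_normalizer hx z hzT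
    have hz'c : ∀ t ∈ T, t * (x * z * x⁻¹) = (x * z * x⁻¹) * t := by
      intro t ht
      have h1 : x⁻¹ * t * x ∈ T := by
        have := forall_of_mem_normalizer (inv_mem hx) t ht
        rwa [inv_inv] at this
      have h2 : (x⁻¹ * t * x) * z = z * (x⁻¹ * t * x) := h.mem_iff.mp (hT.le h1)
      calc t * (x * z * x⁻¹) = x * ((x⁻¹ * t * x) * z) * x⁻¹ := by group
        _ = x * (z * (x⁻¹ * t * x)) * x⁻¹ := by rw [h2]
        _ = (x * z * x⁻¹) * t := by group
    have hzz' : (x * z * x⁻¹) * (x * z * x⁻¹) = 1 := by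
      calc (x * z * x⁻¹) * (x * z * x⁻¹) = x * (z * z) * x⁻¹ := by group
        _ = 1 := by rw [h.zz]; group
    have hzY : x * z * x⁻¹ ∈ centralizer (K : Set G) := by
      by_contra hY
      obtain ⟨d, m', n', hd, hm', hn', hm, hn, -, hp⟩ := h.nums
      have hQ := h.card_Q hT hm hn hm' hn' hp
      by_cases hI : Inn K (x * z * x⁻¹)
      · obtain ⟨k, hk, y, hy, hky, hkk, hyy⟩ := h.inn_inv hzz' hY hI
        have h1 : T ⊓ K ≤ K ⊓ centralizer ({k} : Set G) := by
          intro t ht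
          refine ⟨ht.2, mem_centralizer_singleton_iff.mpr ?_⟩
          have h2 := hz'c t ht.1
          rw [hky] at h2
          have h3 := comm ht.2 hy
          apply mul_right_cancel (b := y)
          calc t * k * y = t * (k * y) := by group
            _ = k * y * t := h2
            _ = k * (y * t) := by group
            _ = k * (t * y) := by rw [h3]
            _ = k * t * y := by group
        have h2 := Subgroup.card_dvd_of_le h1
        rw [hQ, h.card4 hk hkk, hm, pow_succ] at h2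
        have h3 : 2 ∣ m' := Nat.dvd_of_mul_dvd_mul_left (by positivity) h2
        rw [← even_iff_two_dvd, ← Nat.not_odd_iff_even] at h3
        exact h3 hm'
      · have hc := h.outer (hT.le hz'T) (by rw [hzz']; exact one_mem _) hI
        have h1 : T ⊓ K ≤ K ⊓ centralizer ({x * z * x⁻¹} : Set G) := by
          intro t ht
          exact ⟨ht.2, mem_centralizer_singleton_iff.mpr (hz'c t ht.1)⟩
        have h2 := Subgroup.card_dvd_of_le h1
        rw [hQ, hc, hn, pow_succ, mul_comm] at h2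
        have h3 : 2 ^ d ∣ n' := Nat.dvd_of_mul_dvd_mul_left (by norm_num) h2
        have h4 : 2 ∣ n' := (dvd_pow_self 2 (by omega)).trans h3
        rw [← even_iff_two_dvd, ← Nat.not_odd_iff_even] at h4
        exact h4 hn'
    rw [h.mem_iff]
    exact mul_inv_eq_iff_eq_mul.mp (h.eq_z_of_cent hzY)
  have hnS : normalizer (T : Set G) ⊓ (T' : Subgroup G) ≤ T := by
    have h2 : IsPGroup 2 (normalizer (T : Set G) ⊓ (T' : Subgroup G) : Subgroup G) :=
      T'.isPGroup'.to_le inf_le_right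
    exact (hT.max _ (inf_le_left.trans hN) h2 (le_inf Subgroup.le_normalizer hTT')).le
  have hTT : (T' : Subgroup G) = T :=
    Cfsg.Agent.Blocks.SylowIn.eq_of_normalizer_inf_le (p := 2) T'.isPGroup' hTT' hnS
  refine ⟨le_top, hT.two, fun Y _ hY hle => ?_⟩
  rw [← hTT] at hle ⊢
  exact T'.is_maximal' hY hle

/-- Two commuting conjugates `z`, `u` of `z`, permuted with `uz` by the 3-element `h`. -/
structure Pair (K : Subgroup G) (z u h : G) (P T : Subgroup G) (p m n : ℕ) : Prop where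
  hyp : Hyp K z p m n
  hz : h * z * h⁻¹ = u
  hu : h * u * h⁻¹ = u * z
  ne : u ≠ z
  com : u * z = z * u
  three : ∃ s, orderOf h = 3 ^ s
  syl : IsSyl2 (centralizer ({z} : Set G) ⊓ centralizer ({u} : Set G)) P
  hP : ∀ x ∈ P, h * x * h⁻¹ ∈ P
  sylT : IsSyl2 (normalizer (K : Set G)) T
  le : P ≤ T

omit [Finite G] in
theorem isSyl2_cj {H Q : Subgroup G} (hQ : IsSyl2 H Q) (g : G) : IsSyl2 (cj g H) (cj g Q) := by
  refine ⟨cj_mono hQ.le, hQ.two.map _, fun Y hY hY2 hle => ?_⟩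
  have h1 := hQ.max (cj g⁻¹ Y) (by
    have := cj_mono (g := g⁻¹) hY
    rwa [cj_inv_cj] at this) (hY2.map _) (by
    have := cj_mono (g := g⁻¹) hle
    rwa [cj_inv_cj] at this)
  rw [← h1, cj_cj_inv]

/-- (C3) -/
theorem exists_pair (h : Hyp K z p m n) {g : G} (hc : (g * z * g⁻¹) * z = z * (g * z * g⁻¹))
    (hne : g * z * g⁻¹ ≠ z) : ∃ (x : G) (P T : Subgroup G), Pair K z (g * z * g⁻¹) x P T p m n := by
  have hKu : Hyp (cj g K) (g * z * g⁻¹) p m n := h.conj g
  have hzg : ∀ x, x = g * z * g⁻¹ → x ∈ centralizer (K : Set G) → x = z := by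
    rintro x rfl hx
    exact h.eq_z_of_cent hx
  obtain ⟨u, hu⟩ : ∃ u, u = g * z * g⁻¹ := ⟨_, rfl⟩
  rw [← hu] at hc hne hKu ⊢
  have huu : u * u = 1 := by
    calc u * u = g * (z * z) * g⁻¹ := by rw [hu]; group
      _ = 1 := by rw [h.zz]; group
  have hzz := h.zz
  obtain ⟨k, hk, -, hku⟩ := h.twist (h.mem_iff.mpr hc) huu (fun hY => hne (hzg u hu hY))
  have hzY : z ∉ centralizer (cj g K : Set G) := by
    intro hY
    have e : z = g⁻¹ * u * g⁻¹⁻¹ := by rw [hu]; group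
    rw [e] at hY
    have := hKu.eq_z_of_cent hY
    rw [← e] at this
    exact hne this.symm
  obtain ⟨k', hk', -, hku'⟩ := hKu.twist (hKu.mem_iff.mpr hc.symm) h.zz hzY
  have hkz : k * z * k⁻¹ = z := h.conj_z (le_normalizer hk)
  have hku2 : k' * u * k'⁻¹ = u := hKu.conj_z (le_normalizer hk')
  -- the 3-cycle
  obtain ⟨x₀, hx₀⟩ : ∃ x₀, x₀ = k * k' := ⟨_, rfl⟩
  have hxz : x₀ * z * x₀⁻¹ = u := by
    rw [hx₀]
    calc k * k' * z * (k * k')⁻¹ = k * (k' * z * k'⁻¹) * k⁻¹ := by group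
      _ = (k * z * k⁻¹) * (k * u * k⁻¹) := by rw [hku']; group
      _ = z * (u * z) := by rw [hkz, hku]
      _ = (z * z) * u := by rw [hc]; group
      _ = u := by rw [hzz, one_mul]
  have hxu : x₀ * u * x₀⁻¹ = u * z := by
    rw [hx₀]
    calc k * k' * u * (k * k')⁻¹ = k * (k' * u * k'⁻¹) * k⁻¹ := by group
      _ = u * z := by rw [hku2, hku]
  set D := centralizer ({z} : Set G) ⊓ centralizer ({u} : Set G) with hD
  have hDmem : ∀ x, x ∈ D ↔ x * z = z * x ∧ x * u = u * x := fun x => by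
    rw [hD, Subgroup.mem_inf, mem_centralizer_singleton_iff, mem_centralizer_singleton_iff]
  obtain ⟨P, hP, -⟩ := exists_isSyl2 D ⊥ bot_le IsPGroup.of_bot
  have hDx : cj x₀ D = D := by
    have hx : x₀ ∈ normalizer (D : Set G) := by
      refine mem_normalizer_of_forall fun x hx => ?_
      rw [hDmem] at hx ⊢
      have e2 : x₀ * (u * z) * x₀⁻¹ = z := by
        calc x₀ * (u * z) * x₀⁻¹ = (x₀ * u * x₀⁻¹) * (x₀ * z * x₀⁻¹) := by group
          _ = u * z * u := by rw [hxz, hxu]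
          _ = z * (u * u) := by rw [hc]; group
          _ = z := by rw [huu, mul_one]
      constructor
      · have hxuz : x * (u * z) = (u * z) * x := by
          rw [← mul_assoc, hx.2, mul_assoc, hx.1, mul_assoc]
        calc x₀ * x * x₀⁻¹ * z = x₀ * x * x₀⁻¹ * (x₀ * (u * z) * x₀⁻¹) := by rw [e2]
          _ = x₀ * (x * (u * z)) * x₀⁻¹ := by group
          _ = x₀ * ((u * z) * x) * x₀⁻¹ := by rw [hxuz]
          _ = (x₀ * (u * z) * x₀⁻¹) * (x₀ * x * x₀⁻¹) := by group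
          _ = z * (x₀ * x * x₀⁻¹) := by rw [e2]
      · calc x₀ * x * x₀⁻¹ * u = x₀ * x * x₀⁻¹ * (x₀ * z * x₀⁻¹) := by rw [hxz]
          _ = x₀ * (x * z) * x₀⁻¹ := by group
          _ = x₀ * (z * x) * x₀⁻¹ := by rw [hx.1]
          _ = (x₀ * z * x₀⁻¹) * (x₀ * x * x₀⁻¹) := by group
          _ = u * (x₀ * x * x₀⁻¹) := by rw [hxz]
    exact cj_eq_iff.mpr hx
  have hP' := isSyl2_cj hP x₀
  rw [hDx] at hP'
  obtain ⟨c, hcD, hcP⟩ := CITBasic.IsSyl2.conj hP' hP
  have hcD' := (hDmem c).mp hcD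
  obtain ⟨x₁, hx₁⟩ : ∃ x₁, x₁ = c * x₀ := ⟨_, rfl⟩
  have hx1P : cj x₁ P = P := by
    rw [hx₁, cj_mul]; exact hcP.symm
  have hx1z : x₁ * z * x₁⁻¹ = u := by
    rw [hx₁]
    calc c * x₀ * z * (c * x₀)⁻¹ = c * (x₀ * z * x₀⁻¹) * c⁻¹ := by group
      _ = u := by rw [hxz, hcD'.2]; group
  have hx1u : x₁ * u * x₁⁻¹ = u * z := by
    rw [hx₁]
    calc c * x₀ * u * (c * x₀)⁻¹ = c * (x₀ * u * x₀⁻¹) * c⁻¹ := by group
      _ = (c * u) * z * c⁻¹ := by rw [hxu]; group
      _ = u * (c * z) * c⁻¹ := by rw [hcD'.2]; group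
      _ = u * z := by rw [hcD'.1]; group
  -- the 3-part
  obtain ⟨s, t, ht, hst⟩ := Nat.exists_eq_pow_mul_and_not_dvd (orderOf_pos x₁).ne' 3 (by decide)
  have hx3z : Commute (x₁ ^ 3) z := by
    have e : x₁ ^ 3 * z * (x₁ ^ 3)⁻¹ = z := by
      calc x₁ ^ 3 * z * (x₁ ^ 3)⁻¹ = x₁ * (x₁ * (x₁ * z * x₁⁻¹) * x₁⁻¹) * x₁⁻¹ := by
            rw [pow_succ, pow_succ, pow_succ, pow_zero]; group
        _ = x₁ * (u * z) * x₁⁻¹ := by rw [hx1z, hx1u]
        _ = (x₁ * u * x₁⁻¹) * (x₁ * z * x₁⁻¹) := by group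
        _ = (z * u) * u := by rw [hx1z, hx1u, hc]
        _ = z := by rw [mul_assoc, huu, mul_one]
    exact mul_inv_eq_iff_eq_mul.mp e
  have hx3u : Commute (x₁ ^ 3) u := by
    have e : x₁ ^ 3 * u * (x₁ ^ 3)⁻¹ = u := by
      have hx3z' := hx3z.eq
      calc x₁ ^ 3 * u * (x₁ ^ 3)⁻¹ = x₁ ^ 3 * (x₁ * z * x₁⁻¹) * (x₁ ^ 3)⁻¹ := by rw [hx1z]
        _ = x₁ * (x₁ ^ 3 * z * (x₁ ^ 3)⁻¹) * x₁⁻¹ := by
            rw [pow_succ, pow_succ, pow_succ, pow_zero]; group
        _ = x₁ * z * x₁⁻¹ := by rw [hx3z']; group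
        _ = u := hx1z
    exact mul_inv_eq_iff_eq_mul.mp e
  obtain ⟨j, hj⟩ : ∃ j, t ^ 2 = 3 * j + 1 := by
    have h3 : t % 3 = 1 ∨ t % 3 = 2 := by omega
    have h4 : t ^ 2 % 3 = 1 := by
      rw [Nat.pow_mod]
      rcases h3 with h3 | h3 <;> rw [h3]
    exact ⟨t ^ 2 / 3, by omega⟩
  obtain ⟨y, hy⟩ : ∃ y, y = x₁ ^ t ^ 2 := ⟨_, rfl⟩
  have hyx : y = (x₁ ^ 3) ^ j * x₁ := by rw [hy, hj, pow_succ, pow_mul]
  have hyz : y * z * y⁻¹ = u := by
    rw [hyx]
    calc (x₁ ^ 3) ^ j * x₁ * z * ((x₁ ^ 3) ^ j * x₁)⁻¹ =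
          (x₁ ^ 3) ^ j * (x₁ * z * x₁⁻¹) * ((x₁ ^ 3) ^ j)⁻¹ := by group
      _ = u := by rw [hx1z, (hx3u.pow_left j).eq]; group
  have hyu : y * u * y⁻¹ = u * z := by
    rw [hyx]
    calc (x₁ ^ 3) ^ j * x₁ * u * ((x₁ ^ 3) ^ j * x₁)⁻¹ =
          (x₁ ^ 3) ^ j * (x₁ * u * x₁⁻¹) * ((x₁ ^ 3) ^ j)⁻¹ := by group
      _ = u * z := by rw [hx1u, ((hx3u.mul_right hx3z).pow_left j).eq]; group
  have hyP : ∀ x ∈ P, y * x * y⁻¹ ∈ P := by
    have hx1n : x₁ ∈ normalizer (P : Set G) := cj_eq_iff.mp hx1P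
    have hyn : y ∈ normalizer (P : Set G) := by rw [hy]; exact Subgroup.pow_mem _ hx1n _
    exact forall_of_mem_normalizer hyn
  have hy3 : y ^ 3 ^ s = 1 := by
    rw [hy, ← pow_mul, sq, mul_comm (t * t), ← mul_assoc, ← hst, pow_mul, pow_orderOf_eq_one,
      one_pow]
  obtain ⟨s', -, hs'⟩ := (Nat.dvd_prime_pow Nat.prime_three).mp (orderOf_dvd_of_pow_eq_one hy3)
  obtain ⟨T, hT, hPT⟩ := exists_isSyl2 (normalizer (K : Set G)) P (by
    intro x hx
    exact h.mem_iff.mpr ((hDmem x).mp (hP.le hx)).1) hP.two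
  exact ⟨y, P, T, h, hyz, hyu, hne, hc, ⟨s', hs'⟩, hP, hyP, hT, hPT⟩

end Cfsg.Agent.OddCyclic.CompSL2Amb
end

-- part: OddCyclic/CompSL2Inner
section
/-!
# S0342, case C: inner pairs

(I1)-(I8) of blueprints/S0342-caseC.md.
-/

set_option autoImplicit false

namespace Cfsg.Agent.OddCyclic.CompSL2Amb

open Subgroup Cfsg
open Cfsg.Agent.OddCyclic.T1Defs Cfsg.Agent.OddCyclic.CompBasic
open Cfsg.Agent.OddCyclic.CompStandard Cfsg.Agent.OddCyclic.CompSL2Facts
open Cfsg.Agent.LieExceptional Cfsg.Agent.LieExceptional.CITDefs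
open Cfsg.Agent.LieExceptional.CITBasic

variable {G : Type*} [Group G] [Finite G] {K : Subgroup G} {z : G} {p m n : ℕ}

section pair

variable {u x : G} {P T : Subgroup G}

omit [Finite G] in
theorem Pair.uu (H : Pair K z u x P T p m n) : u * u = 1 := by
  rw [← H.hz]
  calc x * z * x⁻¹ * (x * z * x⁻¹) = x * (z * z) * x⁻¹ := by group
    _ = 1 := by rw [H.hyp.zz]; group

omit [Finite G] in
theorem Pair.u_ne (H : Pair K z u x P T p m n) : u ≠ 1 := by
  intro h1
  apply H.hyp.z_ne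
  have h2 := H.hz
  rw [h1] at h2
  calc z = x⁻¹ * (x * z * x⁻¹) * x := by group
    _ = 1 := by rw [h2]; group

omit [Finite G] in
theorem Pair.uz_ne (H : Pair K z u x P T p m n) : u * z ≠ 1 := by
  intro h1
  apply H.ne
  rw [eq_inv_of_mul_eq_one_left h1, H.hyp.z_inv]

omit [Finite G] in
theorem Pair.huz (H : Pair K z u x P T p m n) : x * (u * z) * x⁻¹ = z := by
  calc x * (u * z) * x⁻¹ = (x * u * x⁻¹) * (x * z * x⁻¹) := by group
    _ = u * z * u := by rw [H.hz, H.hu]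
    _ = u * (z * u) := by group
    _ = (u * u) * z := by rw [← H.com]; group
    _ = z := by rw [H.uu, one_mul]

omit [Finite G] in
theorem mem_D {g : G} {u : G} : g ∈ centralizer ({z} : Set G) ⊓ centralizer ({u} : Set G) ↔
    g * z = z * g ∧ g * u = u * g := by
  rw [Subgroup.mem_inf, mem_centralizer_singleton_iff, mem_centralizer_singleton_iff]

omit [Finite G] in
theorem Pair.Pz (H : Pair K z u x P T p m n) {g : G} (hg : g ∈ P) : g * z = z * g :=
  (mem_D.mp (H.syl.le hg)).1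

omit [Finite G] in
theorem Pair.Pu (H : Pair K z u x P T p m n) {g : G} (hg : g ∈ P) : g * u = u * g :=
  (mem_D.mp (H.syl.le hg)).2

omit [Finite G] in
theorem Pair.mem_P (H : Pair K z u x P T p m n) {g : G} (hg : g ∈ T) (hgu : g * u = u * g) :
    g ∈ P := by
  have h1 := H.syl.max (T ⊓ centralizer ({u} : Set G)) (by
    intro t ht
    exact mem_D.mpr ⟨H.hyp.mem_iff.mp (H.sylT.le ht.1), mem_centralizer_singleton_iff.mp ht.2⟩)
    (H.sylT.two.to_le inf_le_left) (by
    intro t ht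
    exact ⟨H.le ht, mem_centralizer_singleton_iff.mpr (H.Pu ht)⟩)
  rw [← h1]
  exact ⟨hg, mem_centralizer_singleton_iff.mpr hgu⟩

omit [Finite G] in
theorem Pair.uM (H : Pair K z u x P T p m n) : u ∈ normalizer (K : Set G) :=
  H.hyp.mem_iff.mpr H.com

omit [Finite G] in
theorem Pair.uY (H : Pair K z u x P T p m n) : u ∉ centralizer (K : Set G) := by
  intro h1
  rw [← H.hz] at h1
  have h2 := H.hyp.eq_z_of_cent h1
  rw [H.hz] at h2
  exact H.ne h2

omit [Finite G] in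
theorem Pair.PM (H : Pair K z u x P T p m n) {g : G} (hg : g ∈ P) :
    g ∈ normalizer (K : Set G) := H.sylT.le (H.le hg)

theorem Pair.hyp_u (H : Pair K z u x P T p m n) : Hyp (cj x K) u p m n := by
  have := H.hyp.conj x
  rwa [H.hz] at this

theorem Pair.cjP (H : Pair K z u x P T p m n) : cj x P = P :=
  cj_eq_iff.mpr (mem_normalizer_of_forall H.hP)

theorem Pair.inv_mem (H : Pair K z u x P T p m n) {g : G} (hg : g ∈ P) : x⁻¹ * g * x ∈ P := by
  have h1 := hg
  rw [← H.cjP, mem_cj] at h1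
  exact h1

omit [Finite G] in
theorem Pair.x_not (H : Pair K z u x P T p m n) : x ∉ normalizer (K : Set G) := by
  intro h1
  have h2 := H.hyp.conj_z h1
  rw [H.hz] at h2
  exact H.ne h2

omit [Finite G] in
theorem Pair.inter_Y (H : Pair K z u x P T p m n) {g : G} (hg : g ∈ P)
    (h1 : g ∈ centralizer (K : Set G)) (h2 : x⁻¹ * g * x ∈ centralizer (K : Set G)) : g = 1 := by
  by_contra hne
  obtain ⟨j, hj⟩ := exists_inv H.syl.two hg hne
  have h3 : (x⁻¹ * g * x) ^ j = x⁻¹ * g ^ j * x⁻¹⁻¹ := by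
    have := conj_pow (i := j) (a := x⁻¹) (b := g)
    rw [inv_inv] at this ⊢
    exact this
  have h4 := H.hyp.ti x⁻¹ (g ^ j) hj (Subgroup.pow_mem _ h1 j) (by
    rw [← h3]; exact Subgroup.pow_mem _ h2 j)
  exact H.x_not (by rw [← inv_inv x]; exact Subgroup.inv_mem _ h4)

/-- Two normal subgroups `P ∩ K`, `P ∩ K^g` with different involutions commute. -/
theorem comm_of_ne (h : Hyp K z p m n) {g : G} (hg : g * z * g⁻¹ ≠ z) {P : Subgroup G}
    (hP : IsPGroup 2 P) (hPK : ∀ a ∈ P, a * z = z * a)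
    (hPg : ∀ a ∈ P, a * (g * z * g⁻¹) = (g * z * g⁻¹) * a) :
    (∀ c ∈ P, c ∈ K → c ∈ cj g K → c = 1) ∧
    ∀ a ∈ P, a ∈ K → ∀ b ∈ P, b ∈ cj g K → a * b = b * a := by
  have hu := h.conj g
  have key : ∀ c ∈ P, c ∈ K → c ∈ cj g K → c = 1 := by
    intro c hc hcK hcg
    by_contra hne
    obtain ⟨j, hj⟩ := exists_inv hP hc hne
    obtain ⟨h1, h2⟩ := sq_of_orderOf hj
    have h3 := (h.eq_z (K.pow_mem hcK j) h1).resolve_left h2
    have h4 := (hu.eq_z (Subgroup.pow_mem _ hcg j) h1).resolve_left h2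
    rw [h3] at h4
    exact hg h4.symm
  refine ⟨key, fun a ha haK b hb hbg => ?_⟩
  have hbM := h.mem_iff.mpr (hPK b hb)
  have haM := hu.mem_iff.mpr (hPg a ha)
  have h1 : a * b * a⁻¹ * b⁻¹ = 1 := by
    refine key _ (P.mul_mem (P.mul_mem (P.mul_mem ha hb) (P.inv_mem ha)) (P.inv_mem hb)) ?_ ?_
    · have e : a * b * a⁻¹ * b⁻¹ = a * (b * a⁻¹ * b⁻¹) := by group
      rw [e]
      exact K.mul_mem haK (mem_norm hbM (K.inv_mem haK))
    · exact Subgroup.mul_mem _ (mem_norm haM hbg) (Subgroup.inv_mem _ hbg)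
  have h2 : a * b * a⁻¹ = b := mul_inv_eq_one.mp h1
  exact mul_inv_eq_iff_eq_mul.mp h2

end pair

/-- An inner pair: `u = k y`. -/
structure InnPair (K : Subgroup G) (z u x : G) (P T : Subgroup G) (p m n d m' n' : ℕ) (k y : G) :
    Prop extends Pair K z u x P T p m n where
  kK : k ∈ K
  yY : y ∈ centralizer (K : Set G)
  uk : u = k * y
  kk : k * k = z
  yy : y * y = z
  hd : 2 ≤ d
  hm' : Odd m'
  hn' : Odd n'
  hm : m = 2 ^ d * m'
  hn : n = 2 * n'
  odd_p : Odd p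

namespace InnPair

variable {u x : G} {P T : Subgroup G} {d m' n' : ℕ} {k y : G}

omit [Finite G] in
theorem pm (H : InnPair K z u x P T p m n d m' n' k y) {g : G}
    (hg : g ∈ normalizer (K : Set G)) (hgu : g * u = u * g) : g * k * g⁻¹ = k ∨ g * k * g⁻¹ = k⁻¹ := by
  have h1 : g * k * g⁻¹ ∈ K := mem_norm hg H.kK
  have h2 := mem_cent hg H.yY
  have h3 : (g * k * g⁻¹) * (g * y * g⁻¹) = k * y := by
    calc (g * k * g⁻¹) * (g * y * g⁻¹) = g * (k * y) * g⁻¹ := by group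
      _ = k * y := by rw [← H.uk, hgu]; group
  have h4 : k⁻¹ * (g * k * g⁻¹) = y * (g * y * g⁻¹)⁻¹ := by
    rw [eq_mul_inv_iff_mul_eq, mul_assoc, h3]; group
  have h5 : k⁻¹ * (g * k * g⁻¹) ∈ centralizer (K : Set G) := by
    rw [h4]; exact Subgroup.mul_mem _ H.yY (Subgroup.inv_mem _ h2)
  rcases H.hyp.inter (K.mul_mem (K.inv_mem H.kK) h1) h5 with h6 | h6
  · left
    exact (inv_mul_eq_one.mp h6).symm
  · right
    rw [H.hyp.inv_k H.kk]
    exact inv_mul_eq_iff_eq_mul.mp h6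

omit [Finite G] in
theorem K_comm (H : InnPair K z u x P T p m n d m' n' k y) {g : G} (hg : g ∈ K) :
    g * u = u * g ↔ g * k = k * g := by
  have h1 := comm hg H.yY
  rw [H.uk]
  constructor
  · intro h2
    apply mul_right_cancel (b := y)
    calc g * k * y = g * (k * y) := by group
      _ = k * y * g := h2
      _ = k * (y * g) := by group
      _ = k * (g * y) := by rw [h1]
      _ = k * g * y := by group
  · intro h2
    calc g * (k * y) = g * k * y := by group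
      _ = k * (g * y) := by rw [h2]; group
      _ = k * (y * g) := by rw [h1]
      _ = k * y * g := by group

omit [Finite G] in
theorem Y_comm (H : InnPair K z u x P T p m n d m' n' k y) {g : G}
    (hg : g ∈ centralizer (K : Set G)) : g * u = u * g ↔ g * y = y * g := by
  have h1 := comm H.kK hg
  rw [H.uk]
  constructor
  · intro h2
    apply mul_left_cancel (a := k)
    calc k * (g * y) = (k * g) * y := by group
      _ = g * (k * y) := by rw [h1]; group
      _ = k * y * g := h2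
      _ = k * (y * g) := by group
  · intro h2
    calc g * (k * y) = (g * k) * y := by group
      _ = k * (g * y) := by rw [← h1]; group
      _ = k * (y * g) := by rw [h2]
      _ = k * y * g := by group

theorem sylA (H : InnPair K z u x P T p m n d m' n' k y) :
    IsSyl2 (K ⊓ centralizer ({k} : Set G)) (P ⊓ K) := by
  have h1 := isSyl2_inf H.syl (W := K ⊓ centralizer ({k} : Set G)) (by
    intro g hg
    have h1 := mem_centralizer_singleton_iff.mp hg.2
    exact mem_D.mpr ⟨H.hyp.mem_iff.mp (le_normalizer hg.1), (H.K_comm hg.1).mpr h1⟩) (by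
    intro g hg w hw
    have hg' := mem_D.mp hg
    have h2 := mem_norm (H.hyp.mem_iff.mpr hg'.1) hw.1
    refine ⟨h2, mem_centralizer_singleton_iff.mpr ((H.K_comm h2).mp ?_)⟩
    have h3 := (H.K_comm hw.1).mpr (mem_centralizer_singleton_iff.mp hw.2)
    have h4 : g⁻¹ * u = u * g⁻¹ := by
      rw [inv_mul_eq_iff_eq_mul, ← mul_assoc, hg'.2]; group
    calc g * w * g⁻¹ * u = g * w * (g⁻¹ * u) := by group
      _ = g * (w * u) * g⁻¹ := by rw [h4]; group
      _ = (g * u) * w * g⁻¹ := by rw [h3]; group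
      _ = u * (g * w * g⁻¹) := by rw [hg'.2]; group)
  have h2 : P ⊓ (K ⊓ centralizer ({k} : Set G)) = P ⊓ K := by
    ext g
    constructor
    · rintro ⟨h3, h4, -⟩
      exact ⟨h3, h4⟩
    · rintro ⟨h3, h4⟩
      exact ⟨h3, h4, mem_centralizer_singleton_iff.mpr ((H.K_comm h4).mp (H.Pu h3))⟩
  rwa [h2] at h1

theorem sylB (H : InnPair K z u x P T p m n d m' n' k y) :
    IsSyl2 (centralizer (K : Set G) ⊓ centralizer ({y} : Set G)) (P ⊓ centralizer (K : Set G)) := by
  have h1 := isSyl2_inf H.syl (W := centralizer (K : Set G) ⊓ centralizer ({y} : Set G)) (by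
    intro g hg
    have h1 := mem_centralizer_singleton_iff.mp hg.2
    exact mem_D.mpr ⟨H.hyp.mem_iff.mp (centralizer_le_normalizer _ hg.1),
      (H.Y_comm hg.1).mpr h1⟩) (by
    intro g hg w hw
    have hg' := mem_D.mp hg
    have h2 := mem_cent (H.hyp.mem_iff.mpr hg'.1) hw.1
    refine ⟨h2, mem_centralizer_singleton_iff.mpr ((H.Y_comm h2).mp ?_)⟩
    have h3 := (H.Y_comm hw.1).mpr (mem_centralizer_singleton_iff.mp hw.2)
    have h4 : g⁻¹ * u = u * g⁻¹ := by
      rw [inv_mul_eq_iff_eq_mul, ← mul_assoc, hg'.2]; group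
    calc g * w * g⁻¹ * u = g * w * (g⁻¹ * u) := by group
      _ = g * (w * u) * g⁻¹ := by rw [h4]; group
      _ = (g * u) * w * g⁻¹ := by rw [h3]; group
      _ = u * (g * w * g⁻¹) := by rw [hg'.2]; group)
  have h2 : P ⊓ (centralizer (K : Set G) ⊓ centralizer ({y} : Set G)) =
      P ⊓ centralizer (K : Set G) := by
    ext g
    constructor
    · rintro ⟨h3, h4, -⟩
      exact ⟨h3, h4⟩
    · rintro ⟨h3, h4⟩
      exact ⟨h3, h4, mem_centralizer_singleton_iff.mpr ((H.Y_comm h4).mp (H.Pu h3))⟩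
  rwa [h2] at h1

omit [Finite G] in
theorem sq_pow {g : G} (h : Hyp K z p m n) (hg : g * g = z) : g ^ 2 ^ 2 = 1 := by
  have : g ^ 2 ^ 2 = (g * g) * (g * g) := by
    rw [show (2 : ℕ) ^ 2 = 4 by norm_num, pow_succ, pow_succ, pow_succ, pow_succ, pow_zero]; group
  rw [this, hg, h.zz]

theorem kP (H : InnPair K z u x P T p m n d m' n' k y) : k ∈ P := by
  refine (mem_of_central H.sylA ⟨H.kK, mem_centralizer_singleton_iff.mpr rfl⟩ (fun g hg => ?_)
    (isPGroup_of_pow (sq_pow H.hyp H.kk))).1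
  exact (mem_centralizer_singleton_iff.mp hg.2).symm

theorem yP (H : InnPair K z u x P T p m n d m' n' k y) : y ∈ P := by
  refine (mem_of_central H.sylB ⟨H.yY, mem_centralizer_singleton_iff.mpr rfl⟩ (fun g hg => ?_)
    (isPGroup_of_pow (sq_pow H.hyp H.yy))).1
  exact (mem_centralizer_singleton_iff.mp hg.2).symm

theorem cardA (H : InnPair K z u x P T p m n d m' n' k y) :
    Nat.card (P ⊓ K : Subgroup G) = 2 ^ d :=
  card_isSyl2 H.sylA (by rw [H.hyp.card4 H.kK H.kk, H.hm]) H.hm'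

/-- (I1) -/
theorem B1 (H : InnPair K z u x P T p m n d m' n' k y) {b : G} (hb : b ∈ P)
    (hbY : x⁻¹ * b * x ∈ centralizer (K : Set G)) : b * k = k * b := by
  obtain ⟨c, hc⟩ : ∃ c, c = x * y * x⁻¹ := ⟨_, rfl⟩
  have hcP : c ∈ P := by rw [hc]; exact H.hP _ H.yP
  have hcc : c * c = u := by
    rw [hc, ← H.hz, ← H.yy]; group
  have hbc : b * c = c * b := by
    have h1 := (H.Y_comm hbY).mp (H.Pu (H.inv_mem hb))
    rw [hc]
    calc b * (x * y * x⁻¹) = x * ((x⁻¹ * b * x) * y) * x⁻¹ := by group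
      _ = x * (y * (x⁻¹ * b * x)) * x⁻¹ := by rw [h1]
      _ = x * y * x⁻¹ * b := by group
  have hck : c * k * c⁻¹ = k := by
    rcases H.pm (H.PM hcP) (H.Pu hcP) with h1 | h1
    · exact h1
    · exfalso
      have h2 := (H.hyp.invt H.kK H.kk (H.PM hcP) h1).2
      rw [hcc] at h2
      exact H.uY h2
  rcases H.pm (H.PM hb) (H.Pu hb) with h1 | h1
  · exact mul_inv_eq_iff_eq_mul.mp h1
  · exfalso
    have h2 := (H.hyp.invt H.kK H.kk (H.PM hb) h1).2
    have h3 : (b * c) * k * (b * c)⁻¹ = k⁻¹ := by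
      calc (b * c) * k * (b * c)⁻¹ = b * (c * k * c⁻¹) * b⁻¹ := by group
        _ = k⁻¹ := by rw [hck, h1]
    have h4 := (H.hyp.invt H.kK H.kk (H.PM (P.mul_mem hb hcP)) h3).2
    have h5 : b * c * (b * c) = (b * b) * u := by
      calc b * c * (b * c) = b * (c * b) * c := by group
        _ = (b * b) * (c * c) := by rw [← hbc]; group
        _ = (b * b) * u := by rw [hcc]
    rw [h5] at h4
    exact H.uY ((Subgroup.mul_mem_cancel_left _ h2).mp h4)

theorem cardB_le (H : InnPair K z u x P T p m n d m' n' k y) :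
    Nat.card (P ⊓ centralizer (K : Set G) : Subgroup G) ∣ 2 ^ d := by
  have hpf : Fact (Nat.Prime 2) := ⟨Nat.prime_two⟩
  set B := cj x (P ⊓ centralizer (K : Set G)) with hB
  have hBP : B ≤ P := by
    rw [hB, ← H.cjP]
    exact cj_mono (by rw [H.cjP]; exact inf_le_left)
  have hBY : ∀ b ∈ B, x⁻¹ * b * x ∈ centralizer (K : Set G) := by
    intro b hb
    exact (mem_cj.mp hb).2
  have h1 := H.hyp.card_dvd4 (T := B) (fun b hb => H.PM (hBP hb)) H.kK H.kk
    (fun b hb => H.B1 (hBP hb) (hBY b hb))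
  have h2 : B ⊓ centralizer (K : Set G) = ⊥ := by
    rw [eq_bot_iff]
    rintro b ⟨hb, hbK⟩
    rw [mem_bot]
    exact H.inter_Y (hBP hb) hbK (hBY b hb)
  rw [h2, Subgroup.card_bot, mul_one, hB, card_cj, H.hm] at h1
  obtain ⟨a, ha⟩ := IsPGroup.iff_card.mp (H.syl.two.to_le
    (inf_le_left : P ⊓ centralizer (K : Set G) ≤ P))
  rw [ha] at h1 ⊢
  exact (Nat.Coprime.pow_left a H.hm'.coprime_two_left).dvd_of_dvd_mul_right h1

/-- `F = C_P(k)` -/
theorem F_facts (H : InnPair K z u x P T p m n d m' n' k y) :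
    Nat.card (P ⊓ centralizer ({k} : Set G) : Subgroup G) = 2 ^ d * 2 ^ d ∧
    Nat.card (P ⊓ centralizer (K : Set G) : Subgroup G) = 2 ^ d ∧
    ∀ f ∈ P, f * k = k * f → ∃ a ∈ P ⊓ K, ∃ b ∈ P ⊓ cj x K, f = a * b := by
  have hpf : Fact (Nat.Prime 2) := ⟨Nat.prime_two⟩
  set F : Subgroup G := P ⊓ centralizer ({k} : Set G) with hF
  obtain ⟨c1, c2⟩ := comm_of_ne H.hyp (g := x) (by rw [H.hz]; exact H.ne) H.syl.two
    (fun a ha => H.Pz ha) (fun a ha => by rw [H.hz]; exact H.Pu ha)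
  have hA1 : Nat.card (P ⊓ cj x K : Subgroup G) = 2 ^ d := by
    have : cj x (P ⊓ K) = P ⊓ cj x K := by rw [cj_inf, H.cjP]
    rw [← this, card_cj, H.cardA]
  have hup : Nat.card F ∣ 2 ^ d * Nat.card (P ⊓ centralizer (K : Set G) : Subgroup G) := by
    have h1 := H.hyp.card_dvd4 (T := F) (fun f hf => H.PM hf.1) H.kK H.kk
      (fun f hf => mem_centralizer_singleton_iff.mp hf.2)
    have h2 : F ⊓ centralizer (K : Set G) = P ⊓ centralizer (K : Set G) := by
      ext g
      constructor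
      · rintro ⟨h3, h4⟩
        exact ⟨h3.1, h4⟩
      · rintro ⟨h3, h4⟩
        exact ⟨⟨h3, mem_centralizer_singleton_iff.mpr (comm H.kK h4).symm⟩, h4⟩
    rw [h2, H.hm] at h1
    obtain ⟨a, ha⟩ := IsPGroup.iff_card.mp (H.syl.two.to_le (inf_le_left : F ≤ P))
    rw [ha] at h1 ⊢
    refine (Nat.Coprime.pow_left a H.hm'.coprime_two_left).dvd_of_dvd_mul_right ?_
    have e : 2 ^ d * Nat.card (P ⊓ centralizer (K : Set G) : Subgroup G) * m' =
      2 ^ d * m' * Nat.card (P ⊓ centralizer (K : Set G) : Subgroup G) := by ring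
    rw [e]; exact h1
  have hBle : Nat.card (P ⊓ centralizer (K : Set G) : Subgroup G) ≤ 2 ^ d :=
    Nat.le_of_dvd (by positivity) H.cardB_le
  -- the product map
  let φ : (P ⊓ K : Subgroup G) × (P ⊓ cj x K : Subgroup G) → F := fun ab =>
    ⟨ab.1.1 * ab.2.1, P.mul_mem ab.1.2.1 ab.2.2.1, by
      show ab.1.1 * ab.2.1 ∈ centralizer ({k} : Set G)
      rw [mem_centralizer_singleton_iff]
      have h1 := (H.K_comm ab.1.2.2).mp (H.Pu ab.1.2.1)
      have h2 := c2 k H.kP H.kK ab.2.1 ab.2.2.1 ab.2.2.2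
      calc ab.1.1 * ab.2.1 * k = ab.1.1 * (k * ab.2.1) := by rw [h2]; group
        _ = (ab.1.1 * k) * ab.2.1 := by group
        _ = k * (ab.1.1 * ab.2.1) := by rw [h1]; group⟩
  have hφ : Function.Injective φ := by
    rintro ⟨a, b⟩ ⟨a', b'⟩ hab
    have h1 : a.1 * b.1 = a'.1 * b'.1 := congrArg Subtype.val hab
    have h2 : a'.1⁻¹ * a.1 = b'.1 * b.1⁻¹ := by
      rw [inv_mul_eq_iff_eq_mul, ← mul_assoc, ← h1]; group
    have h3 : a'.1⁻¹ * a.1 = 1 := by
      refine c1 _ (P.mul_mem (P.inv_mem a'.2.1) a.2.1) (K.mul_mem (K.inv_mem a'.2.2) a.2.2) ?_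
      rw [h2]
      exact Subgroup.mul_mem _ b'.2.2 (Subgroup.inv_mem _ b.2.2)
    have h4 : b'.1 * b.1⁻¹ = 1 := by rw [← h2, h3]
    refine Prod.ext (Subtype.ext (inv_mul_eq_one.mp h3).symm) (Subtype.ext (mul_inv_eq_one.mp h4).symm)
  have h1 := Nat.card_le_card_of_injective φ hφ
  rw [Nat.card_prod, H.cardA, hA1] at h1
  have h2 := Nat.le_of_dvd (Nat.mul_pos (by positivity) Nat.card_pos) hup
  have h3 : 2 ^ d * Nat.card (P ⊓ centralizer (K : Set G) : Subgroup G) ≤ 2 ^ d * 2 ^ d :=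
    Nat.mul_le_mul_left _ hBle
  have h4 : Nat.card F = 2 ^ d * 2 ^ d := le_antisymm (h2.trans h3) h1
  refine ⟨h4, ?_, ?_⟩
  · refine le_antisymm hBle ?_
    rw [h4] at h2
    exact Nat.le_of_mul_le_mul_left h2 (by positivity)
  · intro f hf hfk
    have h5 : Function.Bijective φ := by
      refine (Nat.bijective_iff_injective_and_card _).mpr ⟨hφ, ?_⟩
      rw [Nat.card_prod, H.cardA, hA1, h4]
    obtain ⟨⟨a, b⟩, hab⟩ := h5.2 ⟨f, hf, mem_centralizer_singleton_iff.mpr hfk⟩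
    exact ⟨a.1, a.2, b.1, b.2, (congrArg Subtype.val hab).symm⟩

theorem cross (H : InnPair K z u x P T p m n d m' n' k y) {a b : G} (ha : a ∈ P ⊓ K)
    (hb : b ∈ P ⊓ cj x K) : Commute a b :=
  (comm_of_ne H.hyp (g := x) (by rw [H.hz]; exact H.ne) H.syl.two
    (fun a ha => H.Pz ha) (fun a ha => by rw [H.hz]; exact H.Pu ha)).2 a ha.1 ha.2 b hb.1 hb.2

omit [Finite G] in
theorem A_comm (H : InnPair K z u x P T p m n d m' n' k y) {a b : G} (ha : a ∈ P ⊓ K)
    (hb : b ∈ P ⊓ K) : Commute a b :=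
  H.hyp.comm4 H.kK H.kk ha.2 hb.2 ((H.K_comm ha.2).mp (H.Pu ha.1))
    ((H.K_comm hb.2).mp (H.Pu hb.1))

theorem A1_mem (H : InnPair K z u x P T p m n d m' n' k y) {b : G} (hb : b ∈ P ⊓ cj x K) :
    x⁻¹ * b * x ∈ P ⊓ K := ⟨H.inv_mem hb.1, mem_cj.mp hb.2⟩

theorem F_comm (H : InnPair K z u x P T p m n d m' n' k y) {f g : G} (hf : f ∈ P)
    (hfk : f * k = k * f) (hg : g ∈ P) (hgk : g * k = k * g) : f * g = g * f := by
  obtain ⟨a, ha, b, hb, rfl⟩ := H.F_facts.2.2 f hf hfk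
  obtain ⟨a', ha', b', hb', rfl⟩ := H.F_facts.2.2 g hg hgk
  have h1 : Commute b b' := by
    have h2 := (H.A_comm (H.A1_mem hb) (H.A1_mem hb')).eq
    calc b * b' = x * ((x⁻¹ * b * x) * (x⁻¹ * b' * x)) * x⁻¹ := by group
      _ = x * ((x⁻¹ * b' * x) * (x⁻¹ * b * x)) * x⁻¹ := by rw [h2]
      _ = b' * b := by group
  exact (((H.A_comm ha ha').mul_right (H.cross ha hb')).mul_left
    ((H.cross ha' hb).symm.mul_right h1)).eq

theorem F_inv (H : InnPair K z u x P T p m n d m' n' k y) {f : G} (hf : f ∈ P)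
    (hfk : f * k = k * f) (hff : f * f = 1) : f = 1 ∨ f = z ∨ f = u ∨ f = u * z := by
  obtain ⟨a, ha, b, hb, rfl⟩ := H.F_facts.2.2 f hf hfk
  have hab := (H.cross ha hb).eq
  have h1 : a * a * (b * b) = 1 := by
    calc a * a * (b * b) = a * (a * b) * b := by group
      _ = a * (b * a) * b := by rw [hab]
      _ = 1 := by rw [← hff]; group
  have h2 : a * a = (b * b)⁻¹ := eq_inv_of_mul_eq_one_left h1
  have h3 : a * a = 1 := by
    refine (comm_of_ne H.hyp (g := x) (by rw [H.hz]; exact H.ne) H.syl.two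
      (fun a ha => H.Pz ha) (fun a ha => by rw [H.hz]; exact H.Pu ha)).1 _
      (P.mul_mem ha.1 ha.1) (K.mul_mem ha.2 ha.2) ?_
    rw [h2]
    exact Subgroup.inv_mem _ (Subgroup.mul_mem _ hb.2 hb.2)
  have h4 : b * b = 1 := by rw [h3, one_mul] at h1; exact h1
  rcases H.hyp.eq_z ha.2 h3 with h5 | h5 <;> rcases H.hyp_u.eq_z hb.2 h4 with h6 | h6
  · left; rw [h5, h6, one_mul]
  · right; right; left; rw [h5, h6, one_mul]
  · right; left; rw [h5, h6, mul_one]
  · right; right; right; rw [h5, h6, H.com]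

theorem F_conj (H : InnPair K z u x P T p m n d m' n' k y) {f : G} (hf : f ∈ P)
    (hfk : f * k = k * f) : (x * f * x⁻¹) * k = k * (x * f * x⁻¹) := by
  obtain ⟨a, ha, b, hb, rfl⟩ := H.F_facts.2.2 f hf hfk
  have hkA : k ∈ P ⊓ K := ⟨H.kP, H.kK⟩
  have h1 : Commute k (x * a * x⁻¹) := H.cross hkA ⟨H.hP _ ha.1, conj_mem_cj ha.2⟩
  have h2 : Commute k (x * b * x⁻¹) := by
    have hne : (x * x) * z * (x * x)⁻¹ = u * z := by
      calc (x * x) * z * (x * x)⁻¹ = x * (x * z * x⁻¹) * x⁻¹ := by group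
        _ = u * z := by rw [H.hz, H.hu]
    refine (comm_of_ne H.hyp (g := x * x) ?_ H.syl.two (fun a ha => H.Pz ha)
      (fun a ha => ?_)).2 k H.kP H.kK _ (H.hP _ hb.1) ?_
    · rw [hne]
      intro h3
      exact H.u_ne (mul_eq_right.mp h3)
    · rw [hne, ← mul_assoc, H.Pu ha, mul_assoc, H.Pz ha, mul_assoc]
    · rw [cj_mul]; exact conj_mem_cj hb.2
  have h3 := (h1.mul_right h2).eq
  have e : x * (a * b) * x⁻¹ = (x * a * x⁻¹) * (x * b * x⁻¹) := by group
  rw [e]; exact h3.symm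

theorem F_conj_inv (H : InnPair K z u x P T p m n d m' n' k y) {f : G} (hf : f ∈ P)
    (hfk : f * k = k * f) : (x⁻¹ * f * x) * k = k * (x⁻¹ * f * x) := by
  have h1 : x ∈ normalizer ((P ⊓ centralizer ({k} : Set G) : Subgroup G) : Set G) :=
    mem_normalizer_of_forall fun g hg => ⟨H.hP _ hg.1, mem_centralizer_singleton_iff.mpr
      (H.F_conj hg.1 (mem_centralizer_singleton_iff.mp hg.2))⟩
  have h2 := forall_of_mem_normalizer (Subgroup.inv_mem _ h1) f
    ⟨hf, mem_centralizer_singleton_iff.mpr hfk⟩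
  rw [inv_inv] at h2
  exact mem_centralizer_singleton_iff.mp h2.2

omit [Finite G] in
theorem outF (H : InnPair K z u x P T p m n d m' n' k y) {v : G} (hv : v ∈ P)
    (hvk : v * k ≠ k * v) : v * k * v⁻¹ = k⁻¹ := by
  rcases H.pm (H.PM hv) (H.Pu hv) with h1 | h1
  · exact absurd (mul_inv_eq_iff_eq_mul.mp h1) hvk
  · exact h1

omit [Finite G] in
theorem of_inv (H : InnPair K z u x P T p m n d m' n' k y) {v : G}
    (hv : v * k * v⁻¹ = k⁻¹) : v * k ≠ k * v := by
  intro h1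
  rw [h1, mul_inv_cancel_right] at hv
  exact H.hyp.k_ne H.kk hv

/-- the elements of `P - F` invert `F` -/
theorem inv_F (H : InnPair K z u x P T p m n d m' n' k y) {v f : G} (hv : v ∈ P)
    (hvk : v * k ≠ k * v) (hf : f ∈ P) (hfk : f * k = k * f) : v * f * v⁻¹ = f⁻¹ := by
  have key : ∀ v ∈ P, v * k ≠ k * v → ∀ a ∈ P ⊓ K, v * a * v⁻¹ = a⁻¹ := by
    intro v hv hvk a ha
    exact (H.hyp.invt H.kK H.kk (H.PM hv) (H.outF hv hvk)).1 a ha.2
      ((H.K_comm ha.2).mp (H.Pu ha.1))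
  obtain ⟨a, ha, b, hb, rfl⟩ := H.F_facts.2.2 f hf hfk
  have h1 := key v hv hvk a ha
  have h2 : v * b * v⁻¹ = b⁻¹ := by
    have h3 := key (x⁻¹ * v * x) (H.inv_mem hv) (fun h3 => by
      apply hvk
      have h4 := H.F_conj (H.inv_mem hv) h3
      have e : x * (x⁻¹ * v * x) * x⁻¹ = v := by group
      rwa [e] at h4) (x⁻¹ * b * x) (H.A1_mem hb)
    calc v * b * v⁻¹ = x * ((x⁻¹ * v * x) * (x⁻¹ * b * x) * (x⁻¹ * v * x)⁻¹) * x⁻¹ := by group
      _ = b⁻¹ := by rw [h3]; group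
  have hab := (H.cross ha hb).eq
  calc v * (a * b) * v⁻¹ = (v * a * v⁻¹) * (v * b * v⁻¹) := by group
    _ = a⁻¹ * b⁻¹ := by rw [h1, h2]
    _ = (a * b)⁻¹ := by rw [hab]; group

/-- (I4) the elements of `P - F` are involutions -/
theorem sq_one (H : InnPair K z u x P T p m n d m' n' k y) {v : G} (hv : v ∈ P)
    (hvk : v * k ≠ k * v) : v * v = 1 := by
  have h1 := H.outF hv hvk
  have h1' : v * k⁻¹ * v⁻¹ = k := by
    have : v * k⁻¹ * v⁻¹ = (v * k * v⁻¹)⁻¹ := by group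
    rw [this, h1, inv_inv]
  have h1'' : v⁻¹ * k⁻¹ * v = k := by
    rw [← h1]; group
  have hvv : (v * v) * k = k * (v * v) := by
    rw [← mul_inv_eq_iff_eq_mul]
    calc v * v * k * (v * v)⁻¹ = v * (v * k * v⁻¹) * v⁻¹ := by group
      _ = k := by rw [h1, h1']
  have h2 := H.inv_F hv hvk (P.mul_mem hv hv) hvv
  have h3 : (v * v) * (v * v) = 1 := by
    have e : v * (v * v) * v⁻¹ = v * v := by group
    rw [e] at h2
    nth_rw 2 [h2]
    exact mul_inv_cancel _
  -- `x` fixes `v²`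
  have h4 : x * (v * v) * x⁻¹ = v * v := by
    obtain ⟨w, hw⟩ : ∃ w, w = x * v * x⁻¹ := ⟨_, rfl⟩
    have hwP : w ∈ P := by rw [hw]; exact H.hP _ hv
    have hwk : w * k ≠ k * w := by
      intro h5
      have h6 := H.F_conj_inv hwP h5
      have e : x⁻¹ * w * x = v := by rw [hw]; group
      rw [e] at h6
      exact hvk h6
    have h5 := H.outF hwP hwk
    obtain ⟨f, hf⟩ : ∃ f, f = v⁻¹ * w := ⟨_, rfl⟩
    have hfk : f * k = k * f := by
      rw [← mul_inv_eq_iff_eq_mul, hf]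
      calc v⁻¹ * w * k * (v⁻¹ * w)⁻¹ = v⁻¹ * (w * k * w⁻¹) * v := by group
        _ = k := by rw [h5, h1'']
    have hfP : f ∈ P := by rw [hf]; exact P.mul_mem (P.inv_mem hv) hwP
    have h6 := H.inv_F hv hvk hfP hfk
    have h7 : f * v * f = v := by
      have : v * f = f⁻¹ * v := mul_inv_eq_iff_eq_mul.mp h6
      rw [mul_assoc, this]; group
    have h8 : w = v * f := by rw [hf]; group
    have h9 : w * w = v * v := by
      calc w * w = v * (f * v * f) := by rw [h8]; group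
        _ = v * v := by rw [h7]
    calc x * (v * v) * x⁻¹ = w * w := by rw [hw]; group
      _ = v * v := h9
  rcases H.F_inv (P.mul_mem hv hv) hvv h3 with h5 | h5 | h5 | h5
  · exact h5
  · rw [h5, H.hz] at h4
    exact absurd h4 H.ne
  · rw [h5, H.hu] at h4
    exact absurd (mul_eq_left.mp h4) H.hyp.z_ne
  · rw [h5, H.huz] at h4
    exact absurd (mul_eq_right.mp h4.symm) H.u_ne

/-! ### the Sylow subgroup `Q = T ∩ K` -/

theorem cardQ (H : InnPair K z u x P T p m n d m' n' k y) :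
    Nat.card (T ⊓ K : Subgroup G) = 2 ^ (d + 1) :=
  H.hyp.card_Q H.sylT H.hm H.hn H.hm' H.hn' H.odd_p

omit [Finite G] in
theorem QA (H : InnPair K z u x P T p m n d m' n' k y) {q : G} (hq : q ∈ T) (hqK : q ∈ K)
    (hqk : q * k = k * q) : q ∈ P := H.mem_P hq ((H.K_comm hqK).mpr hqk)

/-- elements of `Q` outside `P` -/
theorem Q_out (H : InnPair K z u x P T p m n d m' n' k y) {q : G} (hq : q ∈ T) (hqK : q ∈ K)
    (hqk : q * k ≠ k * q) : q * k * q⁻¹ = k⁻¹ ∧ q * q = z := by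
  have h1 : q * k * q⁻¹ = k⁻¹ := by
    set A : Subgroup (T ⊓ K : Subgroup G) := (P ⊓ K).subgroupOf (T ⊓ K) with hA
    have hle : P ⊓ K ≤ T ⊓ K := inf_le_inf_right K H.le
    have hidx : A.index = 2 := by
      have h2 := T1Tools.card_mul_relIndex hle
      rw [H.cardA, H.cardQ, pow_succ] at h2
      exact Nat.eq_of_mul_eq_mul_left (by positivity) h2
    have hmem : ∀ g : (T ⊓ K : Subgroup G), g ∈ A ↔ (g : G) * k = k * g := by
      intro g
      rw [hA, mem_subgroupOf]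
      constructor
      · intro h2
        exact (H.K_comm h2.2).mp (H.Pu h2.1)
      · intro h2
        exact ⟨H.QA g.2.1 g.2.2 h2, g.2.2⟩
    let qq : (T ⊓ K : Subgroup G) := ⟨q, hq, hqK⟩
    let kk : (T ⊓ K : Subgroup G) := ⟨k, H.le H.kP, H.kK⟩
    have hq' : qq ∉ A := fun h2 => hqk ((hmem qq).mp h2)
    have hk' : kk ∈ A := (hmem kk).mpr rfl
    have h2 : qq * kk ∉ A := by
      rw [Subgroup.mul_mem_iff_of_index_two hidx]
      (clear * - hq' hk'; tauto)
    have h3 : qq⁻¹ ∉ A := fun h3 => hq' (by rw [← inv_inv qq]; exact A.inv_mem h3)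
    have h4 : qq * kk * qq⁻¹ ∈ A := by
      rw [Subgroup.mul_mem_iff_of_index_two hidx]
      (clear * - h2 h3; tauto)
    have h5 : (q * k * q⁻¹) * k = k * (q * k * q⁻¹) := (hmem _).mp h4
    have h6 : (q * k * q⁻¹) * (q * k * q⁻¹) = z := by
      calc (q * k * q⁻¹) * (q * k * q⁻¹) = q * (k * k) * q⁻¹ := by group
        _ = z := by rw [H.kk]; exact H.hyp.conj_z (le_normalizer hqK)
    rcases H.hyp.sqz H.kK (mem_norm (le_normalizer hqK) H.kK) H.kk h6 h5 with h7 | h7
    · exact absurd (mul_inv_eq_iff_eq_mul.mp h7) hqk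
    · exact h7
  refine ⟨h1, ?_⟩
  have h2 := (H.hyp.invt H.kK H.kk (le_normalizer hqK) h1).2
  rcases H.hyp.inter (K.mul_mem hqK hqK) h2 with h3 | h3
  · exfalso
    apply hqk
    rcases H.hyp.eq_z hqK h3 with h4 | h4
    · rw [h4, one_mul, mul_one]
    · rw [h4]; exact (comm H.kK H.hyp.zY).symm
  · exact h3

theorem exists_k1 (H : InnPair K z u x P T p m n d m' n' k y) : ∃ q ∈ T, q ∈ K ∧
    q * k * q⁻¹ = k⁻¹ ∧ q * q = z := by
  by_contra hcon
  push Not at hcon
  have h1 : T ⊓ K ≤ P ⊓ K := by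
    intro q hq
    refine ⟨?_, hq.2⟩
    by_cases hqk : q * k = k * q
    · exact H.QA hq.1 hq.2 hqk
    · obtain ⟨h2, h3⟩ := H.Q_out hq.1 hq.2 hqk
      exact absurd h3 (hcon q hq.1 hq.2 h2)
  have h2 := Subgroup.card_le_of_le h1
  rw [H.cardQ, H.cardA, pow_succ] at h2
  have : 0 < 2 ^ d := by positivity
  omega

/-! ### the Sylow subgroup `R = T ∩ Y` -/

omit [Finite G] in
theorem RB (H : InnPair K z u x P T p m n d m' n' k y) {r : G} (hr : r ∈ T)
    (hrY : r ∈ centralizer (K : Set G)) (hry : r * y = y * r) : r ∈ P :=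
  H.mem_P hr ((H.Y_comm hrY).mpr hry)

omit [Finite G] in
theorem Y_k (H : InnPair K z u x P T p m n d m' n' k y) {r : G}
    (hrY : r ∈ centralizer (K : Set G)) : r * k = k * r := (comm H.kK hrY).symm

theorem Y_inv (H : InnPair K z u x P T p m n d m' n' k y) {b : G} (hb : b ∈ P)
    (hbY : b ∈ centralizer (K : Set G)) (hbb : b * b = 1) : b = 1 ∨ b = z := by
  rcases H.F_inv hb (H.Y_k hbY) hbb with h1 | h1 | h1 | h1
  · exact Or.inl h1
  · exact Or.inr h1
  · rw [h1] at hbY; exact absurd hbY H.uY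
  · rw [h1] at hbY
    exact absurd ((Subgroup.mul_mem_cancel_right _ H.hyp.zY).mp hbY) H.uY

theorem y_sq (H : InnPair K z u x P T p m n d m' n' k y) {b : G} (hb : b ∈ P)
    (hbY : b ∈ centralizer (K : Set G)) (hbb : b * b = z) : b = y ∨ b = y⁻¹ := by
  have h1 := H.F_comm hb (H.Y_k hbY) H.yP (H.Y_k H.yY)
  have h2 : (b * y) * (b * y) = 1 := by
    calc (b * y) * (b * y) = b * (y * b) * y := by group
      _ = b * (b * y) * y := by rw [h1]
      _ = (b * b) * (y * y) := by group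
      _ = 1 := by rw [hbb, H.yy, H.hyp.zz]
  rcases H.Y_inv (P.mul_mem hb H.yP) (Subgroup.mul_mem _ hbY H.yY) h2 with h3 | h3
  · right; exact eq_inv_of_mul_eq_one_left h3
  · left
    rw [← H.yy] at h3
    exact mul_right_cancel h3

end InnPair

end Cfsg.Agent.OddCyclic.CompSL2Amb
end

-- part: OddCyclic/CompSL2Inner2
section
/-!
# S0342, case C: inner pairs, the Sylow subgroup of `C(K)`

(I3), (I5) of blueprints/S0342-caseC.md: `R = T ∩ C(K)` has order `2 |C_R(y)|`.
-/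

set_option autoImplicit false

namespace Cfsg.Agent.OddCyclic.CompSL2Amb

open Subgroup Cfsg
open Cfsg.Agent.OddCyclic.T1Defs Cfsg.Agent.OddCyclic.CompBasic
open Cfsg.Agent.OddCyclic.CompStandard Cfsg.Agent.OddCyclic.CompSL2Facts
open Cfsg.Agent.LieExceptional Cfsg.Agent.LieExceptional.CITDefs
open Cfsg.Agent.LieExceptional.CITBasic

variable {G : Type*} [Group G] [Finite G] {K : Subgroup G} {z : G} {p m n : ℕ}

omit [Finite G] in
theorem exists_pow_sq {R1 : Subgroup G} {g : G} {j : ℕ} (hg : g ∉ R1) (hj : g ^ 2 ^ j = 1) :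
    ∃ i : ℕ, g ^ i ∉ R1 ∧ g ^ i * g ^ i ∈ R1 := by
  classical
  have hex : ∃ j : ℕ, g ^ 2 ^ j ∈ R1 := ⟨j, by rw [hj]; exact one_mem _⟩
  have h1 := Nat.find_spec hex
  have h2 : Nat.find hex ≠ 0 := by
    intro h0
    rw [h0, pow_zero, pow_one] at h1
    exact hg h1
  obtain ⟨i, hi⟩ := Nat.exists_eq_succ_of_ne_zero h2
  refine ⟨2 ^ i, Nat.find_min hex (by omega), ?_⟩
  rw [← sq, ← pow_mul, ← pow_succ]
  rw [hi] at h1
  exact h1

namespace InnPair

variable {u x : G} {P T : Subgroup G} {d m' n' : ℕ} {k y : G}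

theorem card_T_le (H : InnPair K z u x P T p m n d m' n' k y) :
    Nat.card T ≤ 2 ^ (d + 1) * Nat.card (T ⊓ centralizer (K : Set G) : Subgroup G) := by
  have hpf : Fact (Nat.Prime 2) := ⟨Nat.prime_two⟩
  have h1 := H.hyp.card_dvd H.sylT.le
  rw [H.hyp.card_K H.hm H.hn] at h1
  obtain ⟨a, ha⟩ := IsPGroup.iff_card.mp H.sylT.two
  refine Nat.le_of_dvd (Nat.mul_pos (by positivity) Nat.card_pos) ?_
  rw [ha] at h1 ⊢
  have hodd : Odd (p * m' * n') := (H.odd_p.mul H.hm').mul H.hn'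
  refine (Nat.Coprime.pow_left a hodd.coprime_two_left).dvd_of_dvd_mul_right ?_
  have e : 2 ^ (d + 1) * Nat.card (T ⊓ centralizer (K : Set G) : Subgroup G) * (p * m' * n') =
    2 ^ (d + 1) * (p * m' * n') * Nat.card (T ⊓ centralizer (K : Set G) : Subgroup G) := by ring
  rw [e]; exact h1

omit [Finite G] in
theorem elem4 {V : Subgroup G}
    (hV : ∀ v ∈ V, v = 1 ∨ v = z ∨ v = u ∨ v = u * z) :
    Nat.card V ≤ 4 ∧ (Nat.card V = 4 → u ∈ V) := by
  classical
  have h1 : (V : Set G) ⊆ ({1, z, u, u * z} : Finset G) := by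
    intro v hv
    rcases hV v hv with h | h | h | h <;> simp only [h, _root_.Finset.coe_insert, _root_.Finset.coe_singleton, _root_.Set.mem_insert_iff, _root_.Set.mem_singleton_iff, _root_.true_or, _root_.right_eq_mul, _root_.or_true, _root_.left_eq_mul, _root_.mul_eq_right, _root_.mul_eq_left]
  have h2 : Nat.card V = (V : Set G).ncard := rfl
  have h3 : (V : Set G).ncard ≤ ({1, z, u, u * z} : Finset G).card := by
    rw [← Set.ncard_coe_finset]
    exact Set.ncard_le_ncard h1 (Finset.finite_toSet _)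
  have h4 : ({1, z, u, u * z} : Finset G).card ≤ 4 := Finset.card_le_four
  refine ⟨by omega, fun h5 => ?_⟩
  have h6 : (V : Set G) = (({1, z, u, u * z} : Finset G) : Set G) := by
    apply Set.eq_of_subset_of_ncard_le h1 _ (Finset.finite_toSet _)
    rw [Set.ncard_coe_finset]
    omega
  have h7 : u ∈ (({1, z, u, u * z} : Finset G) : Set G) := by simp only [_root_.Finset.coe_insert, _root_.Finset.coe_singleton, _root_.Set.mem_insert_iff, _root_.Set.mem_singleton_iff, _root_.left_eq_mul, _root_.true_or, _root_.or_true]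
  rw [← h6] at h7
  exact h7

/-- `R ≠ C_R(y)`, as `T` has 2-rank at least 3 -/
theorem exists_not_mem (H : InnPair K z u x P T p m n d m' n' k y)
    (hV : ∃ V : Subgroup G, V ≤ T ∧ Elem V ∧ Nat.card V = 8) :
    ∃ r ∈ T, r ∈ centralizer (K : Set G) ∧ r ∉ P := by
  have hpf : Fact (Nat.Prime 2) := ⟨Nat.prime_two⟩
  by_contra hcon
  push Not at hcon
  have hR : T ⊓ centralizer (K : Set G) = P ⊓ centralizer (K : Set G) :=
    le_antisymm (fun r hr => ⟨hcon r hr.1 hr.2, hr.2⟩) (inf_le_inf_right _ H.le)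
  -- `C_T(k) = C_P(k)`
  have hTk : ∀ t ∈ T, t * k = k * t → t ∈ P := by
    have h1 := H.hyp.card_dvd4 (T := T ⊓ centralizer ({k} : Set G))
      (inf_le_left.trans H.sylT.le) H.kK H.kk
      (fun t ht => mem_centralizer_singleton_iff.mp ht.2)
    have h2 : T ⊓ centralizer ({k} : Set G) ⊓ centralizer (K : Set G) =
        P ⊓ centralizer (K : Set G) := by
      rw [← hR]
      ext g
      constructor
      · rintro ⟨h3, h4⟩
        exact ⟨h3.1, h4⟩
      · rintro ⟨h3, h4⟩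
        exact ⟨⟨h3, mem_centralizer_singleton_iff.mpr (H.Y_k h4)⟩, h4⟩
    rw [h2, H.F_facts.2.1, H.hm] at h1
    obtain ⟨a, ha⟩ := IsPGroup.iff_card.mp
      (H.sylT.two.to_le (inf_le_left : T ⊓ centralizer ({k} : Set G) ≤ T))
    rw [ha] at h1
    have h3 : 2 ^ a ∣ 2 ^ d * 2 ^ d := by
      refine (Nat.Coprime.pow_left a H.hm'.coprime_two_left).dvd_of_dvd_mul_right ?_
      have e : 2 ^ d * 2 ^ d * m' = 2 ^ d * m' * 2 ^ d := by ring
      rw [e]; exact h1
    have h4 : P ⊓ centralizer ({k} : Set G) = T ⊓ centralizer ({k} : Set G) := by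
      apply Subgroup.eq_of_le_of_card_ge (inf_le_inf_right _ H.le)
      rw [ha, H.F_facts.1]
      exact Nat.le_of_dvd (by positivity) h3
    intro t ht htk
    have h5 : t ∈ T ⊓ centralizer ({k} : Set G) := ⟨ht, mem_centralizer_singleton_iff.mpr htk⟩
    rw [← h4] at h5
    exact h5.1
  obtain ⟨q, hqT, hqK, hqk, hqq⟩ := H.exists_k1
  -- `P = F`
  have hPk : ∀ v ∈ P, v * k = k * v := by
    intro v hv
    by_contra hvk
    have h1 := H.outF hv hvk
    have h2 : (q⁻¹ * v) * k = k * (q⁻¹ * v) := by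
      rw [← mul_inv_eq_iff_eq_mul]
      calc q⁻¹ * v * k * (q⁻¹ * v)⁻¹ = q⁻¹ * (v * k * v⁻¹) * q := by group
        _ = k := by rw [h1, ← hqk]; group
    have h3 := hTk _ (T.mul_mem (T.inv_mem hqT) (H.le hv)) h2
    have h4 : q ∈ P := by
      have e : q = v * (q⁻¹ * v)⁻¹ := by group
      rw [e]; exact P.mul_mem hv (P.inv_mem h3)
    have h5 := (H.K_comm hqK).mp (H.Pu h4)
    exact H.of_inv hqk h5
  have hcP : Nat.card P = 2 ^ d * 2 ^ d := by
    rw [← H.F_facts.1]
    congr 2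
    apply le_antisymm _ inf_le_left
    intro v hv
    exact ⟨hv, mem_centralizer_singleton_iff.mpr (hPk v hv)⟩
  have hcT : Nat.card T ≤ 2 * Nat.card P := by
    have h1 := H.card_T_le
    rw [hR, H.F_facts.2.1, pow_succ] at h1
    rw [hcP]
    calc Nat.card T ≤ 2 ^ d * 2 * 2 ^ d := h1
      _ = 2 * (2 ^ d * 2 ^ d) := by ring
  obtain ⟨V, hVT, hVe, hVc⟩ := hV
  have h1 := T1Tools.card_le_inf H.le hVT hcT
  rw [hVc] at h1
  have h2 := elem4 (V := P ⊓ V) (fun v hv => H.F_inv hv.1 (hPk v hv.1) (hVe v hv.2))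
  have h3 : u ∈ P ⊓ V := h2.2 (by omega)
  have h4 : V ≤ P := by
    intro v hv
    exact H.mem_P (hVT hv) (hVe.comm hv h3.2)
  have h5 := elem4 (V := V) (fun v hv => H.F_inv (h4 hv) (hPk v (h4 hv)) (hVe v hv))
  omega

/-- (I3) there is `r ∈ R` inverting `y` -/
theorem exists_w (H : InnPair K z u x P T p m n d m' n' k y)
    (hV : ∃ V : Subgroup G, V ≤ T ∧ Elem V ∧ Nat.card V = 8) :
    ∃ r ∈ T, r ∈ centralizer (K : Set G) ∧ r * y * r⁻¹ = y⁻¹ := by
  have hpf : Fact (Nat.Prime 2) := ⟨Nat.prime_two⟩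
  obtain ⟨r, hrT, hrY, hrP⟩ := H.exists_not_mem hV
  by_contra hcon
  push Not at hcon
  have h1 : T ⊓ centralizer (K : Set G) = P ⊓ centralizer (K : Set G) := by
    refine Cfsg.Agent.Blocks.SylowIn.eq_of_normalizer_inf_le (p := 2)
      (H.sylT.two.to_le inf_le_left) (inf_le_inf_right _ H.le) ?_
    rintro g ⟨hg, hgT, hgY⟩
    refine ⟨?_, hgY⟩
    have h2 := forall_of_mem_normalizer hg y ⟨H.yP, H.yY⟩
    have h3 : g * y * g⁻¹ * (g * y * g⁻¹) = z := by
      calc g * y * g⁻¹ * (g * y * g⁻¹) = g * (y * y) * g⁻¹ := by group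
        _ = z := by rw [H.yy]; exact H.hyp.conj_z (centralizer_le_normalizer _ hgY)
    rcases H.y_sq h2.1 h2.2 h3 with h4 | h4
    · exact H.RB hgT hgY (mul_inv_eq_iff_eq_mul.mp h4)
    · exact absurd h4 (hcon g hgT hgY)
  have h2 : r ∈ T ⊓ centralizer (K : Set G) := ⟨hrT, hrY⟩
  rw [h1] at h2
  exact hrP h2.1

/-- elements of `R` inverting `y` -/
theorem w_sq (H : InnPair K z u x P T p m n d m' n' k y) {q r : G} (hqT : q ∈ T) (hqK : q ∈ K)
    (hqk : q * k * q⁻¹ = k⁻¹) (hqq : q * q = z) (hr : r ∈ T) (hrY : r ∈ centralizer (K : Set G))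
    (hry : r * y * r⁻¹ = y⁻¹) : q * r ∈ P ∧ (q * r) * k ≠ k * (q * r) ∧ r * r = z := by
  have hqr := comm hqK hrY
  have h1 : (q * r) * u = u * (q * r) := by
    rw [← mul_inv_eq_iff_eq_mul]
    have h2 := comm hqK H.yY
    have h3 := comm H.kK hrY
    have hqy : q * y⁻¹ * q⁻¹ = y⁻¹ := by
      rw [mul_inv_eq_iff_eq_mul]
      exact comm hqK (Subgroup.inv_mem _ H.yY)
    calc q * r * u * (q * r)⁻¹ = q * (r * k * r⁻¹) * (r * y * r⁻¹) * q⁻¹ := by rw [H.uk]; group
      _ = (q * k * q⁻¹) * (q * y⁻¹ * q⁻¹) := by rw [hry, ← h3]; group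
      _ = k⁻¹ * y⁻¹ := by rw [hqk, hqy]
      _ = (k * y)⁻¹ := by rw [comm H.kK H.yY]; group
      _ = u := by rw [← H.uk]; exact inv_eq_of_mul_eq_one_right H.uu
  have h2 : q * r ∈ P := H.mem_P (T.mul_mem hqT hr) h1
  have h3 : (q * r) * k ≠ k * (q * r) := by
    refine H.of_inv ?_
    calc q * r * k * (q * r)⁻¹ = q * (r * k) * r⁻¹ * q⁻¹ := by group
      _ = q * k * q⁻¹ := by rw [H.Y_k hrY]; group
      _ = k⁻¹ := hqk
  refine ⟨h2, h3, ?_⟩
  have h4 := H.sq_one h2 h3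
  have h5 : (q * q) * (r * r) = 1 := by
    calc (q * q) * (r * r) = q * (q * r) * r := by group
      _ = q * (r * q) * r := by rw [hqr]
      _ = 1 := by rw [← h4]; group
  rw [hqq] at h5
  rw [eq_inv_of_mul_eq_one_right h5, H.hyp.z_inv]

/-- the element `f₀ = k^x` of `F` maps `r` to `r y^{±1}` -/
theorem w_f (H : InnPair K z u x P T p m n d m' n' k y) {q r : G} (hqT : q ∈ T) (hqK : q ∈ K)
    (hqk : q * k * q⁻¹ = k⁻¹) (hqq : q * q = z) (hr : r ∈ T) (hrY : r ∈ centralizer (K : Set G))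
    (hry : r * y * r⁻¹ = y⁻¹) {f : G} (hfP : f ∈ P) (hfk : f * k = k * f) (hff : f * f = u) :
    f * r * f⁻¹ = r * y ∨ f * r * f⁻¹ = r * y * z := by
  obtain ⟨h1, h2, -⟩ := H.w_sq hqT hqK hqk hqq hr hrY hry
  have hfM := H.PM hfP
  have h3 := H.inv_F h1 h2 hfP hfk
  obtain ⟨v, hv⟩ : ∃ v, v = q * r := ⟨_, rfl⟩
  rw [← hv] at h3
  have h4 : f * v * f⁻¹ = v * u := by
    have e1 : v * f = f⁻¹ * v := mul_inv_eq_iff_eq_mul.mp h3
    have e2 : f * v = v * f⁻¹ := by
      rw [eq_mul_inv_iff_mul_eq, mul_assoc, e1, mul_inv_cancel_left]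
    calc f * v * f⁻¹ = v * (f * f)⁻¹ := by rw [e2]; group
      _ = v * u := by rw [hff, inv_eq_of_mul_eq_one_right H.uu]
  have h5 : (f * q * f⁻¹) * (f * r * f⁻¹) = (q * k) * (r * y) := by
    calc (f * q * f⁻¹) * (f * r * f⁻¹) = f * v * f⁻¹ := by rw [hv]; group
      _ = q * (r * k) * y := by rw [h4, hv, H.uk]; group
      _ = (q * k) * (r * y) := by rw [H.Y_k hrY]; group
  have h6 : (q * k)⁻¹ * (f * q * f⁻¹) = (r * y) * (f * r * f⁻¹)⁻¹ := by
    rw [eq_mul_inv_iff_mul_eq, mul_assoc, h5]; group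
  have h7 : (q * k)⁻¹ * (f * q * f⁻¹) ∈ K :=
    K.mul_mem (K.inv_mem (K.mul_mem hqK H.kK)) (mem_norm hfM hqK)
  have h8 : (q * k)⁻¹ * (f * q * f⁻¹) ∈ centralizer (K : Set G) := by
    rw [h6]
    exact Subgroup.mul_mem _ (Subgroup.mul_mem _ hrY H.yY) (Subgroup.inv_mem _ (mem_cent hfM hrY))
  have h9 := H.hyp.inter h7 h8
  rw [h6] at h9
  rcases h9 with h9 | h9
  · left
    exact (mul_inv_eq_one.mp h9).symm
  · right
    have h10 : r * y = z * (f * r * f⁻¹) := mul_inv_eq_iff_eq_mul.mp h9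
    have h11 := comm H.hyp.zK (mem_cent hfM hrY)
    rw [h10, h11, mul_assoc _ z z, H.hyp.zz, mul_one]

/-- (I5) the Sylow 2-subgroup of `C(K)` normalizes `⟨y⟩` -/
theorem R_pm (H : InnPair K z u x P T p m n d m' n' k y) {r : G} (hr : r ∈ T)
    (hrY : r ∈ centralizer (K : Set G)) : r * y * r⁻¹ = y ∨ r * y * r⁻¹ = y⁻¹ := by
  have hpf : Fact (Nat.Prime 2) := ⟨Nat.prime_two⟩
  obtain ⟨q, hqT, hqK, hqk, hqq⟩ := H.exists_k1
  -- the subgroup `R₁`
  have hyinv : ∀ {g : G}, g * y * g⁻¹ = y⁻¹ → g * y⁻¹ * g⁻¹ = y := by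
    intro g hg
    have : g * y⁻¹ * g⁻¹ = (g * y * g⁻¹)⁻¹ := by group
    rw [this, hg, inv_inv]
  let R1 : Subgroup G :=
    { carrier := {r | r ∈ T ∧ r ∈ centralizer (K : Set G) ∧ (r * y * r⁻¹ = y ∨ r * y * r⁻¹ = y⁻¹)}
      one_mem' := ⟨one_mem _, one_mem _, Or.inl (by group)⟩
      mul_mem' := by
        rintro a b ⟨a1, a2, a3⟩ ⟨b1, b2, b3⟩
        refine ⟨T.mul_mem a1 b1, Subgroup.mul_mem _ a2 b2, ?_⟩
        have e : a * b * y * (a * b)⁻¹ = a * (b * y * b⁻¹) * a⁻¹ := by group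
        rw [e]
        rcases b3 with b3 | b3 <;> rw [b3]
        · exact a3
        · rcases a3 with a3 | a3
          · right
            have : a * y⁻¹ * a⁻¹ = (a * y * a⁻¹)⁻¹ := by group
            rw [this, a3]
          · left; exact hyinv a3
      inv_mem' := by
        rintro a ⟨a1, a2, a3⟩
        refine ⟨T.inv_mem a1, Subgroup.inv_mem _ a2, ?_⟩
        rcases a3 with a3 | a3
        · left
          nth_rw 1 [← a3]; group
        · right
          have h1 := hyinv a3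
          nth_rw 1 [← h1]; group }
  have hR1 : ∀ {r : G}, r ∈ R1 ↔ r ∈ T ∧ r ∈ centralizer (K : Set G) ∧
      (r * y * r⁻¹ = y ∨ r * y * r⁻¹ = y⁻¹) := Iff.rfl
  have hyz : ∀ {g : G}, g ∈ normalizer (K : Set G) → g * y * g⁻¹ * (g * y * g⁻¹) = z := by
    intro g hg
    calc g * y * g⁻¹ * (g * y * g⁻¹) = g * (y * y) * g⁻¹ := by group
      _ = z := by rw [H.yy]; exact H.hyp.conj_z hg
  have hyR1 : y ∈ R1 := ⟨H.le H.yP, H.yY, Or.inl (by group)⟩
  have hBR1 : ∀ {b : G}, b ∈ P → b ∈ centralizer (K : Set G) → b ∈ R1 := by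
    intro b hb hbY
    refine ⟨H.le hb, hbY, Or.inl ?_⟩
    rw [H.F_comm hb (H.Y_k hbY) H.yP (H.Y_k H.yY), mul_inv_cancel_right]
  have hpow : ∀ {r : G}, r ∈ R1 → r ∉ P → r * y * r⁻¹ = y⁻¹ := by
    rintro r ⟨h1, h2, h3⟩ hrP
    rcases h3 with h3 | h3
    · exact absurd (H.RB h1 h2 (mul_inv_eq_iff_eq_mul.mp h3)) hrP
    · exact h3
  by_contra hcon
  have hlt : r ∉ R1 := fun h => hcon h.2.2
  -- an element normalizing `R₁`
  obtain ⟨g₀, hg₀R, hg₀N, hg₀⟩ : ∃ g, g ∈ T ⊓ centralizer (K : Set G) ∧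
      g ∈ normalizer (R1 : Set G) ∧ g ∉ R1 := by
    by_contra hno
    push Not at hno
    have h1 : T ⊓ centralizer (K : Set G) = R1 := by
      refine Cfsg.Agent.Blocks.SylowIn.eq_of_normalizer_inf_le (p := 2)
        (H.sylT.two.to_le inf_le_left) (fun r hr => ⟨hr.1, hr.2.1⟩) ?_
      rintro g ⟨hg, hgR⟩
      exact hno g hgR hg
    exact hlt (h1 ▸ (⟨hr, hrY⟩ : r ∈ T ⊓ centralizer (K : Set G)))
  obtain ⟨j, hj⟩ := exists_pow_eq_one H.sylT.two hg₀R.1
  obtain ⟨i, hi1, hi2⟩ := exists_pow_sq hg₀ hj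
  obtain ⟨g, hg⟩ : ∃ g, g = g₀ ^ i := ⟨_, rfl⟩
  rw [← hg] at hi1 hi2
  have hgT : g ∈ T := by rw [hg]; exact T.pow_mem hg₀R.1 i
  have hgY : g ∈ centralizer (K : Set G) := by rw [hg]; exact Subgroup.pow_mem _ hg₀R.2 i
  have hgN : g ∈ normalizer (R1 : Set G) := by rw [hg]; exact Subgroup.pow_mem _ hg₀N i
  have hgM := centralizer_le_normalizer (K : Set G) hgY
  have hgR1 := forall_of_mem_normalizer hgN
  -- `w = y^g`
  obtain ⟨w, hw⟩ : ∃ w, w = g * y * g⁻¹ := ⟨_, rfl⟩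
  have hwR1 : w ∈ R1 := by rw [hw]; exact hgR1 y hyR1
  have hww : w * w = z := by rw [hw]; exact hyz hgM
  have hwP : w ∉ P := by
    intro h1
    apply hi1
    refine ⟨hgT, hgY, ?_⟩
    rw [← hw]
    exact H.y_sq h1 hwR1.2.1 hww
  have hwy := hpow hwR1 hwP
  -- `C_P(K)` has order 4
  have hB : ∀ b ∈ P, b ∈ centralizer (K : Set G) → b = 1 ∨ b = z ∨ b = y ∨ b = y⁻¹ := by
    intro b hb hbY
    have h1 : g * b * g⁻¹ ∈ R1 := hgR1 b (hBR1 hb hbY)
    by_cases h2 : g * b * g⁻¹ ∈ P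
    · have hby := H.F_comm hb (H.Y_k hbY) H.yP (H.Y_k H.yY)
      have h3 : (g * b * g⁻¹) * w = w * (g * b * g⁻¹) := by
        calc (g * b * g⁻¹) * w = g * (b * y) * g⁻¹ := by rw [hw]; group
          _ = g * (y * b) * g⁻¹ := by rw [hby]
          _ = w * (g * b * g⁻¹) := by rw [hw]; group
      obtain ⟨h4, h5, -⟩ := H.w_sq hqT hqK hqk hqq hwR1.1 hwR1.2.1 hwy
      have h6 := H.inv_F h4 h5 h2 (H.Y_k h1.2.1)
      have h7 : (q * w) * (g * b * g⁻¹) * (q * w)⁻¹ = g * b * g⁻¹ := by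
        have h8 := comm hqK h1.2.1
        calc (q * w) * (g * b * g⁻¹) * (q * w)⁻¹ = q * (w * (g * b * g⁻¹)) * w⁻¹ * q⁻¹ := by group
          _ = q * (g * b * g⁻¹) * q⁻¹ := by rw [← h3]; group
          _ = g * b * g⁻¹ := by rw [h8]; group
      rw [h7] at h6
      have h8 : b * b = 1 := by
        have h9 : (g * b * g⁻¹) * (g * b * g⁻¹) = 1 := by
          nth_rw 2 [h6]
          exact mul_inv_cancel _
        calc b * b = g⁻¹ * ((g * b * g⁻¹) * (g * b * g⁻¹)) * g := by group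
          _ = 1 := by rw [h9]; group
      rcases H.Y_inv hb hbY h8 with h9 | h9
      · exact Or.inl h9
      · exact Or.inr (Or.inl h9)
    · have h3 := (H.w_sq hqT hqK hqk hqq h1.1 h1.2.1 (hpow h1 h2)).2.2
      have h4 : b * b = z := by
        have hgz : g⁻¹ * z * g = z := by
          have := H.hyp.conj_z (Subgroup.inv_mem _ hgM)
          rwa [inv_inv] at this
        calc b * b = g⁻¹ * ((g * b * g⁻¹) * (g * b * g⁻¹)) * g := by group
          _ = z := by rw [h3, hgz]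
      rcases H.y_sq hb hbY h4 with h5 | h5
      · exact Or.inr (Or.inr (Or.inl h5))
      · exact Or.inr (Or.inr (Or.inr h5))
  -- the element `f` of `F`
  obtain ⟨f, hf⟩ : ∃ f, f = x * k * x⁻¹ := ⟨_, rfl⟩
  have hfP : f ∈ P := by rw [hf]; exact H.hP _ H.kP
  have hfk : f * k = k * f := by rw [hf]; exact H.F_conj H.kP rfl
  have hff : f * f = u := by
    rw [hf, ← H.hz, ← H.kk]; group
  have hfM := H.PM hfP
  have hfy : f * y = y * f := H.F_comm hfP hfk H.yP (H.Y_k H.yY)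
  have hfR1 : ∀ r ∈ R1, f * r * f⁻¹ ∈ R1 := by
    rintro r ⟨h1, h2, h3⟩
    refine ⟨T.mul_mem (T.mul_mem (H.le hfP) h1) (T.inv_mem (H.le hfP)), mem_cent hfM h2, ?_⟩
    have hfy' : f⁻¹ * y * f = y := by rw [mul_assoc, ← hfy]; group
    have hfy'' : f * y * f⁻¹ = y := by rw [hfy]; group
    have e : f * r * f⁻¹ * y * (f * r * f⁻¹)⁻¹ = f * (r * y * r⁻¹) * f⁻¹ := by
      calc f * r * f⁻¹ * y * (f * r * f⁻¹)⁻¹ = f * r * (f⁻¹ * y * f) * r⁻¹ * f⁻¹ := by group
        _ = f * (r * y * r⁻¹) * f⁻¹ := by rw [hfy']; group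
    rw [e]
    rcases h3 with h3 | h3 <;> rw [h3]
    · left; exact hfy''
    · right
      have : f * y⁻¹ * f⁻¹ = (f * y * f⁻¹)⁻¹ := by group
      rw [this, hfy'']
  have hfN : f ∈ normalizer (R1 : Set G) := mem_normalizer_of_forall hfR1
  obtain ⟨g', hg'⟩ : ∃ g', g' = f * g * f⁻¹ := ⟨_, rfl⟩
  have hg'T : g' ∈ T := by
    rw [hg']; exact T.mul_mem (T.mul_mem (H.le hfP) hgT) (T.inv_mem (H.le hfP))
  have hg'Y : g' ∈ centralizer (K : Set G) := by rw [hg']; exact mem_cent hfM hgY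
  have hg'N : g' ∈ normalizer (R1 : Set G) := by
    rw [hg']; exact Subgroup.mul_mem _ (Subgroup.mul_mem _ hfN hgN) (Subgroup.inv_mem _ hfN)
  obtain ⟨w', hw'⟩ : ∃ w', w' = g' * y * g'⁻¹ := ⟨_, rfl⟩
  have hw'w : w' = w * y ∨ w' = w * y * z := by
    have h1 : w' = f * w * f⁻¹ := by
      have hfy' : f⁻¹ * y * f = y := by rw [mul_assoc, ← hfy]; group
      calc w' = f * g * (f⁻¹ * y * f) * g⁻¹ * f⁻¹ := by rw [hw', hg']; group
        _ = f * w * f⁻¹ := by rw [hfy', hw]; group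
    rw [h1]
    exact H.w_f hqT hqK hqk hqq hwR1.1 hwR1.2.1 hwy hfP hfk hff
  have hzP : z ∈ P := by
    have := P.mul_mem H.kP H.kP
    rwa [H.kk] at this
  have hzR1 : z ∈ R1 := hBR1 hzP H.hyp.zY
  -- the cosets
  have hcos : ∀ t, t ∈ T → t ∈ centralizer (K : Set G) → t ∈ normalizer (R1 : Set G) →
      t ∈ R1 ∨ g⁻¹ * t ∈ R1 ∨ g'⁻¹ * t ∈ R1 := by
    intro t htT htY htN
    obtain ⟨v, hv⟩ : ∃ v, v = t * y * t⁻¹ := ⟨_, rfl⟩
    have hvR1 : v ∈ R1 := by rw [hv]; exact forall_of_mem_normalizer htN y hyR1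
    have hvv : v * v = z := by rw [hv]; exact hyz (centralizer_le_normalizer _ htY)
    -- `a⁻¹ t` normalizes `⟨y⟩`
    have hend : ∀ a, a ∈ T → a ∈ centralizer (K : Set G) → (v = a * y * a⁻¹ ∨ v = a * y⁻¹ * a⁻¹) →
        a⁻¹ * t ∈ R1 := by
      intro a haT haY hva
      refine ⟨T.mul_mem (T.inv_mem haT) htT, Subgroup.mul_mem _ (Subgroup.inv_mem _ haY) htY, ?_⟩
      have e : a⁻¹ * t * y * (a⁻¹ * t)⁻¹ = a⁻¹ * v * a := by rw [hv]; group
      rw [e]
      rcases hva with h | h <;> rw [h]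
      · left; group
      · right; group
    by_cases hvP : v ∈ P
    · left
      refine ⟨htT, htY, ?_⟩
      rw [← hv]
      exact H.y_sq hvP hvR1.2.1 hvv
    · have hvy := hpow hvR1 hvP
      -- `w⁻¹ v ∈ C_P(K)`
      have h1 : (w⁻¹ * v) * y = y * (w⁻¹ * v) := by
        rw [← mul_inv_eq_iff_eq_mul]
        calc w⁻¹ * v * y * (w⁻¹ * v)⁻¹ = w⁻¹ * (v * y * v⁻¹) * w := by group
          _ = y := by rw [hvy, ← hwy]; group
      have h2 : w⁻¹ * v ∈ centralizer (K : Set G) :=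
        Subgroup.mul_mem _ (Subgroup.inv_mem _ hwR1.2.1) hvR1.2.1
      have h3 : w⁻¹ * v ∈ P := H.RB (T.mul_mem (T.inv_mem hwR1.1) hvR1.1) h2 h1
      have hwz : w⁻¹ = w * z := H.hyp.inv_k hww
      have hyz' : y⁻¹ = y * z := H.hyp.inv_k H.yy
      have hw'z : w'⁻¹ = w' * z := H.hyp.inv_k (by
        rw [hw']; exact hyz (centralizer_le_normalizer _ hg'Y))
      have hgi : g * y⁻¹ * g⁻¹ = w⁻¹ := by rw [hw]; group
      have hgi' : g' * y⁻¹ * g'⁻¹ = w'⁻¹ := by rw [hw']; group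
      rcases hB _ h3 h2 with h4 | h4 | h4 | h4
      · right; left
        exact hend g hgT hgY (Or.inl (by rw [← hw]; exact (inv_mul_eq_one.mp h4).symm))
      · right; left
        refine hend g hgT hgY (Or.inr ?_)
        rw [hgi, hwz]
        exact inv_mul_eq_iff_eq_mul.mp h4
      · right; right
        have h5 : v = w * y := inv_mul_eq_iff_eq_mul.mp h4
        refine hend g' hg'T hg'Y ?_
        rcases hw'w with h6 | h6
        · left; rw [← hw', h6, h5]
        · right; rw [hgi', hw'z, h6, h5, mul_assoc, H.hyp.zz, mul_one]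
      · right; right
        have h5 : v = w * y * z := by
          rw [mul_assoc, ← hyz']; exact inv_mul_eq_iff_eq_mul.mp h4
        refine hend g' hg'T hg'Y ?_
        rcases hw'w with h6 | h6
        · right; rw [hgi', hw'z, h6, h5]
        · left; rw [← hw', h6, h5]
  have hyne : y ≠ 1 ∧ y ≠ z := by
    constructor
    · rintro rfl
      have := H.yy
      rw [one_mul] at this
      exact H.hyp.z_ne this.symm
    · intro h1
      have := H.yy
      rw [h1, H.hyp.zz] at this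
      exact H.hyp.z_ne this.symm
  have hzw : ∀ {a b : G}, a = b * z → a * z = b := by
    intro a b h1
    rw [h1, mul_assoc, H.hyp.zz, mul_one]
  -- (b) `g' ∉ R₁`
  have hb : g' ∉ R1 := by
    intro h1
    apply hwP
    have h2 : w' = y ∨ w' = y⁻¹ := by rw [hw']; exact h1.2.2
    have h3 : w' ∈ P := by
      rcases h2 with h2 | h2
      · rw [h2]; exact H.yP
      · rw [h2]; exact P.inv_mem H.yP
    rcases hw'w with h4 | h4
    · rw [h4] at h3
      exact (Subgroup.mul_mem_cancel_right _ H.yP).mp h3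
    · rw [h4] at h3
      exact (Subgroup.mul_mem_cancel_right _ H.yP).mp
        ((Subgroup.mul_mem_cancel_right _ hzP).mp h3)
  -- (a) `g⁻¹ g' ∉ R₁`
  have ha : g⁻¹ * g' ∉ R1 := by
    intro h1
    have h2 : w' = g * ((g⁻¹ * g') * y * (g⁻¹ * g')⁻¹) * g⁻¹ := by rw [hw']; group
    have hgz : g * z * g⁻¹ = z := H.hyp.conj_z hgM
    have h3 : w' = w ∨ w' = w * z := by
      rcases h1.2.2 with h3 | h3 <;> rw [h3] at h2
      · left; rw [h2, hw]
      · right
        rw [h2, H.hyp.inv_k H.yy, hw]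
        calc g * (y * z) * g⁻¹ = g * y * g⁻¹ * (g * z * g⁻¹) := by group
          _ = g * y * g⁻¹ * z := by rw [hgz]
    rcases h3 with h3 | h3 <;> rcases hw'w with h4 | h4
    · rw [h3] at h4
      exact hyne.1 (mul_eq_left.mp h4.symm)
    · rw [h3, mul_assoc] at h4
      have h5 := mul_eq_left.mp h4.symm
      exact hyne.2 (by rw [eq_inv_of_mul_eq_one_left h5, H.hyp.z_inv])
    · rw [h3] at h4
      exact hyne.2 (mul_left_cancel h4).symm
    · rw [h3, mul_assoc w y z] at h4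
      have h5 := mul_left_cancel h4
      exact hyne.1 (mul_eq_right.mp h5.symm)
  rcases hcos (g * g') (T.mul_mem hgT hg'T) (Subgroup.mul_mem _ hgY hg'Y)
    (Subgroup.mul_mem _ hgN hg'N) with h1 | h1 | h1
  · apply ha
    have e : g⁻¹ * g' = (g * g)⁻¹ * (g * g') := by group
    rw [e]
    exact R1.mul_mem (R1.inv_mem hi2) h1
  · apply hb
    have e : g⁻¹ * (g * g') = g' := by group
    rwa [e] at h1
  · apply hi1
    have h2 := forall_of_mem_normalizer hg'N _ h1
    have e : g' * (g'⁻¹ * (g * g')) * g'⁻¹ = g := by group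
    rwa [e] at h2

end InnPair

end Cfsg.Agent.OddCyclic.CompSL2Amb
end

-- part: OddCyclic/CompSL2Inner3
section
/-!
# S0342, case C: inner pairs do not exist

(I6)-(I8) of blueprints/S0342-caseC.md: Thompson transfer.
-/

set_option autoImplicit false

namespace Cfsg.Agent.OddCyclic.CompSL2Amb

open Subgroup Cfsg
open Cfsg.Agent.OddCyclic.T1Defs Cfsg.Agent.OddCyclic.CompBasic
open Cfsg.Agent.OddCyclic.CompStandard Cfsg.Agent.OddCyclic.CompSL2Facts
open Cfsg.Agent.LieExceptional Cfsg.Agent.LieExceptional.CITDefs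
open Cfsg.Agent.LieExceptional.CITBasic

variable {G : Type*} [Group G] [Finite G] {K : Subgroup G} {z : G} {p m n : ℕ}

namespace InnPair

variable {u x : G} {P T : Subgroup G} {d m' n' : ℕ} {k y : G}

theorem card_R_le (H : InnPair K z u x P T p m n d m' n' k y)
    (hV : ∃ V : Subgroup G, V ≤ T ∧ Elem V ∧ Nat.card V = 8) :
    Nat.card (T ⊓ centralizer (K : Set G) : Subgroup G) ≤ 2 * 2 ^ d := by
  classical
  obtain ⟨w, hwT, hwY, hwy⟩ := H.exists_w hV
  have key : ∀ r ∈ T, r ∈ centralizer (K : Set G) → r ∉ P → w⁻¹ * r ∈ P := by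
    intro r hr hrY hrP
    have h1 : r * y * r⁻¹ = y⁻¹ := by
      rcases H.R_pm hr hrY with h1 | h1
      · exact absurd (H.RB hr hrY (mul_inv_eq_iff_eq_mul.mp h1)) hrP
      · exact h1
    refine H.RB (T.mul_mem (T.inv_mem hwT) hr)
      (Subgroup.mul_mem _ (Subgroup.inv_mem _ hwY) hrY) ?_
    rw [← mul_inv_eq_iff_eq_mul]
    calc w⁻¹ * r * y * (w⁻¹ * r)⁻¹ = w⁻¹ * (r * y * r⁻¹) * w := by group
      _ = y := by rw [h1, ← hwy]; group
  rw [← H.F_facts.2.1]
  let φ : (T ⊓ centralizer (K : Set G) : Subgroup G) →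
      Bool × (P ⊓ centralizer (K : Set G) : Subgroup G) := fun r =>
    if h : r.1 ∈ P then (false, ⟨r.1, h, r.2.2⟩)
    else (true, ⟨w⁻¹ * r.1, key r.1 r.2.1 r.2.2 h,
      Subgroup.mul_mem _ (Subgroup.inv_mem _ hwY) r.2.2⟩)
  have hφ : Function.Injective φ := by
    intro r r' hrr
    by_cases h1 : r.1 ∈ P <;> by_cases h2 : r'.1 ∈ P
    · simp only [φ, h1, h2, dif_pos] at hrr
      have := congrArg (fun a => a.2.1) hrr
      exact Subtype.ext this
    · simp only [φ, h1, h2, dif_pos] at hrr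
      have := congrArg (fun a => a.1) hrr
      simp at this
    · simp only [φ, h1, h2, dif_pos] at hrr
      have := congrArg (fun a => a.1) hrr
      simp at this
    · simp only [φ, h1, h2] at hrr
      have := congrArg (fun a => a.2.1) hrr
      exact Subtype.ext (mul_left_cancel this)
  have h1 := Nat.card_le_card_of_injective φ hφ
  rw [Nat.card_prod] at h1
  simpa only [_root_.Subgroup.mem_inf, _root_.ge_iff_le, _root_.Nat.card_eq_fintype_card, _root_.Fintype.card_bool] using h1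

/-- the subgroup `C_T(y)` of index 2 -/
theorem C_facts (H : InnPair K z u x P T p m n d m' n' k y)
    (hV : ∃ V : Subgroup G, V ≤ T ∧ Elem V ∧ Nat.card V = 8) {q : G} (hqT : q ∈ T) (hqK : q ∈ K)
    (hqk : q * k * q⁻¹ = k⁻¹) :
    (T ⊓ centralizer ({y} : Set G)).relIndex T = 2 ∧
    ∀ t ∈ T, t * y = y * t → ∃ f ∈ P, f * k = k * f ∧ (t = f ∨ t = q * f) := by
  obtain ⟨w, hwT, hwY, hwy⟩ := H.exists_w hV
  have hqq : q * q = z := by
    refine (H.Q_out hqT hqK ?_).2
    exact H.of_inv hqk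
  obtain ⟨h1, h2, -⟩ := H.w_sq hqT hqK hqk hqq hwT hwY hwy
  set C := T ⊓ centralizer ({y} : Set G) with hC
  set D := 2 ^ d * 2 ^ d with hD
  have hD0 : 0 < D := by positivity
  have hqy := comm hqK H.yY
  have hFy : ∀ f ∈ P, f * k = k * f → f * y = y * f := fun f hf hfk =>
    H.F_comm hf hfk H.yP (H.Y_k H.yY)
  let ψ : Bool × (P ⊓ centralizer ({k} : Set G) : Subgroup G) → C := fun bf =>
    if bf.1 then ⟨q * bf.2.1, T.mul_mem hqT (H.le bf.2.2.1), by
      show q * bf.2.1 ∈ centralizer ({y} : Set G)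
      rw [mem_centralizer_singleton_iff, mul_assoc,
        hFy _ bf.2.2.1 (mem_centralizer_singleton_iff.mp bf.2.2.2), ← mul_assoc, hqy, mul_assoc]⟩
    else ⟨bf.2.1, H.le bf.2.2.1, mem_centralizer_singleton_iff.mpr
      (hFy _ bf.2.2.1 (mem_centralizer_singleton_iff.mp bf.2.2.2))⟩
  have hψt : ∀ f, ((ψ (true, f) : C) : G) = q * f.1 := fun _ => rfl
  have hψf : ∀ f, ((ψ (false, f) : C) : G) = f.1 := fun _ => rfl
  have hqk' : q * k ≠ k * q := H.of_inv hqk
  have hqF : ∀ f f' : (P ⊓ centralizer ({k} : Set G) : Subgroup G), q * f.1 ≠ f'.1 := by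
    intro f f' h3
    apply hqk'
    have h4 : q = f'.1 * f.1⁻¹ := by rw [← h3]; group
    have h5 := (P ⊓ centralizer ({k} : Set G)).mul_mem f'.2 (Subgroup.inv_mem _ f.2)
    rw [← h4] at h5
    exact mem_centralizer_singleton_iff.mp h5.2
  have hψ : Function.Injective ψ := by
    rintro ⟨b, f⟩ ⟨b', f'⟩ hbf
    have h3 := congrArg Subtype.val hbf
    cases b <;> cases b'
    · rw [hψf, hψf] at h3
      rw [Subtype.ext h3]
    · rw [hψf, hψt] at h3
      exact absurd h3.symm (hqF _ _)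
    · rw [hψt, hψf] at h3
      exact absurd h3 (hqF _ _)
    · rw [hψt, hψt] at h3
      rw [Subtype.ext (mul_left_cancel h3)]
  have h3 := Nat.card_le_card_of_injective ψ hψ
  rw [Nat.card_prod, H.F_facts.1, ← hD] at h3
  have h3' : 2 * D ≤ Nat.card C := by simpa only [_root_.Nat.card_eq_fintype_card, _root_.Fintype.card_bool] using h3
  have h4 : Nat.card T ≤ 4 * D := by
    have h5 := H.card_T_le
    have h6 := Nat.mul_le_mul_left (2 ^ (d + 1)) (H.card_R_le hV)
    calc Nat.card T ≤ _ := h5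
      _ ≤ _ := h6
      _ = 4 * D := by rw [hD, pow_succ]; ring
  have h5 : Nat.card C * C.relIndex T = Nat.card T := T1Tools.card_mul_relIndex inf_le_left
  have h6 : C.relIndex T ≠ 1 := by
    rw [Ne, relIndex_eq_one]
    intro h6
    have h7 := mem_centralizer_singleton_iff.mp (h6 (H.le h1)).2
    have h8 := H.inv_F h1 h2 H.yP (H.Y_k H.yY)
    rw [h7, mul_inv_cancel_right] at h8
    exact H.hyp.k_ne H.yy h8
  have h7 : C.relIndex T ≠ 0 := by
    intro h7
    rw [h7, mul_zero] at h5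
    exact Nat.card_pos.ne h5
  have h8 : C.relIndex T ≤ 2 := by
    by_contra h8
    have h9 : 2 * D * 3 ≤ Nat.card C * C.relIndex T := Nat.mul_le_mul h3' (by omega)
    omega
  have h9 : C.relIndex T = 2 := by omega
  refine ⟨h9, ?_⟩
  rw [h9] at h5
  have hbij : Function.Bijective ψ := by
    refine (Nat.bijective_iff_injective_and_card _).mpr ⟨hψ, ?_⟩
    have hb : Nat.card Bool = 2 := by simp
    rw [Nat.card_prod, H.F_facts.1, ← hD, hb]
    omega
  intro t ht hty
  obtain ⟨⟨b, f⟩, hbf⟩ := hbij.2 ⟨t, ht, mem_centralizer_singleton_iff.mpr hty⟩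
  have h10 := congrArg Subtype.val hbf
  refine ⟨f.1, f.2.1, mem_centralizer_singleton_iff.mp f.2.2, ?_⟩
  cases b
  · rw [hψf] at h10; exact Or.inl h10.symm
  · rw [hψt] at h10; exact Or.inr h10.symm

/-- (I6) the involutions of `C_T(y)` are conjugate to `z` -/
theorem C_inv (H : InnPair K z u x P T p m n d m' n' k y)
    (hV : ∃ V : Subgroup G, V ≤ T ∧ Elem V ∧ Nat.card V = 8) {t : G} (ht : t ∈ T)
    (hty : t * y = y * t) (htt : t * t = 1) (ht1 : t ≠ 1) : ∃ g, g * z * g⁻¹ = t := by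
  obtain ⟨q, hqT, hqK, hqk, hqq⟩ := H.exists_k1
  obtain ⟨f, hf, hfk, h1⟩ := (H.C_facts hV hqT hqK hqk).2 t ht hty
  rcases h1 with h1 | h1
  · rw [← h1] at hf hfk
    rcases H.F_inv hf hfk htt with h2 | h2 | h2 | h2
    · exact absurd h2 ht1
    · exact ⟨1, by rw [h2]; group⟩
    · exact ⟨x, by rw [h2]; exact H.hz⟩
    · refine ⟨x * x, ?_⟩
      rw [h2]
      calc x * x * z * (x * x)⁻¹ = x * (x * z * x⁻¹) * x⁻¹ := by group
        _ = u * z := by rw [H.hz, H.hu]
  · -- `t = q f`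
    have hz := H.hyp.z_inv
    have hqM := le_normalizer hqK
    obtain ⟨a, ha, b, hb, hab⟩ := H.F_facts.2.2 f hf hfk
    obtain ⟨a₀, ha₀, b₀, hb₀, hab₀⟩ := H.F_facts.2.2 y H.yP (H.Y_k H.yY)
    obtain ⟨c, hc⟩ : ∃ c, c = b * b₀⁻¹ := ⟨_, rfl⟩
    obtain ⟨e, he⟩ : ∃ e, e = a * a₀⁻¹ := ⟨_, rfl⟩
    have hcA : c ∈ P ⊓ cj x K := by
      rw [hc]; exact Subgroup.mul_mem _ hb (Subgroup.inv_mem _ hb₀)
    have heA : e ∈ P ⊓ K := by
      rw [he]; exact Subgroup.mul_mem _ ha (Subgroup.inv_mem _ ha₀)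
    have hec : f * y⁻¹ = e * c := by
      have h3 := (H.cross ha₀ hb).eq
      have h4 := (H.cross ha₀ hb₀).eq
      have h5 : Commute a₀⁻¹ (b * b₀⁻¹) :=
        ((H.cross ha₀ hb).mul_right (H.cross ha₀ hb₀).inv_right).inv_left
      calc f * y⁻¹ = a * (b * b₀⁻¹ * a₀⁻¹) := by rw [hab, hab₀]; group
        _ = e * c := by rw [← h5.eq, he, hc]; group
    have hfy := H.F_comm hf hfk H.yP (H.Y_k H.yY)
    have hqf : q * f * q⁻¹ = f⁻¹ * z := by
      have h3 : q * f * q⁻¹ * (z * f) = 1 := by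
        rw [← hqq]
        calc q * f * q⁻¹ * (q * q * f) = (q * f) * (q * f) := by group
          _ = 1 := by rw [← h1]; exact htt
      have h4 : q * f * q⁻¹ = (z * f)⁻¹ := eq_inv_of_mul_eq_one_left h3
      rw [h4, _root_.mul_inv_rev, hz]
    have hqy : q * y⁻¹ * q⁻¹ = y⁻¹ := by
      rw [mul_inv_eq_iff_eq_mul]
      exact comm hqK (Subgroup.inv_mem _ H.yY)
    have hzy : z * y⁻¹ = y := by rw [← H.yy]; group
    have hqfy : q * (f * y⁻¹) * q⁻¹ = (f * y⁻¹)⁻¹ := by
      calc q * (f * y⁻¹) * q⁻¹ = (q * f * q⁻¹) * (q * y⁻¹ * q⁻¹) := by group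
        _ = f⁻¹ * (z * y⁻¹) := by rw [hqf, hqy]; group
        _ = f⁻¹ * y := by rw [hzy]
        _ = (f * y⁻¹)⁻¹ := by
          rw [_root_.mul_inv_rev, inv_inv, inv_mul_eq_iff_eq_mul, ← mul_assoc, hfy]; group
    have hqe : q * e * q⁻¹ = e⁻¹ := (H.hyp.invt H.kK H.kk hqM hqk).1 e heA.2
      ((H.K_comm heA.2).mp (H.Pu heA.1))
    have hecc := (H.cross heA hcA).eq
    have hqc : q * c * q⁻¹ = c⁻¹ := by
      have h3 : c = e⁻¹ * (f * y⁻¹) := by rw [hec]; group
      have h4 : q * e⁻¹ * q⁻¹ = e := by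
        have : q * e⁻¹ * q⁻¹ = (q * e * q⁻¹)⁻¹ := by group
        rw [this, hqe, inv_inv]
      calc q * c * q⁻¹ = (q * e⁻¹ * q⁻¹) * (q * (f * y⁻¹) * q⁻¹) := by
            nth_rw 1 [h3]; group
        _ = e * (e * c)⁻¹ := by rw [h4, hqfy, hec]
        _ = e * (c * e)⁻¹ := by rw [hecc]
        _ = c⁻¹ := by group
    have hcc : c * c = 1 := by
      refine (comm_of_ne H.hyp (g := x) (by rw [H.hz]; exact H.ne) H.syl.two
        (fun a ha => H.Pz ha) (fun a ha => by rw [H.hz]; exact H.Pu ha)).1 _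
        (P.mul_mem hcA.1 hcA.1) ?_ (Subgroup.mul_mem _ hcA.2 hcA.2)
      have h3 : c * c = (c * q * c⁻¹) * q⁻¹ := by
        have h4 : q * c⁻¹ * q⁻¹ = c := by
          have : q * c⁻¹ * q⁻¹ = (q * c * q⁻¹)⁻¹ := by group
          rw [this, hqc, inv_inv]
        calc c * c = c * (q * c⁻¹ * q⁻¹) := by rw [h4]
          _ = (c * q * c⁻¹) * q⁻¹ := by group
      rw [h3]
      exact K.mul_mem (mem_norm (H.PM hcA.1) hqK) (K.inv_mem hqK)
    have hc1 : c = 1 := by
      rcases H.hyp_u.eq_z hcA.2 hcc with h3 | h3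
      · exact h3
      · exfalso
        rw [h3, inv_eq_of_mul_eq_one_right H.uu] at hqc
        exact H.of_inv hqk ((H.K_comm hqK).mp (mul_inv_eq_iff_eq_mul.mp hqc))
    rw [hc1, mul_one] at hec
    have hfe : f = e * y := mul_inv_eq_iff_eq_mul.mp hec
    -- `q e` has order 4
    have hqe2 : (q * e) * (q * e) = z := by
      calc (q * e) * (q * e) = (q * e * q⁻¹) * (q * q) * e := by group
        _ = e⁻¹ * (z * e) := by rw [hqe, hqq]; group
        _ = e⁻¹ * (e * z) := by rw [H.Pz heA.1]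
        _ = z := by group
    obtain ⟨g, hgK, hg⟩ := H.hyp.conj4 H.kK (K.mul_mem hqK heA.2) H.kk hqe2
    refine ⟨g * x, ?_⟩
    have hgy : g * y * g⁻¹ = y := by
      rw [mul_inv_eq_iff_eq_mul]
      exact comm hgK H.yY
    calc g * x * z * (g * x)⁻¹ = g * (x * z * x⁻¹) * g⁻¹ := by group
      _ = (g * k * g⁻¹) * (g * y * g⁻¹) := by rw [H.hz, H.uk]; group
      _ = q * (e * y) := by rw [hg, hgy]; group
      _ = t := by rw [← hfe, h1]

/-- (I7) an element of `P - F` centralized by `x` -/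
theorem exists_fixed (H : InnPair K z u x P T p m n d m' n' k y)
    (hV : ∃ V : Subgroup G, V ≤ T ∧ Elem V ∧ Nat.card V = 8) :
    ∃ v ∈ P, v * k ≠ k * v ∧ x * v * x⁻¹ = v := by
  classical
  obtain ⟨q, hqT, hqK, hqk, hqq⟩ := H.exists_k1
  obtain ⟨w, hwT, hwY, hwy⟩ := H.exists_w hV
  obtain ⟨h1, h2, -⟩ := H.w_sq hqT hqK hqk hqq hwT hwY hwy
  obtain ⟨v₀, hv₀⟩ : ∃ v₀, v₀ = q * w := ⟨_, rfl⟩
  rw [← hv₀] at h1 h2
  have h3 := H.outF h1 h2
  let S : Type _ := {v : G // v ∈ P ∧ v * k ≠ k * v}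
  have e : (P ⊓ centralizer ({k} : Set G) : Subgroup G) ≃ S :=
    { toFun := fun f => ⟨v₀ * f.1, P.mul_mem h1 f.2.1, fun h4 => h2 (by
        have h5 := mem_centralizer_singleton_iff.mp f.2.2
        apply mul_right_cancel (b := f.1)
        calc v₀ * k * f.1 = v₀ * (f.1 * k) := by rw [h5]; group
          _ = k * (v₀ * f.1) := by rw [← h4]; group
          _ = k * v₀ * f.1 := by group)⟩
      invFun := fun v => ⟨v₀⁻¹ * v.1, P.mul_mem (P.inv_mem h1) v.2.1, by
        show v₀⁻¹ * v.1 ∈ centralizer ({k} : Set G)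
        rw [mem_centralizer_singleton_iff, ← mul_inv_eq_iff_eq_mul]
        have h4 := H.outF v.2.1 v.2.2
        calc v₀⁻¹ * v.1 * k * (v₀⁻¹ * v.1)⁻¹ = v₀⁻¹ * (v.1 * k * v.1⁻¹) * v₀ := by group
          _ = k := by rw [h4, ← h3]; group⟩
      left_inv := fun f => Subtype.ext (by simp)
      right_inv := fun v => Subtype.ext (by simp) }
  have hcard : Nat.card S = 2 ^ d * 2 ^ d := by rw [← Nat.card_congr e, H.F_facts.1]
  have hfin : Finite S := Finite.of_equiv _ e
  have hfint : Fintype S := Fintype.ofFinite S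
  let σ : Equiv.Perm S :=
    { toFun := fun v => ⟨x * v.1 * x⁻¹, H.hP _ v.2.1, fun h4 => v.2.2 (by
        have h5 := H.F_conj_inv (H.hP _ v.2.1) h4
        have e : x⁻¹ * (x * v.1 * x⁻¹) * x = v.1 := by group
        rwa [e] at h5)⟩
      invFun := fun v => ⟨x⁻¹ * v.1 * x, H.inv_mem v.2.1, fun h4 => v.2.2 (by
        have h5 := H.F_conj (H.inv_mem v.2.1) h4
        have e : x * (x⁻¹ * v.1 * x) * x⁻¹ = v.1 := by group
        rwa [e] at h5)⟩
      left_inv := fun v => Subtype.ext (by group)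
      right_inv := fun v => Subtype.ext (by group) }
  have hσ : ∀ i : ℕ, ∀ v : S, ((σ ^ i) v).1 = x ^ i * v.1 * (x ^ i)⁻¹ := by
    intro i
    induction i with
    | zero => intro v; simp only [_root_.ne_eq, _root_.pow_zero, _root_.Equiv.Perm.coe_one, _root_.id_eq, _root_.one_mul, _root_.inv_one, _root_.mul_one]
    | succ i ih =>
      intro v
      rw [pow_succ', Equiv.Perm.mul_apply]
      have h4 : (σ ((σ ^ i) v)).1 = x * ((σ ^ i) v).1 * x⁻¹ := rfl
      rw [h4, ih, pow_succ']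
      group
  obtain ⟨s, hs⟩ := H.three
  have hσ1 : σ ^ 3 ^ s = 1 := by
    ext v
    rw [hσ, ← hs, pow_orderOf_eq_one]
    simp
  have hpf : Fact (Nat.Prime 3) := ⟨Nat.prime_three⟩
  obtain ⟨v, hv⟩ := Equiv.Perm.exists_fixed_point_of_prime (p := 3) (by
    rw [← Nat.card_eq_fintype_card, hcard, ← pow_add]
    intro h4
    have := Nat.Prime.dvd_of_dvd_pow Nat.prime_three h4
    omega) hσ1
  exact ⟨v.1, v.2.1, v.2.2, congrArg Subtype.val hv⟩

/-- (I8) there are no inner pairs -/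
theorem false (H : InnPair K z u x P T p m n d m' n' k y)
    (hV : ∃ V : Subgroup G, V ≤ T ∧ Elem V ∧ Nat.card V = 8)
    (hG : ∀ M : Subgroup G, M.Normal → M.index ≠ 2) : False := by
  obtain ⟨v, hvP, hvk, hvx⟩ := H.exists_fixed hV
  obtain ⟨q, hqT, hqK, hqk, hqq⟩ := H.exists_k1
  have hvv := H.sq_one hvP hvk
  have hv1 : v ≠ 1 := by
    rintro rfl
    exact hvk (by group)
  -- `v` is not conjugate to `z`
  have hnc : ∀ g, g * z * g⁻¹ ≠ v := by
    intro g hg
    have hh := H.hyp.conj g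
    rw [hg] at hh
    obtain ⟨s, hs⟩ := H.three
    have h1 : x ∈ cj g K := hh.mem_of_three (hh.mem_iff.mpr (mul_inv_eq_iff_eq_mul.mp hvx)) hs
    have h2 : z ∈ normalizer (cj g K : Set G) := hh.mem_iff.mpr (H.Pz hvP).symm
    have h3 : u ∈ normalizer (cj g K : Set G) := hh.mem_iff.mpr (H.Pu hvP).symm
    have h4 : u * z ∈ cj g K := by
      have h5 := Subgroup.mul_mem _ h1 (mem_norm h2 (Subgroup.inv_mem _ h1))
      have e : x * (z * x⁻¹ * z⁻¹) = u * z := by
        rw [← H.hz, H.hyp.z_inv]; group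
      rwa [e] at h5
    have h5 : z ∈ cj g K := by
      have h6 := Subgroup.mul_mem _ h1 (mem_norm h3 (Subgroup.inv_mem _ h1))
      have e : x * (u * x⁻¹ * u⁻¹) = z := by
        calc x * (u * x⁻¹ * u⁻¹) = (x * u * x⁻¹) * u⁻¹ := by group
          _ = u * z * u := by rw [H.hu, inv_eq_of_mul_eq_one_right H.uu]
          _ = u * (z * u) := by group
          _ = (u * u) * z := by rw [← H.com]; group
          _ = z := by rw [H.uu, one_mul]
      rwa [e] at h6
    have h6 := (hh.eq_z h5 H.hyp.zz).resolve_left H.hyp.z_ne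
    have h7 := (hh.eq_z h4 (by
      calc u * z * (u * z) = u * (z * u) * z := by group
        _ = (u * u) * (z * z) := by rw [← H.com]; group
        _ = 1 := by rw [H.uu, H.hyp.zz, one_mul])).resolve_left H.uz_ne
    rw [← h6] at h7
    exact H.u_ne (mul_eq_right.mp h7)
  -- transfer
  have hT := H.hyp.isSyl2_top H.sylT
  let S : Sylow 2 G := ⟨T, hT.two, fun {Q} hQ hle => hT.max Q le_top hQ hle⟩
  rcases Cfsg.Agent.Transfer.ThompsonTransfer.thompson_transfer S
    (T ⊓ centralizer ({y} : Set G)) inf_le_left (H.C_facts hV hqT hqK hqk).1 v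
    (by rw [sq]; exact hvv) with ⟨M, hMn, hM2, -⟩ | ⟨g, hg⟩
  · exact hG M hMn hM2
  · obtain ⟨g', hg'⟩ := H.C_inv hV hg.1 (mem_centralizer_singleton_iff.mp hg.2) (by
      calc g * v * g⁻¹ * (g * v * g⁻¹) = g * (v * v) * g⁻¹ := by group
        _ = 1 := by rw [hvv]; group) (by
      intro h1
      apply hv1
      calc v = g⁻¹ * (g * v * g⁻¹) * g := by group
        _ = 1 := by rw [h1]; group)
    apply hnc (g⁻¹ * g')
    calc g⁻¹ * g' * z * (g⁻¹ * g')⁻¹ = g⁻¹ * (g' * z * g'⁻¹) * g := by group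
      _ = v := by rw [hg']; group

end InnPair

end Cfsg.Agent.OddCyclic.CompSL2Amb
end

-- part: OddCyclic/CompSL2Outer
section
/-!
# S0342, case C: outer pairs

(X), (O1), (O2) of blueprints/S0342-caseC.md.
-/

set_option autoImplicit false

namespace Cfsg.Agent.OddCyclic.CompSL2Amb

open Subgroup Cfsg
open Cfsg.Agent.OddCyclic.T1Defs Cfsg.Agent.OddCyclic.CompBasic
open Cfsg.Agent.OddCyclic.CompStandard Cfsg.Agent.OddCyclic.CompSL2Facts
open Cfsg.Agent.LieExceptional Cfsg.Agent.LieExceptional.CITDefs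
open Cfsg.Agent.LieExceptional.CITBasic

variable {G : Type*} [Group G] [Finite G]

/-! ### general lemmas -/

/-- Subgroups of the same odd prime order of `D` are conjugate in `D`. -/
theorem exists_conj_zpowers (hG : OddCyc G) {r : ℕ} (hr : r.Prime) (hr2 : r ≠ 2) (D : Subgroup G)
    {a b : G} (ha : a ∈ D) (hb : b ∈ D) (har : orderOf a = r) (hbr : orderOf b = r) :
    ∃ c ∈ D, zpowers (c * b * c⁻¹) = zpowers a := by
  have hpf : Fact r.Prime := ⟨hr⟩
  have h1 : IsPGroup r (zpowers (⟨a, ha⟩ : D)) := IsPGroup.of_card (n := 1) (by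
    rw [Nat.card_zpowers, Subgroup.orderOf_mk, har, pow_one])
  have h2 : IsPGroup r (zpowers (⟨b, hb⟩ : D)) := IsPGroup.of_card (n := 1) (by
    rw [Nat.card_zpowers, Subgroup.orderOf_mk, hbr, pow_one])
  obtain ⟨P, hP⟩ := h1.exists_le_sylow
  obtain ⟨Q, hQ⟩ := h2.exists_le_sylow
  obtain ⟨c, hc⟩ := MulAction.exists_smul_eq D Q P
  have haP : (⟨a, ha⟩ : D) ∈ (P : Subgroup D) := hP (mem_zpowers _)
  have hbP : c * ⟨b, hb⟩ * c⁻¹ ∈ (P : Subgroup D) := by
    rw [← hc]
    exact ⟨⟨b, hb⟩, hQ (mem_zpowers _), rfl⟩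
  have hcyc : IsCyclic P := oddCyc_subgroup hG D r P hr hr2
  have h3 : Commute (c * ⟨b, hb⟩ * c⁻¹ : D) ⟨a, ha⟩ := by
    let _ : CommGroup (P : Subgroup D) := IsCyclic.commGroup
    exact congrArg Subtype.val (mul_comm (⟨_, hbP⟩ : (P : Subgroup D)) ⟨_, haP⟩)
  have h4 : Commute ((c : G) * b * (c : G)⁻¹) a := congrArg Subtype.val h3.eq
  refine ⟨c, c.2, zpowers_eq_of_commute hG hr hr2 ?_ har h4⟩
  rw [orderOf_conj, hbr]

omit [Finite G] in
/-- An element commuting with `a` commutes with the generators of `⟨a⟩`. -/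
theorem comm_of_zpowers {a b g : G} (h : zpowers b = zpowers a) (hg : g * a = a * g) :
    g * b = b * g := by
  have h1 : b ∈ zpowers a := by rw [← h]; exact mem_zpowers b
  obtain ⟨i, rfl⟩ := h1
  exact (Commute.zpow_right (show Commute g a from hg) i).eq

/-- In a group with cyclic Sylow 3-subgroups and a central element of order 3 the product of two
2-elements has order prime to 3. -/
theorem no_three {J : Type*} [Group J] [Finite J] (hJ : OddCyc J) {a : J} (ha : a ∈ center J)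
    (h3 : orderOf a = 3) {b c : J} {i j : ℕ} (hb : b ^ 2 ^ i = 1) (hc : c ^ 2 ^ j = 1)
    (h : 3 ∣ orderOf (b * c)) : False := by
  have hpf : Fact (Nat.Prime 3) := ⟨Nat.prime_three⟩
  obtain ⟨P⟩ : Nonempty (Sylow 3 J) := inferInstance
  have hcyc := hJ 3 P Nat.prime_three (by decide)
  have hPc : IsMulCommutative (P : Subgroup J) := ⟨⟨fun a b => by
    obtain ⟨g, hg⟩ := hcyc.exists_generator
    obtain ⟨m, rfl⟩ := Subgroup.mem_zpowers_iff.mp (hg a)
    obtain ⟨n, rfl⟩ := Subgroup.mem_zpowers_iff.mp (hg b)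
    rw [← zpow_add, ← zpow_add, add_comm]⟩⟩
  let _ : CommGroup (P : Subgroup J) := { (inferInstance : Group (P : Subgroup J)) with
    mul_comm := hPc.is_comm.comm }
  have key : ∀ (k : ℕ) (g₀ : J), g₀⁻¹ * a ^ k * g₀ ∈ (P : Subgroup J) →
      g₀⁻¹ * a ^ k * g₀ = a ^ k := by
    intro k g₀ _
    have h1 : g₀ * a ^ k = a ^ k * g₀ :=
      (mem_center_iff.mp ((center J).pow_mem ha k) g₀)
    rw [mul_assoc, ← h1, inv_mul_cancel_left]
  have h2 := MonoidHom.transfer_eq_pow (MonoidHom.id (P : Subgroup J)) a key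
  set τ := MonoidHom.transfer (MonoidHom.id (P : Subgroup J)) with hτ
  have hτa : τ a ≠ 1 := by
    intro h4
    rw [h2] at h4
    have h5 : a ^ (P : Subgroup J).index = 1 := congrArg Subtype.val h4
    have h6 : 3 ∣ (P : Subgroup J).index := by
      have h7 : orderOf a ∣ (P : Subgroup J).index := orderOf_dvd_of_pow_eq_one h5
      rwa [h3] at h7
    exact P.not_dvd_index h6
  have hτ2 : ∀ (b : J) (i : ℕ), b ^ 2 ^ i = 1 → τ b = 1 := by
    intro b i hb
    obtain ⟨s, hs⟩ := P.isPGroup' (τ b)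
    have h4 : (τ b) ^ 2 ^ i = 1 := by rw [← map_pow, hb, map_one]
    have h5 : orderOf (τ b) ∣ 1 := by
      have h6 := Nat.dvd_gcd (orderOf_dvd_of_pow_eq_one hs) (orderOf_dvd_of_pow_eq_one h4)
      have h7 : Nat.gcd (3 ^ s) (2 ^ i) = 1 :=
        Nat.Coprime.pow _ _ (by decide)
      rwa [h7] at h6
    exact orderOf_eq_one_iff.mp (Nat.dvd_one.mp h5)
  have hτbc : τ (b * c) = 1 := by rw [map_mul, hτ2 b i hb, hτ2 c j hc, one_mul]
  obtain ⟨t, ht⟩ : ∃ t, t = (b * c) ^ (orderOf (b * c) / 3) := ⟨_, rfl⟩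
  have ht3 : orderOf t = 3 := by
    rw [ht, orderOf_pow_orderOf_div (orderOf_pos _).ne' h]
  have h4 : zpowers a = zpowers t := zpowers_eq_of_commute hJ Nat.prime_three (by decide) h3 ht3
    ((mem_center_iff.mp ha t).symm)
  have h5 : a ∈ zpowers t := by rw [← h4]; exact mem_zpowers a
  obtain ⟨l, hl⟩ := h5
  apply hτa
  rw [← hl]
  change τ (t ^ l) = 1
  rw [map_zpow, ht, map_pow, hτbc, one_pow, one_zpow]

/-- ambient form of `no_three` -/
theorem no_three' (hG : OddCyc G) {a : G} (h3 : orderOf a = 3) {b c : G}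
    (hab : b * a = a * b) (hac : c * a = a * c) {i j : ℕ} (hb : b ^ 2 ^ i = 1)
    (hc : c ^ 2 ^ j = 1) (h : 3 ∣ orderOf (b * c)) : False := by
  have ha : a ∈ centralizer ({a} : Set G) := mem_centralizer_singleton_iff.mpr rfl
  refine no_three (oddCyc_subgroup hG (centralizer ({a} : Set G))) (a := ⟨a, ha⟩)
    (b := ⟨b, mem_centralizer_singleton_iff.mpr hab⟩)
    (c := ⟨c, mem_centralizer_singleton_iff.mpr hac⟩) (i := i) (j := j) ?_ ?_ (Subtype.ext hb)
    (Subtype.ext hc) ?_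
  · rw [mem_center_iff]
    intro g
    exact Subtype.ext (mem_centralizer_singleton_iff.mp g.2)
  · rw [Subgroup.orderOf_mk, h3]
  · rw [← Subgroup.orderOf_coe]
    exact h

/-- commutators of elements normalizing a cyclic subgroup centralize it -/
theorem commutator_comm {Q : Subgroup G} (hQ : IsCyclic Q) {b c : G}
    (hb : ∀ u ∈ Q, b * u * b⁻¹ ∈ Q) (hc : ∀ u ∈ Q, c * u * c⁻¹ ∈ Q) :
    ∀ u ∈ Q, (b * c * b⁻¹ * c⁻¹) * u = u * (b * c * b⁻¹ * c⁻¹) := by
  have hbn : b ∈ normalizer (Q : Set G) := mem_normalizer_of_forall hb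
  have hcn : c ∈ normalizer (Q : Set G) := mem_normalizer_of_forall hc
  have h1 : ∀ α β : MulAut Q, α * β = β * α := by
    intro α β
    apply (IsCyclic.mulAutMulEquiv Q).injective
    rw [map_mul, map_mul, mul_comm]
  set φ := Q.normalizerMonoidHom with hφ
  have h2 : φ (⟨b, hbn⟩ * ⟨c, hcn⟩ * ⟨b, hbn⟩⁻¹ * ⟨c, hcn⟩⁻¹) = 1 := by
    rw [map_mul, map_mul, map_mul, map_inv, map_inv, h1 (φ ⟨b, hbn⟩) (φ ⟨c, hcn⟩)]
    group
  intro u hu
  have h3 := congrArg (fun α : MulAut Q => ((α ⟨u, hu⟩ : Q) : G)) h2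
  have h4 : (b * c * b⁻¹ * c⁻¹) * u * (b * c * b⁻¹ * c⁻¹)⁻¹ = u := h3
  exact mul_inv_eq_iff_eq_mul.mp h4

/-- A 2-group `S` acting on a group `N` of odd order with cyclic Sylow subgroups: commutators of
elements of `S` centralize `N`. -/
theorem commutator_comm_odd (hG : OddCyc G) {S N : Subgroup G} (hS : IsPGroup 2 S)
    (hN : Odd (Nat.card N)) (hSN : ∀ b ∈ S, ∀ u ∈ N, b * u * b⁻¹ ∈ N) {b c : G} (hb : b ∈ S)
    (hc : c ∈ S) : ∀ u ∈ N, (b * c * b⁻¹ * c⁻¹) * u = u * (b * c * b⁻¹ * c⁻¹) := by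
  have hpf : Fact (Nat.Prime 2) := ⟨Nat.prime_two⟩
  obtain ⟨e, he⟩ : ∃ e, e = b * c * b⁻¹ * c⁻¹ := ⟨_, rfl⟩
  have h2N : ¬ 2 ∣ Nat.card N := by
    rw [← even_iff_two_dvd, Nat.not_even_iff_odd]; exact hN
  set C : Subgroup N := (centralizer ({e} : Set G)).subgroupOf N with hC
  have hidx : C.index = 1 := by
    by_contra hne
    obtain ⟨q, hq, hqd⟩ := Nat.exists_prime_and_dvd hne
    have hqf : Fact q.Prime := ⟨hq⟩
    have hq2 : q ≠ 2 := by
      rintro rfl
      exact h2N (hqd.trans C.index_dvd_card)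
    obtain ⟨Q, ⟨T, hT⟩, hQ⟩ :=
      Cfsg.Agent.Lib.PGroupCoprimeAction.exists_invariant_sylow hS h2N hSN q
    have hTc : IsCyclic T := oddCyc_subgroup hG N q T hq hq2
    have hQc : IsCyclic Q := by
      rw [← hT]
      exact isCyclic_of_surjective (N.subtype.subgroupMap (T : Subgroup N))
        (N.subtype.subgroupMap_surjective _)
    have h1 := commutator_comm hQc (hQ b hb) (hQ c hc)
    have h2 : (T : Subgroup N) ≤ C := by
      intro t ht
      rw [hC, mem_subgroupOf, mem_centralizer_singleton_iff]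
      have h3 : (t : G) ∈ Q := by rw [← hT]; exact ⟨t, ht, rfl⟩
      rw [he]
      exact (h1 t h3).symm
    exact T.not_dvd_index (hqd.trans (Subgroup.index_dvd_of_le h2))
  intro u hu
  have h1 : (⟨u, hu⟩ : N) ∈ C := by
    rw [Subgroup.index_eq_one.mp hidx]; exact mem_top _
  rw [hC, mem_subgroupOf, mem_centralizer_singleton_iff] at h1
  rw [← he]
  exact h1.symm

/-! ### outer pairs -/

section outer

variable {K : Subgroup G} {z : G} {p m n : ℕ} {u x : G} {P T : Subgroup G}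

omit [Finite G] in
theorem Pair.card_out (H : Pair K z u x P T p m n) (hout : ¬ Inn K u) :
    Nat.card (K ⊓ centralizer ({u} : Set G) : Subgroup G) = n :=
  H.hyp.outer H.uM (by rw [H.uu]; exact one_mem _) hout

/-- (O1) -/
theorem Pair.O1 (H : Pair K z u x P T p m n) (hout : ¬ Inn K u) {b : G} (hb : b ∈ P)
    (hbY : x⁻¹ * b * x ∈ centralizer (K : Set G)) : b = 1 ∨ b = u := by
  by_contra hcon
  push Not at hcon
  have huu := H.uu
  have hN : ∀ g, g ∈ zpowers u ↔ g = 1 ∨ g = u := by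
    intro g
    constructor
    · rintro ⟨i, rfl⟩
      have h1 : u ^ (2 : ℕ) = 1 := by rw [sq, huu]
      change u ^ i = 1 ∨ u ^ i = u
      rcases Int.even_or_odd' i with ⟨l, hl | hl⟩
      · left
        rw [hl, zpow_mul, zpow_ofNat, h1, one_zpow]
      · right
        rw [hl, zpow_add, zpow_mul, zpow_ofNat, h1, one_zpow, one_mul, zpow_one]
    · rintro (rfl | rfl)
      · exact one_mem _
      · exact mem_zpowers _
  have hbN : b ∉ zpowers u := by
    rw [hN]; push Not; exact hcon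
  obtain ⟨j, hj⟩ := exists_pow_eq_one H.syl.two hb
  obtain ⟨i, hi1, hi2⟩ := exists_pow_sq hbN hj
  obtain ⟨v, hv⟩ : ∃ v, v = b ^ i := ⟨_, rfl⟩
  rw [← hv] at hi1 hi2
  have hvP : v ∈ P := by rw [hv]; exact P.pow_mem hb i
  have hvY : x⁻¹ * v * x ∈ centralizer (K : Set G) := by
    have h3 : x⁻¹ * v * x = (x⁻¹ * b * x) ^ i := by
      have := conj_pow (i := i) (a := x⁻¹) (b := b)
      rw [inv_inv] at this
      rw [this, hv]
    rw [h3]; exact Subgroup.pow_mem _ hbY i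
  rw [hN] at hi1 hi2
  push Not at hi1
  have hvv : v * v = 1 := by
    rcases hi2 with h1 | h1
    · exact h1
    · exfalso
      apply hout
      rw [← h1]
      exact inn_sq H.hyp (H.PM hvP)
  have huP : u ∈ P := by
    have hzP : z ∈ P := by
      refine mem_of_central H.syl (mem_D.mpr ⟨rfl, H.com.symm⟩) (fun g hg => ?_)
        (isPGroup_zpowers H.hyp.z2)
      exact (mem_D.mp hg).1.symm
    have := H.hP z hzP
    rwa [H.hz] at this
  have hvu := H.Pu hvP
  have hxux : x⁻¹ * u * x = z := by rw [← H.hz]; group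
  -- an inner involution of `Y_u`
  obtain ⟨w, hwP, hwY, hww, hw1, hwI⟩ : ∃ w ∈ P, x⁻¹ * w * x ∈ centralizer (K : Set G) ∧
      w * w = 1 ∧ w ≠ 1 ∧ Inn K w := by
    by_cases hI : Inn K v
    · exact ⟨v, hvP, hvY, hvv, hi1.1, hI⟩
    · refine ⟨v * u, P.mul_mem hvP huP, ?_, ?_, ?_, ?_⟩
      · have e : x⁻¹ * (v * u) * x = (x⁻¹ * v * x) * (x⁻¹ * u * x) := by group
        rw [e, hxux]
        exact Subgroup.mul_mem _ hvY H.hyp.zY
      · calc v * u * (v * u) = v * (u * v) * u := by group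
          _ = (v * v) * (u * u) := by rw [← hvu]; group
          _ = 1 := by rw [hvv, huu, one_mul]
      · intro h1
        apply hi1.2
        rw [eq_inv_of_mul_eq_one_left h1]
        exact inv_eq_of_mul_eq_one_right huu
      · rw [inn_mul_iff H.hyp (H.PM hvP) H.uM]
        (clear * - hout hI; tauto)
  have hwKY : w ∉ centralizer (K : Set G) := fun h1 => hw1 (H.inter_Y hwP h1 hwY)
  obtain ⟨k, hk, y, hy, hky, hkk, hyy⟩ := H.hyp.inn_inv hww hwKY hwI
  have hwc : w ∈ centralizer (cj x K : Set G) := by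
    rw [← cj_centralizer, mem_cj]; exact hwY
  have hle := H.hyp_u.cent w hwc (orderOf_eq_two hw1 hww)
  have hyw : y ∈ centralizer ({w} : Set G) := by
    rw [mem_centralizer_singleton_iff, hky, ← mul_assoc, ← comm hk hy]
  have hyu : y * u = u * y := H.hyp_u.mem_iff.mp (hle hyw)
  have hku : k * u = u * k := by
    have h1 : k = w * y⁻¹ := by rw [hky]; group
    have h2 : Commute y u := hyu
    have h3 : Commute w u := H.Pu hwP
    rw [h1]
    exact (h3.mul_left h2.inv_left).eq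
  rcases H.hyp.two_elt (H.card_out hout) hk hku (InnPair.sq_pow H.hyp hkk) with h1 | h1
  · rw [h1, one_mul] at hkk
    exact H.hyp.z_ne hkk.symm
  · rw [h1, H.hyp.zz] at hkk
    exact H.hyp.z_ne hkk.symm

theorem Pair.O1' (H : Pair K z u x P T p m n) (hout : ¬ Inn K u) {r : G} (hr : r ∈ T)
    (hrY : r ∈ centralizer (K : Set G)) (hru : r * u = u * r) : r = 1 ∨ r = z := by
  have h1 := H.mem_P hr hru
  have e : x⁻¹ * (x * r * x⁻¹) * x = r := by group
  rcases H.O1 hout (H.hP r h1) (by rw [e]; exact hrY) with h2 | h2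
  · left
    rw [← e, h2]; group
  · right
    rw [← e, h2, ← H.hz]; group

/-- (O2) -/
theorem Pair.exists_x0 (H : Pair K z u x P T p m n) (hout : ¬ Inn K u)
    (hV : ∃ V : Subgroup G, V ≤ T ∧ Elem V ∧ Nat.card V = 8) :
    ∃ r ∈ T, r ∈ centralizer (K : Set G) ∧ r * u * r⁻¹ = u * z := by
  have hpf : Fact (Nat.Prime 2) := ⟨Nat.prime_two⟩
  obtain ⟨d, m', n', hd, hm', hn', hm, hn, -, hp⟩ := H.hyp.nums
  have hzT := H.hyp.z_mem H.sylT
  have hR2 : IsPGroup 2 (T ⊓ centralizer (K : Set G) : Subgroup G) :=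
    H.sylT.two.to_le inf_le_left
  have hQ := H.hyp.card_Q H.sylT hm hn hm' hn' hp
  have hne : Nat.card (T ⊓ centralizer (K : Set G) : Subgroup G) ≠ 2 := by
    intro h2
    have h1 := H.hyp.card_dvd H.sylT.le
    rw [H.hyp.card_K hm hn, h2] at h1
    have hT : Nat.card T ≤ 2 * Nat.card (T ⊓ K : Subgroup G) := by
      obtain ⟨a, ha⟩ := IsPGroup.iff_card.mp H.sylT.two
      rw [hQ]
      refine Nat.le_of_dvd (by positivity) ?_
      rw [ha] at h1 ⊢
      have hodd : Odd (p * m' * n') := (hp.mul hm').mul hn'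
      refine (Nat.Coprime.pow_left a hodd.coprime_two_left).dvd_of_dvd_mul_right ?_
      have e : 2 * 2 ^ (d + 1) * (p * m' * n') = 2 ^ (d + 1) * (p * m' * n') * 2 := by ring
      rw [e]; exact h1
    obtain ⟨V, hVT, hVe, hVc⟩ := hV
    have h3 := T1Tools.card_le_inf (inf_le_left : T ⊓ K ≤ T) hVT hT
    rw [hVc] at h3
    have h4 : Nat.card (T ⊓ K ⊓ V : Subgroup G) ≤ 2 := by
      have h5 : T ⊓ K ⊓ V ≤ zpowers z := by
        intro v hv
        rcases H.hyp.eq_z hv.1.2 (hVe v hv.2) with h6 | h6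
        · rw [h6]; exact one_mem _
        · rw [h6]; exact mem_zpowers z
      have h6 := Subgroup.card_le_of_le h5
      rwa [Nat.card_zpowers, H.hyp.z2] at h6
    omega
  have huT : u ∈ T := by
    have hzP : z ∈ P := by
      refine mem_of_central H.syl (mem_D.mpr ⟨rfl, H.com.symm⟩) (fun g hg => ?_)
        (isPGroup_zpowers H.hyp.z2)
      exact (mem_D.mp hg).1.symm
    have := H.hP z hzP
    rw [H.hz] at this
    exact H.le this
  obtain ⟨r, hr, hr1, hrz, hru⟩ := exists_twist hR2 (z := z) (u := u) ⟨hzT, H.hyp.zY⟩ H.hyp.zz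
    H.hyp.z_ne (fun a ha => comm H.hyp.zK ha.2) hne (fun a ha =>
      ⟨T.mul_mem (T.mul_mem huT ha.1) (T.inv_mem huT), mem_cent H.uM ha.2⟩) H.com (j := 1)
    (by rw [pow_one, sq, H.uu])
  refine ⟨r, hr.1, hr.2, ?_⟩
  rcases hru with h1 | h1
  · exfalso
    rcases H.O1' hout hr.1 hr.2 (mul_inv_eq_iff_eq_mul.mp h1).symm with h2 | h2
    · exact hr1 h2
    · exact hrz h2
  · have h2 : u * r = r * z * u := mul_inv_eq_iff_eq_mul.mp h1
    rw [mul_inv_eq_iff_eq_mul]
    calc r * u = r * (z * z) * u := by rw [H.hyp.zz, mul_one]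
      _ = r * z * (z * u) := by group
      _ = (r * z * u) * z := by rw [← H.com]; group
      _ = u * (r * z) := by rw [← h2]; group
      _ = u * z * r := by rw [← comm H.hyp.zK hr.2]; group

omit [Finite G] in
theorem three_dvd_orderOf {z u j : G} (hz : j * z * j⁻¹ = u) (hu : j * u * j⁻¹ = u * z)
    (huz : u ≠ z) (hu1 : u ≠ 1) (huu : u * u = 1) (hc : u * z = z * u) : 3 ∣ orderOf j := by
  have h3 : Commute (j ^ 3) z := by
    have e : j ^ 3 * z * (j ^ 3)⁻¹ = z := by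
      calc j ^ 3 * z * (j ^ 3)⁻¹ = j * (j * (j * z * j⁻¹) * j⁻¹) * j⁻¹ := by
            rw [pow_succ, pow_succ, pow_succ, pow_zero]; group
        _ = j * (u * z) * j⁻¹ := by rw [hz, hu]
        _ = (j * u * j⁻¹) * (j * z * j⁻¹) := by group
        _ = (z * u) * u := by rw [hz, hu, hc]
        _ = z := by rw [mul_assoc, huu, mul_one]
    exact mul_inv_eq_iff_eq_mul.mp e
  by_contra hnd
  have h1 : j ^ orderOf j = 1 := pow_orderOf_eq_one j
  obtain ⟨q, s, hs, hqs⟩ : ∃ q s, (s = 1 ∨ s = 2) ∧ orderOf j = 3 * q + s := by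
    refine ⟨orderOf j / 3, orderOf j % 3, ?_, by omega⟩
    omega
  rw [hqs, pow_add, pow_mul] at h1
  have h2 : j ^ s = ((j ^ 3) ^ q)⁻¹ := eq_inv_of_mul_eq_one_right h1
  have h4 : Commute (j ^ s) z := by rw [h2]; exact (h3.pow_left q).inv_left
  rcases hs with rfl | rfl
  · rw [pow_one] at h4
    rw [h4.eq, mul_inv_cancel_right] at hz
    exact huz hz.symm
  · have h5 : j ^ 2 * z * (j ^ 2)⁻¹ = u * z := by
      calc j ^ 2 * z * (j ^ 2)⁻¹ = j * (j * z * j⁻¹) * j⁻¹ := by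
            rw [pow_succ, pow_succ, pow_zero]; group
        _ = u * z := by rw [hz, hu]
    rw [h4.eq, mul_inv_cancel_right] at h5
    exact hu1 (mul_eq_right.mp h5.symm)

/-- (X) -/
theorem Pair.X (H : Pair K z u x P T p m n) (hout : ¬ Inn K u)
    (hV : ∃ V : Subgroup G, V ≤ T ∧ Elem V ∧ Nat.card V = 8) {r : ℕ} (hr : r.Prime)
    (hr2 : r ≠ 2) (hrn : r ∣ n) :
    r ≠ 3 ∧ ∃ a ∈ K, orderOf a = r ∧ a * u = u * a ∧ ∃ t, orderOf t = 3 ∧ t * a = a * t := by
  have hrf : Fact r.Prime := ⟨hr⟩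
  obtain ⟨x₀, hx₀T, hx₀Y, hx₀u⟩ := H.exists_x0 hout hV
  obtain ⟨a, haK, ha, hau⟩ : ∃ a ∈ K, orderOf a = r ∧ a * u = u * a := by
    obtain ⟨⟨a, ha'⟩, ha⟩ := exists_prime_orderOf_dvd_card'
      (G := (K ⊓ centralizer ({u} : Set G) : Subgroup G)) r (by rw [H.card_out hout]; exact hrn)
    rw [Subgroup.orderOf_mk] at ha
    exact ⟨a, ha'.1, ha, mem_centralizer_singleton_iff.mp ha'.2⟩
  have haz : a * z = z * a := comm haK H.hyp.zY
  have hauz : a * (u * z) = (u * z) * a := by rw [← mul_assoc, hau, mul_assoc, haz, mul_assoc]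
  have hbz : (x * a * x⁻¹) * z = z * (x * a * x⁻¹) := by
    calc (x * a * x⁻¹) * z = (x * a * x⁻¹) * (x * (u * z) * x⁻¹) := by rw [H.huz]
      _ = x * (a * (u * z)) * x⁻¹ := by group
      _ = x * ((u * z) * a) * x⁻¹ := by rw [hauz]
      _ = (x * (u * z) * x⁻¹) * (x * a * x⁻¹) := by group
      _ = z * (x * a * x⁻¹) := by rw [H.huz]
  have hbu : (x * a * x⁻¹) * u = u * (x * a * x⁻¹) := by
    calc (x * a * x⁻¹) * u = (x * a * x⁻¹) * (x * z * x⁻¹) := by rw [H.hz]
      _ = x * (a * z) * x⁻¹ := by group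
      _ = x * (z * a) * x⁻¹ := by rw [haz]
      _ = (x * z * x⁻¹) * (x * a * x⁻¹) := by group
      _ = u * (x * a * x⁻¹) := by rw [H.hz]
  obtain ⟨c, hcD, hc⟩ := exists_conj_zpowers H.hyp.cyc hr hr2
    (centralizer ({z} : Set G) ⊓ centralizer ({u} : Set G)) (a := a) (b := x * a * x⁻¹)
    (mem_D.mpr ⟨haz, hau⟩) (mem_D.mpr ⟨hbz, hbu⟩) ha (by rw [orderOf_conj, ha])
  obtain ⟨hcz, hcu⟩ := mem_D.mp hcD
  obtain ⟨y, hy⟩ : ∃ y, y = c * x := ⟨_, rfl⟩
  have hyz : y * z * y⁻¹ = u := by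
    calc y * z * y⁻¹ = c * (x * z * x⁻¹) * c⁻¹ := by rw [hy]; group
      _ = u := by rw [H.hz, hcu, mul_inv_cancel_right]
  have hyu : y * u * y⁻¹ = u * z := by
    calc y * u * y⁻¹ = c * (x * u * x⁻¹) * c⁻¹ := by rw [hy]; group
      _ = (c * u) * z * c⁻¹ := by rw [H.hu]; group
      _ = u * (c * z) * c⁻¹ := by rw [hcu]; group
      _ = u * z := by rw [hcz]; group
  have hya : zpowers (y * a * y⁻¹) = zpowers a := by
    rw [← hc, hy]
    congr 1
    group
  have hx₀z : x₀ * z * x₀⁻¹ = z := H.hyp.conj_z (centralizer_le_normalizer _ hx₀Y)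
  have hx₀uz : x₀ * (u * z) * x₀⁻¹ = u := by
    calc x₀ * (u * z) * x₀⁻¹ = (x₀ * u * x₀⁻¹) * (x₀ * z * x₀⁻¹) := by group
      _ = u * (z * z) := by rw [hx₀u, hx₀z]; group
      _ = u := by rw [H.hyp.zz, mul_one]
  have hyuz : y⁻¹ * z * y = u * z := by
    have h1 : y * (u * z) * y⁻¹ = z := by
      calc y * (u * z) * y⁻¹ = (y * u * y⁻¹) * (y * z * y⁻¹) := by group
        _ = (z * u) * u := by rw [hyu, hyz, H.com]
        _ = z := by rw [mul_assoc, H.uu, mul_one]
    calc y⁻¹ * z * y = y⁻¹ * (y * (u * z) * y⁻¹) * y := by rw [h1]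
      _ = u * z := by group
  obtain ⟨x₁, hx₁⟩ : ∃ x₁, x₁ = y * x₀ * y⁻¹ := ⟨_, rfl⟩
  have hx₁u : x₁ * u * x₁⁻¹ = u := by
    have h1 : y⁻¹ * u * y = z := by rw [← hyz]; group
    calc x₁ * u * x₁⁻¹ = y * (x₀ * (y⁻¹ * u * y) * x₀⁻¹) * y⁻¹ := by rw [hx₁]; group
      _ = u := by rw [h1, hx₀z, hyz]
  have hx₁z : x₁ * z * x₁⁻¹ = u * z := by
    calc x₁ * z * x₁⁻¹ = y * (x₀ * (y⁻¹ * z * y) * x₀⁻¹) * y⁻¹ := by rw [hx₁]; group
      _ = u * z := by rw [hyuz, hx₀uz, hyu]
  have hax₀ : x₀ * a = a * x₀ := (comm haK hx₀Y).symm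
  have hax₁ : x₁ * a = a * x₁ := by
    refine comm_of_zpowers (a := y * a * y⁻¹) (b := a) hya.symm ?_
    calc x₁ * (y * a * y⁻¹) = y * (x₀ * a) * y⁻¹ := by rw [hx₁]; group
      _ = y * (a * x₀) * y⁻¹ := by rw [hax₀]
      _ = (y * a * y⁻¹) * x₁ := by rw [hx₁]; group
  have hj3 : 3 ∣ orderOf (x₀ * x₁) := by
    refine three_dvd_orderOf (z := z) (u := u) ?_ ?_ H.ne H.u_ne H.uu H.com
    · calc x₀ * x₁ * z * (x₀ * x₁)⁻¹ = x₀ * (x₁ * z * x₁⁻¹) * x₀⁻¹ := by group
        _ = u := by rw [hx₁z, hx₀uz]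
    · calc x₀ * x₁ * u * (x₀ * x₁)⁻¹ = x₀ * (x₁ * u * x₁⁻¹) * x₀⁻¹ := by group
        _ = u * z := by rw [hx₁u, hx₀u]
  obtain ⟨i, hi⟩ := exists_pow_eq_one H.sylT.two hx₀T
  have hi1 : x₁ ^ 2 ^ i = 1 := by
    rw [hx₁, conj_pow, hi]; group
  refine ⟨?_, a, haK, ha, hau, (x₀ * x₁) ^ (orderOf (x₀ * x₁) / 3), ?_, ?_⟩
  · rintro rfl
    exact no_three' H.hyp.cyc ha hax₀ hax₁ hi hi1 hj3
  · rw [orderOf_pow_orderOf_div (orderOf_pos _).ne' hj3]
  · have h1 : Commute (x₀ * x₁) a := (show Commute x₀ a from hax₀).mul_left hax₁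
    exact (h1.pow_left _).eq

end outer

end Cfsg.Agent.OddCyclic.CompSL2Amb
end

-- part: OddCyclic/A4EDefs
section
/-!
# S0342, component type, case A4 with `K = A₅` and field automorphisms: the data

The structure `Beta` of `CaseADefs` with the uniqueness of `V = R × E` instead of `Big K q`.
-/

set_option autoImplicit false

namespace Cfsg.Agent.OddCyclic.A4EDefs

open Subgroup
open Cfsg.Agent.LieExceptional Cfsg.Agent.LieExceptional.CITDefs
open Cfsg.Agent.OddCyclic.CompStandard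
open Cfsg.Agent.OddCyclic.CaseADefs hiding Beta

variable {G : Type*} [Group G]

/-- `R ∈ Syl₂(Y)`, `E ∈ Syl₂(K)`, `H` a complement, `V = R × E`; `R` is elementary abelian of order at
most `q`, some conjugate of `R` by an element outside `M` lies in `V`, and `V` is the only elementary
abelian subgroup of its order in the Sylow 2-subgroups of `M` containing it. -/
structure Beta (K R E H : Subgroup G) (q : ℕ) : Prop where
  l2 : L2K K q
  sylR : IsSyl2 (centralizer (K : Set G)) R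
  sylE : IsSyl2 K E
  bor : Borel K E H q
  elemR : Elem R
  cardR : Nat.card R ≤ q
  ex : ∃ g : G, g ∉ normalizer (K : Set G) ∧ cj g R ≤ R ⊔ E
  uniq : ∀ S D : Subgroup G, IsSyl2 (normalizer (K : Set G)) S → R ⊔ E ≤ S → D ≤ S → Elem D →
    Nat.card R * q ≤ Nat.card D → D = R ⊔ E

end Cfsg.Agent.OddCyclic.A4EDefs
end

-- part: OddCyclic/A4EFour
section
/-!
# S0342, component type, case A (`K = A₅`, copy with `A4EDefs.Beta`): `V = R × E`, A4 (i)

`V = R × E`, `N = N_G(V)`, `Δ = {Rⁿ : n ∈ N}`.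
-/

set_option autoImplicit false

namespace Cfsg.Agent.OddCyclic.A4EFour

open Subgroup
open Cfsg.Agent.LieExceptional Cfsg.Agent.LieExceptional.CITDefs
open Cfsg.Agent.LieExceptional.CITBasic
open Cfsg.Agent.OddCyclic.T1Tools
open Cfsg.Agent.OddCyclic.CompBasic Cfsg.Agent.OddCyclic.CompStandard
open Cfsg.Agent.OddCyclic.CaseADefs hiding Beta
open Cfsg.Agent.OddCyclic.A4EDefs Cfsg.Agent.OddCyclic.CaseABase
open Cfsg.Agent.OddCyclic.CaseACount

variable {G : Type*} [Group G] {p : ℕ} {K R E H : Subgroup G} {q : ℕ}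

/-- the conjugates of `R` under `N_G(V)` -/
def Delta (R V : Subgroup G) : Set (Subgroup G) :=
  {X | ∃ n ∈ normalizer (V : Set G), X = cj n R}

section

theorem _root_.Cfsg.Agent.OddCyclic.A4EDefs.Beta.comm (b : Beta K R E H q) :
    ∀ r ∈ R, ∀ e ∈ E, r * e = e * r :=
  fun r hr e he => (comm_KY e (b.sylE.le he) r (b.sylR.le hr)).symm

theorem _root_.Cfsg.Agent.OddCyclic.A4EDefs.Beta.mem_V (b : Beta K R E H q) {v : G} :
    v ∈ R ⊔ E ↔ ∃ r ∈ R, ∃ e ∈ E, v = r * e := mem_sup_comm b.comm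

theorem _root_.Cfsg.Agent.OddCyclic.A4EDefs.Beta.inf (b : Beta K R E H q) {x : G} (hR : x ∈ R) (hE : x ∈ E) :
    x = 1 := by
  have h1 : x ∈ K ⊓ centralizer (K : Set G) := ⟨b.sylE.le hE, b.sylR.le hR⟩
  rwa [b.l2.inf, mem_bot] at h1

theorem _root_.Cfsg.Agent.OddCyclic.A4EDefs.Beta.elemV (b : Beta K R E H q) : Elem (R ⊔ E : Subgroup G) := by
  intro v hv
  obtain ⟨r, hr, e, he, rfl⟩ := b.mem_V.mp hv
  calc r * e * (r * e) = r * (e * r) * e := by group
    _ = r * (r * e) * e := by rw [b.comm r hr e he]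
    _ = (r * r) * (e * e) := by group
    _ = 1 := by rw [b.elemR r hr, b.bor.elem e he, one_mul]

theorem _root_.Cfsg.Agent.OddCyclic.A4EDefs.Beta.mem_R (b : Beta K R E H q) {v : G} (hv : v ∈ R ⊔ E)
    (hY : v ∈ centralizer (K : Set G)) : v ∈ R := by
  obtain ⟨r, hr, e, he, rfl⟩ := b.mem_V.mp hv
  have h1 : e ∈ centralizer (K : Set G) := by
    have h2 := Subgroup.mul_mem _ (Subgroup.inv_mem _ (b.sylR.le hr)) hY
    rwa [inv_mul_cancel_left] at h2
  have h2 : e ∈ K ⊓ centralizer (K : Set G) := ⟨b.sylE.le he, h1⟩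
  rw [b.l2.inf, mem_bot] at h2
  rw [h2, mul_one]; exact hr

theorem _root_.Cfsg.Agent.OddCyclic.A4EDefs.Beta.mem_E (b : Beta K R E H q) {v : G} (hv : v ∈ R ⊔ E)
    (hK : v ∈ K) : v ∈ E := by
  obtain ⟨r, hr, e, he, rfl⟩ := b.mem_V.mp hv
  have h1 : r ∈ K := by
    have h2 := Subgroup.mul_mem _ hK (Subgroup.inv_mem _ (b.sylE.le he))
    rwa [mul_inv_cancel_right] at h2
  have h2 : r ∈ K ⊓ centralizer (K : Set G) := ⟨h1, b.sylR.le hr⟩
  rw [b.l2.inf, mem_bot] at h2
  rw [h2, one_mul]; exact he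

theorem _root_.Cfsg.Agent.OddCyclic.A4EDefs.Beta.V_le (b : Beta K R E H q) :
    R ⊔ E ≤ normalizer (K : Set G) :=
  sup_le (b.sylR.le.trans (centralizer_le_normalizer _))
    (b.sylE.le.trans Subgroup.le_normalizer)

theorem _root_.Cfsg.Agent.OddCyclic.A4EDefs.Beta.H_le (b : Beta K R E H q) : ∀ h ∈ H, ∀ v ∈ R ⊔ E, h * v * h⁻¹ ∈ R ⊔ E := by
  intro h hh v hv
  obtain ⟨r, hr, e, he, rfl⟩ := b.mem_V.mp hv
  have h1 : h * r = r * h := comm_KY h (b.bor.leH hh) r (b.sylR.le hr)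
  have e1 : h * (r * e) * h⁻¹ = r * (h * e * h⁻¹) := by
    calc h * (r * e) * h⁻¹ = (h * r) * e * h⁻¹ := by group
      _ = (r * h) * e * h⁻¹ := by rw [h1]
      _ = r * (h * e * h⁻¹) := by group
  rw [e1]
  exact Subgroup.mul_mem _ (mem_sup_left hr) (mem_sup_right (b.bor.norm h hh e he))

variable [Finite G]

theorem _root_.Cfsg.Agent.OddCyclic.A4EDefs.Beta.card_V (b : Beta K R E H q) :
    Nat.card (R ⊔ E : Subgroup G) = Nat.card R * q := by
  rw [card_sup_comm b.comm, b.bor.cardE]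
  rw [eq_bot_iff]
  exact fun x hx => b.inf hx.1 hx.2

theorem H_le_N (b : Beta K R E H q) : H ≤ normalizer ((R ⊔ E : Subgroup G) : Set G) :=
  fun _ hh => mem_normalizer_of_forall (b.H_le _ hh)

theorem card_R_two (h : Std p K) (b : Beta K R E H q) : 2 ≤ Nat.card R := by
  have h1 : Nat.card R ≠ 1 := fun hh => sylR_ne_bot h b.sylR (Subgroup.card_eq_one.mp hh)
  have h2 : 0 < Nat.card R := Nat.card_pos
  omega

/-- `N ∩ M` normalizes `R` -/
theorem cj_R (b : Beta K R E H q) {n : G} (hn : n ∈ normalizer ((R ⊔ E : Subgroup G) : Set G))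
    (hM : n ∈ normalizer (K : Set G)) : cj n R = R := by
  rw [cj_eq_iff]
  exact mem_normalizer_of_forall fun x hx => b.mem_R
    (forall_of_mem_normalizer hn x (mem_sup_left hx)) (normal_cent K n hM x (b.sylR.le hx))

/-- `N ∩ M` normalizes `E` -/
theorem cj_E (b : Beta K R E H q) {n : G} (hn : n ∈ normalizer ((R ⊔ E : Subgroup G) : Set G))
    (hM : n ∈ normalizer (K : Set G)) : cj n E = E := by
  rw [cj_eq_iff]
  exact mem_normalizer_of_forall fun x hx => b.mem_E
    (forall_of_mem_normalizer hn x (mem_sup_right hx)) (forall_of_mem_normalizer hM x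
      (b.sylE.le hx))

theorem cj_eq_cj_iff (h : Std p K) (b : Beta K R E H q) {n n' : G}
    (hn : n ∈ normalizer ((R ⊔ E : Subgroup G) : Set G))
    (hn' : n' ∈ normalizer ((R ⊔ E : Subgroup G) : Set G)) :
    cj n R = cj n' R ↔ n⁻¹ * n' ∈ normalizer (K : Set G) := by
  constructor
  · intro heq
    obtain ⟨t, htR, ht2⟩ := exists_involution_of_ne_bot b.sylR.two (sylR_ne_bot h b.sylR)
    have h1 : n * t * n⁻¹ ∈ cj n R := conj_mem_cj htR
    have h2 : n * t * n⁻¹ ∈ cj n' R := by rw [← heq]; exact h1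
    exact mem_of_cj h (by rw [orderOf_conj, ht2]) (cj_mono b.sylR.le h1) (cj_mono b.sylR.le h2)
  · intro hM
    have h1 := cj_R b (Subgroup.mul_mem _ (Subgroup.inv_mem _ hn) hn') hM
    calc cj n R = cj n (cj (n⁻¹ * n') R) := by rw [h1]
      _ = cj n' R := by rw [← cj_mul, mul_inv_cancel_left]

theorem cj_eq_R_iff (h : Std p K) (b : Beta K R E H q) {n : G}
    (hn : n ∈ normalizer ((R ⊔ E : Subgroup G) : Set G)) :
    cj n R = R ↔ n ∈ normalizer (K : Set G) := by
  have h1 := cj_eq_cj_iff h b (Subgroup.one_mem _) hn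
  rw [cj_one, inv_one, one_mul] at h1
  rw [← h1]
  exact eq_comm

/-- `Δ` is a TI-set -/
theorem delta_ti (h : Std p K) (b : Beta K R E H q) {X X' : Subgroup G}
    (hX : X ∈ Delta R (R ⊔ E)) (hX' : X' ∈ Delta R (R ⊔ E)) {s : G} (hs : s ≠ 1) (h1 : s ∈ X)
    (h2 : s ∈ X') : X = X' := by
  obtain ⟨n, hn, rfl⟩ := hX
  obtain ⟨n', hn', rfl⟩ := hX'
  have ho : orderOf s = 2 := orderOf_eq_two hs (elem_cj b.elemR s h1)
  rw [cj_eq_cj_iff h b hn hn']
  exact mem_of_cj h ho (cj_mono b.sylR.le h1) (cj_mono b.sylR.le h2)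

omit [Finite G] in
theorem R_mem_delta : R ∈ Delta R (R ⊔ E) := ⟨1, Subgroup.one_mem _, (cj_one R).symm⟩

omit [Finite G] in
theorem cj_mem_delta {X : Subgroup G} {V : Subgroup G} (hX : X ∈ Delta R V) {n : G}
    (hn : n ∈ normalizer (V : Set G)) : cj n X ∈ Delta R V := by
  obtain ⟨m, hm, rfl⟩ := hX
  exact ⟨n * m, Subgroup.mul_mem _ hn hm, (cj_mul _ _ _).symm⟩

omit [Finite G] in
theorem le_of_mem_delta {X : Subgroup G} (hX : X ∈ Delta R (R ⊔ E)) : X ≤ R ⊔ E := by
  obtain ⟨m, hm, rfl⟩ := hX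
  rintro _ ⟨x, hx, rfl⟩
  exact forall_of_mem_normalizer hm x (mem_sup_left hx)

omit [Finite G] in
theorem card_of_mem_delta {X V : Subgroup G} (hX : X ∈ Delta R V) : Nat.card X = Nat.card R := by
  obtain ⟨m, -, rfl⟩ := hX
  exact card_cj m R

/-! ### uniqueness of `V` -/

omit [Finite G] in
theorem S_inf_Y (b : Beta K R E H q) {S : Subgroup G} (hS : IsSyl2 (normalizer (K : Set G)) S)
    (hR : R ≤ S) : S ⊓ centralizer (K : Set G) = R :=
  b.sylR.max _ inf_le_right (hS.two.to_le inf_le_left) (le_inf hR b.sylR.le)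

omit [Finite G] in
theorem S_inf_K (b : Beta K R E H q) {S : Subgroup G} (hS : IsSyl2 (normalizer (K : Set G)) S)
    (hE : E ≤ S) : S ⊓ K = E :=
  b.sylE.max _ inf_le_right (hS.two.to_le inf_le_left) (le_inf hE b.sylE.le)

omit [Finite G] in
theorem S_norm_E (b : Beta K R E H q) {S : Subgroup G} (hS : IsSyl2 (normalizer (K : Set G)) S)
    (hE : E ≤ S) : ∀ s ∈ S, ∀ e ∈ E, s * e * s⁻¹ ∈ E := by
  intro s hs e he
  rw [← S_inf_K b hS hE]
  exact Subgroup.mem_inf.mpr ⟨Subgroup.mul_mem _ (Subgroup.mul_mem _ hs (hE he))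
    (Subgroup.inv_mem _ hs), forall_of_mem_normalizer (hS.le hs) e (b.sylE.le he)⟩

omit [Finite G] in
theorem S_norm_R (b : Beta K R E H q) {S : Subgroup G} (hS : IsSyl2 (normalizer (K : Set G)) S)
    (hR : R ≤ S) : ∀ s ∈ S, ∀ e ∈ R, s * e * s⁻¹ ∈ R := by
  intro s hs e he
  rw [← S_inf_Y b hS hR]
  exact Subgroup.mem_inf.mpr ⟨Subgroup.mul_mem _ (Subgroup.mul_mem _ hs (hR he))
    (Subgroup.inv_mem _ hs), normal_cent K s (hS.le hs) e (b.sylR.le he)⟩

/-- `S ≤ N` -/
theorem S_le_N (b : Beta K R E H q) {S : Subgroup G} (hS : IsSyl2 (normalizer (K : Set G)) S)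
    (hV : R ⊔ E ≤ S) : S ≤ normalizer ((R ⊔ E : Subgroup G) : Set G) := by
  intro s hs
  refine mem_normalizer_of_forall fun v hv => ?_
  obtain ⟨r, hr, e, he, rfl⟩ := b.mem_V.mp hv
  have e1 : s * (r * e) * s⁻¹ = (s * r * s⁻¹) * (s * e * s⁻¹) := by group
  rw [e1]
  exact Subgroup.mul_mem _ (mem_sup_left (S_norm_R b hS (le_sup_left.trans hV) s hs r hr))
    (mem_sup_right (S_norm_E b hS (le_sup_right.trans hV) s hs e he))

/-- `S ∩ YK = R × E` -/
theorem S_inf_KY (b : Beta K R E H q) {S : Subgroup G} (hS : IsSyl2 (normalizer (K : Set G)) S)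
    (hV : R ⊔ E ≤ S) {x : G} (hx : x ∈ S) (hxKY : x ∈ K ⊔ centralizer (K : Set G)) :
    x ∈ R ⊔ E := by
  obtain ⟨k, hk, y, hy, hxk⟩ := mem_KY.mp hxKY
  obtain ⟨n, hn⟩ := mem_of_pow_two hS.two hx
  have hn' : (k * y) ^ 2 ^ n = 1 := by rw [← hxk]; exact hn
  obtain ⟨hk2, -⟩ := pow_eq_one_KY b.l2.inf hk hy hn'
  have hkE : k ∈ E := by
    refine mem_isSyl2 b.sylE hk ⟨n, hk2⟩ fun e he => ?_
    have h3 := S_norm_E b hS (le_sup_right.trans hV) x hx e he
    have h4 : y * e = e * y := (comm_KY e (b.sylE.le he) y hy).symm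
    have e1 : x * e * x⁻¹ = k * e * k⁻¹ := by
      rw [hxk]
      calc k * y * e * (k * y)⁻¹ = k * (y * e) * y⁻¹ * k⁻¹ := by group
        _ = k * (e * y) * y⁻¹ * k⁻¹ := by rw [h4]
        _ = k * e * k⁻¹ := by group
    rwa [e1] at h3
  have hyR : y ∈ R := by
    rw [← S_inf_Y b hS (le_sup_left.trans hV)]
    refine ⟨?_, hy⟩
    have e1 : y = k⁻¹ * x := by rw [hxk]; group
    rw [e1]
    exact S.mul_mem (S.inv_mem (hV (mem_sup_right hkE))) hx
  rw [hxk]
  exact Subgroup.mul_mem _ (mem_sup_right hkE) (mem_sup_left hyR)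

omit [Finite G] in
/-- **(U)** `V` is the only elementary abelian subgroup of its order in `S`. -/
theorem unique_V (b : Beta K R E H q) {S D : Subgroup G}
    (hS : IsSyl2 (normalizer (K : Set G)) S) (hV : R ⊔ E ≤ S) (hDS : D ≤ S) (hD : Elem D)
    (hc : Nat.card R * q ≤ Nat.card D) : D = R ⊔ E := b.uniq S D hS hV hDS hD hc

/-- **(i)** -/
theorem exists_n (h : Std p K) (b : Beta K R E H q) :
    ∃ n ∈ normalizer ((R ⊔ E : Subgroup G) : Set G), n ∉ normalizer (K : Set G) := by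
  obtain ⟨g, hg, hgR⟩ := b.ex
  obtain ⟨S, hS, hVS⟩ := exists_isSyl2 (normalizer (K : Set G)) (R ⊔ E) b.V_le
    (isPGroup_of_elem b.elemV)
  obtain ⟨t, htR, ht2⟩ := exists_involution_of_ne_bot b.sylR.two (sylR_ne_bot h b.sylR)
  -- `V ≤ M^g`
  have hVg : R ⊔ E ≤ cj g (normalizer (K : Set G)) := by
    intro v hv
    have h1 : g * t * g⁻¹ ∈ cj g R := conj_mem_cj htR
    refine h.centralizer_le_cj (a := g * t * g⁻¹) (by rw [orderOf_conj, ht2])
      (cj_mono b.sylR.le h1) ?_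
    rw [mem_centralizer_singleton_iff]
    exact b.elemV.comm hv (hgR h1)
  have hVg' : cj g⁻¹ (R ⊔ E) ≤ normalizer (K : Set G) := by
    have := cj_mono (g := g⁻¹) hVg
    rwa [cj_inv_cj] at this
  obtain ⟨S₂, hS₂, hVS₂⟩ := exists_isSyl2 (normalizer (K : Set G)) (cj g⁻¹ (R ⊔ E)) hVg'
    (isPGroup_of_elem (elem_cj b.elemV))
  obtain ⟨m, hm, hmS⟩ := isSyl2_conj hS₂ hS
  have h1 : cj m (cj g⁻¹ (R ⊔ E)) ≤ S := by rw [hmS]; exact cj_mono hVS₂
  rw [← cj_mul] at h1
  have h2 := unique_V b hS hVS h1 (elem_cj b.elemV) (by rw [card_cj, b.card_V])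
  refine ⟨m * g⁻¹, cj_eq_iff.mp h2, fun h3 => hg ?_⟩
  have h4 := Subgroup.mul_mem _ (Subgroup.inv_mem _ h3) hm
  have e1 : (m * g⁻¹)⁻¹ * m = g := by group
  rwa [e1] at h4

end

end Cfsg.Agent.OddCyclic.A4EFour
end

-- part: OddCyclic/A4EDelta
section
/-!
# S0342, component type, case A (`K = A₅`, copy with `A4EDefs.Beta`): A4 (ii), the number of members of `Δ`

`Delta R V` has `q` members, or `2q - 1` members and `|R| = 2`. The group `H` acts semiregularly on
`Δ - {R}`.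
-/

set_option autoImplicit false

namespace Cfsg.Agent.OddCyclic.A4EDelta

open Subgroup
open Cfsg.Agent.LieExceptional Cfsg.Agent.LieExceptional.CITDefs
open Cfsg.Agent.LieExceptional.CITBasic
open Cfsg.Agent.OddCyclic.T1Tools
open Cfsg.Agent.OddCyclic.CompBasic Cfsg.Agent.OddCyclic.CompStandard
open Cfsg.Agent.OddCyclic.CaseADefs hiding Beta
open Cfsg.Agent.OddCyclic.A4EDefs Cfsg.Agent.OddCyclic.CaseABase
open Cfsg.Agent.OddCyclic.CaseACount Cfsg.Agent.OddCyclic.A4EFour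

variable {G : Type*} [Group G] [Finite G] {p : ℕ} {K R E H : Subgroup G} {q : ℕ}

/-- a free action -/
theorem card_of_free {A X : Type*} [Group A] [Finite A] [Finite X] [MulAction A X]
    (h : ∀ (a : A) (x : X), a • x = x → a = 1) : ∃ j : ℕ, Nat.card X = j * Nat.card A := by
  have h1 : ∀ x : X, MulAction.stabilizer A x = ⊥ := by
    intro x
    rw [eq_bot_iff]
    intro a ha
    rw [Subgroup.mem_bot]
    exact h a x (MulAction.mem_stabilizer_iff.mp ha)
  have h2 := Nat.card_congr (MulAction.selfEquivOrbitsQuotientProd h1)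
  rw [Nat.card_prod] at h2
  exact ⟨_, h2⟩

omit [Finite G] in
/-- elements of `H` commuting with a nontrivial element outside `R` of `V` are trivial -/
theorem H_comm (b : Beta K R E H q) {x v : G} (hx : x ∈ H) (hv : v ∈ R ⊔ E) (hvR : v ∉ R)
    (hc : x * v = v * x) : x = 1 := by
  obtain ⟨r, hr, e, he, rfl⟩ := b.mem_V.mp hv
  have he1 : e ≠ 1 := by
    rintro rfl
    rw [mul_one] at hvR
    exact hvR hr
  have hxr : x * r = r * x := comm_KY x (b.bor.leH hx) r (b.sylR.le hr)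
  have h1 : x * e = e * x := by
    have h2 : r * (x * e) = r * (e * x) := by
      calc r * (x * e) = (r * x) * e := by group
        _ = (x * r) * e := by rw [hxr]
        _ = x * (r * e) := by group
        _ = r * e * x := hc
        _ = r * (e * x) := by group
    exact mul_left_cancel h2
  exact H_inf b.l2 b.bor hx (b.bor.cent e he he1 x (b.bor.leH hx) h1)

/-- `H` acts semiregularly on `Δ - {R}`. -/
theorem H_free (h : Std p K) (b : Beta K R E H q) {X : Subgroup G}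
    (hX : X ∈ Delta R (R ⊔ E)) (hne : X ≠ R) {x : G} (hx : x ∈ H) (hxX : cj x X = X) : x = 1 := by
  obtain ⟨n, hn, rfl⟩ := hX
  by_contra hx1
  -- pass to an element of prime order
  set m := orderOf x with hm
  have hm1 : m ≠ 1 := fun hh => hx1 (orderOf_eq_one_iff.mp hh)
  obtain ⟨r, hr, hrm⟩ := Nat.exists_prime_and_dvd hm1
  have hmpos : 0 < m := orderOf_pos x
  set z := x ^ (m / r) with hz
  have hzr : orderOf z = r := orderOf_pow_orderOf_div hmpos.ne' hrm
  have hzH : z ∈ H := H.pow_mem hx _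
  have hzN : ∀ k : ℕ, cj (x ^ k) (cj n R) = cj n R := by
    intro k
    induction k with
    | zero => rw [pow_zero, cj_one]
    | succ k ih => rw [pow_succ, cj_mul, hxX, ih]
  have hzX : cj z (cj n R) = cj n R := hzN _
  have hH : Nat.card H = q - 1 := b.bor.cardH
  have hrH : r ∣ q - 1 := by
    rw [← hH, ← hzr]; exact H.orderOf_dvd_natCard hzH
  have hr2 : r ≠ 2 := by
    rintro rfl
    exact (Nat.not_even_iff_odd.mpr (odd_card_H b.l2)) (even_iff_two_dvd.mpr hrH)
  have hrK : r ∣ Nat.card K := by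
    rw [← hzr]; exact K.orderOf_dvd_natCard (b.bor.leH hzH)
  -- `z ∈ M^n`
  have hz1 : n⁻¹ * (z * n) ∈ normalizer (K : Set G) := by
    have hzn : z * n ∈ normalizer ((R ⊔ E : Subgroup G) : Set G) :=
      Subgroup.mul_mem _ (H_le_N b hzH) hn
    rw [← cj_eq_cj_iff h b hn hzn, cj_mul, hzX]
  have hz2 : z ∈ cj n (normalizer (K : Set G)) := by
    rw [mem_cj, mul_assoc]; exact hz1
  have hzc : ∀ y ∈ cj n R, z * y = y * z := fun y hy =>
    h.commute_of_dvd n hr hr2 hrK hz2 hzr (cj_mono b.sylR.le hy)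
  apply hne
  apply Subgroup.eq_of_le_of_card_ge
  · intro y hy
    by_contra hyR
    have hyV : y ∈ R ⊔ E := le_of_mem_delta ⟨n, hn, rfl⟩ hy
    have h3 := H_comm b hzH hyV hyR (hzc y hy)
    rw [h3, orderOf_one] at hzr
    exact hr.one_lt.ne hzr
  · rw [card_cj]

/-- `|Δ| ≡ 1 mod q - 1` -/
theorem card_mod (h : Std p K) (b : Beta K R E H q) :
    ∃ j : ℕ, Nat.card (Delta R (R ⊔ E)) = 1 + j * (q - 1) := by
  classical
  let X' : Type _ := {X : Subgroup G // X ∈ Delta R (R ⊔ E) ∧ X ≠ R}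
  let act : MulAction H X' :=
    { smul := fun x X => ⟨cj (x : G) X.1, cj_mem_delta X.2.1 (H_le_N b x.2), fun hh => X.2.2 (by
        have h1 : cj (x : G)⁻¹ R = R := cj_R b (Subgroup.inv_mem _ (H_le_N b x.2))
          (Subgroup.inv_mem _ (Subgroup.le_normalizer (b.bor.leH x.2)))
        rw [← cj_inv_cj (x : G) X.1, hh, h1])⟩
      one_smul := fun X => Subtype.ext (cj_one X.1)
      mul_smul := fun x y X => Subtype.ext (cj_mul (x : G) (y : G) X.1) }
  have h4 := b.l2.four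
  have hfH : Finite H := Nat.finite_of_card_ne_zero (by rw [b.bor.cardH]; omega)
  obtain ⟨j, hj⟩ := card_of_free (A := H) (X := X') (fun x X hxX => by
    have h1 : cj (x : G) X.1 = X.1 := congrArg Subtype.val hxX
    exact Subtype.ext (H_free h b X.2.1 X.2.2 x.2 h1))
  rw [b.bor.cardH] at hj
  refine ⟨j, ?_⟩
  rw [← hj]
  have h1 := Nat.card_congr (Equiv.sumCompl (fun X : Delta R (R ⊔ E) => (X : Subgroup G) = R))
  rw [Nat.card_sum] at h1
  rw [← h1]
  congr 1
  · rw [Nat.card_eq_one_iff_unique]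
    exact ⟨⟨fun a b => Subtype.ext (Subtype.ext (a.2.trans b.2.symm))⟩, ⟨⟨⟨R, R_mem_delta⟩, rfl⟩⟩⟩
  · exact Nat.card_congr
      { toFun := fun X => ⟨X.1.1, X.1.2, X.2⟩
        invFun := fun X => ⟨⟨X.1, X.2.1⟩, X.2.2⟩
        left_inv := fun _ => rfl
        right_inv := fun _ => rfl }

theorem card_delta_le (h : Std p K) (b : Beta K R E H q) :
    Nat.card (Delta R (R ⊔ E)) * (Nat.card R - 1) ≤ Nat.card R * q - 1 := by
  classical
  have hf : Fintype (Delta R (R ⊔ E)) := Fintype.ofFinite _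
  have h1 := sum_card_le (fun X : Delta R (R ⊔ E) => (X : Subgroup G)) (R ⊔ E)
    (fun X => le_of_mem_delta X.2) (fun X X' hne s hs hs' => by
      by_contra hs1
      exact hne (Subtype.ext (delta_ti h b X.2 X'.2 hs1 hs hs')))
  rw [Finset.sum_congr rfl (fun X _ => by rw [card_of_mem_delta X.2]), Finset.sum_const,
    smul_eq_mul, Finset.card_univ, ← Nat.card_eq_fintype_card, b.card_V] at h1
  exact h1

/-- **(ii)** -/
theorem card_delta (h : Std p K) (b : Beta K R E H q) :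
    Nat.card (Delta R (R ⊔ E)) = q ∨
      (Nat.card (Delta R (R ⊔ E)) = 2 * q - 1 ∧ Nat.card R = 2) := by
  obtain ⟨j, hj⟩ := card_mod h b
  have h1 := card_delta_le h b
  have h4 := b.l2.four
  have h2 := card_R_two h b
  have hj1 : 1 ≤ j := by
    by_contra hj0
    have hj0' : j = 0 := by omega
    rw [hj0', zero_mul, add_zero] at hj
    obtain ⟨n, hn, hnM⟩ := exists_n h b
    obtain ⟨hs, -⟩ := Nat.card_eq_one_iff_unique.mp hj
    have h3 : (⟨cj n R, n, hn, rfl⟩ : Delta R (R ⊔ E)) = ⟨R, R_mem_delta⟩ := Subsingleton.elim _ _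
    exact hnM ((cj_eq_R_iff h b hn).mp (congrArg Subtype.val h3))
  rw [hj] at h1 ⊢
  set r := Nat.card R with hr
  obtain ⟨s, rfl⟩ : ∃ s, q = s + 1 := ⟨q - 1, by omega⟩
  obtain ⟨t, ht⟩ : ∃ t, r = t + 1 := ⟨r - 1, by omega⟩
  rw [ht] at h1 h2 ⊢
  simp only [Nat.add_sub_cancel] at h1 ⊢
  have h5 : (t + 1) * (s + 1) - 1 = t * s + t + s := by
    have : (t + 1) * (s + 1) = t * s + t + s + 1 := by ring
    omega
  rw [h5] at h1
  have h6 : (1 + j * s) * t = t + j * s * t := by ring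
  rw [h6] at h1
  have h7 : s * (j * t) ≤ s * (t + 1) := by linarith only [h1]
  have h8 : j * t ≤ t + 1 := Nat.le_of_mul_le_mul_left h7 (by omega)
  have h9 : j ≤ 2 := by
    by_contra hc
    have : 3 * t ≤ j * t := Nat.mul_le_mul_right _ (by omega)
    omega
  interval_cases j
  · left; omega
  · right
    constructor
    · (clear * -; omega)
    · omega

/-- index -/
theorem card_orbit (h : Std p K) (b : Beta K R E H q) {L : Subgroup G}
    (hL : L ≤ normalizer ((R ⊔ E : Subgroup G) : Set G)) :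
    Nat.card {X : Subgroup G | ∃ n ∈ L, X = cj n R} *
      Nat.card (L ⊓ normalizer (K : Set G) : Subgroup G) = Nat.card L := by
  classical
  set W : Subgroup L := (normalizer (K : Set G)).subgroupOf L with hW
  let f : L ⧸ W → {X : Subgroup G | ∃ n ∈ L, X = cj n R} :=
    Quotient.lift (fun n : L => (⟨cj (n : G) R, n, n.2, rfl⟩ :
      {X : Subgroup G | ∃ n ∈ L, X = cj n R})) (by
      intro a c hac
      have h1 : a⁻¹ * c ∈ W := QuotientGroup.leftRel_apply.mp hac
      exact Subtype.ext ((cj_eq_cj_iff h b (hL a.2) (hL c.2)).mpr h1))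
  have hf : Function.Bijective f := by
    constructor
    · intro a c
      refine Quotient.inductionOn₂ a c ?_
      intro a c hac
      have h1 : cj (a : G) R = cj (c : G) R := congrArg Subtype.val hac
      have h2 := (cj_eq_cj_iff h b (hL a.2) (hL c.2)).mp h1
      exact Quotient.sound (QuotientGroup.leftRel_apply.mpr h2)
    · rintro ⟨X, n, hn, rfl⟩
      exact ⟨Quotient.mk _ ⟨n, hn⟩, rfl⟩
  rw [← Nat.card_eq_of_bijective f hf]
  have h1 := Subgroup.card_eq_card_quotient_mul_card_subgroup W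
  have h2 : Nat.card W = Nat.card (L ⊓ normalizer (K : Set G) : Subgroup G) := by
    rw [hW, ← Subgroup.inf_subgroupOf_left]
    exact card_subgroupOf inf_le_left
  rw [h1, h2]

/-- `|N| = |Δ| |N ∩ M|` -/
theorem card_N (h : Std p K) (b : Beta K R E H q) :
    Nat.card (Delta R (R ⊔ E)) *
      Nat.card (normalizer ((R ⊔ E : Subgroup G) : Set G) ⊓ normalizer (K : Set G) :
        Subgroup G) = Nat.card (normalizer ((R ⊔ E : Subgroup G) : Set G)) :=
  card_orbit h b le_rfl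

/-- a power of 2 dividing the order of `M` is at most the order of a Sylow 2-subgroup -/
theorem pow_le_of_dvd {M S : Subgroup G} (hS : IsSyl2 M S) {a : ℕ} (h : 2 ^ a ∣ Nat.card M) :
    2 ^ a ≤ Nat.card S := by
  have hpf : Fact (Nat.Prime 2) := ⟨Nat.prime_two⟩
  obtain ⟨W, hW⟩ := Sylow.exists_subgroup_card_pow_prime (G := M) 2 h
  have h1 : Nat.card (W.map M.subtype) = 2 ^ a := by
    rw [Subgroup.card_map_of_injective M.subtype_injective, hW]
  rw [← h1]
  refine card_le_of_isSyl2 hS (Subgroup.map_subtype_le W) ?_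
  exact IsPGroup.of_card h1

end Cfsg.Agent.OddCyclic.A4EDelta
end

-- part: OddCyclic/A4EKer
section
/-!
# S0342, component type, case A (`K = A₅`, copy with `A4EDefs.Beta`): A4 (iii), (iv)

Here `|Δ| = q`. 2-elements of `N` fixing all members of `Δ` lie in `V`; `V - ⋃Δ = E - {1}`, so `N`
normalizes `E`; `N_Y(R) = C_Y(R)`.
-/

set_option autoImplicit false

namespace Cfsg.Agent.OddCyclic.A4EKer

open Subgroup
open Cfsg.Agent.LieExceptional Cfsg.Agent.LieExceptional.CITDefs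
open Cfsg.Agent.LieExceptional.CITBasic
open Cfsg.Agent.OddCyclic.T1Tools
open Cfsg.Agent.OddCyclic.CompBasic Cfsg.Agent.OddCyclic.CompStandard
open Cfsg.Agent.OddCyclic.CaseADefs hiding Beta
open Cfsg.Agent.OddCyclic.A4EDefs Cfsg.Agent.OddCyclic.CaseABase
open Cfsg.Agent.OddCyclic.CaseACount Cfsg.Agent.OddCyclic.A4EFour
open Cfsg.Agent.OddCyclic.A4EDelta

variable {G : Type*} [Group G] [Finite G] {p : ℕ} {K R E H : Subgroup G} {q : ℕ}

omit [Finite G] in
theorem finite_H (b : Beta K R E H q) : Finite H := by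
  have := b.l2.four
  exact Nat.finite_of_card_ne_zero (by rw [b.bor.cardH]; omega)

/-- `H` is transitive on `E - {1}` -/
theorem H_trans_E (b : Beta K R E H q) {e e' : G} (he : e ∈ E) (he1 : e ≠ 1) (he' : e' ∈ E)
    (he1' : e' ≠ 1) : ∃ x ∈ H, x * e * x⁻¹ = e' := by
  have hinj : Function.Injective (fun x : H => (⟨⟨(x : G) * e * (x : G)⁻¹,
      b.bor.norm x x.2 e he⟩, fun hh => he1 (by
        have h1 : (x : G) * e * (x : G)⁻¹ = 1 := congrArg Subtype.val hh
        have : e = (x : G)⁻¹ * ((x : G) * e * (x : G)⁻¹) * x := by group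
        rw [this, h1]; group)⟩ : {y : E // y ≠ 1})) := by
    intro x y hxy
    have h1 : (x : G) * e * (x : G)⁻¹ = (y : G) * e * (y : G)⁻¹ :=
      congrArg (fun z : {y : E // y ≠ 1} => ((z : E) : G)) hxy
    have h2 : ((y : G)⁻¹ * x) * e = e * ((y : G)⁻¹ * x) := by
      calc ((y : G)⁻¹ * x) * e = (y : G)⁻¹ * ((x : G) * e * (x : G)⁻¹) * x := by group
        _ = (y : G)⁻¹ * ((y : G) * e * (y : G)⁻¹) * x := by rw [h1]
        _ = e * ((y : G)⁻¹ * x) := by group
    have h3 := H_inf b.l2 b.bor (H.mul_mem (H.inv_mem y.2) x.2)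
      (b.bor.cent e he he1 _ (b.bor.leH (H.mul_mem (H.inv_mem y.2) x.2)) h2)
    exact Subtype.ext (inv_mul_eq_one.mp h3).symm
  have hbij := hinj.bijective_of_nat_card_le (by
    rw [card_ne_one, b.bor.cardE, b.bor.cardH])
  obtain ⟨x, hx⟩ := hbij.2 ⟨⟨e', he'⟩, fun hh => he1' (congrArg Subtype.val hh)⟩
  exact ⟨x, x.2, congrArg (fun z : {y : E // y ≠ 1} => ((z : E) : G)) hx⟩

theorem card_delta' (hD : Nat.card (Delta R (R ⊔ E)) = q) :
    Nat.card {X : Subgroup G // X ∈ Delta R (R ⊔ E) ∧ X ≠ R} = q - 1 := by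
  classical
  have h1 := Nat.card_congr (Equiv.sumCompl (fun X : Delta R (R ⊔ E) => (X : Subgroup G) = R))
  rw [Nat.card_sum, hD] at h1
  have h2 : Nat.card {X : Delta R (R ⊔ E) // (X : Subgroup G) = R} = 1 := by
    rw [Nat.card_eq_one_iff_unique]
    exact ⟨⟨fun a b => Subtype.ext (Subtype.ext (a.2.trans b.2.symm))⟩,
      ⟨⟨⟨R, R_mem_delta⟩, rfl⟩⟩⟩
  have h3 : Nat.card {X : Delta R (R ⊔ E) // ¬ (X : Subgroup G) = R} =
      Nat.card {X : Subgroup G // X ∈ Delta R (R ⊔ E) ∧ X ≠ R} := Nat.card_congr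
      { toFun := fun X => ⟨X.1.1, X.1.2, X.2⟩
        invFun := fun X => ⟨⟨X.1, X.2.1⟩, X.2.2⟩
        left_inv := fun _ => rfl
        right_inv := fun _ => rfl }
  omega

theorem cj_ne_R (b : Beta K R E H q) {X : Subgroup G} (hne : X ≠ R) {n : G}
    (hn : n ∈ normalizer ((R ⊔ E : Subgroup G) : Set G)) (hM : n ∈ normalizer (K : Set G)) :
    cj n X ≠ R := by
  intro hh
  apply hne
  have h1 : cj n⁻¹ R = R := cj_R b (Subgroup.inv_mem _ hn) (Subgroup.inv_mem _ hM)
  rw [← cj_inv_cj n X, hh, h1]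

/-- `H` is transitive on `Δ - {R}` -/
theorem H_trans (h : Std p K) (b : Beta K R E H q) (hD : Nat.card (Delta R (R ⊔ E)) = q)
    {X X' : Subgroup G} (hX : X ∈ Delta R (R ⊔ E)) (hne : X ≠ R) (hX' : X' ∈ Delta R (R ⊔ E))
    (hne' : X' ≠ R) : ∃ x ∈ H, cj x X = X' := by
  have hinj : Function.Injective (fun x : H => (⟨cj (x : G) X, cj_mem_delta hX (H_le_N b x.2),
      cj_ne_R b hne (H_le_N b x.2) (Subgroup.le_normalizer (b.bor.leH x.2))⟩ :
      {X : Subgroup G // X ∈ Delta R (R ⊔ E) ∧ X ≠ R})) := by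
    intro x y hxy
    have h1 : cj (x : G) X = cj (y : G) X := congrArg Subtype.val hxy
    have h2 : cj ((y : G)⁻¹ * x) X = X := by rw [cj_mul, h1, cj_inv_cj]
    have h3 := H_free h b hX hne (H.mul_mem (H.inv_mem y.2) x.2) h2
    exact Subtype.ext (inv_mul_eq_one.mp h3).symm
  have hbij := hinj.bijective_of_nat_card_le (by rw [card_delta' hD, b.bor.cardH])
  obtain ⟨x, hx⟩ := hbij.2 ⟨X', hX', hne'⟩
  exact ⟨x, x.2, congrArg Subtype.val hx⟩

theorem exists_ne_R (h : Std p K) (b : Beta K R E H q) :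
    ∃ X ∈ Delta R (R ⊔ E), X ≠ R := by
  obtain ⟨n, hn, hnM⟩ := exists_n h b
  exact ⟨cj n R, ⟨n, hn, rfl⟩, fun hh => hnM ((cj_eq_R_iff h b hn).mp hh)⟩

theorem V_fix (b : Beta K R E H q) {X : Subgroup G} (hX : X ∈ Delta R (R ⊔ E)) {v : G}
    (hv : v ∈ R ⊔ E) : cj v X = X :=
  cj_eq_of_comm fun _ hx => b.elemV.comm hv (le_of_mem_delta hX hx)

omit [Finite G] in
theorem fix_inv {X : Subgroup G} {z : G} (hz : cj z X = X) : cj z⁻¹ X = X := by
  rw [← hz, cj_inv_cj, hz]

/-- **(iii)** 2-elements fixing all members of `Δ` lie in `V`. -/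
theorem ker (h : Std p K) (b : Beta K R E H q) {z : G}
    (hz : z ∈ normalizer ((R ⊔ E : Subgroup G) : Set G)) (h2 : ∃ n : ℕ, z ^ 2 ^ n = 1)
    (hfix : ∀ X ∈ Delta R (R ⊔ E), cj z X = X) : z ∈ R ⊔ E := by
  have h4 := b.l2.four
  have hfH := finite_H b
  have hcyc := b.bor.cyc
  have hHc : ∀ x ∈ H, ∀ y ∈ H, x * y = y * x := by
    intro x hx y hy
    have := IsCyclic.commGroup (α := H)
    exact congrArg Subtype.val (IsMulCommutative.is_comm.comm (⟨x, hx⟩ : H) ⟨y, hy⟩)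
  have hzM : z ∈ normalizer (K : Set G) := (cj_eq_R_iff h b hz).mp (hfix R R_mem_delta)
  have hzE : ∀ e ∈ E, z * e * z⁻¹ ∈ E := forall_of_mem_normalizer (cj_eq_iff.mp (cj_E b hz hzM))
  obtain ⟨X₁, hX₁, hne₁⟩ := exists_ne_R h b
  -- `[z, x] ∈ E` for `x ∈ H`
  have hw : ∀ x ∈ H, z * x * z⁻¹ * x⁻¹ ∈ E := by
    intro x hx
    have hxN := H_le_N b hx
    have h1 : z * x * z⁻¹ * x⁻¹ ∈ K := K.mul_mem (forall_of_mem_normalizer hzM x (b.bor.leH hx))
      (K.inv_mem (b.bor.leH hx))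
    have h2 : ∀ e ∈ E, (z * x * z⁻¹ * x⁻¹) * e * (z * x * z⁻¹ * x⁻¹)⁻¹ ∈ E := by
      intro e he
      have hzE' : ∀ e ∈ E, z⁻¹ * e * z ∈ E := by
        intro e he
        have := forall_of_mem_normalizer (Subgroup.inv_mem _ (cj_eq_iff.mp (cj_E b hz hzM))) e he
        rwa [inv_inv] at this
      have a1 : x⁻¹ * e * x ∈ E := by
        have := b.bor.norm x⁻¹ (H.inv_mem hx) e he
        rwa [inv_inv] at this
      have a2 := hzE _ (b.bor.norm x hx _ (hzE' _ a1))
      have e1 : z * x * z⁻¹ * x⁻¹ * e * (z * x * z⁻¹ * x⁻¹)⁻¹ =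
          z * (x * (z⁻¹ * (x⁻¹ * e * x) * z) * x⁻¹) * z⁻¹ := by group
      rw [e1]; exact a2
    obtain ⟨e, he, x₁, hx₁, hwe⟩ := b.bor.nK _ h1 h2
    have h3 : cj (z * x * z⁻¹ * x⁻¹) X₁ = X₁ := by
      have a1 : cj x⁻¹ X₁ ∈ Delta R (R ⊔ E) := cj_mem_delta hX₁ (Subgroup.inv_mem _ hxN)
      rw [cj_mul, cj_mul, cj_mul, fix_inv (hfix _ a1), cj_cj_inv, hfix _ hX₁]
    have h4 : cj x₁ X₁ = X₁ := by
      have a1 : x₁ = e⁻¹ * (z * x * z⁻¹ * x⁻¹) := by rw [hwe]; group
      rw [a1, cj_mul, h3]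
      exact V_fix b hX₁ (mem_sup_right (E.inv_mem he))
    have h5 := H_free h b hX₁ hne₁ hx₁ h4
    rw [hwe, h5, mul_one]
    exact he
  -- a nontrivial element of `E`
  obtain ⟨e₀, he₀, he₀1⟩ : ∃ e ∈ E, e ≠ 1 := by
    by_contra hno
    push Not at hno
    have h1 : E = ⊥ := (eq_bot_iff).mpr fun e he => by rw [Subgroup.mem_bot]; exact hno e he
    have h2 := b.bor.cardE
    rw [h1, Subgroup.card_bot] at h2
    omega
  have hze₀1 : z * e₀ * z⁻¹ ≠ 1 := by
    intro hh
    apply he₀1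
    have : e₀ = z⁻¹ * (z * e₀ * z⁻¹) * z := by group
    rw [this, hh]; group
  obtain ⟨x₀, hx₀, hx₀e⟩ := H_trans_E b he₀ he₀1 (hzE e₀ he₀) hze₀1
  have hact : ∀ e ∈ E, z * e * z⁻¹ = x₀ * e * x₀⁻¹ := by
    intro e he
    by_cases he1 : e = 1
    · rw [he1]; group
    · obtain ⟨x, hx, hxe⟩ := H_trans_E b he₀ he₀1 he he1
      have h1 := hw x hx
      have h2 : x * (x₀ * e₀ * x₀⁻¹) * x⁻¹ ∈ E := b.bor.norm x hx _ (b.bor.norm x₀ hx₀ _ he₀)
      have h3 : x * x₀ = x₀ * x := hHc x hx x₀ hx₀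
      have h5 : x₀⁻¹ * x⁻¹ = x⁻¹ * x₀⁻¹ := by
        rw [← mul_inv_rev, ← mul_inv_rev, h3]
      calc z * e * z⁻¹ = (z * x * z⁻¹ * x⁻¹) * (x * (z * e₀ * z⁻¹) * x⁻¹) *
            (z * x * z⁻¹ * x⁻¹)⁻¹ := by rw [← hxe]; group
        _ = (z * x * z⁻¹ * x⁻¹) * (x * (x₀ * e₀ * x₀⁻¹) * x⁻¹) *
            (z * x * z⁻¹ * x⁻¹)⁻¹ := by rw [hx₀e]
        _ = (x * (x₀ * e₀ * x₀⁻¹) * x⁻¹) := by
            rw [b.bor.elem.comm h1 h2, mul_inv_cancel_right]
        _ = (x * x₀) * e₀ * (x₀⁻¹ * x⁻¹) := by group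
        _ = (x₀ * x) * e₀ * (x⁻¹ * x₀⁻¹) := by rw [h3, h5]
        _ = x₀ * (x * e₀ * x⁻¹) * x₀⁻¹ := by group
        _ = x₀ * e * x₀⁻¹ := by rw [hxe]
  have hpow : ∀ m : ℕ, ∀ e ∈ E, z ^ m * e * (z ^ m)⁻¹ = x₀ ^ m * e * (x₀ ^ m)⁻¹ := by
    intro m
    induction m with
    | zero => intro e _; simp
    | succ m ih =>
      intro e he
      have h1 : x₀ * e * x₀⁻¹ ∈ E := b.bor.norm x₀ hx₀ e he
      calc z ^ (m + 1) * e * (z ^ (m + 1))⁻¹ = z ^ m * (z * e * z⁻¹) * (z ^ m)⁻¹ := by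
            rw [pow_succ]; group
        _ = z ^ m * (x₀ * e * x₀⁻¹) * (z ^ m)⁻¹ := by rw [hact e he]
        _ = x₀ ^ m * (x₀ * e * x₀⁻¹) * (x₀ ^ m)⁻¹ := ih _ h1
        _ = x₀ ^ (m + 1) * e * (x₀ ^ (m + 1))⁻¹ := by rw [pow_succ]; group
  obtain ⟨n, hn⟩ := h2
  have hx₀1 : x₀ = 1 := by
    have h1 := hpow (2 ^ n) e₀ he₀
    rw [hn, one_mul, inv_one, mul_one] at h1
    have h2 : x₀ ^ 2 ^ n * e₀ = e₀ * x₀ ^ 2 ^ n := mul_inv_eq_iff_eq_mul.mp h1.symm
    have h3 : x₀ ^ 2 ^ n = 1 := H_inf b.l2 b.bor (H.pow_mem hx₀ _)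
      (b.bor.cent e₀ he₀ he₀1 _ (b.bor.leH (H.pow_mem hx₀ _)) h2)
    have h5 : orderOf x₀ ∣ 2 ^ n := orderOf_dvd_of_pow_eq_one h3
    have h6 : orderOf x₀ ∣ q - 1 := by
      rw [← b.bor.cardH]; exact H.orderOf_dvd_natCard hx₀
    have h7 : Nat.Coprime (q - 1) (2 ^ n) :=
      Nat.Coprime.pow_right n (Nat.coprime_two_right.mpr (odd_card_H b.l2))
    have h8 : orderOf x₀ ∣ 1 := by
      rw [← Nat.Coprime.gcd_eq_one h7]
      exact Nat.dvd_gcd h6 h5
    exact orderOf_eq_one_iff.mp (Nat.dvd_one.mp h8)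
  have hzc : ∀ e ∈ E, z * e = e * z := by
    intro e he
    have h1 := hact e he
    rw [hx₀1, one_mul, inv_one, mul_one] at h1
    exact mul_inv_eq_iff_eq_mul.mp h1
  obtain ⟨y, hy, e, he, hye⟩ := b.l2.centE E b.sylE z hzM hzc
  have hyz : y = z * e⁻¹ := by rw [hye]; group
  have hyN : y ∈ normalizer ((R ⊔ E : Subgroup G) : Set G) := by
    rw [hyz]
    exact Subgroup.mul_mem _ hz (Subgroup.le_normalizer (mem_sup_right (E.inv_mem he)))
  have hyR : y ∈ R := by
    refine mem_isSyl2 b.sylR hy ⟨n + 1, ?_⟩ (forall_of_mem_normalizer (cj_eq_iff.mp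
      (cj_R b hyN (centralizer_le_normalizer _ hy))))
    have hcom : Commute z e⁻¹ := (show Commute z e from hzc e he).inv_right
    rw [hyz, hcom.mul_pow, pow_succ, pow_mul, hn, one_pow, one_mul, inv_pow, mul_comm, pow_mul,
      pow_two, b.bor.elem e he, one_pow, inv_one]
  rw [hye]
  exact Subgroup.mul_mem _ (mem_sup_left hyR) (mem_sup_right he)

/-- A Sylow 2-subgroup of `N` is transitive on `Δ`. -/
theorem trans_W (h : Std p K) (b : Beta K R E H q) (hD : Nat.card (Delta R (R ⊔ E)) = q)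
    {W : Subgroup G} (hW : IsSyl2 (normalizer ((R ⊔ E : Subgroup G) : Set G)) W)
    {X : Subgroup G} (hX : X ∈ Delta R (R ⊔ E)) : ∃ s ∈ W, X = cj s R := by
  have hpf : Fact (Nat.Prime 2) := ⟨Nat.prime_two⟩
  have h1 := card_orbit h b hW.le
  have h2 := card_N h b
  rw [hD] at h2
  obtain ⟨f, hf⟩ := b.l2.pow
  obtain ⟨a, ha⟩ := IsPGroup.iff_card.mp (hW.two.to_le
    (inf_le_left : W ⊓ normalizer (K : Set G) ≤ W))
  have h3 : 2 ^ (f + a) ∣ Nat.card (normalizer ((R ⊔ E : Subgroup G) : Set G)) := by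
    rw [← h2, pow_add, ← hf, ← ha]
    exact mul_dvd_mul_left _ (Subgroup.card_dvd_of_le (inf_le_inf_right _ hW.le))
  have h4 := pow_le_of_dvd hW h3
  rw [← h1, ha, pow_add] at h4
  have h5 : 2 ^ f ≤ Nat.card {X : Subgroup G | ∃ n ∈ W, X = cj n R} :=
    Nat.le_of_mul_le_mul_right h4 (by positivity)
  have h6 : {X : Subgroup G | ∃ n ∈ W, X = cj n R} ⊆ Delta R (R ⊔ E) := by
    rintro X ⟨n, hn, rfl⟩
    exact ⟨n, hW.le hn, rfl⟩
  have h7 : {X : Subgroup G | ∃ n ∈ W, X = cj n R} = Delta R (R ⊔ E) := by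
    refine Set.eq_of_subset_of_ncard_le h6 ?_ (Set.toFinite _)
    rw [← Nat.card_coe_set_eq, ← Nat.card_coe_set_eq, hD, hf]
    exact h5
  rw [← h7] at hX
  exact hX

end Cfsg.Agent.OddCyclic.A4EKer
end

-- part: OddCyclic/A4EInv
section
/-!
# S0342, component type, case A (`K = A₅`, copy with `A4EDefs.Beta`): A4 (iv) and the summary of A4 (i)-(iv)

`V - ⋃Δ = E - {1}`, `N_G(V) ≤ N_G(E)`, `N_Y(R) = C_Y(R)`.
-/

set_option autoImplicit false

namespace Cfsg.Agent.OddCyclic.A4EInv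

open Subgroup
open Cfsg.Agent.LieExceptional Cfsg.Agent.LieExceptional.CITDefs
open Cfsg.Agent.LieExceptional.CITBasic
open Cfsg.Agent.OddCyclic.T1Tools
open Cfsg.Agent.OddCyclic.CompBasic Cfsg.Agent.OddCyclic.CompStandard
open Cfsg.Agent.OddCyclic.CaseADefs hiding Beta
open Cfsg.Agent.OddCyclic.A4EDefs Cfsg.Agent.OddCyclic.CaseABase
open Cfsg.Agent.OddCyclic.CaseACount Cfsg.Agent.OddCyclic.A4EFour
open Cfsg.Agent.OddCyclic.A4EDelta Cfsg.Agent.OddCyclic.A4EKer

variable {G : Type*} [Group G] [Finite G] {p : ℕ} {K R E H : Subgroup G} {q : ℕ}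

/-- A central involution modulo a normal subgroup of a 2-group. -/
theorem exists_central {V W : Subgroup G} (hW : IsPGroup 2 W) (hVW : V ≤ W) (hne : V ≠ W)
    (hn : ∀ w ∈ W, ∀ v ∈ V, w * v * w⁻¹ ∈ V) :
    ∃ z ∈ W, z ∉ V ∧ z * z ∈ V ∧ ∀ s ∈ W, z⁻¹ * s⁻¹ * z * s ∈ V := by
  have hpf : Fact (Nat.Prime 2) := ⟨Nat.prime_two⟩
  have hnor : (V.subgroupOf W).Normal := by
    refine Subgroup.normal_subgroupOf_of_le_normalizer fun w hw => ?_
    exact mem_normalizer_of_forall (hn w hw)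
  set Q := W ⧸ V.subgroupOf W with hQ
  have hQ2 : IsPGroup 2 Q := hW.to_quotient _
  have hQn : Nontrivial Q := by
    by_contra hnt
    rw [not_nontrivial_iff_subsingleton] at hnt
    have h1 : V.subgroupOf W = ⊤ := QuotientGroup.subsingleton_iff.mp hnt
    exact hne (le_antisymm hVW (Subgroup.subgroupOf_eq_top.mp h1))
  have hc := hQ2.center_nontrivial
  obtain ⟨c, hc', hc2⟩ := exists_involution_of_ne_bot (hQ2.to_subgroup (center Q))
    ((Subgroup.nontrivial_iff_ne_bot _).mp hc)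
  obtain ⟨z, rfl⟩ := QuotientGroup.mk_surjective c
  refine ⟨z, z.2, ?_, ?_, ?_⟩
  · intro hz
    apply ne_one_of_orderOf hc2
    rw [QuotientGroup.eq_one_iff]
    exact Subgroup.mem_subgroupOf.mpr hz
  · have h1 := sq_of_orderOf hc2
    have h2 : ((z * z : W) : Q) = 1 := h1
    rw [QuotientGroup.eq_one_iff] at h2
    exact Subgroup.mem_subgroupOf.mp h2
  · intro s hs
    have h1 := Subgroup.mem_center_iff.mp hc' ((⟨s, hs⟩ : W) : Q)
    have h2 : ((z⁻¹ * (⟨s, hs⟩ : W)⁻¹ * z * ⟨s, hs⟩ : W) : Q) = 1 := by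
      have h3 : ((z⁻¹ * (⟨s, hs⟩ : W)⁻¹ * z * ⟨s, hs⟩ : W) : Q) =
          (z : Q)⁻¹ * ((⟨s, hs⟩ : W) : Q)⁻¹ * ((z : Q) * ((⟨s, hs⟩ : W) : Q)) := by
        simp only [QuotientGroup.mk_mul, QuotientGroup.mk_inv, mul_assoc]
      rw [h3, ← h1]
      group
    rw [QuotientGroup.eq_one_iff] at h2
    exact Subgroup.mem_subgroupOf.mp h2

/-- an element `z` of `N` moving all members of `Δ`, with `z² ∈ V` -/
theorem exists_z (h : Std p K) (b : Beta K R E H q) (hD : Nat.card (Delta R (R ⊔ E)) = q) :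
    ∃ z ∈ normalizer ((R ⊔ E : Subgroup G) : Set G), z * z ∈ R ⊔ E ∧
      ∀ X ∈ Delta R (R ⊔ E), cj z X ≠ X := by
  obtain ⟨W, hW, hVW⟩ := exists_isSyl2 (normalizer ((R ⊔ E : Subgroup G) : Set G)) (R ⊔ E)
    Subgroup.le_normalizer (isPGroup_of_elem b.elemV)
  have hne : R ⊔ E ≠ W := by
    intro hVW'
    obtain ⟨X, hX, hXR⟩ := exists_ne_R h b
    obtain ⟨s, hs, hXs⟩ := trans_W h b hD hW hX
    apply hXR
    rw [hXs]
    rw [← hVW'] at hs
    exact V_fix b R_mem_delta hs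
  obtain ⟨z, hzW, hzV, hz2, hzc⟩ := exists_central hW.two hVW hne
    (fun w hw => forall_of_mem_normalizer (hW.le hw))
  refine ⟨z, hW.le hzW, hz2, fun X hX hfix => hzV ?_⟩
  have hkey : ∀ X ∈ Delta R (R ⊔ E), cj z X = X → cj z R = R := by
    intro X hX hfix
    obtain ⟨s, hs, rfl⟩ := trans_W h b hD hW hX
    -- `z s⁻¹ = s⁻¹ z v`
    have h1 : z⁻¹ * (s⁻¹)⁻¹ * z * s⁻¹ ∈ R ⊔ E := hzc _ (W.inv_mem hs)
    have e1 : z * (s⁻¹ * s) = s⁻¹ * z * (z⁻¹ * (s⁻¹)⁻¹ * z * s⁻¹) * s := by group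
    calc cj z R = cj (z * (s⁻¹ * s)) R := by rw [inv_mul_cancel, mul_one]
      _ = cj (s⁻¹ * z * (z⁻¹ * (s⁻¹)⁻¹ * z * s⁻¹) * s) R := by rw [e1]
      _ = cj s⁻¹ (cj z (cj (z⁻¹ * (s⁻¹)⁻¹ * z * s⁻¹) (cj s R))) := by
          rw [cj_mul, cj_mul, cj_mul]
      _ = cj s⁻¹ (cj z (cj s R)) := by rw [V_fix b hX h1]
      _ = R := by rw [hfix, cj_inv_cj]
  have hR := hkey X hX hfix
  refine ker h b (hW.le hzW) (mem_of_pow_two hW.two hzW) fun X' hX' => ?_
  obtain ⟨s, hs, rfl⟩ := trans_W h b hD hW hX'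
  have h1 : z⁻¹ * s⁻¹ * z * s ∈ R ⊔ E := hzc _ hs
  have e1 : z * s = s * z * (z⁻¹ * s⁻¹ * z * s) := by group
  calc cj z (cj s R) = cj (z * s) R := by rw [cj_mul]
    _ = cj (s * z * (z⁻¹ * s⁻¹ * z * s)) R := by rw [← e1]
    _ = cj s (cj z (cj (z⁻¹ * s⁻¹ * z * s) R)) := by rw [cj_mul, cj_mul]
    _ = cj s R := by rw [V_fix b R_mem_delta h1, hR]

/-- the elements of `V` outside the members of `Δ` -/
def Out (R V : Subgroup G) (x : G) : Prop := x ∈ V ∧ ¬ ∃ X ∈ Delta R V, x ∈ X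

omit [Finite G] in
theorem Out.ne_one {V : Subgroup G} {x : G} (hx : Out R V x) : x ≠ 1 := by
  rintro rfl
  exact hx.2 ⟨R, ⟨1, Subgroup.one_mem _, (cj_one R).symm⟩, R.one_mem⟩

omit [Finite G] in
theorem Out.conj {V : Subgroup G} {x : G} (hx : Out R V x) {n : G}
    (hn : n ∈ normalizer (V : Set G)) : Out R V (n * x * n⁻¹) := by
  refine ⟨forall_of_mem_normalizer hn x hx.1, ?_⟩
  rintro ⟨X, hX, hxX⟩
  refine hx.2 ⟨cj n⁻¹ X, cj_mem_delta hX (Subgroup.inv_mem _ hn), ?_⟩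
  rw [mem_cj, inv_inv]
  exact hxX

theorem card_out (h : Std p K) (b : Beta K R E H q) (hD : Nat.card (Delta R (R ⊔ E)) = q) :
    Nat.card {x : G // Out R (R ⊔ E) x} = q - 1 := by
  classical
  have hf : Fintype (Delta R (R ⊔ E)) := Fintype.ofFinite _
  have h1 := card_union (fun X : Delta R (R ⊔ E) => (X : Subgroup G))
    (fun X X' hne s hs hs' => by
      by_contra hs1
      exact hne (Subtype.ext (delta_ti h b X.2 X'.2 hs1 hs hs')))
  rw [Finset.sum_congr rfl (fun X _ => by rw [card_of_mem_delta X.2]), Finset.sum_const,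
    smul_eq_mul, Finset.card_univ, ← Nat.card_eq_fintype_card, hD] at h1
  have h2 := Nat.card_congr (Equiv.sumCompl
    (fun x : {x : (R ⊔ E : Subgroup G) // x ≠ 1} => ∃ X ∈ Delta R (R ⊔ E), (x : G) ∈ X))
  rw [Nat.card_sum, card_ne_one, b.card_V] at h2
  have h3 : Nat.card {x : {x : (R ⊔ E : Subgroup G) // x ≠ 1} //
      ∃ X ∈ Delta R (R ⊔ E), ((x : (R ⊔ E : Subgroup G)) : G) ∈ X} =
      Nat.card {x : G // x ≠ 1 ∧ ∃ X : Delta R (R ⊔ E), x ∈ (X : Subgroup G)} := Nat.card_congr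
    { toFun := fun x => ⟨((x : {x : (R ⊔ E : Subgroup G) // x ≠ 1}) : (R ⊔ E : Subgroup G)),
        fun hh => x.1.2 (Subtype.ext hh), by
          obtain ⟨X, hX, hx⟩ := x.2
          exact ⟨⟨X, hX⟩, hx⟩⟩
      invFun := fun x => ⟨⟨⟨x.1, by
          obtain ⟨X, hX⟩ := x.2.2
          exact le_of_mem_delta X.2 hX⟩, fun hh => x.2.1 (congrArg Subtype.val hh)⟩, by
          obtain ⟨X, hX⟩ := x.2.2
          exact ⟨X.1, X.2, hX⟩⟩
      left_inv := fun _ => rfl
      right_inv := fun _ => rfl }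
  have h4 : Nat.card {x : {x : (R ⊔ E : Subgroup G) // x ≠ 1} //
      ¬ ∃ X ∈ Delta R (R ⊔ E), ((x : (R ⊔ E : Subgroup G)) : G) ∈ X} =
      Nat.card {x : G // Out R (R ⊔ E) x} := Nat.card_congr
    { toFun := fun x => ⟨((x : {x : (R ⊔ E : Subgroup G) // x ≠ 1}) : (R ⊔ E : Subgroup G)),
        x.1.1.2, x.2⟩
      invFun := fun x => ⟨⟨⟨x.1, x.2.1⟩, fun hh =>
          x.2.ne_one (congrArg Subtype.val hh)⟩, x.2.2⟩
      left_inv := fun _ => rfl
      right_inv := fun _ => rfl }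
  rw [h3, h4, h1] at h2
  have h5 := card_R_two h b
  have h6 := b.l2.four
  set r := Nat.card R with hr
  obtain ⟨s, rfl⟩ : ∃ s, q = s + 1 := ⟨q - 1, by omega⟩
  obtain ⟨t, ht⟩ : ∃ t, r = t + 1 := ⟨r - 1, by omega⟩
  rw [ht] at h2
  simp only [Nat.add_sub_cancel] at h2 ⊢
  have h7 : (t + 1) * (s + 1) - 1 = (s + 1) * t + s := by
    have : (t + 1) * (s + 1) = (s + 1) * t + s + 1 := by ring
    omega
  omega

/-- `V - ⋃Δ` is one orbit of `H` -/
theorem out_orbit (h : Std p K) (b : Beta K R E H q) (hD : Nat.card (Delta R (R ⊔ E)) = q)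
    {c c' : G} (hc : Out R (R ⊔ E) c) (hc' : Out R (R ⊔ E) c') : ∃ x ∈ H, x * c * x⁻¹ = c' := by
  have hcR : c ∉ R := fun hh => hc.2 ⟨R, R_mem_delta, hh⟩
  have hinj : Function.Injective (fun x : H => (⟨(x : G) * c * (x : G)⁻¹,
      hc.conj (H_le_N b x.2)⟩ : {y : G // Out R (R ⊔ E) y})) := by
    intro x y hxy
    have h1 : (x : G) * c * (x : G)⁻¹ = (y : G) * c * (y : G)⁻¹ := congrArg Subtype.val hxy
    have h2 : ((y : G)⁻¹ * x) * c = c * ((y : G)⁻¹ * x) := by
      calc ((y : G)⁻¹ * x) * c = (y : G)⁻¹ * ((x : G) * c * (x : G)⁻¹) * x := by group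
        _ = (y : G)⁻¹ * ((y : G) * c * (y : G)⁻¹) * x := by rw [h1]
        _ = c * ((y : G)⁻¹ * x) := by group
    have h3 := H_comm b (H.mul_mem (H.inv_mem y.2) x.2) hc.1 hcR h2
    exact Subtype.ext (inv_mul_eq_one.mp h3).symm
  have hbij := hinj.bijective_of_nat_card_le (by rw [card_out h b hD, b.bor.cardH])
  obtain ⟨x, hx⟩ := hbij.2 ⟨c', hc'⟩
  exact ⟨x, x.2, congrArg Subtype.val hx⟩

/-- `V - ⋃Δ = r₀ (E - {1})` -/
theorem exists_r0 (h : Std p K) (b : Beta K R E H q) (hD : Nat.card (Delta R (R ⊔ E)) = q) :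
    ∃ r₀ ∈ R, ∀ x, Out R (R ⊔ E) x ↔ ∃ e ∈ E, e ≠ 1 ∧ x = r₀ * e := by
  have h4 := b.l2.four
  obtain ⟨⟨c, hc⟩⟩ : Nonempty {x : G // Out R (R ⊔ E) x} := by
    by_contra hne
    rw [not_nonempty_iff] at hne
    have h1 := card_out h b hD
    rw [Nat.card_eq_zero.mpr (Or.inl hne)] at h1
    omega
  obtain ⟨r₀, hr₀, e₀, he₀, hce⟩ := b.mem_V.mp hc.1
  have he₀1 : e₀ ≠ 1 := by
    rintro rfl
    rw [mul_one] at hce
    exact hc.2 ⟨R, R_mem_delta, by rw [hce]; exact hr₀⟩
  have hconj : ∀ x ∈ H, x * c * x⁻¹ = r₀ * (x * e₀ * x⁻¹) := by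
    intro x hx
    have h1 : x * r₀ = r₀ * x := comm_KY x (b.bor.leH hx) r₀ (b.sylR.le hr₀)
    calc x * c * x⁻¹ = (x * r₀) * e₀ * x⁻¹ := by rw [hce]; group
      _ = (r₀ * x) * e₀ * x⁻¹ := by rw [h1]
      _ = r₀ * (x * e₀ * x⁻¹) := by group
  refine ⟨r₀, hr₀, fun x => ⟨fun hx => ?_, ?_⟩⟩
  · obtain ⟨y, hy, hyx⟩ := out_orbit h b hD hc hx
    refine ⟨y * e₀ * y⁻¹, b.bor.norm y hy e₀ he₀, fun hh => he₀1 ?_, ?_⟩
    · have : e₀ = y⁻¹ * (y * e₀ * y⁻¹) * y := by group
      rw [this, hh]; group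
    · rw [← hyx, hconj y hy]
  · rintro ⟨e, he, he1, rfl⟩
    obtain ⟨y, hy, hye⟩ := H_trans_E b he₀ he₀1 he he1
    rw [← hye, ← hconj y hy]
    exact hc.conj (H_le_N b hy)

omit [Finite G] in
theorem inv_of_sq {x : G} (h : x * x = 1) : x⁻¹ = x := inv_eq_of_mul_eq_one_left h

/-- **(iv)** `V - ⋃Δ = E - {1}` -/
theorem out_iff (h : Std p K) (b : Beta K R E H q) (hD : Nat.card (Delta R (R ⊔ E)) = q)
    {x : G} : Out R (R ⊔ E) x ↔ x ∈ E ∧ x ≠ 1 := by
  obtain ⟨r₀, hr₀, hout⟩ := exists_r0 h b hD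
  suffices hr1 : r₀ = 1 by
    rw [hout, hr1]
    constructor
    · rintro ⟨e, he, he1, rfl⟩
      rw [one_mul]
      exact ⟨he, he1⟩
    · rintro ⟨he, he1⟩
      exact ⟨x, he, he1, (one_mul x).symm⟩
  by_contra hr1
  have h2R := card_R_two h b
  rcases Nat.lt_or_ge 2 (Nat.card R) with h3 | h3
  · -- `|R| ≥ 3`
    obtain ⟨z, hz, hz2, hmove⟩ := exists_z h b hD
    -- nonidentity elements of `C_V(z)` are outside
    have hCout : ∀ v ∈ R ⊔ E, v ≠ 1 → z * v * z⁻¹ = v → Out R (R ⊔ E) v := by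
      intro v hv hv1 hzv
      refine ⟨hv, ?_⟩
      rintro ⟨X, hX, hvX⟩
      refine hmove X hX ?_
      have h1 : v ∈ cj z X := by rw [← hzv]; exact conj_mem_cj hvX
      exact delta_ti h b (cj_mem_delta hX hz) hX hv1 h1 hvX
    have hfz : ∀ r ∈ R, r * (z * r * z⁻¹) ∈ R ⊔ E ∧
        z * (r * (z * r * z⁻¹)) * z⁻¹ = r * (z * r * z⁻¹) := by
      intro r hr
      have hrV : r ∈ R ⊔ E := mem_sup_left hr
      have h1 : z * r * z⁻¹ ∈ R ⊔ E := forall_of_mem_normalizer hz r hrV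
      refine ⟨Subgroup.mul_mem _ hrV h1, ?_⟩
      have h5 : (z * z) * r = r * (z * z) := b.elemV.comm hz2 hrV
      calc z * (r * (z * r * z⁻¹)) * z⁻¹ = (z * r * z⁻¹) * ((z * z) * r * (z * z)⁻¹) := by group
        _ = (z * r * z⁻¹) * r := by rw [h5, mul_inv_cancel_right]
        _ = r * (z * r * z⁻¹) := b.elemV.comm h1 hrV
    have hfz1 : ∀ r ∈ R, r ≠ 1 → r * (z * r * z⁻¹) ≠ 1 := by
      intro r hr hr1 hh
      have h5 : z * r * z⁻¹ = r := by
        have h6 := eq_inv_of_mul_eq_one_right hh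
        rw [h6, inv_of_sq (b.elemR r hr)]
      exact (hCout r (mem_sup_left hr) hr1 h5).2 ⟨R, R_mem_delta, hr⟩
    obtain ⟨r₁, hr₁, hr₁1, r₂, hr₂, hr₂1, h12⟩ : ∃ r₁ ∈ R, r₁ ≠ 1 ∧ ∃ r₂ ∈ R, r₂ ≠ 1 ∧
        r₁ ≠ r₂ := by
      by_contra hno
      push Not at hno
      have h5 : Nat.card {x : R // x ≠ 1} ≤ 1 := by
        rw [Finite.card_le_one_iff_subsingleton]
        constructor
        rintro ⟨⟨x, hx⟩, hx1⟩ ⟨⟨y, hy⟩, hy1⟩
        have := hno x hx (fun hh => hx1 (Subtype.ext hh)) y hy (fun hh => hy1 (Subtype.ext hh))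
        exact Subtype.ext (Subtype.ext this)
      rw [card_ne_one] at h5
      omega
    obtain ⟨hc1, hc1z⟩ := hfz r₁ hr₁
    obtain ⟨hc2, hc2z⟩ := hfz r₂ hr₂
    obtain ⟨e₁, he₁, he₁1, hce₁⟩ := (hout _).mp (hCout _ hc1 (hfz1 r₁ hr₁ hr₁1) hc1z)
    obtain ⟨e₂, he₂, he₂1, hce₂⟩ := (hout _).mp (hCout _ hc2 (hfz1 r₂ hr₂ hr₂1) hc2z)
    -- the product
    have hprod : r₁ * (z * r₁ * z⁻¹) * (r₂ * (z * r₂ * z⁻¹)) = e₁ * e₂ := by
      rw [hce₁, hce₂]
      calc r₀ * e₁ * (r₀ * e₂) = r₀ * (e₁ * r₀) * e₂ := by group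
        _ = r₀ * (r₀ * e₁) * e₂ := by rw [b.comm r₀ hr₀ e₁ he₁]
        _ = (r₀ * r₀) * (e₁ * e₂) := by group
        _ = e₁ * e₂ := by rw [b.elemR r₀ hr₀, one_mul]
    have hprod1 : r₁ * (z * r₁ * z⁻¹) * (r₂ * (z * r₂ * z⁻¹)) =
        (r₁ * r₂) * (z * (r₁ * r₂) * z⁻¹) := by
      have h5 : z * r₁ * z⁻¹ ∈ R ⊔ E := forall_of_mem_normalizer hz r₁ (mem_sup_left hr₁)
      have h6 : (z * r₁ * z⁻¹) * r₂ = r₂ * (z * r₁ * z⁻¹) :=
        b.elemV.comm h5 (mem_sup_left hr₂)
      calc r₁ * (z * r₁ * z⁻¹) * (r₂ * (z * r₂ * z⁻¹))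
          = r₁ * ((z * r₁ * z⁻¹) * r₂) * (z * r₂ * z⁻¹) := by group
        _ = r₁ * (r₂ * (z * r₁ * z⁻¹)) * (z * r₂ * z⁻¹) := by rw [h6]
        _ = (r₁ * r₂) * (z * (r₁ * r₂) * z⁻¹) := by group
    have hr12 : r₁ * r₂ ∈ R := R.mul_mem hr₁ hr₂
    have hr121 : r₁ * r₂ ≠ 1 := by
      intro hh
      apply h12
      rw [eq_inv_of_mul_eq_one_left hh, inv_of_sq (b.elemR r₂ hr₂)]
    obtain ⟨hc3, hc3z⟩ := hfz _ hr12
    obtain ⟨e₃, he₃, -, hce₃⟩ := (hout _).mp (hCout _ hc3 (hfz1 _ hr12 hr121) hc3z)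
    apply hr1
    refine b.inf hr₀ ?_
    have h7 : r₀ = (e₁ * e₂) * e₃⁻¹ := by
      rw [← hprod, hprod1, hce₃]; group
    rw [h7]
    exact E.mul_mem (E.mul_mem he₁ he₂) (E.inv_mem he₃)
  · -- `|R| = 2`
    have hR2 : Nat.card R = 2 := le_antisymm h3 h2R
    have h4 := b.l2.four
    have honly : ∀ r ∈ R, r ≠ 1 → r = r₀ := by
      intro r hr hr1'
      obtain ⟨u, hu, huu⟩ := (Nat.card_eq_two_iff' (1 : R)).mp hR2
      have h5 : (⟨r, hr⟩ : R) = u := huu _ (fun hh => hr1' (congrArg Subtype.val hh))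
      have h6 : (⟨r₀, hr₀⟩ : R) = u := huu _ (fun hh => hr1 (congrArg Subtype.val hh))
      exact congrArg Subtype.val (h5.trans h6.symm)
    obtain ⟨e₁, he₁, he₁1, e₂, he₂, he₂1, h12⟩ : ∃ e₁ ∈ E, e₁ ≠ 1 ∧ ∃ e₂ ∈ E, e₂ ≠ 1 ∧
        e₁ ≠ e₂ := by
      by_contra hno
      push Not at hno
      have h5 : Nat.card {x : E // x ≠ 1} ≤ 1 := by
        rw [Finite.card_le_one_iff_subsingleton]
        constructor
        rintro ⟨⟨x, hx⟩, hx1⟩ ⟨⟨y, hy⟩, hy1⟩
        have := hno x hx (fun hh => hx1 (Subtype.ext hh)) y hy (fun hh => hy1 (Subtype.ext hh))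
        exact Subtype.ext (Subtype.ext this)
      rw [card_ne_one, b.bor.cardE] at h5
      omega
    -- elements of `E` are not outside
    have hEin : ∀ e ∈ E, ∃ X ∈ Delta R (R ⊔ E), e ∈ X := by
      intro e he
      by_contra hno
      obtain ⟨e', he', -, hee'⟩ := (hout e).mp ⟨mem_sup_right he, hno⟩
      apply hr1
      refine b.inf hr₀ ?_
      have : r₀ = e * e'⁻¹ := by rw [hee']; group
      rw [this]
      exact E.mul_mem he (E.inv_mem he')
    obtain ⟨X₁, ⟨n, hn, rfl⟩, heX₁⟩ := hEin e₁ he₁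
    obtain ⟨X₂, hX₂, heX₂⟩ := hEin e₂ he₂
    obtain ⟨X₃, hX₃, heX₃⟩ := hEin _ (E.mul_mem he₁ he₂)
    have hn' := Subgroup.inv_mem _ hn
    have hin : ∀ (e : G) (X : Subgroup G), X ∈ Delta R (R ⊔ E) → e ∈ X →
        ∃ X' ∈ Delta R (R ⊔ E), n⁻¹ * e * n ∈ X' := by
      intro e X hX heX
      refine ⟨cj n⁻¹ X, cj_mem_delta hX hn', ?_⟩
      have := conj_mem_cj (g := n⁻¹) heX
      rwa [inv_inv] at this
    have h5 : n⁻¹ * e₁ * n = r₀ := by
      refine honly _ (mem_cj.mp heX₁) fun hh => he₁1 ?_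
      have : e₁ = n * (n⁻¹ * e₁ * n) * n⁻¹ := by group
      rw [this, hh]; group
    have h6 : n⁻¹ * e₂ * n ∈ R ⊔ E := by
      have := forall_of_mem_normalizer hn' e₂ (mem_sup_right he₂)
      rwa [inv_inv] at this
    obtain ⟨r, hr, e, he, hre⟩ := b.mem_V.mp h6
    have hr' : r = 1 := by
      by_contra hr1'
      have hrr := honly r hr hr1'
      rw [hrr] at hre
      by_cases he1 : e = 1
      · rw [he1, mul_one] at hre
        apply h12
        have h7 : e₁ = n * (n⁻¹ * e₁ * n) * n⁻¹ := by group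
        have h8 : e₂ = n * (n⁻¹ * e₂ * n) * n⁻¹ := by group
        rw [h7, h8, h5, hre]
      · have h7 := (hout _).mpr ⟨e, he, he1, hre⟩
        exact h7.2 (hin e₂ X₂ hX₂ heX₂)
    rw [hr', one_mul] at hre
    have he1 : e ≠ 1 := by
      intro he1
      apply he₂1
      have h8 : e₂ = n * (n⁻¹ * e₂ * n) * n⁻¹ := by group
      rw [h8, hre, he1]; group
    have h7 : n⁻¹ * (e₁ * e₂) * n = r₀ * e := by
      rw [← h5, ← hre]; group
    have h8 := (hout _).mpr ⟨e, he, he1, h7⟩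
    exact h8.2 (hin _ X₃ hX₃ heX₃)

/-- `N_G(V) ≤ N_G(E)` -/
theorem N_le (h : Std p K) (b : Beta K R E H q) (hD : Nat.card (Delta R (R ⊔ E)) = q) :
    normalizer ((R ⊔ E : Subgroup G) : Set G) ≤ normalizer (E : Set G) := by
  intro n hn
  refine mem_normalizer_of_forall fun e he => ?_
  by_cases he1 : e = 1
  · rw [he1, mul_one, mul_inv_cancel]; exact E.one_mem
  · exact ((out_iff h b hD).mp (((out_iff h b hD).mpr ⟨he, he1⟩).conj hn)).1

theorem inf_E (h : Std p K) (b : Beta K R E H q) (hD : Nat.card (Delta R (R ⊔ E)) = q)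
    {X : Subgroup G} (hX : X ∈ Delta R (R ⊔ E)) {e : G} (he : e ∈ E) (heX : e ∈ X) : e = 1 := by
  by_contra he1
  exact ((out_iff h b hD).mpr ⟨he, he1⟩).2 ⟨X, hX, heX⟩

/-- `N_Y(R)` fixes all members of `Δ` -/
theorem Y_fix (h : Std p K) (b : Beta K R E H q) (hD : Nat.card (Delta R (R ⊔ E)) = q) {y : G}
    (hy : y ∈ centralizer (K : Set G)) (hyR : y ∈ normalizer (R : Set G)) :
    y ∈ normalizer ((R ⊔ E : Subgroup G) : Set G) ∧ ∀ X ∈ Delta R (R ⊔ E), cj y X = X := by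
  have hyM : y ∈ normalizer (K : Set G) := centralizer_le_normalizer _ hy
  have hyN : y ∈ normalizer ((R ⊔ E : Subgroup G) : Set G) := by
    refine mem_normalizer_of_forall fun v hv => ?_
    obtain ⟨r, hr, e, he, rfl⟩ := b.mem_V.mp hv
    have h1 : e * y = y * e := comm_KY e (b.sylE.le he) y hy
    have e1 : y * (r * e) * y⁻¹ = (y * r * y⁻¹) * e := by
      calc y * (r * e) * y⁻¹ = y * r * y⁻¹ * ((y * e) * y⁻¹) := by group
        _ = y * r * y⁻¹ * ((e * y) * y⁻¹) := by rw [h1]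
        _ = (y * r * y⁻¹) * e := by group
    rw [e1]
    exact Subgroup.mul_mem _ (mem_sup_left (forall_of_mem_normalizer hyR r hr)) (mem_sup_right he)
  refine ⟨hyN, fun X hX => ?_⟩
  by_cases hXR : X = R
  · rw [hXR]; exact cj_eq_iff.mpr hyR
  obtain ⟨x, hx, hxX⟩ := H_trans h b hD hX hXR (cj_mem_delta hX hyN) (cj_ne_R b hXR hyN hyM)
  have hxy : x * y = y * x := comm_KY x (b.bor.leH hx) y hy
  have hpow : ∀ k : ℕ, cj (y ^ k) X = cj (x ^ k) X := by
    intro k
    induction k with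
    | zero => rw [pow_zero, pow_zero]
    | succ k ih =>
      have h1 : y * x ^ k = x ^ k * y := ((show Commute x y from hxy).pow_left k).symm
      rw [pow_succ', cj_mul, ih, ← cj_mul, h1, cj_mul, ← hxX, ← cj_mul, ← pow_succ]
  have h1 := hpow (Nat.card (centralizer (K : Set G)))
  have h2 : y ^ Nat.card (centralizer (K : Set G)) = 1 := by
    have := pow_card_eq_one' (x := (⟨y, hy⟩ : centralizer (K : Set G)))
    exact congrArg Subtype.val this
  rw [h2, cj_one] at h1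
  have h3 := H_free h b hX hXR (H.pow_mem hx _) h1.symm
  have hx1 : x = 1 := by
    by_contra hx1
    obtain ⟨r, hr, hrx⟩ := Nat.exists_prime_and_dvd (fun hh => hx1 (orderOf_eq_one_iff.mp hh))
    have h4 : r ∣ Nat.card (centralizer (K : Set G)) := hrx.trans (orderOf_dvd_of_pow_eq_one h3)
    have h5 : r ∣ Nat.card K := hrx.trans (K.orderOf_dvd_natCard (b.bor.leH hx))
    have h6 : r ∣ q - 1 := by
      rw [← b.bor.cardH]; exact hrx.trans (H.orderOf_dvd_natCard hx)
    have h7 : r ≠ 2 := by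
      rintro rfl
      exact (Nat.not_even_iff_odd.mpr (odd_card_H b.l2)) (even_iff_two_dvd.mpr h6)
    exact h.not_dvd hr h7 h5 h4
  rw [← hxX, hx1, cj_one]

/-- **(iii)** `N_Y(R) = C_Y(R)` -/
theorem centR (h : Std p K) (b : Beta K R E H q) (hD : Nat.card (Delta R (R ⊔ E)) = q) {y : G}
    (hy : y ∈ centralizer (K : Set G)) (hyR : y ∈ normalizer (R : Set G)) {r : G} (hr : r ∈ R) :
    y * r = r * y := by
  obtain ⟨hyN, hfix⟩ := Y_fix h b hD hy hyR
  obtain ⟨X, hX, hXR⟩ := exists_ne_R h b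
  -- the projection `X → R` is surjective
  have hex : ∀ v : X, ∃ r : R, ∃ e ∈ E, (v : G) = r * e := by
    intro v
    obtain ⟨r, hr, e, he, hre⟩ := b.mem_V.mp (le_of_mem_delta hX v.2)
    exact ⟨⟨r, hr⟩, e, he, hre⟩
  choose f e he hf using hex
  have hinj : Function.Injective f := by
    intro v v' hvv
    have h1 : (v : G)⁻¹ * v' = (e v)⁻¹ * e v' := by
      rw [hf v, hf v', hvv]; group
    have h2 := inf_E h b hD hX (e := (v : G)⁻¹ * v')
      (by rw [h1]; exact E.mul_mem (E.inv_mem (he v)) (he v')) (X.mul_mem (X.inv_mem v.2) v'.2)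
    exact Subtype.ext (inv_mul_eq_one.mp h2)
  have hbij := hinj.bijective_of_nat_card_le (by rw [card_of_mem_delta hX])
  obtain ⟨v, hv⟩ := hbij.2 ⟨r, hr⟩
  have hve : (v : G) = r * e v := by
    have := hf v
    rw [hv] at this
    exact this
  have h1 : y * (v : G) * y⁻¹ ∈ X := by
    have h2 : y * (v : G) * y⁻¹ ∈ cj y X := conj_mem_cj v.2
    rwa [hfix X hX] at h2
  have h2 : y * (v : G) * y⁻¹ * (v : G)⁻¹ = y * r * y⁻¹ * r⁻¹ := by
    have h3 : e v * y = y * e v := comm_KY _ (b.sylE.le (he v)) y hy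
    rw [hve]
    calc y * (r * e v) * y⁻¹ * (r * e v)⁻¹ = y * r * y⁻¹ * ((y * e v) * y⁻¹ * (e v)⁻¹) * r⁻¹ := by
          group
      _ = y * r * y⁻¹ * ((e v * y) * y⁻¹ * (e v)⁻¹) * r⁻¹ := by rw [h3]
      _ = y * r * y⁻¹ * r⁻¹ := by group
  have h3 : y * r * y⁻¹ * r⁻¹ ∈ X := by
    rw [← h2]; exact X.mul_mem h1 (X.inv_mem v.2)
  have h4 : y * r * y⁻¹ * r⁻¹ ∈ R :=
    R.mul_mem (forall_of_mem_normalizer hyR r hr) (R.inv_mem hr)
  have h5 : y * r * y⁻¹ * r⁻¹ = 1 := by
    by_contra hne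
    exact hXR (delta_ti h b hX R_mem_delta hne h3 h4)
  exact mul_inv_eq_iff_eq_mul.mp (mul_inv_eq_one.mp h5)

/-- The results of A4 (i)-(iv). -/
structure Four (K R E H : Subgroup G) (q : ℕ) : Prop where
  beta : Beta K R E H q
  ex : ∃ n ∈ normalizer ((R ⊔ E : Subgroup G) : Set G), n ∉ normalizer (K : Set G)
  card : Nat.card (Delta R (R ⊔ E)) = q
  /-- `V - ⋃Δ = E - {1}` -/
  mem_iff : ∀ v ∈ R ⊔ E, (∃ n ∈ normalizer ((R ⊔ E : Subgroup G) : Set G), v ∈ cj n R) ↔
    (v = 1 ∨ v ∉ E)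
  N_le : normalizer ((R ⊔ E : Subgroup G) : Set G) ≤ normalizer (E : Set G)
  /-- `N_Y(R) = C_Y(R)` -/
  centR : ∀ y ∈ centralizer (K : Set G), y ∈ normalizer (R : Set G) → ∀ r ∈ R, y * r = r * y
  ker : ∀ z ∈ normalizer ((R ⊔ E : Subgroup G) : Set G), (∃ n : ℕ, z ^ 2 ^ n = 1) →
    (∀ n ∈ normalizer ((R ⊔ E : Subgroup G) : Set G), cj z (cj n R) = cj n R) → z ∈ R ⊔ E
  /-- a Sylow 2-subgroup of `N` is transitive on `Δ` -/
  trans : ∀ W : Subgroup G, IsSyl2 (normalizer ((R ⊔ E : Subgroup G) : Set G)) W →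
    ∀ n ∈ normalizer ((R ⊔ E : Subgroup G) : Set G), ∃ s ∈ W, cj n R = cj s R

/-- **A4 (i)-(iv)** -/
theorem four (h : Std p K) (b : Beta K R E H q) (hD : Nat.card (Delta R (R ⊔ E)) = q) :
    Four K R E H q := by
  refine ⟨b, exists_n h b, hD, fun v hv => ?_, N_le h b hD, fun y hy hyR r hr =>
    centR h b hD hy hyR hr, fun z hz h2 hfix => ker h b hz h2 ?_, fun W hW n hn =>
    trans_W h b hD hW ⟨n, hn, rfl⟩⟩
  · constructor
    · rintro ⟨n, hn, hvn⟩
      by_contra hcon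
      push Not at hcon
      exact ((out_iff h b hD).mpr ⟨hcon.2, hcon.1⟩).2 ⟨cj n R, ⟨n, hn, rfl⟩, hvn⟩
    · intro hor
      by_contra hno
      have hout : Out R (R ⊔ E) v := by
        refine ⟨hv, ?_⟩
        rintro ⟨X, ⟨n, hn, rfl⟩, hvX⟩
        exact hno ⟨n, hn, hvX⟩
      have h1 := (out_iff h b hD).mp hout
      rcases hor with h2 | h2
      · exact h1.2 h2
      · exact h2 h1.1
  · rintro X ⟨n, hn, rfl⟩
    exact hfix n hn

end Cfsg.Agent.OddCyclic.A4EInv
end
end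

-- part: OddCyclic/CaseASix
section
prune_inst 0x2020120001001200000000020000012000000000000080009121030202065000000208014800080358200000000400081200001000000000000000000a0001208020d0041200010406000f803001500000000000000000000000000000041000000000000
set_option linter.all false
open scoped Cfsg.Agent.FastGrp

-- part: OddCyclic/CaseAFour
section
/-!
# S0342, component type, case A: `V = R × E`, A4 (i)

`V = R × E`, `N = N_G(V)`, `Δ = {Rⁿ : n ∈ N}`.
-/

set_option autoImplicit false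

namespace Cfsg.Agent.OddCyclic.CaseAFour

open Subgroup
open Cfsg.Agent.LieExceptional Cfsg.Agent.LieExceptional.CITDefs
open Cfsg.Agent.LieExceptional.CITBasic
open Cfsg.Agent.OddCyclic.T1Tools
open Cfsg.Agent.OddCyclic.CompBasic Cfsg.Agent.OddCyclic.CompStandard
open Cfsg.Agent.OddCyclic.CaseADefs Cfsg.Agent.OddCyclic.CaseABase
open Cfsg.Agent.OddCyclic.CaseACount

variable {G : Type*} [Group G] {p : ℕ} {K R E H : Subgroup G} {q : ℕ}

/-- the conjugates of `R` under `N_G(V)` -/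
def Delta (R V : Subgroup G) : Set (Subgroup G) :=
  {X | ∃ n ∈ normalizer (V : Set G), X = cj n R}

section

theorem _root_.Cfsg.Agent.OddCyclic.CaseADefs.Beta.comm (b : Beta K R E H q) :
    ∀ r ∈ R, ∀ e ∈ E, r * e = e * r :=
  fun r hr e he => (comm_KY e (b.sylE.le he) r (b.sylR.le hr)).symm

theorem _root_.Cfsg.Agent.OddCyclic.CaseADefs.Beta.mem_V (b : Beta K R E H q) {v : G} :
    v ∈ R ⊔ E ↔ ∃ r ∈ R, ∃ e ∈ E, v = r * e := mem_sup_comm b.comm

theorem _root_.Cfsg.Agent.OddCyclic.CaseADefs.Beta.inf (b : Beta K R E H q) {x : G} (hR : x ∈ R) (hE : x ∈ E) :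
    x = 1 := by
  have h1 : x ∈ K ⊓ centralizer (K : Set G) := ⟨b.sylE.le hE, b.sylR.le hR⟩
  rwa [b.l2.inf, mem_bot] at h1

theorem _root_.Cfsg.Agent.OddCyclic.CaseADefs.Beta.elemV (b : Beta K R E H q) : Elem (R ⊔ E : Subgroup G) := by
  intro v hv
  obtain ⟨r, hr, e, he, rfl⟩ := b.mem_V.mp hv
  calc r * e * (r * e) = r * (e * r) * e := by group
    _ = r * (r * e) * e := by rw [b.comm r hr e he]
    _ = (r * r) * (e * e) := by group
    _ = 1 := by rw [b.elemR r hr, b.bor.elem e he, one_mul]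

theorem _root_.Cfsg.Agent.OddCyclic.CaseADefs.Beta.mem_R (b : Beta K R E H q) {v : G} (hv : v ∈ R ⊔ E)
    (hY : v ∈ centralizer (K : Set G)) : v ∈ R := by
  obtain ⟨r, hr, e, he, rfl⟩ := b.mem_V.mp hv
  have h1 : e ∈ centralizer (K : Set G) := by
    have h2 := Subgroup.mul_mem _ (Subgroup.inv_mem _ (b.sylR.le hr)) hY
    rwa [inv_mul_cancel_left] at h2
  have h2 : e ∈ K ⊓ centralizer (K : Set G) := ⟨b.sylE.le he, h1⟩
  rw [b.l2.inf, mem_bot] at h2
  rw [h2, mul_one]; exact hr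

theorem _root_.Cfsg.Agent.OddCyclic.CaseADefs.Beta.mem_E (b : Beta K R E H q) {v : G} (hv : v ∈ R ⊔ E)
    (hK : v ∈ K) : v ∈ E := by
  obtain ⟨r, hr, e, he, rfl⟩ := b.mem_V.mp hv
  have h1 : r ∈ K := by
    have h2 := Subgroup.mul_mem _ hK (Subgroup.inv_mem _ (b.sylE.le he))
    rwa [mul_inv_cancel_right] at h2
  have h2 : r ∈ K ⊓ centralizer (K : Set G) := ⟨h1, b.sylR.le hr⟩
  rw [b.l2.inf, mem_bot] at h2
  rw [h2, one_mul]; exact he

theorem _root_.Cfsg.Agent.OddCyclic.CaseADefs.Beta.V_le (b : Beta K R E H q) :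
    R ⊔ E ≤ normalizer (K : Set G) :=
  sup_le (b.sylR.le.trans (centralizer_le_normalizer _))
    (b.sylE.le.trans Subgroup.le_normalizer)

theorem _root_.Cfsg.Agent.OddCyclic.CaseADefs.Beta.H_le (b : Beta K R E H q) : ∀ h ∈ H, ∀ v ∈ R ⊔ E, h * v * h⁻¹ ∈ R ⊔ E := by
  intro h hh v hv
  obtain ⟨r, hr, e, he, rfl⟩ := b.mem_V.mp hv
  have h1 : h * r = r * h := comm_KY h (b.bor.leH hh) r (b.sylR.le hr)
  have e1 : h * (r * e) * h⁻¹ = r * (h * e * h⁻¹) := by
    calc h * (r * e) * h⁻¹ = (h * r) * e * h⁻¹ := by group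
      _ = (r * h) * e * h⁻¹ := by rw [h1]
      _ = r * (h * e * h⁻¹) := by group
  rw [e1]
  exact Subgroup.mul_mem _ (mem_sup_left hr) (mem_sup_right (b.bor.norm h hh e he))

variable [Finite G]

theorem _root_.Cfsg.Agent.OddCyclic.CaseADefs.Beta.card_V (b : Beta K R E H q) :
    Nat.card (R ⊔ E : Subgroup G) = Nat.card R * q := by
  rw [card_sup_comm b.comm, b.bor.cardE]
  rw [eq_bot_iff]
  exact fun x hx => b.inf hx.1 hx.2

theorem H_le_N (b : Beta K R E H q) : H ≤ normalizer ((R ⊔ E : Subgroup G) : Set G) :=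
  fun _ hh => mem_normalizer_of_forall (b.H_le _ hh)

theorem card_R_two (h : Std p K) (b : Beta K R E H q) : 2 ≤ Nat.card R := by
  have h1 : Nat.card R ≠ 1 := fun hh => sylR_ne_bot h b.sylR (Subgroup.card_eq_one.mp hh)
  have h2 : 0 < Nat.card R := Nat.card_pos
  omega

/-- `N ∩ M` normalizes `R` -/
theorem cj_R (b : Beta K R E H q) {n : G} (hn : n ∈ normalizer ((R ⊔ E : Subgroup G) : Set G))
    (hM : n ∈ normalizer (K : Set G)) : cj n R = R := by
  rw [cj_eq_iff]
  exact mem_normalizer_of_forall fun x hx => b.mem_R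
    (forall_of_mem_normalizer hn x (mem_sup_left hx)) (normal_cent K n hM x (b.sylR.le hx))

/-- `N ∩ M` normalizes `E` -/
theorem cj_E (b : Beta K R E H q) {n : G} (hn : n ∈ normalizer ((R ⊔ E : Subgroup G) : Set G))
    (hM : n ∈ normalizer (K : Set G)) : cj n E = E := by
  rw [cj_eq_iff]
  exact mem_normalizer_of_forall fun x hx => b.mem_E
    (forall_of_mem_normalizer hn x (mem_sup_right hx)) (forall_of_mem_normalizer hM x
      (b.sylE.le hx))

theorem cj_eq_cj_iff (h : Std p K) (b : Beta K R E H q) {n n' : G}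
    (hn : n ∈ normalizer ((R ⊔ E : Subgroup G) : Set G))
    (hn' : n' ∈ normalizer ((R ⊔ E : Subgroup G) : Set G)) :
    cj n R = cj n' R ↔ n⁻¹ * n' ∈ normalizer (K : Set G) := by
  constructor
  · intro heq
    obtain ⟨t, htR, ht2⟩ := exists_involution_of_ne_bot b.sylR.two (sylR_ne_bot h b.sylR)
    have h1 : n * t * n⁻¹ ∈ cj n R := conj_mem_cj htR
    have h2 : n * t * n⁻¹ ∈ cj n' R := by rw [← heq]; exact h1
    exact mem_of_cj h (by rw [orderOf_conj, ht2]) (cj_mono b.sylR.le h1) (cj_mono b.sylR.le h2)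
  · intro hM
    have h1 := cj_R b (Subgroup.mul_mem _ (Subgroup.inv_mem _ hn) hn') hM
    calc cj n R = cj n (cj (n⁻¹ * n') R) := by rw [h1]
      _ = cj n' R := by rw [← cj_mul, mul_inv_cancel_left]

theorem cj_eq_R_iff (h : Std p K) (b : Beta K R E H q) {n : G}
    (hn : n ∈ normalizer ((R ⊔ E : Subgroup G) : Set G)) :
    cj n R = R ↔ n ∈ normalizer (K : Set G) := by
  have h1 := cj_eq_cj_iff h b (Subgroup.one_mem _) hn
  rw [cj_one, inv_one, one_mul] at h1
  rw [← h1]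
  exact eq_comm

/-- `Δ` is a TI-set -/
theorem delta_ti (h : Std p K) (b : Beta K R E H q) {X X' : Subgroup G}
    (hX : X ∈ Delta R (R ⊔ E)) (hX' : X' ∈ Delta R (R ⊔ E)) {s : G} (hs : s ≠ 1) (h1 : s ∈ X)
    (h2 : s ∈ X') : X = X' := by
  obtain ⟨n, hn, rfl⟩ := hX
  obtain ⟨n', hn', rfl⟩ := hX'
  have ho : orderOf s = 2 := orderOf_eq_two hs (elem_cj b.elemR s h1)
  rw [cj_eq_cj_iff h b hn hn']
  exact mem_of_cj h ho (cj_mono b.sylR.le h1) (cj_mono b.sylR.le h2)

omit [Finite G] in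
theorem R_mem_delta : R ∈ Delta R (R ⊔ E) := ⟨1, Subgroup.one_mem _, (cj_one R).symm⟩

omit [Finite G] in
theorem cj_mem_delta {X : Subgroup G} {V : Subgroup G} (hX : X ∈ Delta R V) {n : G}
    (hn : n ∈ normalizer (V : Set G)) : cj n X ∈ Delta R V := by
  obtain ⟨m, hm, rfl⟩ := hX
  exact ⟨n * m, Subgroup.mul_mem _ hn hm, (cj_mul _ _ _).symm⟩

omit [Finite G] in
theorem le_of_mem_delta {X : Subgroup G} (hX : X ∈ Delta R (R ⊔ E)) : X ≤ R ⊔ E := by
  obtain ⟨m, hm, rfl⟩ := hX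
  rintro _ ⟨x, hx, rfl⟩
  exact forall_of_mem_normalizer hm x (mem_sup_left hx)

omit [Finite G] in
theorem card_of_mem_delta {X V : Subgroup G} (hX : X ∈ Delta R V) : Nat.card X = Nat.card R := by
  obtain ⟨m, -, rfl⟩ := hX
  exact card_cj m R

/-! ### uniqueness of `V` -/

omit [Finite G] in
theorem S_inf_Y (b : Beta K R E H q) {S : Subgroup G} (hS : IsSyl2 (normalizer (K : Set G)) S)
    (hR : R ≤ S) : S ⊓ centralizer (K : Set G) = R :=
  b.sylR.max _ inf_le_right (hS.two.to_le inf_le_left) (le_inf hR b.sylR.le)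

omit [Finite G] in
theorem S_inf_K (b : Beta K R E H q) {S : Subgroup G} (hS : IsSyl2 (normalizer (K : Set G)) S)
    (hE : E ≤ S) : S ⊓ K = E :=
  b.sylE.max _ inf_le_right (hS.two.to_le inf_le_left) (le_inf hE b.sylE.le)

omit [Finite G] in
theorem S_norm_E (b : Beta K R E H q) {S : Subgroup G} (hS : IsSyl2 (normalizer (K : Set G)) S)
    (hE : E ≤ S) : ∀ s ∈ S, ∀ e ∈ E, s * e * s⁻¹ ∈ E := by
  intro s hs e he
  rw [← S_inf_K b hS hE]
  exact Subgroup.mem_inf.mpr ⟨Subgroup.mul_mem _ (Subgroup.mul_mem _ hs (hE he))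
    (Subgroup.inv_mem _ hs), forall_of_mem_normalizer (hS.le hs) e (b.sylE.le he)⟩

omit [Finite G] in
theorem S_norm_R (b : Beta K R E H q) {S : Subgroup G} (hS : IsSyl2 (normalizer (K : Set G)) S)
    (hR : R ≤ S) : ∀ s ∈ S, ∀ e ∈ R, s * e * s⁻¹ ∈ R := by
  intro s hs e he
  rw [← S_inf_Y b hS hR]
  exact Subgroup.mem_inf.mpr ⟨Subgroup.mul_mem _ (Subgroup.mul_mem _ hs (hR he))
    (Subgroup.inv_mem _ hs), normal_cent K s (hS.le hs) e (b.sylR.le he)⟩

/-- `S ≤ N` -/
theorem S_le_N (b : Beta K R E H q) {S : Subgroup G} (hS : IsSyl2 (normalizer (K : Set G)) S)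
    (hV : R ⊔ E ≤ S) : S ≤ normalizer ((R ⊔ E : Subgroup G) : Set G) := by
  intro s hs
  refine mem_normalizer_of_forall fun v hv => ?_
  obtain ⟨r, hr, e, he, rfl⟩ := b.mem_V.mp hv
  have e1 : s * (r * e) * s⁻¹ = (s * r * s⁻¹) * (s * e * s⁻¹) := by group
  rw [e1]
  exact Subgroup.mul_mem _ (mem_sup_left (S_norm_R b hS (le_sup_left.trans hV) s hs r hr))
    (mem_sup_right (S_norm_E b hS (le_sup_right.trans hV) s hs e he))

/-- `S ∩ YK = R × E` -/
theorem S_inf_KY (b : Beta K R E H q) {S : Subgroup G} (hS : IsSyl2 (normalizer (K : Set G)) S)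
    (hV : R ⊔ E ≤ S) {x : G} (hx : x ∈ S) (hxKY : x ∈ K ⊔ centralizer (K : Set G)) :
    x ∈ R ⊔ E := by
  obtain ⟨k, hk, y, hy, hxk⟩ := mem_KY.mp hxKY
  obtain ⟨n, hn⟩ := mem_of_pow_two hS.two hx
  have hn' : (k * y) ^ 2 ^ n = 1 := by rw [← hxk]; exact hn
  obtain ⟨hk2, -⟩ := pow_eq_one_KY b.l2.inf hk hy hn'
  have hkE : k ∈ E := by
    refine mem_isSyl2 b.sylE hk ⟨n, hk2⟩ fun e he => ?_
    have h3 := S_norm_E b hS (le_sup_right.trans hV) x hx e he
    have h4 : y * e = e * y := (comm_KY e (b.sylE.le he) y hy).symm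
    have e1 : x * e * x⁻¹ = k * e * k⁻¹ := by
      rw [hxk]
      calc k * y * e * (k * y)⁻¹ = k * (y * e) * y⁻¹ * k⁻¹ := by group
        _ = k * (e * y) * y⁻¹ * k⁻¹ := by rw [h4]
        _ = k * e * k⁻¹ := by group
    rwa [e1] at h3
  have hyR : y ∈ R := by
    rw [← S_inf_Y b hS (le_sup_left.trans hV)]
    refine ⟨?_, hy⟩
    have e1 : y = k⁻¹ * x := by rw [hxk]; group
    rw [e1]
    exact S.mul_mem (S.inv_mem (hV (mem_sup_right hkE))) hx
  rw [hxk]
  exact Subgroup.mul_mem _ (mem_sup_right hkE) (mem_sup_left hyR)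

/-- **(U)** `V` is the only elementary abelian subgroup of its order in `S`. -/
theorem unique_V (b : Beta K R E H q) {S D : Subgroup G}
    (hS : IsSyl2 (normalizer (K : Set G)) S) (hV : R ⊔ E ≤ S) (hDS : D ≤ S) (hD : Elem D)
    (hc : Nat.card R * q ≤ Nat.card D) : D = R ⊔ E := by
  by_cases hDV : D ≤ R ⊔ E
  · exact Subgroup.eq_of_le_of_card_ge hDV (by rw [b.card_V]; exact hc)
  exfalso
  obtain ⟨x, hxD, hxV⟩ := SetLike.not_le_iff_exists.mp hDV
  have hxS := hDS hxD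
  have hxM := hS.le hxS
  have hxKY : x ∉ K ⊔ centralizer (K : Set G) := fun hh => hxV (S_inf_KY b hS hV hxS hh)
  have h2x : ∃ n : ℕ, x ^ 2 ^ n = 1 := mem_of_pow_two hS.two hxS
  have hq : 16 ≤ q := by
    rcases b.big with h1 | h1
    · exact h1
    · exact absurd (h1 x hxM h2x) hxKY
  have hfield : Nat.card (E ⊓ centralizer ({x} : Set G) : Subgroup G) ^ 2 ≤ q := by
    rcases b.l2.field E b.sylE x hxM (S_norm_E b hS (le_sup_right.trans hV) x hxS) h2x with
      h1 | h1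
    · exfalso
      obtain ⟨y, hy, e, he, hxe⟩ := h1
      apply hxKY
      rw [hxe]
      exact Subgroup.mul_mem _ (mem_sup_right hy) (mem_sup_left (b.sylE.le he))
    · exact h1
  -- `|D| ≤ 2 |D ∩ V|`
  have hDV2 : Nat.card D ≤ 2 * Nat.card (D ⊓ (R ⊔ E) : Subgroup G) := by
    classical
    have hstep : ∀ y ∈ D, y ∈ R ⊔ E ∨ x * y ∈ R ⊔ E := by
      intro y hy
      have hone : ∀ z ∈ D, z * z ∈ K ⊔ centralizer (K : Set G) := fun z hz => by
        rw [hD z hz]; exact Subgroup.one_mem _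
      rcases b.l2.out x hxM y (hS.le (hDS hy)) (hone x hxD) (hone y hy) with h1 | h1 | h1
      · exact absurd h1 hxKY
      · exact Or.inl (S_inf_KY b hS hV (hDS hy) h1)
      · exact Or.inr (S_inf_KY b hS hV (S.mul_mem hxS (hDS hy)) h1)
    have h1 : Nat.card D ≤ Nat.card (Bool × (D ⊓ (R ⊔ E) : Subgroup G)) := by
      have hex : ∀ y : D, ∃ z : Bool × (D ⊓ (R ⊔ E) : Subgroup G),
          (y : G) = (if z.1 then x⁻¹ else 1) * (z.2 : G) := by
        rintro ⟨y, hy⟩
        rcases hstep y hy with h1 | h1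
        · exact ⟨(false, ⟨y, hy, h1⟩), by simp⟩
        · exact ⟨(true, ⟨x * y, D.mul_mem hxD hy, h1⟩), by simp⟩
      choose f hf using hex
      refine Nat.card_le_card_of_injective f ?_
      intro y y' hyy
      apply Subtype.ext
      rw [hf y, hf y', hyy]
    rw [Nat.card_prod, Nat.card_eq_fintype_card (α := Bool), Fintype.card_bool] at h1
    exact h1
  -- `D ∩ V ≤ C_V(x)`
  set CV : Subgroup G := (R ⊔ E) ⊓ centralizer ({x} : Set G) with hCV
  have h3 : Nat.card (D ⊓ (R ⊔ E) : Subgroup G) ≤ Nat.card CV := by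
    refine Subgroup.card_le_of_le ?_
    intro d hd
    exact ⟨hd.2, mem_centralizer_singleton_iff.mpr (hD.comm hd.1 hxD)⟩
  -- `|C_V(x)| ≤ |R| |C_E(x)|`
  have h4 : Nat.card CV ≤ Nat.card R * Nat.card (E ⊓ CV : Subgroup G) := by
    refine card_le_inf (A := E) (B := CV) (X := R ⊔ E) le_sup_right inf_le_left ?_
    rw [b.card_V, b.bor.cardE]
  have h5 : Nat.card (E ⊓ CV : Subgroup G) ≤
      Nat.card (E ⊓ centralizer ({x} : Set G) : Subgroup G) :=
    Subgroup.card_le_of_le (fun y hy => ⟨hy.1, hy.2.2⟩)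
  set c := Nat.card (E ⊓ centralizer ({x} : Set G) : Subgroup G) with hcdef
  have hRpos : 0 < Nat.card R := Nat.card_pos
  have h6 : Nat.card R * q ≤ Nat.card R * (2 * c) := by
    calc Nat.card R * q ≤ Nat.card D := hc
      _ ≤ 2 * Nat.card (D ⊓ (R ⊔ E) : Subgroup G) := hDV2
      _ ≤ 2 * (Nat.card R * c) :=
          Nat.mul_le_mul_left _ (h3.trans (h4.trans (Nat.mul_le_mul_left _ h5)))
      _ = Nat.card R * (2 * c) := by ring
  have h7 : q ≤ 2 * c := Nat.le_of_mul_le_mul_left h6 hRpos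
  nlinarith only [hq, hfield, h7]

/-- **(i)** -/
theorem exists_n (h : Std p K) (b : Beta K R E H q) :
    ∃ n ∈ normalizer ((R ⊔ E : Subgroup G) : Set G), n ∉ normalizer (K : Set G) := by
  obtain ⟨g, hg, hgR⟩ := b.ex
  obtain ⟨S, hS, hVS⟩ := exists_isSyl2 (normalizer (K : Set G)) (R ⊔ E) b.V_le
    (isPGroup_of_elem b.elemV)
  obtain ⟨t, htR, ht2⟩ := exists_involution_of_ne_bot b.sylR.two (sylR_ne_bot h b.sylR)
  -- `V ≤ M^g`
  have hVg : R ⊔ E ≤ cj g (normalizer (K : Set G)) := by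
    intro v hv
    have h1 : g * t * g⁻¹ ∈ cj g R := conj_mem_cj htR
    refine h.centralizer_le_cj (a := g * t * g⁻¹) (by rw [orderOf_conj, ht2])
      (cj_mono b.sylR.le h1) ?_
    rw [mem_centralizer_singleton_iff]
    exact b.elemV.comm hv (hgR h1)
  have hVg' : cj g⁻¹ (R ⊔ E) ≤ normalizer (K : Set G) := by
    have := cj_mono (g := g⁻¹) hVg
    rwa [cj_inv_cj] at this
  obtain ⟨S₂, hS₂, hVS₂⟩ := exists_isSyl2 (normalizer (K : Set G)) (cj g⁻¹ (R ⊔ E)) hVg'
    (isPGroup_of_elem (elem_cj b.elemV))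
  obtain ⟨m, hm, hmS⟩ := isSyl2_conj hS₂ hS
  have h1 : cj m (cj g⁻¹ (R ⊔ E)) ≤ S := by rw [hmS]; exact cj_mono hVS₂
  rw [← cj_mul] at h1
  have h2 := unique_V b hS hVS h1 (elem_cj b.elemV) (by rw [card_cj, b.card_V])
  refine ⟨m * g⁻¹, cj_eq_iff.mp h2, fun h3 => hg ?_⟩
  have h4 := Subgroup.mul_mem _ (Subgroup.inv_mem _ h3) hm
  have e1 : (m * g⁻¹)⁻¹ * m = g := by group
  rwa [e1] at h4

end

end Cfsg.Agent.OddCyclic.CaseAFour
end

-- part: OddCyclic/CaseADelta
section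
/-!
# S0342, component type, case A: A4 (ii), the number of members of `Δ`

`Delta R V` has `q` members, or `2q - 1` members and `|R| = 2`. The group `H` acts semiregularly on
`Δ - {R}`.
-/

set_option autoImplicit false

namespace Cfsg.Agent.OddCyclic.CaseADelta

open Subgroup
open Cfsg.Agent.LieExceptional Cfsg.Agent.LieExceptional.CITDefs
open Cfsg.Agent.LieExceptional.CITBasic
open Cfsg.Agent.OddCyclic.T1Tools
open Cfsg.Agent.OddCyclic.CompBasic Cfsg.Agent.OddCyclic.CompStandard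
open Cfsg.Agent.OddCyclic.CaseADefs Cfsg.Agent.OddCyclic.CaseABase
open Cfsg.Agent.OddCyclic.CaseACount Cfsg.Agent.OddCyclic.CaseAFour

variable {G : Type*} [Group G] [Finite G] {p : ℕ} {K R E H : Subgroup G} {q : ℕ}

/-- a free action -/
theorem card_of_free {A X : Type*} [Group A] [Finite A] [Finite X] [MulAction A X]
    (h : ∀ (a : A) (x : X), a • x = x → a = 1) : ∃ j : ℕ, Nat.card X = j * Nat.card A := by
  have h1 : ∀ x : X, MulAction.stabilizer A x = ⊥ := by
    intro x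
    rw [eq_bot_iff]
    intro a ha
    rw [Subgroup.mem_bot]
    exact h a x (MulAction.mem_stabilizer_iff.mp ha)
  have h2 := Nat.card_congr (MulAction.selfEquivOrbitsQuotientProd h1)
  rw [Nat.card_prod] at h2
  exact ⟨_, h2⟩

omit [Finite G] in
/-- elements of `H` commuting with a nontrivial element outside `R` of `V` are trivial -/
theorem H_comm (b : Beta K R E H q) {x v : G} (hx : x ∈ H) (hv : v ∈ R ⊔ E) (hvR : v ∉ R)
    (hc : x * v = v * x) : x = 1 := by
  obtain ⟨r, hr, e, he, rfl⟩ := b.mem_V.mp hv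
  have he1 : e ≠ 1 := by
    rintro rfl
    rw [mul_one] at hvR
    exact hvR hr
  have hxr : x * r = r * x := comm_KY x (b.bor.leH hx) r (b.sylR.le hr)
  have h1 : x * e = e * x := by
    have h2 : r * (x * e) = r * (e * x) := by
      calc r * (x * e) = (r * x) * e := by group
        _ = (x * r) * e := by rw [hxr]
        _ = x * (r * e) := by group
        _ = r * e * x := hc
        _ = r * (e * x) := by group
    exact mul_left_cancel h2
  exact H_inf b.l2 b.bor hx (b.bor.cent e he he1 x (b.bor.leH hx) h1)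

/-- `H` acts semiregularly on `Δ - {R}`. -/
theorem H_free (h : Std p K) (b : Beta K R E H q) {X : Subgroup G}
    (hX : X ∈ Delta R (R ⊔ E)) (hne : X ≠ R) {x : G} (hx : x ∈ H) (hxX : cj x X = X) : x = 1 := by
  obtain ⟨n, hn, rfl⟩ := hX
  by_contra hx1
  -- pass to an element of prime order
  set m := orderOf x with hm
  have hm1 : m ≠ 1 := fun hh => hx1 (orderOf_eq_one_iff.mp hh)
  obtain ⟨r, hr, hrm⟩ := Nat.exists_prime_and_dvd hm1
  have hmpos : 0 < m := orderOf_pos x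
  set z := x ^ (m / r) with hz
  have hzr : orderOf z = r := orderOf_pow_orderOf_div hmpos.ne' hrm
  have hzH : z ∈ H := H.pow_mem hx _
  have hzN : ∀ k : ℕ, cj (x ^ k) (cj n R) = cj n R := by
    intro k
    induction k with
    | zero => rw [pow_zero, cj_one]
    | succ k ih => rw [pow_succ, cj_mul, hxX, ih]
  have hzX : cj z (cj n R) = cj n R := hzN _
  have hH : Nat.card H = q - 1 := b.bor.cardH
  have hrH : r ∣ q - 1 := by
    rw [← hH, ← hzr]; exact H.orderOf_dvd_natCard hzH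
  have hr2 : r ≠ 2 := by
    rintro rfl
    exact (Nat.not_even_iff_odd.mpr (odd_card_H b.l2)) (even_iff_two_dvd.mpr hrH)
  have hrK : r ∣ Nat.card K := by
    rw [← hzr]; exact K.orderOf_dvd_natCard (b.bor.leH hzH)
  -- `z ∈ M^n`
  have hz1 : n⁻¹ * (z * n) ∈ normalizer (K : Set G) := by
    have hzn : z * n ∈ normalizer ((R ⊔ E : Subgroup G) : Set G) :=
      Subgroup.mul_mem _ (H_le_N b hzH) hn
    rw [← cj_eq_cj_iff h b hn hzn, cj_mul, hzX]
  have hz2 : z ∈ cj n (normalizer (K : Set G)) := by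
    rw [mem_cj, mul_assoc]; exact hz1
  have hzc : ∀ y ∈ cj n R, z * y = y * z := fun y hy =>
    h.commute_of_dvd n hr hr2 hrK hz2 hzr (cj_mono b.sylR.le hy)
  apply hne
  apply Subgroup.eq_of_le_of_card_ge
  · intro y hy
    by_contra hyR
    have hyV : y ∈ R ⊔ E := le_of_mem_delta ⟨n, hn, rfl⟩ hy
    have h3 := H_comm b hzH hyV hyR (hzc y hy)
    rw [h3, orderOf_one] at hzr
    exact hr.one_lt.ne hzr
  · rw [card_cj]

/-- `|Δ| ≡ 1 mod q - 1` -/
theorem card_mod (h : Std p K) (b : Beta K R E H q) :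
    ∃ j : ℕ, Nat.card (Delta R (R ⊔ E)) = 1 + j * (q - 1) := by
  classical
  let X' : Type _ := {X : Subgroup G // X ∈ Delta R (R ⊔ E) ∧ X ≠ R}
  let act : MulAction H X' :=
    { smul := fun x X => ⟨cj (x : G) X.1, cj_mem_delta X.2.1 (H_le_N b x.2), fun hh => X.2.2 (by
        have h1 : cj (x : G)⁻¹ R = R := cj_R b (Subgroup.inv_mem _ (H_le_N b x.2))
          (Subgroup.inv_mem _ (Subgroup.le_normalizer (b.bor.leH x.2)))
        rw [← cj_inv_cj (x : G) X.1, hh, h1])⟩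
      one_smul := fun X => Subtype.ext (cj_one X.1)
      mul_smul := fun x y X => Subtype.ext (cj_mul (x : G) (y : G) X.1) }
  have h4 := b.l2.four
  have hfH : Finite H := Nat.finite_of_card_ne_zero (by rw [b.bor.cardH]; omega)
  obtain ⟨j, hj⟩ := card_of_free (A := H) (X := X') (fun x X hxX => by
    have h1 : cj (x : G) X.1 = X.1 := congrArg Subtype.val hxX
    exact Subtype.ext (H_free h b X.2.1 X.2.2 x.2 h1))
  rw [b.bor.cardH] at hj
  refine ⟨j, ?_⟩
  rw [← hj]
  have h1 := Nat.card_congr (Equiv.sumCompl (fun X : Delta R (R ⊔ E) => (X : Subgroup G) = R))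
  rw [Nat.card_sum] at h1
  rw [← h1]
  congr 1
  · rw [Nat.card_eq_one_iff_unique]
    exact ⟨⟨fun a b => Subtype.ext (Subtype.ext (a.2.trans b.2.symm))⟩, ⟨⟨⟨R, R_mem_delta⟩, rfl⟩⟩⟩
  · exact Nat.card_congr
      { toFun := fun X => ⟨X.1.1, X.1.2, X.2⟩
        invFun := fun X => ⟨⟨X.1, X.2.1⟩, X.2.2⟩
        left_inv := fun _ => rfl
        right_inv := fun _ => rfl }

theorem card_delta_le (h : Std p K) (b : Beta K R E H q) :
    Nat.card (Delta R (R ⊔ E)) * (Nat.card R - 1) ≤ Nat.card R * q - 1 := by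
  classical
  have hf : Fintype (Delta R (R ⊔ E)) := Fintype.ofFinite _
  have h1 := sum_card_le (fun X : Delta R (R ⊔ E) => (X : Subgroup G)) (R ⊔ E)
    (fun X => le_of_mem_delta X.2) (fun X X' hne s hs hs' => by
      by_contra hs1
      exact hne (Subtype.ext (delta_ti h b X.2 X'.2 hs1 hs hs')))
  rw [Finset.sum_congr rfl (fun X _ => by rw [card_of_mem_delta X.2]), Finset.sum_const,
    smul_eq_mul, Finset.card_univ, ← Nat.card_eq_fintype_card, b.card_V] at h1
  exact h1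

/-- **(ii)** -/
theorem card_delta (h : Std p K) (b : Beta K R E H q) :
    Nat.card (Delta R (R ⊔ E)) = q ∨
      (Nat.card (Delta R (R ⊔ E)) = 2 * q - 1 ∧ Nat.card R = 2) := by
  obtain ⟨j, hj⟩ := card_mod h b
  have h1 := card_delta_le h b
  have h4 := b.l2.four
  have h2 := card_R_two h b
  have hj1 : 1 ≤ j := by
    by_contra hj0
    have hj0' : j = 0 := by omega
    rw [hj0', zero_mul, add_zero] at hj
    obtain ⟨n, hn, hnM⟩ := exists_n h b
    obtain ⟨hs, -⟩ := Nat.card_eq_one_iff_unique.mp hj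
    have h3 : (⟨cj n R, n, hn, rfl⟩ : Delta R (R ⊔ E)) = ⟨R, R_mem_delta⟩ := Subsingleton.elim _ _
    exact hnM ((cj_eq_R_iff h b hn).mp (congrArg Subtype.val h3))
  rw [hj] at h1 ⊢
  set r := Nat.card R with hr
  obtain ⟨s, rfl⟩ : ∃ s, q = s + 1 := ⟨q - 1, by omega⟩
  obtain ⟨t, ht⟩ : ∃ t, r = t + 1 := ⟨r - 1, by omega⟩
  rw [ht] at h1 h2 ⊢
  simp only [Nat.add_sub_cancel] at h1 ⊢
  have h5 : (t + 1) * (s + 1) - 1 = t * s + t + s := by
    have : (t + 1) * (s + 1) = t * s + t + s + 1 := by ring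
    omega
  rw [h5] at h1
  have h6 : (1 + j * s) * t = t + j * s * t := by ring
  rw [h6] at h1
  have h7 : s * (j * t) ≤ s * (t + 1) := by linarith only [h1]
  have h8 : j * t ≤ t + 1 := Nat.le_of_mul_le_mul_left h7 (by omega)
  have h9 : j ≤ 2 := by
    by_contra hc
    have : 3 * t ≤ j * t := Nat.mul_le_mul_right _ (by omega)
    omega
  interval_cases j
  · left; omega
  · right
    constructor
    · (clear * -; omega)
    · omega

/-- index -/
theorem card_orbit (h : Std p K) (b : Beta K R E H q) {L : Subgroup G}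
    (hL : L ≤ normalizer ((R ⊔ E : Subgroup G) : Set G)) :
    Nat.card {X : Subgroup G | ∃ n ∈ L, X = cj n R} *
      Nat.card (L ⊓ normalizer (K : Set G) : Subgroup G) = Nat.card L := by
  classical
  set W : Subgroup L := (normalizer (K : Set G)).subgroupOf L with hW
  let f : L ⧸ W → {X : Subgroup G | ∃ n ∈ L, X = cj n R} :=
    Quotient.lift (fun n : L => (⟨cj (n : G) R, n, n.2, rfl⟩ :
      {X : Subgroup G | ∃ n ∈ L, X = cj n R})) (by
      intro a c hac
      have h1 : a⁻¹ * c ∈ W := QuotientGroup.leftRel_apply.mp hac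
      exact Subtype.ext ((cj_eq_cj_iff h b (hL a.2) (hL c.2)).mpr h1))
  have hf : Function.Bijective f := by
    constructor
    · intro a c
      refine Quotient.inductionOn₂ a c ?_
      intro a c hac
      have h1 : cj (a : G) R = cj (c : G) R := congrArg Subtype.val hac
      have h2 := (cj_eq_cj_iff h b (hL a.2) (hL c.2)).mp h1
      exact Quotient.sound (QuotientGroup.leftRel_apply.mpr h2)
    · rintro ⟨X, n, hn, rfl⟩
      exact ⟨Quotient.mk _ ⟨n, hn⟩, rfl⟩
  rw [← Nat.card_eq_of_bijective f hf]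
  have h1 := Subgroup.card_eq_card_quotient_mul_card_subgroup W
  have h2 : Nat.card W = Nat.card (L ⊓ normalizer (K : Set G) : Subgroup G) := by
    rw [hW, ← Subgroup.inf_subgroupOf_left]
    exact card_subgroupOf inf_le_left
  rw [h1, h2]

/-- `|N| = |Δ| |N ∩ M|` -/
theorem card_N (h : Std p K) (b : Beta K R E H q) :
    Nat.card (Delta R (R ⊔ E)) *
      Nat.card (normalizer ((R ⊔ E : Subgroup G) : Set G) ⊓ normalizer (K : Set G) :
        Subgroup G) = Nat.card (normalizer ((R ⊔ E : Subgroup G) : Set G)) :=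
  card_orbit h b le_rfl

/-- a power of 2 dividing the order of `M` is at most the order of a Sylow 2-subgroup -/
theorem pow_le_of_dvd {M S : Subgroup G} (hS : IsSyl2 M S) {a : ℕ} (h : 2 ^ a ∣ Nat.card M) :
    2 ^ a ≤ Nat.card S := by
  have hpf : Fact (Nat.Prime 2) := ⟨Nat.prime_two⟩
  obtain ⟨W, hW⟩ := Sylow.exists_subgroup_card_pow_prime (G := M) 2 h
  have h1 : Nat.card (W.map M.subtype) = 2 ^ a := by
    rw [Subgroup.card_map_of_injective M.subtype_injective, hW]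
  rw [← h1]
  refine card_le_of_isSyl2 hS (Subgroup.map_subtype_le W) ?_
  exact IsPGroup.of_card h1

/-- If `V` is normalized by a 2-group larger than a Sylow 2-subgroup of `M` then `|Δ| = q`. -/
theorem card_delta_of_lt (h : Std p K) (b : Beta K R E H q) {S W : Subgroup G}
    (hS : IsSyl2 (normalizer (K : Set G)) S)
    (hW : W ≤ normalizer ((R ⊔ E : Subgroup G) : Set G)) (hW2 : IsPGroup 2 W)
    (hlt : Nat.card S < Nat.card W) : Nat.card (Delta R (R ⊔ E)) = q := by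
  have hpf : Fact (Nat.Prime 2) := ⟨Nat.prime_two⟩
  rcases card_delta h b with h1 | ⟨h1, h2⟩
  · exact h1
  · exfalso
    have h3 := card_N h b
    obtain ⟨a, ha⟩ := IsPGroup.iff_card.mp hW2
    have h4 : 2 ^ a ∣ Nat.card (Delta R (R ⊔ E)) *
      Nat.card (normalizer ((R ⊔ E : Subgroup G) : Set G) ⊓ normalizer (K : Set G) :
        Subgroup G) := by
      rw [h3, ← ha]; exact Subgroup.card_dvd_of_le hW
    have h5 : Nat.Coprime (2 ^ a) (Nat.card (Delta R (R ⊔ E))) := by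
      refine Nat.Coprime.pow_left a ?_
      rw [Nat.coprime_two_left, h1]
      have := b.l2.four
      exact ⟨q - 1, by omega⟩
    have h6 := (h5.dvd_of_dvd_mul_left h4).trans (Subgroup.card_dvd_of_le
      (inf_le_right : normalizer ((R ⊔ E : Subgroup G) : Set G) ⊓ normalizer (K : Set G) ≤ _))
    have h7 := pow_le_of_dvd hS h6
    omega

/-- If `S ≤ N` is a Sylow 2-subgroup of `G` then `|Δ| = 2q - 1` and `|R| = 2`. -/
theorem card_delta_of_sylow (h : Std p K) (b : Beta K R E H q) {S : Subgroup G}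
    (hS : IsSyl2 (normalizer (K : Set G)) S) (hV : R ⊔ E ≤ S) (hST : IsSyl2 ⊤ S) :
    Nat.card (Delta R (R ⊔ E)) = 2 * q - 1 ∧ Nat.card R = 2 := by
  have hpf : Fact (Nat.Prime 2) := ⟨Nat.prime_two⟩
  rcases card_delta h b with h1 | h1
  · exfalso
    have h3 := card_N h b
    obtain ⟨a, ha⟩ := IsPGroup.iff_card.mp hS.two
    have h4 : S ≤ normalizer ((R ⊔ E : Subgroup G) : Set G) ⊓ normalizer (K : Set G) :=
      le_inf (S_le_N b hS hV) hS.le
    have h5 : 2 ^ (a + 1) ∣ Nat.card (⊤ : Subgroup G) := by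
      refine dvd_trans ?_ (Subgroup.card_dvd_of_le
        (le_top : normalizer ((R ⊔ E : Subgroup G) : Set G) ≤ ⊤))
      rw [← h3, pow_succ, mul_comm]
      refine mul_dvd_mul ?_ (by rw [← ha]; exact Subgroup.card_dvd_of_le h4)
      rw [h1]
      exact even_iff_two_dvd.mp (even_q b.l2)
    have h6 := pow_le_of_dvd hST h5
    rw [ha, pow_succ] at h6
    have : 0 < 2 ^ a := by positivity
    omega
  · exact h1

end Cfsg.Agent.OddCyclic.CaseADelta
end

-- part: OddCyclic/CaseAKer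
section
/-!
# S0342, component type, case A: A4 (iii), (iv)

Here `|Δ| = q`. 2-elements of `N` fixing all members of `Δ` lie in `V`; `V - ⋃Δ = E - {1}`, so `N`
normalizes `E`; `N_Y(R) = C_Y(R)`.
-/

set_option autoImplicit false

namespace Cfsg.Agent.OddCyclic.CaseAKer

open Subgroup
open Cfsg.Agent.LieExceptional Cfsg.Agent.LieExceptional.CITDefs
open Cfsg.Agent.LieExceptional.CITBasic
open Cfsg.Agent.OddCyclic.T1Tools
open Cfsg.Agent.OddCyclic.CompBasic Cfsg.Agent.OddCyclic.CompStandard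
open Cfsg.Agent.OddCyclic.CaseADefs Cfsg.Agent.OddCyclic.CaseABase
open Cfsg.Agent.OddCyclic.CaseACount Cfsg.Agent.OddCyclic.CaseAFour
open Cfsg.Agent.OddCyclic.CaseADelta

variable {G : Type*} [Group G] [Finite G] {p : ℕ} {K R E H : Subgroup G} {q : ℕ}

omit [Finite G] in
theorem finite_H (b : Beta K R E H q) : Finite H := by
  have := b.l2.four
  exact Nat.finite_of_card_ne_zero (by rw [b.bor.cardH]; omega)

/-- `H` is transitive on `E - {1}` -/
theorem H_trans_E (b : Beta K R E H q) {e e' : G} (he : e ∈ E) (he1 : e ≠ 1) (he' : e' ∈ E)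
    (he1' : e' ≠ 1) : ∃ x ∈ H, x * e * x⁻¹ = e' := by
  have hinj : Function.Injective (fun x : H => (⟨⟨(x : G) * e * (x : G)⁻¹,
      b.bor.norm x x.2 e he⟩, fun hh => he1 (by
        have h1 : (x : G) * e * (x : G)⁻¹ = 1 := congrArg Subtype.val hh
        have : e = (x : G)⁻¹ * ((x : G) * e * (x : G)⁻¹) * x := by group
        rw [this, h1]; group)⟩ : {y : E // y ≠ 1})) := by
    intro x y hxy
    have h1 : (x : G) * e * (x : G)⁻¹ = (y : G) * e * (y : G)⁻¹ :=
      congrArg (fun z : {y : E // y ≠ 1} => ((z : E) : G)) hxy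
    have h2 : ((y : G)⁻¹ * x) * e = e * ((y : G)⁻¹ * x) := by
      calc ((y : G)⁻¹ * x) * e = (y : G)⁻¹ * ((x : G) * e * (x : G)⁻¹) * x := by group
        _ = (y : G)⁻¹ * ((y : G) * e * (y : G)⁻¹) * x := by rw [h1]
        _ = e * ((y : G)⁻¹ * x) := by group
    have h3 := H_inf b.l2 b.bor (H.mul_mem (H.inv_mem y.2) x.2)
      (b.bor.cent e he he1 _ (b.bor.leH (H.mul_mem (H.inv_mem y.2) x.2)) h2)
    exact Subtype.ext (inv_mul_eq_one.mp h3).symm
  have hbij := hinj.bijective_of_nat_card_le (by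
    rw [card_ne_one, b.bor.cardE, b.bor.cardH])
  obtain ⟨x, hx⟩ := hbij.2 ⟨⟨e', he'⟩, fun hh => he1' (congrArg Subtype.val hh)⟩
  exact ⟨x, x.2, congrArg (fun z : {y : E // y ≠ 1} => ((z : E) : G)) hx⟩

theorem card_delta' (hD : Nat.card (Delta R (R ⊔ E)) = q) :
    Nat.card {X : Subgroup G // X ∈ Delta R (R ⊔ E) ∧ X ≠ R} = q - 1 := by
  classical
  have h1 := Nat.card_congr (Equiv.sumCompl (fun X : Delta R (R ⊔ E) => (X : Subgroup G) = R))
  rw [Nat.card_sum, hD] at h1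
  have h2 : Nat.card {X : Delta R (R ⊔ E) // (X : Subgroup G) = R} = 1 := by
    rw [Nat.card_eq_one_iff_unique]
    exact ⟨⟨fun a b => Subtype.ext (Subtype.ext (a.2.trans b.2.symm))⟩,
      ⟨⟨⟨R, R_mem_delta⟩, rfl⟩⟩⟩
  have h3 : Nat.card {X : Delta R (R ⊔ E) // ¬ (X : Subgroup G) = R} =
      Nat.card {X : Subgroup G // X ∈ Delta R (R ⊔ E) ∧ X ≠ R} := Nat.card_congr
      { toFun := fun X => ⟨X.1.1, X.1.2, X.2⟩
        invFun := fun X => ⟨⟨X.1, X.2.1⟩, X.2.2⟩
        left_inv := fun _ => rfl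
        right_inv := fun _ => rfl }
  omega

theorem cj_ne_R (b : Beta K R E H q) {X : Subgroup G} (hne : X ≠ R) {n : G}
    (hn : n ∈ normalizer ((R ⊔ E : Subgroup G) : Set G)) (hM : n ∈ normalizer (K : Set G)) :
    cj n X ≠ R := by
  intro hh
  apply hne
  have h1 : cj n⁻¹ R = R := cj_R b (Subgroup.inv_mem _ hn) (Subgroup.inv_mem _ hM)
  rw [← cj_inv_cj n X, hh, h1]

/-- `H` is transitive on `Δ - {R}` -/
theorem H_trans (h : Std p K) (b : Beta K R E H q) (hD : Nat.card (Delta R (R ⊔ E)) = q)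
    {X X' : Subgroup G} (hX : X ∈ Delta R (R ⊔ E)) (hne : X ≠ R) (hX' : X' ∈ Delta R (R ⊔ E))
    (hne' : X' ≠ R) : ∃ x ∈ H, cj x X = X' := by
  have hinj : Function.Injective (fun x : H => (⟨cj (x : G) X, cj_mem_delta hX (H_le_N b x.2),
      cj_ne_R b hne (H_le_N b x.2) (Subgroup.le_normalizer (b.bor.leH x.2))⟩ :
      {X : Subgroup G // X ∈ Delta R (R ⊔ E) ∧ X ≠ R})) := by
    intro x y hxy
    have h1 : cj (x : G) X = cj (y : G) X := congrArg Subtype.val hxy
    have h2 : cj ((y : G)⁻¹ * x) X = X := by rw [cj_mul, h1, cj_inv_cj]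
    have h3 := H_free h b hX hne (H.mul_mem (H.inv_mem y.2) x.2) h2
    exact Subtype.ext (inv_mul_eq_one.mp h3).symm
  have hbij := hinj.bijective_of_nat_card_le (by rw [card_delta' hD, b.bor.cardH])
  obtain ⟨x, hx⟩ := hbij.2 ⟨X', hX', hne'⟩
  exact ⟨x, x.2, congrArg Subtype.val hx⟩

theorem exists_ne_R (h : Std p K) (b : Beta K R E H q) :
    ∃ X ∈ Delta R (R ⊔ E), X ≠ R := by
  obtain ⟨n, hn, hnM⟩ := exists_n h b
  exact ⟨cj n R, ⟨n, hn, rfl⟩, fun hh => hnM ((cj_eq_R_iff h b hn).mp hh)⟩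

theorem V_fix (b : Beta K R E H q) {X : Subgroup G} (hX : X ∈ Delta R (R ⊔ E)) {v : G}
    (hv : v ∈ R ⊔ E) : cj v X = X :=
  cj_eq_of_comm fun _ hx => b.elemV.comm hv (le_of_mem_delta hX hx)

omit [Finite G] in
theorem fix_inv {X : Subgroup G} {z : G} (hz : cj z X = X) : cj z⁻¹ X = X := by
  rw [← hz, cj_inv_cj, hz]

/-- **(iii)** 2-elements fixing all members of `Δ` lie in `V`. -/
theorem ker (h : Std p K) (b : Beta K R E H q) {z : G}
    (hz : z ∈ normalizer ((R ⊔ E : Subgroup G) : Set G)) (h2 : ∃ n : ℕ, z ^ 2 ^ n = 1)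
    (hfix : ∀ X ∈ Delta R (R ⊔ E), cj z X = X) : z ∈ R ⊔ E := by
  have h4 := b.l2.four
  have hfH := finite_H b
  have hcyc := b.bor.cyc
  have hHc : ∀ x ∈ H, ∀ y ∈ H, x * y = y * x := by
    intro x hx y hy
    have := IsCyclic.commGroup (α := H)
    exact congrArg Subtype.val (IsMulCommutative.is_comm.comm (⟨x, hx⟩ : H) ⟨y, hy⟩)
  have hzM : z ∈ normalizer (K : Set G) := (cj_eq_R_iff h b hz).mp (hfix R R_mem_delta)
  have hzE : ∀ e ∈ E, z * e * z⁻¹ ∈ E := forall_of_mem_normalizer (cj_eq_iff.mp (cj_E b hz hzM))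
  obtain ⟨X₁, hX₁, hne₁⟩ := exists_ne_R h b
  -- `[z, x] ∈ E` for `x ∈ H`
  have hw : ∀ x ∈ H, z * x * z⁻¹ * x⁻¹ ∈ E := by
    intro x hx
    have hxN := H_le_N b hx
    have h1 : z * x * z⁻¹ * x⁻¹ ∈ K := K.mul_mem (forall_of_mem_normalizer hzM x (b.bor.leH hx))
      (K.inv_mem (b.bor.leH hx))
    have h2 : ∀ e ∈ E, (z * x * z⁻¹ * x⁻¹) * e * (z * x * z⁻¹ * x⁻¹)⁻¹ ∈ E := by
      intro e he
      have hzE' : ∀ e ∈ E, z⁻¹ * e * z ∈ E := by
        intro e he
        have := forall_of_mem_normalizer (Subgroup.inv_mem _ (cj_eq_iff.mp (cj_E b hz hzM))) e he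
        rwa [inv_inv] at this
      have a1 : x⁻¹ * e * x ∈ E := by
        have := b.bor.norm x⁻¹ (H.inv_mem hx) e he
        rwa [inv_inv] at this
      have a2 := hzE _ (b.bor.norm x hx _ (hzE' _ a1))
      have e1 : z * x * z⁻¹ * x⁻¹ * e * (z * x * z⁻¹ * x⁻¹)⁻¹ =
          z * (x * (z⁻¹ * (x⁻¹ * e * x) * z) * x⁻¹) * z⁻¹ := by group
      rw [e1]; exact a2
    obtain ⟨e, he, x₁, hx₁, hwe⟩ := b.bor.nK _ h1 h2
    have h3 : cj (z * x * z⁻¹ * x⁻¹) X₁ = X₁ := by
      have a1 : cj x⁻¹ X₁ ∈ Delta R (R ⊔ E) := cj_mem_delta hX₁ (Subgroup.inv_mem _ hxN)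
      rw [cj_mul, cj_mul, cj_mul, fix_inv (hfix _ a1), cj_cj_inv, hfix _ hX₁]
    have h4 : cj x₁ X₁ = X₁ := by
      have a1 : x₁ = e⁻¹ * (z * x * z⁻¹ * x⁻¹) := by rw [hwe]; group
      rw [a1, cj_mul, h3]
      exact V_fix b hX₁ (mem_sup_right (E.inv_mem he))
    have h5 := H_free h b hX₁ hne₁ hx₁ h4
    rw [hwe, h5, mul_one]
    exact he
  -- a nontrivial element of `E`
  obtain ⟨e₀, he₀, he₀1⟩ : ∃ e ∈ E, e ≠ 1 := by
    by_contra hno
    push Not at hno
    have h1 : E = ⊥ := (eq_bot_iff).mpr fun e he => by rw [Subgroup.mem_bot]; exact hno e he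
    have h2 := b.bor.cardE
    rw [h1, Subgroup.card_bot] at h2
    omega
  have hze₀1 : z * e₀ * z⁻¹ ≠ 1 := by
    intro hh
    apply he₀1
    have : e₀ = z⁻¹ * (z * e₀ * z⁻¹) * z := by group
    rw [this, hh]; group
  obtain ⟨x₀, hx₀, hx₀e⟩ := H_trans_E b he₀ he₀1 (hzE e₀ he₀) hze₀1
  have hact : ∀ e ∈ E, z * e * z⁻¹ = x₀ * e * x₀⁻¹ := by
    intro e he
    by_cases he1 : e = 1
    · rw [he1]; group
    · obtain ⟨x, hx, hxe⟩ := H_trans_E b he₀ he₀1 he he1
      have h1 := hw x hx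
      have h2 : x * (x₀ * e₀ * x₀⁻¹) * x⁻¹ ∈ E := b.bor.norm x hx _ (b.bor.norm x₀ hx₀ _ he₀)
      have h3 : x * x₀ = x₀ * x := hHc x hx x₀ hx₀
      have h5 : x₀⁻¹ * x⁻¹ = x⁻¹ * x₀⁻¹ := by
        rw [← mul_inv_rev, ← mul_inv_rev, h3]
      calc z * e * z⁻¹ = (z * x * z⁻¹ * x⁻¹) * (x * (z * e₀ * z⁻¹) * x⁻¹) *
            (z * x * z⁻¹ * x⁻¹)⁻¹ := by rw [← hxe]; group
        _ = (z * x * z⁻¹ * x⁻¹) * (x * (x₀ * e₀ * x₀⁻¹) * x⁻¹) *
            (z * x * z⁻¹ * x⁻¹)⁻¹ := by rw [hx₀e]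
        _ = (x * (x₀ * e₀ * x₀⁻¹) * x⁻¹) := by
            rw [b.bor.elem.comm h1 h2, mul_inv_cancel_right]
        _ = (x * x₀) * e₀ * (x₀⁻¹ * x⁻¹) := by group
        _ = (x₀ * x) * e₀ * (x⁻¹ * x₀⁻¹) := by rw [h3, h5]
        _ = x₀ * (x * e₀ * x⁻¹) * x₀⁻¹ := by group
        _ = x₀ * e * x₀⁻¹ := by rw [hxe]
  have hpow : ∀ m : ℕ, ∀ e ∈ E, z ^ m * e * (z ^ m)⁻¹ = x₀ ^ m * e * (x₀ ^ m)⁻¹ := by
    intro m
    induction m with
    | zero => intro e _; simp
    | succ m ih =>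
      intro e he
      have h1 : x₀ * e * x₀⁻¹ ∈ E := b.bor.norm x₀ hx₀ e he
      calc z ^ (m + 1) * e * (z ^ (m + 1))⁻¹ = z ^ m * (z * e * z⁻¹) * (z ^ m)⁻¹ := by
            rw [pow_succ]; group
        _ = z ^ m * (x₀ * e * x₀⁻¹) * (z ^ m)⁻¹ := by rw [hact e he]
        _ = x₀ ^ m * (x₀ * e * x₀⁻¹) * (x₀ ^ m)⁻¹ := ih _ h1
        _ = x₀ ^ (m + 1) * e * (x₀ ^ (m + 1))⁻¹ := by rw [pow_succ]; group
  obtain ⟨n, hn⟩ := h2
  have hx₀1 : x₀ = 1 := by
    have h1 := hpow (2 ^ n) e₀ he₀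
    rw [hn, one_mul, inv_one, mul_one] at h1
    have h2 : x₀ ^ 2 ^ n * e₀ = e₀ * x₀ ^ 2 ^ n := mul_inv_eq_iff_eq_mul.mp h1.symm
    have h3 : x₀ ^ 2 ^ n = 1 := H_inf b.l2 b.bor (H.pow_mem hx₀ _)
      (b.bor.cent e₀ he₀ he₀1 _ (b.bor.leH (H.pow_mem hx₀ _)) h2)
    have h5 : orderOf x₀ ∣ 2 ^ n := orderOf_dvd_of_pow_eq_one h3
    have h6 : orderOf x₀ ∣ q - 1 := by
      rw [← b.bor.cardH]; exact H.orderOf_dvd_natCard hx₀
    have h7 : Nat.Coprime (q - 1) (2 ^ n) :=
      Nat.Coprime.pow_right n (Nat.coprime_two_right.mpr (odd_card_H b.l2))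
    have h8 : orderOf x₀ ∣ 1 := by
      rw [← Nat.Coprime.gcd_eq_one h7]
      exact Nat.dvd_gcd h6 h5
    exact orderOf_eq_one_iff.mp (Nat.dvd_one.mp h8)
  have hzc : ∀ e ∈ E, z * e = e * z := by
    intro e he
    have h1 := hact e he
    rw [hx₀1, one_mul, inv_one, mul_one] at h1
    exact mul_inv_eq_iff_eq_mul.mp h1
  obtain ⟨y, hy, e, he, hye⟩ := b.l2.centE E b.sylE z hzM hzc
  have hyz : y = z * e⁻¹ := by rw [hye]; group
  have hyN : y ∈ normalizer ((R ⊔ E : Subgroup G) : Set G) := by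
    rw [hyz]
    exact Subgroup.mul_mem _ hz (Subgroup.le_normalizer (mem_sup_right (E.inv_mem he)))
  have hyR : y ∈ R := by
    refine mem_isSyl2 b.sylR hy ⟨n + 1, ?_⟩ (forall_of_mem_normalizer (cj_eq_iff.mp
      (cj_R b hyN (centralizer_le_normalizer _ hy))))
    have hcom : Commute z e⁻¹ := (show Commute z e from hzc e he).inv_right
    rw [hyz, hcom.mul_pow, pow_succ, pow_mul, hn, one_pow, one_mul, inv_pow, mul_comm, pow_mul,
      pow_two, b.bor.elem e he, one_pow, inv_one]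
  rw [hye]
  exact Subgroup.mul_mem _ (mem_sup_left hyR) (mem_sup_right he)

/-- A Sylow 2-subgroup of `N` is transitive on `Δ`. -/
theorem trans_W (h : Std p K) (b : Beta K R E H q) (hD : Nat.card (Delta R (R ⊔ E)) = q)
    {W : Subgroup G} (hW : IsSyl2 (normalizer ((R ⊔ E : Subgroup G) : Set G)) W)
    {X : Subgroup G} (hX : X ∈ Delta R (R ⊔ E)) : ∃ s ∈ W, X = cj s R := by
  have hpf : Fact (Nat.Prime 2) := ⟨Nat.prime_two⟩
  have h1 := card_orbit h b hW.le
  have h2 := card_N h b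
  rw [hD] at h2
  obtain ⟨f, hf⟩ := b.l2.pow
  obtain ⟨a, ha⟩ := IsPGroup.iff_card.mp (hW.two.to_le
    (inf_le_left : W ⊓ normalizer (K : Set G) ≤ W))
  have h3 : 2 ^ (f + a) ∣ Nat.card (normalizer ((R ⊔ E : Subgroup G) : Set G)) := by
    rw [← h2, pow_add, ← hf, ← ha]
    exact mul_dvd_mul_left _ (Subgroup.card_dvd_of_le (inf_le_inf_right _ hW.le))
  have h4 := pow_le_of_dvd hW h3
  rw [← h1, ha, pow_add] at h4
  have h5 : 2 ^ f ≤ Nat.card {X : Subgroup G | ∃ n ∈ W, X = cj n R} :=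
    Nat.le_of_mul_le_mul_right h4 (by positivity)
  have h6 : {X : Subgroup G | ∃ n ∈ W, X = cj n R} ⊆ Delta R (R ⊔ E) := by
    rintro X ⟨n, hn, rfl⟩
    exact ⟨n, hW.le hn, rfl⟩
  have h7 : {X : Subgroup G | ∃ n ∈ W, X = cj n R} = Delta R (R ⊔ E) := by
    refine Set.eq_of_subset_of_ncard_le h6 ?_ (Set.toFinite _)
    rw [← Nat.card_coe_set_eq, ← Nat.card_coe_set_eq, hD, hf]
    exact h5
  rw [← h7] at hX
  exact hX

end Cfsg.Agent.OddCyclic.CaseAKer
end

-- part: OddCyclic/CaseAInv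
section
/-!
# S0342, component type, case A: A4 (iv) and the summary of A4 (i)-(iv)

`V - ⋃Δ = E - {1}`, `N_G(V) ≤ N_G(E)`, `N_Y(R) = C_Y(R)`.
-/

set_option autoImplicit false

namespace Cfsg.Agent.OddCyclic.CaseAInv

open Subgroup
open Cfsg.Agent.LieExceptional Cfsg.Agent.LieExceptional.CITDefs
open Cfsg.Agent.LieExceptional.CITBasic
open Cfsg.Agent.OddCyclic.T1Tools
open Cfsg.Agent.OddCyclic.CompBasic Cfsg.Agent.OddCyclic.CompStandard
open Cfsg.Agent.OddCyclic.CaseADefs Cfsg.Agent.OddCyclic.CaseABase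
open Cfsg.Agent.OddCyclic.CaseACount Cfsg.Agent.OddCyclic.CaseAFour
open Cfsg.Agent.OddCyclic.CaseADelta Cfsg.Agent.OddCyclic.CaseAKer

variable {G : Type*} [Group G] [Finite G] {p : ℕ} {K R E H : Subgroup G} {q : ℕ}

/-- A central involution modulo a normal subgroup of a 2-group. -/
theorem exists_central {V W : Subgroup G} (hW : IsPGroup 2 W) (hVW : V ≤ W) (hne : V ≠ W)
    (hn : ∀ w ∈ W, ∀ v ∈ V, w * v * w⁻¹ ∈ V) :
    ∃ z ∈ W, z ∉ V ∧ z * z ∈ V ∧ ∀ s ∈ W, z⁻¹ * s⁻¹ * z * s ∈ V := by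
  have hpf : Fact (Nat.Prime 2) := ⟨Nat.prime_two⟩
  have hnor : (V.subgroupOf W).Normal := by
    refine Subgroup.normal_subgroupOf_of_le_normalizer fun w hw => ?_
    exact mem_normalizer_of_forall (hn w hw)
  set Q := W ⧸ V.subgroupOf W with hQ
  have hQ2 : IsPGroup 2 Q := hW.to_quotient _
  have hQn : Nontrivial Q := by
    by_contra hnt
    rw [not_nontrivial_iff_subsingleton] at hnt
    have h1 : V.subgroupOf W = ⊤ := QuotientGroup.subsingleton_iff.mp hnt
    exact hne (le_antisymm hVW (Subgroup.subgroupOf_eq_top.mp h1))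
  have hc := hQ2.center_nontrivial
  obtain ⟨c, hc', hc2⟩ := exists_involution_of_ne_bot (hQ2.to_subgroup (center Q))
    ((Subgroup.nontrivial_iff_ne_bot _).mp hc)
  obtain ⟨z, rfl⟩ := QuotientGroup.mk_surjective c
  refine ⟨z, z.2, ?_, ?_, ?_⟩
  · intro hz
    apply ne_one_of_orderOf hc2
    rw [QuotientGroup.eq_one_iff]
    exact Subgroup.mem_subgroupOf.mpr hz
  · have h1 := sq_of_orderOf hc2
    have h2 : ((z * z : W) : Q) = 1 := h1
    rw [QuotientGroup.eq_one_iff] at h2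
    exact Subgroup.mem_subgroupOf.mp h2
  · intro s hs
    have h1 := Subgroup.mem_center_iff.mp hc' ((⟨s, hs⟩ : W) : Q)
    have h2 : ((z⁻¹ * (⟨s, hs⟩ : W)⁻¹ * z * ⟨s, hs⟩ : W) : Q) = 1 := by
      have h3 : ((z⁻¹ * (⟨s, hs⟩ : W)⁻¹ * z * ⟨s, hs⟩ : W) : Q) =
          (z : Q)⁻¹ * ((⟨s, hs⟩ : W) : Q)⁻¹ * ((z : Q) * ((⟨s, hs⟩ : W) : Q)) := by
        simp only [QuotientGroup.mk_mul, QuotientGroup.mk_inv, mul_assoc]
      rw [h3, ← h1]
      group
    rw [QuotientGroup.eq_one_iff] at h2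
    exact Subgroup.mem_subgroupOf.mp h2

/-- an element `z` of `N` moving all members of `Δ`, with `z² ∈ V` -/
theorem exists_z (h : Std p K) (b : Beta K R E H q) (hD : Nat.card (Delta R (R ⊔ E)) = q) :
    ∃ z ∈ normalizer ((R ⊔ E : Subgroup G) : Set G), z * z ∈ R ⊔ E ∧
      ∀ X ∈ Delta R (R ⊔ E), cj z X ≠ X := by
  obtain ⟨W, hW, hVW⟩ := exists_isSyl2 (normalizer ((R ⊔ E : Subgroup G) : Set G)) (R ⊔ E)
    Subgroup.le_normalizer (isPGroup_of_elem b.elemV)
  have hne : R ⊔ E ≠ W := by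
    intro hVW'
    obtain ⟨X, hX, hXR⟩ := exists_ne_R h b
    obtain ⟨s, hs, hXs⟩ := trans_W h b hD hW hX
    apply hXR
    rw [hXs]
    rw [← hVW'] at hs
    exact V_fix b R_mem_delta hs
  obtain ⟨z, hzW, hzV, hz2, hzc⟩ := exists_central hW.two hVW hne
    (fun w hw => forall_of_mem_normalizer (hW.le hw))
  refine ⟨z, hW.le hzW, hz2, fun X hX hfix => hzV ?_⟩
  have hkey : ∀ X ∈ Delta R (R ⊔ E), cj z X = X → cj z R = R := by
    intro X hX hfix
    obtain ⟨s, hs, rfl⟩ := trans_W h b hD hW hX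
    -- `z s⁻¹ = s⁻¹ z v`
    have h1 : z⁻¹ * (s⁻¹)⁻¹ * z * s⁻¹ ∈ R ⊔ E := hzc _ (W.inv_mem hs)
    have e1 : z * (s⁻¹ * s) = s⁻¹ * z * (z⁻¹ * (s⁻¹)⁻¹ * z * s⁻¹) * s := by group
    calc cj z R = cj (z * (s⁻¹ * s)) R := by rw [inv_mul_cancel, mul_one]
      _ = cj (s⁻¹ * z * (z⁻¹ * (s⁻¹)⁻¹ * z * s⁻¹) * s) R := by rw [e1]
      _ = cj s⁻¹ (cj z (cj (z⁻¹ * (s⁻¹)⁻¹ * z * s⁻¹) (cj s R))) := by
          rw [cj_mul, cj_mul, cj_mul]
      _ = cj s⁻¹ (cj z (cj s R)) := by rw [V_fix b hX h1]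
      _ = R := by rw [hfix, cj_inv_cj]
  have hR := hkey X hX hfix
  refine ker h b (hW.le hzW) (mem_of_pow_two hW.two hzW) fun X' hX' => ?_
  obtain ⟨s, hs, rfl⟩ := trans_W h b hD hW hX'
  have h1 : z⁻¹ * s⁻¹ * z * s ∈ R ⊔ E := hzc _ hs
  have e1 : z * s = s * z * (z⁻¹ * s⁻¹ * z * s) := by group
  calc cj z (cj s R) = cj (z * s) R := by rw [cj_mul]
    _ = cj (s * z * (z⁻¹ * s⁻¹ * z * s)) R := by rw [← e1]
    _ = cj s (cj z (cj (z⁻¹ * s⁻¹ * z * s) R)) := by rw [cj_mul, cj_mul]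
    _ = cj s R := by rw [V_fix b R_mem_delta h1, hR]

/-- the elements of `V` outside the members of `Δ` -/
def Out (R V : Subgroup G) (x : G) : Prop := x ∈ V ∧ ¬ ∃ X ∈ Delta R V, x ∈ X

omit [Finite G] in
theorem Out.ne_one {V : Subgroup G} {x : G} (hx : Out R V x) : x ≠ 1 := by
  rintro rfl
  exact hx.2 ⟨R, ⟨1, Subgroup.one_mem _, (cj_one R).symm⟩, R.one_mem⟩

omit [Finite G] in
theorem Out.conj {V : Subgroup G} {x : G} (hx : Out R V x) {n : G}
    (hn : n ∈ normalizer (V : Set G)) : Out R V (n * x * n⁻¹) := by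
  refine ⟨forall_of_mem_normalizer hn x hx.1, ?_⟩
  rintro ⟨X, hX, hxX⟩
  refine hx.2 ⟨cj n⁻¹ X, cj_mem_delta hX (Subgroup.inv_mem _ hn), ?_⟩
  rw [mem_cj, inv_inv]
  exact hxX

theorem card_out (h : Std p K) (b : Beta K R E H q) (hD : Nat.card (Delta R (R ⊔ E)) = q) :
    Nat.card {x : G // Out R (R ⊔ E) x} = q - 1 := by
  classical
  have hf : Fintype (Delta R (R ⊔ E)) := Fintype.ofFinite _
  have h1 := card_union (fun X : Delta R (R ⊔ E) => (X : Subgroup G))
    (fun X X' hne s hs hs' => by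
      by_contra hs1
      exact hne (Subtype.ext (delta_ti h b X.2 X'.2 hs1 hs hs')))
  rw [Finset.sum_congr rfl (fun X _ => by rw [card_of_mem_delta X.2]), Finset.sum_const,
    smul_eq_mul, Finset.card_univ, ← Nat.card_eq_fintype_card, hD] at h1
  have h2 := Nat.card_congr (Equiv.sumCompl
    (fun x : {x : (R ⊔ E : Subgroup G) // x ≠ 1} => ∃ X ∈ Delta R (R ⊔ E), (x : G) ∈ X))
  rw [Nat.card_sum, card_ne_one, b.card_V] at h2
  have h3 : Nat.card {x : {x : (R ⊔ E : Subgroup G) // x ≠ 1} //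
      ∃ X ∈ Delta R (R ⊔ E), ((x : (R ⊔ E : Subgroup G)) : G) ∈ X} =
      Nat.card {x : G // x ≠ 1 ∧ ∃ X : Delta R (R ⊔ E), x ∈ (X : Subgroup G)} := Nat.card_congr
    { toFun := fun x => ⟨((x : {x : (R ⊔ E : Subgroup G) // x ≠ 1}) : (R ⊔ E : Subgroup G)),
        fun hh => x.1.2 (Subtype.ext hh), by
          obtain ⟨X, hX, hx⟩ := x.2
          exact ⟨⟨X, hX⟩, hx⟩⟩
      invFun := fun x => ⟨⟨⟨x.1, by
          obtain ⟨X, hX⟩ := x.2.2
          exact le_of_mem_delta X.2 hX⟩, fun hh => x.2.1 (congrArg Subtype.val hh)⟩, by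
          obtain ⟨X, hX⟩ := x.2.2
          exact ⟨X.1, X.2, hX⟩⟩
      left_inv := fun _ => rfl
      right_inv := fun _ => rfl }
  have h4 : Nat.card {x : {x : (R ⊔ E : Subgroup G) // x ≠ 1} //
      ¬ ∃ X ∈ Delta R (R ⊔ E), ((x : (R ⊔ E : Subgroup G)) : G) ∈ X} =
      Nat.card {x : G // Out R (R ⊔ E) x} := Nat.card_congr
    { toFun := fun x => ⟨((x : {x : (R ⊔ E : Subgroup G) // x ≠ 1}) : (R ⊔ E : Subgroup G)),
        x.1.1.2, x.2⟩
      invFun := fun x => ⟨⟨⟨x.1, x.2.1⟩, fun hh =>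
          x.2.ne_one (congrArg Subtype.val hh)⟩, x.2.2⟩
      left_inv := fun _ => rfl
      right_inv := fun _ => rfl }
  rw [h3, h4, h1] at h2
  have h5 := card_R_two h b
  have h6 := b.l2.four
  set r := Nat.card R with hr
  obtain ⟨s, rfl⟩ : ∃ s, q = s + 1 := ⟨q - 1, by omega⟩
  obtain ⟨t, ht⟩ : ∃ t, r = t + 1 := ⟨r - 1, by omega⟩
  rw [ht] at h2
  simp only [Nat.add_sub_cancel] at h2 ⊢
  have h7 : (t + 1) * (s + 1) - 1 = (s + 1) * t + s := by
    have : (t + 1) * (s + 1) = (s + 1) * t + s + 1 := by ring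
    omega
  omega

/-- `V - ⋃Δ` is one orbit of `H` -/
theorem out_orbit (h : Std p K) (b : Beta K R E H q) (hD : Nat.card (Delta R (R ⊔ E)) = q)
    {c c' : G} (hc : Out R (R ⊔ E) c) (hc' : Out R (R ⊔ E) c') : ∃ x ∈ H, x * c * x⁻¹ = c' := by
  have hcR : c ∉ R := fun hh => hc.2 ⟨R, R_mem_delta, hh⟩
  have hinj : Function.Injective (fun x : H => (⟨(x : G) * c * (x : G)⁻¹,
      hc.conj (H_le_N b x.2)⟩ : {y : G // Out R (R ⊔ E) y})) := by
    intro x y hxy
    have h1 : (x : G) * c * (x : G)⁻¹ = (y : G) * c * (y : G)⁻¹ := congrArg Subtype.val hxy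
    have h2 : ((y : G)⁻¹ * x) * c = c * ((y : G)⁻¹ * x) := by
      calc ((y : G)⁻¹ * x) * c = (y : G)⁻¹ * ((x : G) * c * (x : G)⁻¹) * x := by group
        _ = (y : G)⁻¹ * ((y : G) * c * (y : G)⁻¹) * x := by rw [h1]
        _ = c * ((y : G)⁻¹ * x) := by group
    have h3 := H_comm b (H.mul_mem (H.inv_mem y.2) x.2) hc.1 hcR h2
    exact Subtype.ext (inv_mul_eq_one.mp h3).symm
  have hbij := hinj.bijective_of_nat_card_le (by rw [card_out h b hD, b.bor.cardH])
  obtain ⟨x, hx⟩ := hbij.2 ⟨c', hc'⟩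
  exact ⟨x, x.2, congrArg Subtype.val hx⟩

/-- `V - ⋃Δ = r₀ (E - {1})` -/
theorem exists_r0 (h : Std p K) (b : Beta K R E H q) (hD : Nat.card (Delta R (R ⊔ E)) = q) :
    ∃ r₀ ∈ R, ∀ x, Out R (R ⊔ E) x ↔ ∃ e ∈ E, e ≠ 1 ∧ x = r₀ * e := by
  have h4 := b.l2.four
  obtain ⟨⟨c, hc⟩⟩ : Nonempty {x : G // Out R (R ⊔ E) x} := by
    by_contra hne
    rw [not_nonempty_iff] at hne
    have h1 := card_out h b hD
    rw [Nat.card_eq_zero.mpr (Or.inl hne)] at h1
    omega
  obtain ⟨r₀, hr₀, e₀, he₀, hce⟩ := b.mem_V.mp hc.1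
  have he₀1 : e₀ ≠ 1 := by
    rintro rfl
    rw [mul_one] at hce
    exact hc.2 ⟨R, R_mem_delta, by rw [hce]; exact hr₀⟩
  have hconj : ∀ x ∈ H, x * c * x⁻¹ = r₀ * (x * e₀ * x⁻¹) := by
    intro x hx
    have h1 : x * r₀ = r₀ * x := comm_KY x (b.bor.leH hx) r₀ (b.sylR.le hr₀)
    calc x * c * x⁻¹ = (x * r₀) * e₀ * x⁻¹ := by rw [hce]; group
      _ = (r₀ * x) * e₀ * x⁻¹ := by rw [h1]
      _ = r₀ * (x * e₀ * x⁻¹) := by group
  refine ⟨r₀, hr₀, fun x => ⟨fun hx => ?_, ?_⟩⟩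
  · obtain ⟨y, hy, hyx⟩ := out_orbit h b hD hc hx
    refine ⟨y * e₀ * y⁻¹, b.bor.norm y hy e₀ he₀, fun hh => he₀1 ?_, ?_⟩
    · have : e₀ = y⁻¹ * (y * e₀ * y⁻¹) * y := by group
      rw [this, hh]; group
    · rw [← hyx, hconj y hy]
  · rintro ⟨e, he, he1, rfl⟩
    obtain ⟨y, hy, hye⟩ := H_trans_E b he₀ he₀1 he he1
    rw [← hye, ← hconj y hy]
    exact hc.conj (H_le_N b hy)

omit [Finite G] in
theorem inv_of_sq {x : G} (h : x * x = 1) : x⁻¹ = x := inv_eq_of_mul_eq_one_left h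

/-- **(iv)** `V - ⋃Δ = E - {1}` -/
theorem out_iff (h : Std p K) (b : Beta K R E H q) (hD : Nat.card (Delta R (R ⊔ E)) = q)
    {x : G} : Out R (R ⊔ E) x ↔ x ∈ E ∧ x ≠ 1 := by
  obtain ⟨r₀, hr₀, hout⟩ := exists_r0 h b hD
  suffices hr1 : r₀ = 1 by
    rw [hout, hr1]
    constructor
    · rintro ⟨e, he, he1, rfl⟩
      rw [one_mul]
      exact ⟨he, he1⟩
    · rintro ⟨he, he1⟩
      exact ⟨x, he, he1, (one_mul x).symm⟩
  by_contra hr1
  have h2R := card_R_two h b
  rcases Nat.lt_or_ge 2 (Nat.card R) with h3 | h3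
  · -- `|R| ≥ 3`
    obtain ⟨z, hz, hz2, hmove⟩ := exists_z h b hD
    -- nonidentity elements of `C_V(z)` are outside
    have hCout : ∀ v ∈ R ⊔ E, v ≠ 1 → z * v * z⁻¹ = v → Out R (R ⊔ E) v := by
      intro v hv hv1 hzv
      refine ⟨hv, ?_⟩
      rintro ⟨X, hX, hvX⟩
      refine hmove X hX ?_
      have h1 : v ∈ cj z X := by rw [← hzv]; exact conj_mem_cj hvX
      exact delta_ti h b (cj_mem_delta hX hz) hX hv1 h1 hvX
    have hfz : ∀ r ∈ R, r * (z * r * z⁻¹) ∈ R ⊔ E ∧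
        z * (r * (z * r * z⁻¹)) * z⁻¹ = r * (z * r * z⁻¹) := by
      intro r hr
      have hrV : r ∈ R ⊔ E := mem_sup_left hr
      have h1 : z * r * z⁻¹ ∈ R ⊔ E := forall_of_mem_normalizer hz r hrV
      refine ⟨Subgroup.mul_mem _ hrV h1, ?_⟩
      have h5 : (z * z) * r = r * (z * z) := b.elemV.comm hz2 hrV
      calc z * (r * (z * r * z⁻¹)) * z⁻¹ = (z * r * z⁻¹) * ((z * z) * r * (z * z)⁻¹) := by group
        _ = (z * r * z⁻¹) * r := by rw [h5, mul_inv_cancel_right]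
        _ = r * (z * r * z⁻¹) := b.elemV.comm h1 hrV
    have hfz1 : ∀ r ∈ R, r ≠ 1 → r * (z * r * z⁻¹) ≠ 1 := by
      intro r hr hr1 hh
      have h5 : z * r * z⁻¹ = r := by
        have h6 := eq_inv_of_mul_eq_one_right hh
        rw [h6, inv_of_sq (b.elemR r hr)]
      exact (hCout r (mem_sup_left hr) hr1 h5).2 ⟨R, R_mem_delta, hr⟩
    obtain ⟨r₁, hr₁, hr₁1, r₂, hr₂, hr₂1, h12⟩ : ∃ r₁ ∈ R, r₁ ≠ 1 ∧ ∃ r₂ ∈ R, r₂ ≠ 1 ∧
        r₁ ≠ r₂ := by
      by_contra hno
      push Not at hno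
      have h5 : Nat.card {x : R // x ≠ 1} ≤ 1 := by
        rw [Finite.card_le_one_iff_subsingleton]
        constructor
        rintro ⟨⟨x, hx⟩, hx1⟩ ⟨⟨y, hy⟩, hy1⟩
        have := hno x hx (fun hh => hx1 (Subtype.ext hh)) y hy (fun hh => hy1 (Subtype.ext hh))
        exact Subtype.ext (Subtype.ext this)
      rw [card_ne_one] at h5
      omega
    obtain ⟨hc1, hc1z⟩ := hfz r₁ hr₁
    obtain ⟨hc2, hc2z⟩ := hfz r₂ hr₂
    obtain ⟨e₁, he₁, he₁1, hce₁⟩ := (hout _).mp (hCout _ hc1 (hfz1 r₁ hr₁ hr₁1) hc1z)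
    obtain ⟨e₂, he₂, he₂1, hce₂⟩ := (hout _).mp (hCout _ hc2 (hfz1 r₂ hr₂ hr₂1) hc2z)
    -- the product
    have hprod : r₁ * (z * r₁ * z⁻¹) * (r₂ * (z * r₂ * z⁻¹)) = e₁ * e₂ := by
      rw [hce₁, hce₂]
      calc r₀ * e₁ * (r₀ * e₂) = r₀ * (e₁ * r₀) * e₂ := by group
        _ = r₀ * (r₀ * e₁) * e₂ := by rw [b.comm r₀ hr₀ e₁ he₁]
        _ = (r₀ * r₀) * (e₁ * e₂) := by group
        _ = e₁ * e₂ := by rw [b.elemR r₀ hr₀, one_mul]
    have hprod1 : r₁ * (z * r₁ * z⁻¹) * (r₂ * (z * r₂ * z⁻¹)) =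
        (r₁ * r₂) * (z * (r₁ * r₂) * z⁻¹) := by
      have h5 : z * r₁ * z⁻¹ ∈ R ⊔ E := forall_of_mem_normalizer hz r₁ (mem_sup_left hr₁)
      have h6 : (z * r₁ * z⁻¹) * r₂ = r₂ * (z * r₁ * z⁻¹) :=
        b.elemV.comm h5 (mem_sup_left hr₂)
      calc r₁ * (z * r₁ * z⁻¹) * (r₂ * (z * r₂ * z⁻¹))
          = r₁ * ((z * r₁ * z⁻¹) * r₂) * (z * r₂ * z⁻¹) := by group
        _ = r₁ * (r₂ * (z * r₁ * z⁻¹)) * (z * r₂ * z⁻¹) := by rw [h6]
        _ = (r₁ * r₂) * (z * (r₁ * r₂) * z⁻¹) := by group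
    have hr12 : r₁ * r₂ ∈ R := R.mul_mem hr₁ hr₂
    have hr121 : r₁ * r₂ ≠ 1 := by
      intro hh
      apply h12
      rw [eq_inv_of_mul_eq_one_left hh, inv_of_sq (b.elemR r₂ hr₂)]
    obtain ⟨hc3, hc3z⟩ := hfz _ hr12
    obtain ⟨e₃, he₃, -, hce₃⟩ := (hout _).mp (hCout _ hc3 (hfz1 _ hr12 hr121) hc3z)
    apply hr1
    refine b.inf hr₀ ?_
    have h7 : r₀ = (e₁ * e₂) * e₃⁻¹ := by
      rw [← hprod, hprod1, hce₃]; group
    rw [h7]
    exact E.mul_mem (E.mul_mem he₁ he₂) (E.inv_mem he₃)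
  · -- `|R| = 2`
    have hR2 : Nat.card R = 2 := le_antisymm h3 h2R
    have h4 := b.l2.four
    have honly : ∀ r ∈ R, r ≠ 1 → r = r₀ := by
      intro r hr hr1'
      obtain ⟨u, hu, huu⟩ := (Nat.card_eq_two_iff' (1 : R)).mp hR2
      have h5 : (⟨r, hr⟩ : R) = u := huu _ (fun hh => hr1' (congrArg Subtype.val hh))
      have h6 : (⟨r₀, hr₀⟩ : R) = u := huu _ (fun hh => hr1 (congrArg Subtype.val hh))
      exact congrArg Subtype.val (h5.trans h6.symm)
    obtain ⟨e₁, he₁, he₁1, e₂, he₂, he₂1, h12⟩ : ∃ e₁ ∈ E, e₁ ≠ 1 ∧ ∃ e₂ ∈ E, e₂ ≠ 1 ∧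
        e₁ ≠ e₂ := by
      by_contra hno
      push Not at hno
      have h5 : Nat.card {x : E // x ≠ 1} ≤ 1 := by
        rw [Finite.card_le_one_iff_subsingleton]
        constructor
        rintro ⟨⟨x, hx⟩, hx1⟩ ⟨⟨y, hy⟩, hy1⟩
        have := hno x hx (fun hh => hx1 (Subtype.ext hh)) y hy (fun hh => hy1 (Subtype.ext hh))
        exact Subtype.ext (Subtype.ext this)
      rw [card_ne_one, b.bor.cardE] at h5
      omega
    -- elements of `E` are not outside
    have hEin : ∀ e ∈ E, ∃ X ∈ Delta R (R ⊔ E), e ∈ X := by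
      intro e he
      by_contra hno
      obtain ⟨e', he', -, hee'⟩ := (hout e).mp ⟨mem_sup_right he, hno⟩
      apply hr1
      refine b.inf hr₀ ?_
      have : r₀ = e * e'⁻¹ := by rw [hee']; group
      rw [this]
      exact E.mul_mem he (E.inv_mem he')
    obtain ⟨X₁, ⟨n, hn, rfl⟩, heX₁⟩ := hEin e₁ he₁
    obtain ⟨X₂, hX₂, heX₂⟩ := hEin e₂ he₂
    obtain ⟨X₃, hX₃, heX₃⟩ := hEin _ (E.mul_mem he₁ he₂)
    have hn' := Subgroup.inv_mem _ hn
    have hin : ∀ (e : G) (X : Subgroup G), X ∈ Delta R (R ⊔ E) → e ∈ X →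
        ∃ X' ∈ Delta R (R ⊔ E), n⁻¹ * e * n ∈ X' := by
      intro e X hX heX
      refine ⟨cj n⁻¹ X, cj_mem_delta hX hn', ?_⟩
      have := conj_mem_cj (g := n⁻¹) heX
      rwa [inv_inv] at this
    have h5 : n⁻¹ * e₁ * n = r₀ := by
      refine honly _ (mem_cj.mp heX₁) fun hh => he₁1 ?_
      have : e₁ = n * (n⁻¹ * e₁ * n) * n⁻¹ := by group
      rw [this, hh]; group
    have h6 : n⁻¹ * e₂ * n ∈ R ⊔ E := by
      have := forall_of_mem_normalizer hn' e₂ (mem_sup_right he₂)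
      rwa [inv_inv] at this
    obtain ⟨r, hr, e, he, hre⟩ := b.mem_V.mp h6
    have hr' : r = 1 := by
      by_contra hr1'
      have hrr := honly r hr hr1'
      rw [hrr] at hre
      by_cases he1 : e = 1
      · rw [he1, mul_one] at hre
        apply h12
        have h7 : e₁ = n * (n⁻¹ * e₁ * n) * n⁻¹ := by group
        have h8 : e₂ = n * (n⁻¹ * e₂ * n) * n⁻¹ := by group
        rw [h7, h8, h5, hre]
      · have h7 := (hout _).mpr ⟨e, he, he1, hre⟩
        exact h7.2 (hin e₂ X₂ hX₂ heX₂)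
    rw [hr', one_mul] at hre
    have he1 : e ≠ 1 := by
      intro he1
      apply he₂1
      have h8 : e₂ = n * (n⁻¹ * e₂ * n) * n⁻¹ := by group
      rw [h8, hre, he1]; group
    have h7 : n⁻¹ * (e₁ * e₂) * n = r₀ * e := by
      rw [← h5, ← hre]; group
    have h8 := (hout _).mpr ⟨e, he, he1, h7⟩
    exact h8.2 (hin _ X₃ hX₃ heX₃)

/-- `N_G(V) ≤ N_G(E)` -/
theorem N_le (h : Std p K) (b : Beta K R E H q) (hD : Nat.card (Delta R (R ⊔ E)) = q) :
    normalizer ((R ⊔ E : Subgroup G) : Set G) ≤ normalizer (E : Set G) := by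
  intro n hn
  refine mem_normalizer_of_forall fun e he => ?_
  by_cases he1 : e = 1
  · rw [he1, mul_one, mul_inv_cancel]; exact E.one_mem
  · exact ((out_iff h b hD).mp (((out_iff h b hD).mpr ⟨he, he1⟩).conj hn)).1

theorem inf_E (h : Std p K) (b : Beta K R E H q) (hD : Nat.card (Delta R (R ⊔ E)) = q)
    {X : Subgroup G} (hX : X ∈ Delta R (R ⊔ E)) {e : G} (he : e ∈ E) (heX : e ∈ X) : e = 1 := by
  by_contra he1
  exact ((out_iff h b hD).mpr ⟨he, he1⟩).2 ⟨X, hX, heX⟩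

/-- `N_Y(R)` fixes all members of `Δ` -/
theorem Y_fix (h : Std p K) (b : Beta K R E H q) (hD : Nat.card (Delta R (R ⊔ E)) = q) {y : G}
    (hy : y ∈ centralizer (K : Set G)) (hyR : y ∈ normalizer (R : Set G)) :
    y ∈ normalizer ((R ⊔ E : Subgroup G) : Set G) ∧ ∀ X ∈ Delta R (R ⊔ E), cj y X = X := by
  have hyM : y ∈ normalizer (K : Set G) := centralizer_le_normalizer _ hy
  have hyN : y ∈ normalizer ((R ⊔ E : Subgroup G) : Set G) := by
    refine mem_normalizer_of_forall fun v hv => ?_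
    obtain ⟨r, hr, e, he, rfl⟩ := b.mem_V.mp hv
    have h1 : e * y = y * e := comm_KY e (b.sylE.le he) y hy
    have e1 : y * (r * e) * y⁻¹ = (y * r * y⁻¹) * e := by
      calc y * (r * e) * y⁻¹ = y * r * y⁻¹ * ((y * e) * y⁻¹) := by group
        _ = y * r * y⁻¹ * ((e * y) * y⁻¹) := by rw [h1]
        _ = (y * r * y⁻¹) * e := by group
    rw [e1]
    exact Subgroup.mul_mem _ (mem_sup_left (forall_of_mem_normalizer hyR r hr)) (mem_sup_right he)
  refine ⟨hyN, fun X hX => ?_⟩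
  by_cases hXR : X = R
  · rw [hXR]; exact cj_eq_iff.mpr hyR
  obtain ⟨x, hx, hxX⟩ := H_trans h b hD hX hXR (cj_mem_delta hX hyN) (cj_ne_R b hXR hyN hyM)
  have hxy : x * y = y * x := comm_KY x (b.bor.leH hx) y hy
  have hpow : ∀ k : ℕ, cj (y ^ k) X = cj (x ^ k) X := by
    intro k
    induction k with
    | zero => rw [pow_zero, pow_zero]
    | succ k ih =>
      have h1 : y * x ^ k = x ^ k * y := ((show Commute x y from hxy).pow_left k).symm
      rw [pow_succ', cj_mul, ih, ← cj_mul, h1, cj_mul, ← hxX, ← cj_mul, ← pow_succ]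
  have h1 := hpow (Nat.card (centralizer (K : Set G)))
  have h2 : y ^ Nat.card (centralizer (K : Set G)) = 1 := by
    have := pow_card_eq_one' (x := (⟨y, hy⟩ : centralizer (K : Set G)))
    exact congrArg Subtype.val this
  rw [h2, cj_one] at h1
  have h3 := H_free h b hX hXR (H.pow_mem hx _) h1.symm
  have hx1 : x = 1 := by
    by_contra hx1
    obtain ⟨r, hr, hrx⟩ := Nat.exists_prime_and_dvd (fun hh => hx1 (orderOf_eq_one_iff.mp hh))
    have h4 : r ∣ Nat.card (centralizer (K : Set G)) := hrx.trans (orderOf_dvd_of_pow_eq_one h3)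
    have h5 : r ∣ Nat.card K := hrx.trans (K.orderOf_dvd_natCard (b.bor.leH hx))
    have h6 : r ∣ q - 1 := by
      rw [← b.bor.cardH]; exact hrx.trans (H.orderOf_dvd_natCard hx)
    have h7 : r ≠ 2 := by
      rintro rfl
      exact (Nat.not_even_iff_odd.mpr (odd_card_H b.l2)) (even_iff_two_dvd.mpr h6)
    exact h.not_dvd hr h7 h5 h4
  rw [← hxX, hx1, cj_one]

/-- **(iii)** `N_Y(R) = C_Y(R)` -/
theorem centR (h : Std p K) (b : Beta K R E H q) (hD : Nat.card (Delta R (R ⊔ E)) = q) {y : G}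
    (hy : y ∈ centralizer (K : Set G)) (hyR : y ∈ normalizer (R : Set G)) {r : G} (hr : r ∈ R) :
    y * r = r * y := by
  obtain ⟨hyN, hfix⟩ := Y_fix h b hD hy hyR
  obtain ⟨X, hX, hXR⟩ := exists_ne_R h b
  -- the projection `X → R` is surjective
  have hex : ∀ v : X, ∃ r : R, ∃ e ∈ E, (v : G) = r * e := by
    intro v
    obtain ⟨r, hr, e, he, hre⟩ := b.mem_V.mp (le_of_mem_delta hX v.2)
    exact ⟨⟨r, hr⟩, e, he, hre⟩
  choose f e he hf using hex
  have hinj : Function.Injective f := by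
    intro v v' hvv
    have h1 : (v : G)⁻¹ * v' = (e v)⁻¹ * e v' := by
      rw [hf v, hf v', hvv]; group
    have h2 := inf_E h b hD hX (e := (v : G)⁻¹ * v')
      (by rw [h1]; exact E.mul_mem (E.inv_mem (he v)) (he v')) (X.mul_mem (X.inv_mem v.2) v'.2)
    exact Subtype.ext (inv_mul_eq_one.mp h2)
  have hbij := hinj.bijective_of_nat_card_le (by rw [card_of_mem_delta hX])
  obtain ⟨v, hv⟩ := hbij.2 ⟨r, hr⟩
  have hve : (v : G) = r * e v := by
    have := hf v
    rw [hv] at this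
    exact this
  have h1 : y * (v : G) * y⁻¹ ∈ X := by
    have h2 : y * (v : G) * y⁻¹ ∈ cj y X := conj_mem_cj v.2
    rwa [hfix X hX] at h2
  have h2 : y * (v : G) * y⁻¹ * (v : G)⁻¹ = y * r * y⁻¹ * r⁻¹ := by
    have h3 : e v * y = y * e v := comm_KY _ (b.sylE.le (he v)) y hy
    rw [hve]
    calc y * (r * e v) * y⁻¹ * (r * e v)⁻¹ = y * r * y⁻¹ * ((y * e v) * y⁻¹ * (e v)⁻¹) * r⁻¹ := by
          group
      _ = y * r * y⁻¹ * ((e v * y) * y⁻¹ * (e v)⁻¹) * r⁻¹ := by rw [h3]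
      _ = y * r * y⁻¹ * r⁻¹ := by group
  have h3 : y * r * y⁻¹ * r⁻¹ ∈ X := by
    rw [← h2]; exact X.mul_mem h1 (X.inv_mem v.2)
  have h4 : y * r * y⁻¹ * r⁻¹ ∈ R :=
    R.mul_mem (forall_of_mem_normalizer hyR r hr) (R.inv_mem hr)
  have h5 : y * r * y⁻¹ * r⁻¹ = 1 := by
    by_contra hne
    exact hXR (delta_ti h b hX R_mem_delta hne h3 h4)
  exact mul_inv_eq_iff_eq_mul.mp (mul_inv_eq_one.mp h5)

/-- The results of A4 (i)-(iv). -/
structure Four (K R E H : Subgroup G) (q : ℕ) : Prop where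
  beta : Beta K R E H q
  ex : ∃ n ∈ normalizer ((R ⊔ E : Subgroup G) : Set G), n ∉ normalizer (K : Set G)
  card : Nat.card (Delta R (R ⊔ E)) = q
  /-- `V - ⋃Δ = E - {1}` -/
  mem_iff : ∀ v ∈ R ⊔ E, (∃ n ∈ normalizer ((R ⊔ E : Subgroup G) : Set G), v ∈ cj n R) ↔
    (v = 1 ∨ v ∉ E)
  N_le : normalizer ((R ⊔ E : Subgroup G) : Set G) ≤ normalizer (E : Set G)
  /-- `N_Y(R) = C_Y(R)` -/
  centR : ∀ y ∈ centralizer (K : Set G), y ∈ normalizer (R : Set G) → ∀ r ∈ R, y * r = r * y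
  ker : ∀ z ∈ normalizer ((R ⊔ E : Subgroup G) : Set G), (∃ n : ℕ, z ^ 2 ^ n = 1) →
    (∀ n ∈ normalizer ((R ⊔ E : Subgroup G) : Set G), cj z (cj n R) = cj n R) → z ∈ R ⊔ E
  /-- a Sylow 2-subgroup of `N` is transitive on `Δ` -/
  trans : ∀ W : Subgroup G, IsSyl2 (normalizer ((R ⊔ E : Subgroup G) : Set G)) W →
    ∀ n ∈ normalizer ((R ⊔ E : Subgroup G) : Set G), ∃ s ∈ W, cj n R = cj s R

/-- **A4 (i)-(iv)** -/
theorem four (h : Std p K) (b : Beta K R E H q) (hD : Nat.card (Delta R (R ⊔ E)) = q) :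
    Four K R E H q := by
  refine ⟨b, exists_n h b, hD, fun v hv => ?_, N_le h b hD, fun y hy hyR r hr =>
    centR h b hD hy hyR hr, fun z hz h2 hfix => ker h b hz h2 ?_, fun W hW n hn =>
    trans_W h b hD hW ⟨n, hn, rfl⟩⟩
  · constructor
    · rintro ⟨n, hn, hvn⟩
      by_contra hcon
      push Not at hcon
      exact ((out_iff h b hD).mpr ⟨hcon.2, hcon.1⟩).2 ⟨cj n R, ⟨n, hn, rfl⟩, hvn⟩
    · intro hor
      by_contra hno
      have hout : Out R (R ⊔ E) v := by
        refine ⟨hv, ?_⟩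
        rintro ⟨X, ⟨n, hn, rfl⟩, hvX⟩
        exact hno ⟨n, hn, hvX⟩
      have h1 := (out_iff h b hD).mp hout
      rcases hor with h2 | h2
      · exact h1.2 h2
      · exact h2 h1.1
  · rintro X ⟨n, hn, rfl⟩
    exact hfix n hn

/-- the case `T > S`: a 2-group larger than a Sylow 2-subgroup of `M` normalizes `S` -/
theorem four_of_lt (h : Std p K) (b : Beta K R E H q) {S W : Subgroup G}
    (hS : IsSyl2 (normalizer (K : Set G)) S) (hV : R ⊔ E ≤ S) (hW2 : IsPGroup 2 W)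
    (hlt : S < W) : Four K R E H q := by
  have hpf : Fact (Nat.Prime 2) := ⟨Nat.prime_two⟩
  -- `N_W(S) > S` normalizes `V`
  set W₁ : Subgroup G := normalizer (S : Set G) ⊓ W with hW₁
  have h1 : S < W₁ := by
    rw [lt_iff_le_and_ne]
    refine ⟨le_inf Subgroup.le_normalizer hlt.le, fun hh => hlt.ne ?_⟩
    exact (Cfsg.Agent.Blocks.SylowIn.eq_of_normalizer_inf_le (p := 2) hW2 hlt.le hh.ge).symm
  have h2 : W₁ ≤ normalizer ((R ⊔ E : Subgroup G) : Set G) := by
    intro x hx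
    rw [← cj_eq_iff]
    refine unique_V b hS hV ?_ (elem_cj b.elemV) (by rw [card_cj, b.card_V])
    have h3 : cj x S = S := cj_eq_iff.mpr hx.1
    rw [← h3]
    exact cj_mono hV
  exact four h b (card_delta_of_lt h b hS h2 (hW2.to_le inf_le_right)
    (by
      have h3 := Subgroup.card_le_of_le h1.le
      refine lt_of_le_of_ne h3 fun hh => h1.ne ?_
      exact Subgroup.eq_of_le_of_card_ge h1.le hh.ge))

end Cfsg.Agent.OddCyclic.CaseAInv
end

-- part: OddCyclic/CaseAFive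
section
/-!
# S0342, component type, case A: A4 (v)

`C = C_G(E)`, `P ∈ Syl₂(C)` invariant under `H` and `N_S(H)`; `C_P(t) = V` for `1 ≠ t ∈ R`, `C_P(x) = R` for
`1 ≠ x ∈ H`.
-/

set_option autoImplicit false

namespace Cfsg.Agent.OddCyclic.CaseAFive

open Subgroup
open scoped Pointwise
open Cfsg.Agent.LieExceptional Cfsg.Agent.LieExceptional.CITDefs
open Cfsg.Agent.LieExceptional.CITBasic
open Cfsg.Agent.OddCyclic.T1Tools
open Cfsg.Agent.OddCyclic.CompBasic Cfsg.Agent.OddCyclic.CompStandard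
open Cfsg.Agent.OddCyclic.CaseADefs Cfsg.Agent.OddCyclic.CaseABase
open Cfsg.Agent.OddCyclic.CaseACount Cfsg.Agent.OddCyclic.CaseAFour
open Cfsg.Agent.OddCyclic.CaseADelta Cfsg.Agent.OddCyclic.CaseAKer

variable {G : Type*} [Group G] [Finite G] {p : ℕ} {K R E H : Subgroup G} {q : ℕ}

omit [Finite G] in
theorem exists_E_ne (b : Beta K R E H q) : ∃ e ∈ E, e ≠ 1 := by
  by_contra hno
  push Not at hno
  have h4 := b.l2.four
  have h1 : E = ⊥ := (eq_bot_iff).mpr fun e he => by rw [Subgroup.mem_bot]; exact hno e he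
  have h2 := b.bor.cardE
  rw [h1, Subgroup.card_bot] at h2
  omega

omit [Finite G] in
/-- an element of `H` commuting with `E` is trivial -/
theorem H_comm_E (b : Beta K R E H q) {x : G} (hx : x ∈ H)
    (hc : ∀ e ∈ E, x * e = e * x) : x = 1 := by
  obtain ⟨e, he, he1⟩ := exists_E_ne b
  exact H_inf b.l2 b.bor hx (b.bor.cent e he he1 x (b.bor.leH hx) (hc e he))

theorem H_norm_C (b : Beta K R E H q) :
    H ≤ normalizer (centralizer (E : Set G) : Set G) := fun x hx =>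
  (normalizer_le_centralizer E) (mem_normalizer_of_forall (b.bor.norm x hx))

/-- `|C_G(E)|` is prime to `q - 1` -/
theorem cop (h : Std p K) (b : Beta K R E H q) :
    (Nat.card H).Coprime (Nat.card (centralizer (E : Set G))) := by
  refine Nat.Coprime.symm (Nat.coprime_of_dvd ?_)
  intro r hr hrC hrH
  have hrf : Fact r.Prime := ⟨hr⟩
  have hr2 : r ≠ 2 := by
    rintro rfl
    rw [b.bor.cardH] at hrH
    exact (Nat.not_even_iff_odd.mpr (odd_card_H b.l2)) (even_iff_two_dvd.mpr hrH)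
  have hfH := finite_H b
  obtain ⟨x, hx⟩ := exists_prime_orderOf_dvd_card' r hrH
  have hxr : orderOf (x : G) = r := by rw [← hx, Subgroup.orderOf_coe]
  have h1 := mem_of_le_normalizer h.cyc
    (H := normalizer (centralizer (E : Set G) : Set G)) Subgroup.le_normalizer le_rfl hr hr2 hrC
    (H_norm_C b x.2) hxr
  have h2 := H_comm_E b x.2 (fun e he => (mem_centralizer_iff.mp h1 e he).symm)
  rw [h2, orderOf_one] at hxr
  exact hr.one_lt.ne hxr

theorem normR_le (h : Std p K) (b : Beta K R E H q) :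
    normalizer (R : Set G) ≤ normalizer (K : Set G) := by
  intro u hu
  obtain ⟨t, htR, ht2⟩ := exists_involution_of_ne_bot b.sylR.two (sylR_ne_bot h b.sylR)
  have h1 : u * t * u⁻¹ ∈ cj 1 (centralizer (K : Set G)) := by
    rw [cj_one]; exact b.sylR.le (forall_of_mem_normalizer hu t htR)
  have h2 := mem_of_cj h (by rw [orderOf_conj, ht2]) h1 (conj_mem_cj (b.sylR.le htR))
  rwa [inv_one, one_mul] at h2

omit [Finite G] in
/-- `C_M(E) = YE` -/
theorem C_inf_M (b : Beta K R E H q) {x : G} (hx : x ∈ centralizer (E : Set G))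
    (hM : x ∈ normalizer (K : Set G)) : ∃ y ∈ centralizer (K : Set G), ∃ e ∈ E, x = y * e :=
  b.l2.centE E b.sylE x hM fun e he => (mem_centralizer_iff.mp hx e he).symm

omit [Finite G] in
/-- an element of `YE` commuting with a nontrivial element of `H` is in `Y` -/
theorem mem_Y_of_comm (b : Beta K R E H q) {x y e : G} (hx : x ∈ H) (hx1 : x ≠ 1)
    (hy : y ∈ centralizer (K : Set G)) (he : e ∈ E) (hc : (y * e) * x = x * (y * e)) : e = 1 := by
  by_contra he1
  have h1 : x * y = y * x := comm_KY x (b.bor.leH hx) y hy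
  have h2 : y * (e * x) = y * (x * e) := by
    calc y * (e * x) = (y * e) * x := by group
      _ = x * (y * e) := hc
      _ = (x * y) * e := by group
      _ = (y * x) * e := by rw [h1]
      _ = y * (x * e) := by group
  have h3 := mul_left_cancel h2
  exact hx1 (H_inf b.l2 b.bor hx (b.bor.cent e he he1 x (b.bor.leH hx) h3.symm))

/-- `R` is a maximal 2-subgroup of `C_C(x)`, `1 ≠ x ∈ H` -/
theorem eq_R (h : Std p K) (b : Beta K R E H q) {U : Subgroup G} (hU : IsPGroup 2 U)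
    (hRU : R ≤ U) (hUC : U ≤ centralizer (E : Set G)) {x : G} (hx : x ∈ H) (hx1 : x ≠ 1)
    (hUx : ∀ u ∈ U, u * x = x * u) : U = R := by
  have hpf : Fact (Nat.Prime 2) := ⟨Nat.prime_two⟩
  refine Cfsg.Agent.Blocks.SylowIn.eq_of_normalizer_inf_le (p := 2) hU hRU ?_
  rintro u ⟨huN, huU⟩
  obtain ⟨y, hy, e, he, hye⟩ := C_inf_M b (hUC huU) (normR_le h b huN)
  have he1 : e = 1 := mem_Y_of_comm b hx hx1 hy he (by rw [← hye]; exact hUx u huU)
  rw [he1, mul_one] at hye
  rw [hye] at huN huU ⊢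
  exact mem_isSyl2 b.sylR hy (mem_of_pow_two hU huU) (forall_of_mem_normalizer huN)

/-! ### Sylow subgroups in ambient form -/

omit [Finite G] in
theorem ofSylow {C : Subgroup G} (Q : Sylow 2 C) :
    IsSyl2 C ((Q : Subgroup C).map C.subtype) := by
  refine ⟨Subgroup.map_subtype_le _, Q.isPGroup'.map _, fun Y hY hY2 hle => ?_⟩
  have h1 : (Q : Subgroup C) ≤ Y.subgroupOf C := by
    intro x hx
    exact Subgroup.mem_subgroupOf.mpr (hle ⟨x, hx, rfl⟩)
  have h2 : IsPGroup 2 (Y.subgroupOf C) := hY2.comap_subtype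
  have h3 := Q.is_maximal' h2 h1
  have h4 : (Y.subgroupOf C).map C.subtype = Y := by
    rw [Subgroup.subgroupOf_map_subtype, inf_eq_left.mpr hY]
  rw [← h4, h3]

omit [Finite G] in
theorem toSylow {C P : Subgroup G} (hP : IsSyl2 C P) :
    ∃ Q : Sylow 2 C, (Q : Subgroup C).map C.subtype = P := by
  have h2 : IsPGroup 2 (P.subgroupOf C) := hP.two.comap_subtype
  have h4 : (P.subgroupOf C).map C.subtype = P := by
    rw [Subgroup.subgroupOf_map_subtype, inf_eq_left.mpr hP.le]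
  refine ⟨⟨P.subgroupOf C, h2, fun {Y} hY hle => ?_⟩, h4⟩
  have h5 := hP.max (Y.map C.subtype) (Subgroup.map_subtype_le _) (hY.map _) (by
    rw [← h4]; exact Subgroup.map_mono hle)
  have h6 : Y.map C.subtype = (P.subgroupOf C).map C.subtype := by rw [h5, h4]
  exact Subgroup.map_injective C.subtype_injective h6

/-- orbit-stabilizer for conjugates -/
theorem card_conj (L P : Subgroup G) :
    Nat.card {X : Subgroup G | ∃ n ∈ L, X = cj n P} *
      Nat.card (L ⊓ normalizer (P : Set G) : Subgroup G) = Nat.card L := by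
  classical
  set W : Subgroup L := (normalizer (P : Set G)).subgroupOf L with hW
  have hiff : ∀ a c : L, cj (a : G) P = cj (c : G) P ↔ (a : G)⁻¹ * c ∈ normalizer (P : Set G) := by
    intro a c
    rw [← cj_eq_iff, cj_mul]
    constructor
    · intro h; rw [← h, cj_inv_cj]
    · intro h
      have := congrArg (cj (a : G)) h
      rw [cj_cj_inv] at this
      exact this.symm
  let f : L ⧸ W → {X : Subgroup G | ∃ n ∈ L, X = cj n P} :=
    Quotient.lift (fun n : L => (⟨cj (n : G) P, n, n.2, rfl⟩ :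
      {X : Subgroup G | ∃ n ∈ L, X = cj n P})) (by
      intro a c hac
      have h1 : a⁻¹ * c ∈ W := QuotientGroup.leftRel_apply.mp hac
      exact Subtype.ext ((hiff a c).mpr h1))
  have hf : Function.Bijective f := by
    constructor
    · intro a c
      refine Quotient.inductionOn₂ a c ?_
      intro a c hac
      have h1 : cj (a : G) P = cj (c : G) P := congrArg Subtype.val hac
      exact Quotient.sound (QuotientGroup.leftRel_apply.mpr ((hiff a c).mp h1))
    · rintro ⟨X, n, hn, rfl⟩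
      exact ⟨Quotient.mk _ ⟨n, hn⟩, rfl⟩
  rw [← Nat.card_eq_of_bijective f hf]
  have h1 := Subgroup.card_eq_card_quotient_mul_card_subgroup W
  have h2 : Nat.card W = Nat.card (L ⊓ normalizer (P : Set G) : Subgroup G) := by
    rw [hW, ← Subgroup.inf_subgroupOf_left]
    exact card_subgroupOf inf_le_left
  rw [h1, h2]

omit [Finite G] in
/-- a 2-group acting on an odd number of subgroups fixes one -/
theorem exists_fixed {W : Subgroup G} (hW : IsPGroup 2 W) {Ω : Set (Subgroup G)}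
    (hodd : ¬ 2 ∣ Nat.card Ω) (hact : ∀ w ∈ W, ∀ X ∈ Ω, cj w X ∈ Ω) :
    ∃ X ∈ Ω, ∀ w ∈ W, cj w X = X := by
  have hpf : Fact (Nat.Prime 2) := ⟨Nat.prime_two⟩
  let act : MulAction W Ω :=
    { smul := fun w X => ⟨cj (w : G) X.1, hact w w.2 X.1 X.2⟩
      one_smul := fun X => Subtype.ext (cj_one X.1)
      mul_smul := fun x y X => Subtype.ext (cj_mul (x : G) (y : G) X.1) }
  obtain ⟨X, hX⟩ := hW.nonempty_fixed_point_of_prime_not_dvd_card Ω hodd
  exact ⟨X.1, X.2, fun w hw => congrArg Subtype.val (hX ⟨w, hw⟩)⟩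

/-- The data of A4 (v). -/
structure Five (K R E H : Subgroup G) (q : ℕ) (S P : Subgroup G) : Prop where
  syl : IsSyl2 (centralizer (E : Set G)) P
  H_norm : ∀ x ∈ H, ∀ y ∈ P, x * y * x⁻¹ ∈ P
  S_norm : ∀ s ∈ S, s ∈ normalizer (H : Set G) → ∀ y ∈ P, s * y * s⁻¹ ∈ P
  V_le : R ⊔ E ≤ P
  inf_M : ∀ x ∈ P, x ∈ normalizer (K : Set G) → x ∈ R ⊔ E
  cent_t : ∀ t ∈ R, t ≠ 1 → ∀ x ∈ P, x * t = t * x → x ∈ R ⊔ E
  cent_tv : ∀ t ∈ R, t ≠ 1 → ∀ v ∈ E, ∀ x ∈ P, x * (t * v) = (t * v) * x → x ∈ R ⊔ E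
  cent_H : ∀ x ∈ H, x ≠ 1 → ∀ y ∈ P, y * x = x * y → y ∈ R

omit [Finite G] in
theorem V_le_C (b : Beta K R E H q) : R ⊔ E ≤ centralizer (E : Set G) := by
  intro v hv
  rw [mem_centralizer_iff]
  intro e he
  exact b.elemV.comm (mem_sup_right he) hv

/-- **(v)** -/
theorem exists_five (h : Std p K) (b : Beta K R E H q) {S : Subgroup G}
    (hS : IsSyl2 (normalizer (K : Set G)) S) (hV : R ⊔ E ≤ S) :
    ∃ P : Subgroup G, Five K R E H q S P := by
  have hpf : Fact (Nat.Prime 2) := ⟨Nat.prime_two⟩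
  have hcyc := b.bor.cyc
  have hfH := finite_H b
  set C := centralizer (E : Set G) with hC
  have hcop := cop h b
  have hsolv : Group.IsSolvable H ∨ Group.IsSolvable C := Or.inl (by
    have := IsCyclic.commGroup (α := H)
    infer_instance)
  have hRC : R ≤ C := le_sup_left.trans (V_le_C b)
  have hRH : H ≤ normalizer (R : Set G) := by
    intro x hx
    refine mem_normalizer_of_forall fun r hr => ?_
    rw [comm_KY x (b.bor.leH hx) r (b.sylR.le hr), mul_inv_cancel_right]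
    exact hr
  -- an `H`-invariant Sylow 2-subgroup containing `R`
  obtain ⟨Q₀, hRQ, hHQ⟩ := Cfsg.Agent.S0025.result H C (H_norm_C b) hcop hsolv 2 R hRC b.sylR.two hRH
  set P₀ : Subgroup G := (Q₀ : Subgroup C).map C.subtype with hP₀
  have hP₀s : IsSyl2 C P₀ := ofSylow Q₀
  set D : Subgroup G := C ⊓ centralizer (H : Set G) with hD
  let Ω : Set (Subgroup G) := {P | IsSyl2 C P ∧ H ≤ normalizer (P : Set G)}
  -- a nontrivial element of `H`
  obtain ⟨x₀, hx₀, hx₀1⟩ : ∃ x ∈ H, x ≠ 1 := by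
    by_contra hno
    push Not at hno
    have h1 : H = ⊥ := (eq_bot_iff).mpr fun e he => by rw [Subgroup.mem_bot]; exact hno e he
    have h2 := b.bor.cardH
    have h4 := b.l2.four
    rw [h1, Subgroup.card_bot] at h2
    omega
  have hΩ : Ω = {X : Subgroup G | ∃ n ∈ D, X = cj n P₀} := by
    ext P
    constructor
    · rintro ⟨hP, hHP⟩
      obtain ⟨Q, hQ⟩ := toSylow hP
      obtain ⟨c, hc, hcQ⟩ := Cfsg.Agent.S0024.result H C (H_norm_C b) hcop hsolv 2 Q₀ Q hHQ
        (by rw [hQ]; exact hHP)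
      refine ⟨c, ⟨c.2, hc⟩, ?_⟩
      rw [← hQ, ← hcQ]
      ext y
      constructor
      · rintro ⟨z, hz, rfl⟩
        have hz' : z ∈ MulAut.conj c • (Q₀ : Subgroup C) := hz
        rw [Subgroup.mem_pointwise_smul_iff_inv_smul_mem] at hz'
        rw [mem_cj]
        refine ⟨_, hz', ?_⟩
        simp only [MulAut.smul_def, mul_assoc, _root_.MulAut.inv_apply, _root_.MulAut.conj_symm_apply, _root_.Subgroup.subtype_apply, _root_.Subgroup.coe_mul, _root_.InvMemClass.coe_inv]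
      · intro hy
        rw [mem_cj] at hy
        obtain ⟨z, hz, hzy⟩ := hy
        refine ⟨c * z * c⁻¹, ?_, ?_⟩
        · show c * z * c⁻¹ ∈ MulAut.conj c • (Q₀ : Subgroup C)
          rw [Subgroup.mem_pointwise_smul_iff_inv_smul_mem]
          have : (MulAut.conj c)⁻¹ • (c * z * c⁻¹) = z := by
            simp only [MulAut.smul_def, mul_assoc, _root_.smul_mul', _root_.MulAut.inv_apply, _root_.MulAut.conj_symm_apply, _root_.inv_mul_cancel, _root_.one_mul, _root_.smul_inv', _root_.mul_inv_cancel, _root_.mul_one, _root_.mul_inv_cancel_left]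
          rw [this]; exact hz
        · have h1 : (z : G) = (c : G)⁻¹ * y * c := hzy
          simp only [Subgroup.coe_subtype, Subgroup.coe_mul, Subgroup.coe_inv, h1]
          group
    · rintro ⟨n, hn, rfl⟩
      refine ⟨?_, ?_⟩
      · have h1 := isSyl2_cj n hP₀s
        have h2 : cj n C = C := cj_eq_iff.mpr (Subgroup.le_normalizer hn.1)
        rwa [h2] at h1
      · intro x hx
        have h2 : x = n * x * n⁻¹ := by
          have h3 : x * n = n * x := mem_centralizer_iff.mp hn.2 x hx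
          rw [← h3]; group
        rw [← cj_normalizer, h2]
        exact conj_mem_cj (hHQ hx)
  -- `R` is a Sylow 2-subgroup of `D`
  have hRD : IsSyl2 D R := by
    refine ⟨le_inf hRC ?_, b.sylR.two, fun U hU hU2 hle => ?_⟩
    · intro r hr
      rw [mem_centralizer_iff]
      intro x hx
      exact comm_KY x (b.bor.leH hx) r (b.sylR.le hr)
    · exact eq_R h b hU2 hle (hU.trans inf_le_left) hx₀ hx₀1
        (fun u hu => (mem_centralizer_iff.mp (hU hu).2 x₀ hx₀).symm)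
  have hodd : ¬ 2 ∣ Nat.card Ω := by
    rw [hΩ]
    intro h2
    have h3 := card_conj D P₀
    obtain ⟨a, ha⟩ := IsPGroup.iff_card.mp b.sylR.two
    have h4 : R ≤ D ⊓ normalizer (P₀ : Set G) :=
      le_inf hRD.le (fun r hr => Subgroup.le_normalizer (hRQ hr))
    have h5 : 2 ^ (a + 1) ∣ Nat.card D := by
      rw [← h3, pow_succ, mul_comm]
      exact mul_dvd_mul h2 (by rw [← ha]; exact Subgroup.card_dvd_of_le h4)
    have h6 := pow_le_of_dvd hRD h5
    rw [ha, pow_succ] at h6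
    have : 0 < 2 ^ a := by positivity
    omega
  -- the 2-group `S ∩ N(H)`
  set W : Subgroup G := S ⊓ normalizer (H : Set G) with hW
  have hW2 : IsPGroup 2 W := hS.two.to_le inf_le_left
  have hWC : ∀ w ∈ W, cj w C = C := by
    intro w hw
    rw [cj_eq_iff]
    exact normalizer_le_centralizer E (mem_normalizer_of_forall
      (S_norm_E b hS (le_sup_right.trans hV) w hw.1))
  obtain ⟨P, ⟨hP, hHP⟩, hfix⟩ := exists_fixed hW2 hodd (by
    rintro w hw P ⟨hP, hHP⟩
    refine ⟨?_, ?_⟩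
    · have h1 := isSyl2_cj w hP
      rwa [hWC w hw] at h1
    · have h1 : cj w H = H := cj_eq_iff.mpr hw.2
      rw [← cj_normalizer, ← h1]
      exact cj_mono hHP)
  have hRP : R ≤ P := by
    intro r hr
    have hrW : r ∈ W := ⟨hV (mem_sup_left hr), by
      refine mem_normalizer_of_forall fun x hx => ?_
      rw [← comm_KY x (b.bor.leH hx) r (b.sylR.le hr), mul_inv_cancel_right]
      exact hx⟩
    exact mem_isSyl2 hP (hRC hr) (mem_of_pow_two b.sylR.two hr)
      (forall_of_mem_normalizer (cj_eq_iff.mp (hfix r hrW)))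
  have hEP : E ≤ P := by
    refine le_isSyl2 hP (le_sup_right.trans (V_le_C b)) (isPGroup_of_elem b.bor.elem)
      fun s hs e he => ?_
    have h1 : e * s = s * e := mem_centralizer_iff.mp (hP.le hs) e he
    rw [← h1, mul_inv_cancel_right]
    exact he
  have hVP : R ⊔ E ≤ P := sup_le hRP hEP
  have hPY : P ⊓ centralizer (K : Set G) = R :=
    b.sylR.max _ inf_le_right (hP.two.to_le inf_le_left) (le_inf hRP b.sylR.le)
  have hinf : ∀ x ∈ P, x ∈ normalizer (K : Set G) → x ∈ R ⊔ E := by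
    intro x hx hxM
    obtain ⟨y, hy, e, he, hye⟩ := C_inf_M b (hP.le hx) hxM
    have hyP : y ∈ P := by
      have : y = x * e⁻¹ := by rw [hye]; group
      rw [this]
      exact P.mul_mem hx (P.inv_mem (hEP he))
    have hyR : y ∈ R := by rw [← hPY]; exact ⟨hyP, hy⟩
    rw [hye]
    exact Subgroup.mul_mem _ (mem_sup_left hyR) (mem_sup_right he)
  have hct : ∀ t ∈ R, t ≠ 1 → ∀ x ∈ P, x * t = t * x → x ∈ R ⊔ E := by
    intro t ht ht1 x hx hc
    refine hinf x hx (h.le_normalizer (orderOf_eq_two ht1 (b.elemR t ht)) (b.sylR.le ht) ?_)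
    exact mem_centralizer_singleton_iff.mpr hc
  refine ⟨P, hP, fun x hx => forall_of_mem_normalizer (hHP hx), fun s hs hsH =>
    forall_of_mem_normalizer (cj_eq_iff.mp (hfix s ⟨hs, hsH⟩)), hVP, hinf, hct, ?_, ?_⟩
  · intro t ht ht1 v hv x hx hc
    refine hct t ht ht1 x hx ?_
    have h1 : v * x = x * v := mem_centralizer_iff.mp (hP.le hx) v hv
    have h2 : (x * t) * v = (t * x) * v := by
      calc (x * t) * v = x * (t * v) := by group
        _ = t * v * x := hc
        _ = t * (v * x) := by group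
        _ = t * (x * v) := by rw [h1]
        _ = (t * x) * v := by group
    exact mul_right_cancel h2
  · intro x hx hx1 y hy hc
    have h1 : P ⊓ centralizer ({x} : Set G) = R := by
      refine eq_R h b (hP.two.to_le inf_le_left) (le_inf hRP ?_) (inf_le_left.trans hP.le) hx hx1
        (fun u hu => mem_centralizer_singleton_iff.mp hu.2)
      intro r hr
      exact mem_centralizer_singleton_iff.mpr
        (comm_KY x (b.bor.leH hx) r (b.sylR.le hr)).symm
    rw [← h1]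
    exact ⟨hy, mem_centralizer_singleton_iff.mpr hc⟩

end Cfsg.Agent.OddCyclic.CaseAFive
end

-- part: OddCyclic/CaseASix
section
/-!
# S0342, component type, case A: A4 (vi)

`N_G(E) = C_G(E) (M ∩ N_G(E))`, by the Singer lemma.
-/

set_option autoImplicit false

namespace Cfsg.Agent.OddCyclic.CaseASix

open Subgroup
open scoped Pointwise
open Cfsg.Agent.LieExceptional Cfsg.Agent.LieExceptional.CITDefs
open Cfsg.Agent.LieExceptional.CITBasic
open Cfsg.Agent.OddCyclic.T1Tools Cfsg.Agent.OddCyclic.T1Defs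
open Cfsg.Agent.OddCyclic.CompBasic Cfsg.Agent.OddCyclic.CompStandard
open Cfsg.Agent.OddCyclic.CaseADefs Cfsg.Agent.OddCyclic.CaseABase
open Cfsg.Agent.OddCyclic.CaseACount Cfsg.Agent.OddCyclic.CaseAFour
open Cfsg.Agent.OddCyclic.CaseADelta Cfsg.Agent.OddCyclic.CaseAKer
open Cfsg.Agent.OddCyclic.CaseAFive Cfsg.Agent.OddCyclic.CaseATools
open Cfsg.Agent.OddCyclic.CaseASinger

/-! ### the class `KZ` -/

theorem kz_congr {A B : Type*} [Group A] [Group B] (e : A ≃* B) (h : KZ A) : KZ B := by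
  rcases h with ⟨F, i, j, h1, h2, ⟨f⟩⟩ | ⟨F, i, j, n, h1, h2, ⟨f⟩⟩ | h | ⟨h1, h2⟩
  · exact Or.inl ⟨F, i, j, h1, h2, ⟨e.symm.trans f⟩⟩
  · exact Or.inr (Or.inl ⟨F, i, j, n, h1, h2, ⟨e.symm.trans f⟩⟩)
  · obtain ⟨F, i, j, m, h1, h2, ⟨f⟩⟩ := h
    exact Or.inr (Or.inr (Or.inl ⟨F, i, j, m, h1, h2, ⟨e.symm.trans f⟩⟩))
  · refine Or.inr (Or.inr (Or.inr ⟨by rw [← h1]; exact Nat.card_congr e.symm.toEquiv, ?_⟩))
    intro r s hr hs hr2 hrs x y hx hy hxy
    refine h2 r s hr hs hr2 hrs (e.symm x) (e.symm y) ?_ ?_ ?_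
    · rw [← hx]; exact orderOf_injective e.symm.toMonoidHom e.symm.injective x
    · rw [← hy]; exact orderOf_injective e.symm.toMonoidHom e.symm.injective y
    · rw [← map_mul, hxy, map_mul]

/-- every simple nonabelian section of a proper subgroup is in the class -/
def SecKZ (G : Type*) [Group G] : Prop :=
  ∀ L : Subgroup G, L ≠ ⊤ → ∀ (N : Subgroup L) [N.Normal], IsSimpleGroup (L ⧸ N) →
    (∃ a b : L ⧸ N, a * b ≠ b * a) → KZ (L ⧸ N)

variable {G : Type*} [Group G] [Finite G] {p : ℕ} {K R E H : Subgroup G} {q : ℕ}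

/-- subgroups of odd prime order of `L` are conjugate in `L` -/
theorem conj_zpowers (hG : OddCyc G) {L : Subgroup G} {r : ℕ} (hr : r.Prime) (hr2 : r ≠ 2)
    {x y : G} (hx : x ∈ L) (hy : y ∈ L) (hxr : orderOf x = r) (hyr : orderOf y = r) :
    ∃ l ∈ L, l * y * l⁻¹ ∈ zpowers x := by
  have hrf : Fact r.Prime := ⟨hr⟩
  have hxo : orderOf (⟨x, hx⟩ : L) = r := by rw [Subgroup.orderOf_mk, hxr]
  have hyo : orderOf (⟨y, hy⟩ : L) = r := by rw [Subgroup.orderOf_mk, hyr]
  have hxp : IsPGroup r (zpowers (⟨x, hx⟩ : L)) := IsPGroup.of_card (n := 1) (by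
    rw [Nat.card_zpowers, hxo, pow_one])
  have hyp : IsPGroup r (zpowers (⟨y, hy⟩ : L)) := IsPGroup.of_card (n := 1) (by
    rw [Nat.card_zpowers, hyo, pow_one])
  obtain ⟨P, hP⟩ := hxp.exists_le_sylow
  obtain ⟨Q, hQ⟩ := hyp.exists_le_sylow
  obtain ⟨g, hg⟩ := MulAction.exists_smul_eq L Q P
  have hxP : (⟨x, hx⟩ : L) ∈ (P : Subgroup L) := hP (mem_zpowers _)
  have hyP : g * ⟨y, hy⟩ * g⁻¹ ∈ (P : Subgroup L) := by
    rw [← hg]
    exact ⟨⟨y, hy⟩, hQ (mem_zpowers _), rfl⟩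
  have := oddCyc_subgroup hG L r P hr hr2
  have h1 : zpowers (⟨⟨x, hx⟩, hxP⟩ : P) = zpowers (⟨g * ⟨y, hy⟩ * g⁻¹, hyP⟩ : P) := by
    apply zpowers_eq_of_cyclic
    rw [Subgroup.orderOf_mk, hxo, Subgroup.orderOf_mk, orderOf_conj, hyo]
  have h2 : (⟨g * ⟨y, hy⟩ * g⁻¹, hyP⟩ : P) ∈ zpowers (⟨⟨x, hx⟩, hxP⟩ : P) := by
    rw [h1]; exact mem_zpowers _
  obtain ⟨n, hn⟩ := h2
  refine ⟨g, g.2, n, ?_⟩
  have h3 : (⟨x, hx⟩ : L) ^ n = g * ⟨y, hy⟩ * g⁻¹ := congrArg Subtype.val hn
  exact congrArg Subtype.val h3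

/-- `C_G(E) (M ∩ N_G(E))` -/
def TT (K E : Subgroup G) : Subgroup G :=
  centralizer (E : Set G) ⊔ (normalizer (K : Set G) ⊓ normalizer (E : Set G))

theorem H_le_ME (b : Beta K R E H q) :
    H ≤ normalizer (K : Set G) ⊓ normalizer (E : Set G) := fun x hx =>
  ⟨Subgroup.le_normalizer (b.bor.leH hx), mem_normalizer_of_forall (b.bor.norm x hx)⟩

omit [Finite G] in
theorem norm_C {n : G} (hn : n ∈ normalizer (E : Set G)) :
    ∀ c ∈ centralizer (E : Set G), n * c * n⁻¹ ∈ centralizer (E : Set G) :=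
  forall_of_mem_normalizer (normalizer_le_centralizer E hn)

/-- an element `n` of `N_G(E)` which normalizes `⟨x⟩`, `x ∈ H`, modulo `C_G(E)`, is in
`C_G(E) (M ∩ N_G(E))` -/
theorem mem_TT (h : Std p K) (b : Beta K R E H q) {n x : G} (hn : n ∈ normalizer (E : Set G))
    {r : ℕ} (hr : r.Prime) (hx : x ∈ H) (hxr : orderOf x = r) {k : ℤ}
    (hk : n * x * n⁻¹ * (x ^ k)⁻¹ ∈ centralizer (E : Set G)) : n ∈ TT K E := by
  have hr2 : r ≠ 2 := by
    rintro rfl
    have h1 : 2 ∣ q - 1 := by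
      rw [← b.bor.cardH, ← hxr]
      have := finite_H b
      exact H.orderOf_dvd_natCard hx
    exact (Nat.not_even_iff_odd.mpr (odd_card_H b.l2)) (even_iff_two_dvd.mpr h1)
  have hx1 : x ≠ 1 := by
    rintro rfl
    rw [orderOf_one] at hxr
    exact hr.one_lt.ne hxr
  have hxME := H_le_ME b hx
  set C := centralizer (E : Set G) with hC
  set L : Subgroup G := C ⊔ zpowers x with hL
  have hLT : L ≤ TT K E := sup_le_sup_left (zpowers_le.mpr hxME) _
  have hyL : n * x * n⁻¹ ∈ L := by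
    have : n * x * n⁻¹ = (n * x * n⁻¹ * (x ^ k)⁻¹) * x ^ k := by group
    rw [this]
    exact Subgroup.mul_mem _ (mem_sup_left hk) (mem_sup_right ⟨k, rfl⟩)
  obtain ⟨l, hl, hlx⟩ := conj_zpowers h.cyc hr hr2 (L := L) (mem_sup_right (mem_zpowers x)) hyL hxr
    (by rw [orderOf_conj, hxr])
  have hlT := hLT hl
  have hCN : C ≤ normalizer (E : Set G) := centralizer_le_normalizer _
  have hlN : l ∈ normalizer (E : Set G) := by
    have : L ≤ normalizer (E : Set G) := sup_le hCN (zpowers_le.mpr hxME.2)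
    exact this hl
  -- `n₁ = l n` normalizes `⟨x⟩`
  set n₁ := l * n with hn₁
  have hn₁N : n₁ ∈ normalizer (E : Set G) := Subgroup.mul_mem _ hlN hn
  have hn₁x : n₁ * x * n₁⁻¹ ∈ zpowers x := by
    have : n₁ * x * n₁⁻¹ = l * (n * x * n⁻¹) * l⁻¹ := by rw [hn₁]; group
    rw [this]; exact hlx
  -- `D = C_C(x)`
  set D : Subgroup G := C ⊓ centralizer ({x} : Set G) with hD
  have hgen : ∀ d : G, d * (n₁ * x * n₁⁻¹) = (n₁ * x * n₁⁻¹) * d → d * x = x * d := by
    intro d hd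
    have h1 : zpowers (n₁ * x * n₁⁻¹) = zpowers x := by
      apply Subgroup.eq_of_le_of_card_ge (zpowers_le.mpr hn₁x)
      rw [Nat.card_zpowers, Nat.card_zpowers, orderOf_conj]
    have h2 : x ∈ zpowers (n₁ * x * n₁⁻¹) := by rw [h1]; exact mem_zpowers x
    obtain ⟨m, hm⟩ := h2
    have h3 : Commute d ((n₁ * x * n₁⁻¹) ^ m) := (show Commute d _ from hd).zpow_right m
    rw [show (n₁ * x * n₁⁻¹) ^ m = x from hm] at h3
    exact h3
  have hDn : cj n₁ D = D := by
    apply Subgroup.eq_of_le_of_card_ge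
    · rintro _ ⟨d, hd, rfl⟩
      refine ⟨norm_C hn₁N d hd.1, ?_⟩
      refine mem_centralizer_singleton_iff.mpr (hgen _ ?_)
      have h1 : d * x = x * d := mem_centralizer_singleton_iff.mp hd.2
      simp only [MulEquiv.coe_toMonoidHom, MulAut.conj_apply]
      calc n₁ * d * n₁⁻¹ * (n₁ * x * n₁⁻¹) = n₁ * (d * x) * n₁⁻¹ := by group
        _ = n₁ * (x * d) * n₁⁻¹ := by rw [h1]
        _ = n₁ * x * n₁⁻¹ * (n₁ * d * n₁⁻¹) := by group
    · rw [card_cj]
  have hRC : R ≤ C := le_sup_left.trans (V_le_C b)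
  have hRD : IsSyl2 D R := by
    refine ⟨le_inf hRC ?_, b.sylR.two, fun U hU hU2 hle => ?_⟩
    · intro r hr
      exact mem_centralizer_singleton_iff.mpr (comm_KY x (b.bor.leH hx) r (b.sylR.le hr)).symm
    · exact eq_R h b hU2 hle (hU.trans inf_le_left) hx hx1
        (fun u hu => mem_centralizer_singleton_iff.mp (hU hu).2)
  have hRD' : IsSyl2 D (cj n₁ R) := by
    have := isSyl2_cj n₁ hRD
    rwa [hDn] at this
  obtain ⟨d, hd, hdR⟩ := isSyl2_conj hRD' hRD
  rw [← cj_mul] at hdR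
  have h1 : d * n₁ ∈ normalizer (R : Set G) := cj_eq_iff.mp hdR.symm
  have h2 : d * n₁ ∈ normalizer (K : Set G) ⊓ normalizer (E : Set G) :=
    ⟨normR_le h b h1, Subgroup.mul_mem _ (hCN hd.1) hn₁N⟩
  have h3 : d * n₁ ∈ TT K E := mem_sup_right h2
  have h4 : d ∈ TT K E := mem_sup_left hd.1
  have h5 : n = l⁻¹ * (d⁻¹ * (d * n₁)) := by rw [hn₁]; group
  rw [h5]
  exact Subgroup.mul_mem _ (Subgroup.inv_mem _ hlT)
    (Subgroup.mul_mem _ (Subgroup.inv_mem _ h4) h3)

theorem mem_TT_iff {x : G} : x ∈ TT K E ↔ ∃ c ∈ centralizer (E : Set G),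
    ∃ m ∈ normalizer (K : Set G) ⊓ normalizer (E : Set G), x = c * m :=
  mem_sup_iff fun _ hs => norm_C (Subgroup.mem_inf.mp hs).2

/-! ### the Singer lemma -/

omit [Finite G] in
theorem normE_ne_top [IsSimpleGroup G] (b : Beta K R E H q) : normalizer (E : Set G) ≠ ⊤ := by
  intro htop
  have hn : E.Normal := Subgroup.normalizer_eq_top_iff.mp htop
  obtain ⟨e, he, he1⟩ := exists_E_ne b
  rcases hn.eq_bot_or_eq_top with h1 | h1
  · rw [h1, Subgroup.mem_bot] at he
    exact he1 he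
  · have h4 := b.l2.four
    have h2 : H = ⊥ := by
      rw [eq_bot_iff]
      intro x hx
      rw [Subgroup.mem_bot]
      exact H_inf b.l2 b.bor hx (by rw [h1]; exact Subgroup.mem_top _)
    have h3 := b.bor.cardH
    rw [h2, Subgroup.card_bot] at h3
    omega

/-- the action of `N_G(E)` on `E` -/
noncomputable abbrev act (E : Subgroup G) : normalizer (E : Set G) →* MulAut E :=
  E.normalizerMonoidHom

omit [Finite G] in
theorem act_eq_one_iff (n : normalizer (E : Set G)) :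
    act E n = 1 ↔ (n : G) ∈ centralizer (E : Set G) := by
  rw [← MonoidHom.mem_ker, normalizerMonoidHom_ker, Subgroup.mem_subgroupOf]

/-- the image of `H` -/
noncomputable def HX (E H : Subgroup G) : Subgroup (act E).range :=
  (H.subgroupOf (normalizer (E : Set G))).map (act E).rangeRestrict

omit [Finite G] in
theorem mem_HX {x : (act E).range} : x ∈ HX E H ↔ ∃ h : normalizer (E : Set G), (h : G) ∈ H ∧
    (act E).rangeRestrict h = x := by
  constructor
  · rintro ⟨y, hy, rfl⟩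
    exact ⟨y, Subgroup.mem_subgroupOf.mp hy, rfl⟩
  · rintro ⟨y, hy, rfl⟩
    exact ⟨y, Subgroup.mem_subgroupOf.mpr hy, rfl⟩

omit [Finite G] in
theorem rangeRestrict_surj (x : (act E).range) :
    ∃ n : normalizer (E : Set G), (act E).rangeRestrict n = x :=
  MonoidHom.rangeRestrict_surjective _ x

/-- the image of an element of `M ∩ N_G(E)` normalizes `HX` -/
theorem norm_HX (b : Beta K R E H q) {n : normalizer (E : Set G)}
    (hn : (n : G) ∈ normalizer (K : Set G)) :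
    (act E).rangeRestrict n ∈ normalizer (HX E H : Set (act E).range) := by
  refine mem_normalizer_of_forall fun x hx => ?_
  obtain ⟨h₁, hh₁, rfl⟩ := mem_HX.mp hx
  have h1 : (n : G) * h₁ * (n : G)⁻¹ ∈ K := forall_of_mem_normalizer hn _ (b.bor.leH hh₁)
  have h2 : ∀ e ∈ E, ((n : G) * h₁ * (n : G)⁻¹) * e * ((n : G) * h₁ * (n : G)⁻¹)⁻¹ ∈ E :=
    forall_of_mem_normalizer (n * h₁ * n⁻¹).2
  obtain ⟨e, he, x₁, hx₁, hex⟩ := b.bor.nK _ h1 h2
  refine mem_HX.mpr ⟨⟨x₁, (H_le_ME b hx₁).2⟩, hx₁, ?_⟩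
  have h3 : (act E).rangeRestrict ⟨e, Subgroup.le_normalizer he⟩ = 1 := by
    apply Subtype.ext
    show act E ⟨e, _⟩ = 1
    rw [act_eq_one_iff]
    exact V_le_C b (mem_sup_right he)
  have h4 : n * h₁ * n⁻¹ = (⟨e, Subgroup.le_normalizer he⟩ : normalizer (E : Set G)) *
      ⟨x₁, (H_le_ME b hx₁).2⟩ := Subtype.ext hex
  rw [← map_mul, ← map_inv, ← map_mul, h4, map_mul, h3, one_mul]

omit [Finite G] in
theorem rr_one {c : G} (hc : c ∈ centralizer (E : Set G)) (hcN : c ∈ normalizer (E : Set G)) :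
    (act E).rangeRestrict ⟨c, hcN⟩ = 1 := by
  apply Subtype.ext
  show act E ⟨c, _⟩ = 1
  rw [act_eq_one_iff]; exact hc

omit [Finite G] in
theorem order_rr (b : Beta K R E H q) {x : normalizer (E : Set G)} (hx : (x : G) ∈ H) :
    orderOf ((act E).rangeRestrict x) = orderOf (x : G) := by
  rw [orderOf_eq_orderOf_iff]
  intro n
  rw [← map_pow]
  constructor
  · intro hn
    have h1 : act E (x ^ n) = 1 := congrArg Subtype.val hn
    rw [act_eq_one_iff] at h1
    exact H_comm_E b (H.pow_mem hx n) (fun e he => (mem_centralizer_iff.mp h1 e he).symm)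
  · intro hn
    have h1 : x ^ n = 1 := Subtype.ext hn
    rw [h1, map_one]

theorem mem_TT_rr (h : Std p K) (b : Beta K R E H q) {n x : normalizer (E : Set G)} {r : ℕ}
    (hr : r.Prime) (hx : (x : G) ∈ H) (hxr : orderOf (x : G) = r) {k : ℤ}
    (hk : (act E).rangeRestrict n * (act E).rangeRestrict x * ((act E).rangeRestrict n)⁻¹ =
      (act E).rangeRestrict x ^ k) : (n : G) ∈ TT K E := by
  refine mem_TT h b n.2 hr hx hxr (k := k) ?_
  have h1 : act E (n * x * n⁻¹ * (x ^ k)⁻¹) = 1 := by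
    have h2 : act E n * act E x * (act E n)⁻¹ = (act E x) ^ k := congrArg Subtype.val hk
    rw [map_mul, map_mul, map_mul, map_inv, map_inv, map_zpow, h2, mul_inv_cancel]
  rw [act_eq_one_iff] at h1
  exact h1

/-- **(vi)** -/
theorem normal_HX [IsSimpleGroup G] (h : Std p K) (b : Beta K R E H q) (hsec : SecKZ G)
    (h8 : q = 8 → normalizer (K : Set G) ≤ K ⊔ centralizer (K : Set G)) :
    (HX E H).Normal := by
  have hfH := finite_H b
  have hcyc := b.bor.cyc
  have hcX : IsCyclic (HX E H) := by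
    have h1 : IsCyclic (H.subgroupOf (normalizer (E : Set G))) := by
      have hle : H ≤ normalizer (E : Set G) := fun x hx => (H_le_ME b hx).2
      exact isCyclic_of_surjective (Subgroup.subgroupOfEquivOfLe hle).symm.toMonoidHom
        (Subgroup.subgroupOfEquivOfLe hle).symm.surjective
    exact isCyclic_of_surjective ((act E).rangeRestrict.subgroupMap _)
      ((act E).rangeRestrict.subgroupMap_surjective _)
  have hodc : OddCyc (act E).range := by
    have h1 := oddCyc_quotient (oddCyc_subgroup h.cyc (normalizer (E : Set G))) (act E).ker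
    exact oddCyc_of_injective h1 (QuotientGroup.quotientKerEquivRange (act E)).symm.toMonoidHom
      (QuotientGroup.quotientKerEquivRange (act E)).symm.injective
  refine singer (X := (act E).range) (E := E) ?_ ?_ hodc ?_ (HX E H) ?_ ?_ ?_
  · intro v
    exact Subtype.ext (b.bor.elem v v.2)
  · rw [b.bor.cardE]; exact b.l2.four
  · -- simple normal subgroups are sections of `N_G(E)`
    intro B hB hBs hBn
    set N := normalizer (E : Set G) with hN
    have hNtop := normE_ne_top b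
    set L₀ : Subgroup N := B.comap (act E).rangeRestrict with hL₀
    set L : Subgroup G := L₀.map N.subtype with hL
    have hLN : L ≤ N := Subgroup.map_subtype_le _
    have hLtop : L ≠ ⊤ := fun hh => hNtop (top_le_iff.mp (hh ▸ hLN))
    let ψ₀ : L₀ →* B := ((act E).rangeRestrict.comp L₀.subtype).codRestrict B (fun x => x.2)
    have hψ₀ : Function.Surjective ψ₀ := by
      rintro ⟨x, hx⟩
      obtain ⟨n, hn⟩ := rangeRestrict_surj x
      exact ⟨⟨n, by rw [hL₀, Subgroup.mem_comap, hn]; exact hx⟩, Subtype.ext hn⟩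
    let ψ : L →* B :=
      ψ₀.comp (L₀.equivMapOfInjective N.subtype N.subtype_injective).symm.toMonoidHom
    have hψ : Function.Surjective ψ :=
      hψ₀.comp (L₀.equivMapOfInjective N.subtype N.subtype_injective).symm.surjective
    have e := QuotientGroup.quotientKerEquivOfSurjective ψ hψ
    refine kz_congr e (hsec L hLtop ψ.ker ?_ ?_)
    · exact e.isSimpleGroup
    · obtain ⟨a, c, hac⟩ := hBn
      refine ⟨e.symm a, e.symm c, fun hh => hac ?_⟩
      rw [← map_mul, ← map_mul] at hh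
      exact e.symm.injective hh
  · -- regularity
    intro v w hv hw
    have hv1 : (v : G) ≠ 1 := fun hh => hv (Subtype.ext hh)
    have hw1 : (w : G) ≠ 1 := fun hh => hw (Subtype.ext hh)
    obtain ⟨x, hx, hxe⟩ := H_trans_E b v.2 hv1 w.2 hw1
    have hxN : x ∈ normalizer (E : Set G) := (H_le_ME b hx).2
    refine ⟨⟨(act E).rangeRestrict ⟨x, hxN⟩, mem_HX.mpr ⟨⟨x, hxN⟩, hx, rfl⟩⟩,
      Subtype.ext hxe, ?_⟩
    rintro ⟨y, hy⟩ hyv
    obtain ⟨z, hz, rfl⟩ := mem_HX.mp hy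
    apply Subtype.ext
    have h1 : (z : G) * v * (z : G)⁻¹ = w := congrArg Subtype.val hyv
    have h2 : ((z : G)⁻¹ * x) * v = v * ((z : G)⁻¹ * x) := by
      calc ((z : G)⁻¹ * x) * v = (z : G)⁻¹ * (x * v * x⁻¹) * x := by group
        _ = (z : G)⁻¹ * ((z : G) * v * (z : G)⁻¹) * x := by rw [hxe, h1]
        _ = v * ((z : G)⁻¹ * x) := by group
    have hzx := H.mul_mem (H.inv_mem hz) hx
    have h3 := H_inf b.l2 b.bor hzx (b.bor.cent v v.2 hv1 _ (b.bor.leH hzx) h2)
    have h4 : (z : G) = x := inv_mul_eq_one.mp h3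
    have h5 : z = ⟨x, hxN⟩ := Subtype.ext h4
    show (act E).rangeRestrict z = (act E).rangeRestrict ⟨x, hxN⟩
    rw [h5]
  · -- `N_X(X_r) ≤ N_X(HX)`
    intro r hr x hx hxr n hn
    obtain ⟨x₁, hx₁, rfl⟩ := mem_HX.mp hx
    obtain ⟨n₁, rfl⟩ := rangeRestrict_surj n
    rw [order_rr b hx₁] at hxr
    obtain ⟨k, hk⟩ := hn
    have h1 := mem_TT_rr h b hr hx₁ hxr (n := n₁) (k := k) hk.symm
    obtain ⟨c, hc, m, hm, hcm⟩ := mem_TT_iff.mp h1
    have hcN : c ∈ normalizer (E : Set G) := centralizer_le_normalizer _ hc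
    have h2 : n₁ = (⟨c, hcN⟩ : normalizer (E : Set G)) * ⟨m, hm.2⟩ := Subtype.ext hcm
    rw [h2, map_mul, rr_one hc, one_mul]
    exact norm_HX b hm.1
  · -- `q = 8`
    intro hE8 n hn
    rw [b.bor.cardE] at hE8
    obtain ⟨n₁, rfl⟩ := rangeRestrict_surj n
    have hr7 : Nat.Prime 7 := by norm_num
    have hf7 : Fact (Nat.Prime 7) := ⟨hr7⟩
    have hcH : Nat.card H = 7 := by rw [b.bor.cardH, hE8]
    obtain ⟨⟨x, hxH⟩, hx7⟩ := exists_prime_orderOf_dvd_card' (G := H) 7 (by rw [hcH])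
    rw [Subgroup.orderOf_mk] at hx7
    have hxN : x ∈ normalizer (E : Set G) := (H_le_ME b hxH).2
    have hgen : zpowers x = H := by
      apply Subgroup.eq_of_le_of_card_ge (zpowers_le.mpr hxH)
      rw [Nat.card_zpowers, hx7, hcH]
    have h1 := forall_of_mem_normalizer hn ((act E).rangeRestrict ⟨x, hxN⟩)
      (mem_HX.mpr ⟨⟨x, hxN⟩, hxH, rfl⟩)
    obtain ⟨z, hz, hzx⟩ := mem_HX.mp h1
    have hz' := hz
    rw [← hgen] at hz'
    obtain ⟨k, hk⟩ := hz'
    have hzk : z = (⟨x, hxN⟩ : normalizer (E : Set G)) ^ k := Subtype.ext hk.symm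
    have h2 := mem_TT_rr h b hr7 hxH hx7 (n := n₁) (x := ⟨x, hxN⟩) (k := k) (by
      rw [← hzx, hzk, map_zpow])
    obtain ⟨c, hc, m, hm, hcm⟩ := mem_TT_iff.mp h2
    have hcN : c ∈ normalizer (E : Set G) := centralizer_le_normalizer _ hc
    have h3 : n₁ = (⟨c, hcN⟩ : normalizer (E : Set G)) * ⟨m, hm.2⟩ := Subtype.ext hcm
    rw [h3, map_mul, rr_one hc, one_mul]
    obtain ⟨k₁, hk₁, y, hy, hmk⟩ := mem_KY.mp (h8 hE8 hm.1)
    have hyC : y ∈ centralizer (E : Set G) := by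
      rw [mem_centralizer_iff]
      intro e he
      exact comm_KY e (b.sylE.le he) y hy
    have hyN : y ∈ normalizer (E : Set G) := centralizer_le_normalizer _ hyC
    have hkN : k₁ ∈ normalizer (E : Set G) := by
      have : k₁ = m * y⁻¹ := by rw [hmk]; group
      rw [this]
      exact Subgroup.mul_mem _ hm.2 (Subgroup.inv_mem _ hyN)
    obtain ⟨e, he, x₂, hx₂, hke⟩ := b.bor.nK k₁ hk₁ (forall_of_mem_normalizer hkN)
    have h4 : (⟨m, hm.2⟩ : normalizer (E : Set G)) = ⟨e, Subgroup.le_normalizer he⟩ *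
        ⟨x₂, (H_le_ME b hx₂).2⟩ * ⟨y, hyN⟩ := Subtype.ext (by
          show m = e * x₂ * y
          rw [hmk, hke])
    rw [h4, map_mul, map_mul, rr_one hyC, rr_one (V_le_C b (mem_sup_right he)), one_mul, mul_one]
    exact mem_HX.mpr ⟨_, hx₂, rfl⟩

/-- **(vi)** `N_G(E) = C_G(E) (M ∩ N_G(E))` -/
theorem normE_eq [IsSimpleGroup G] (h : Std p K) (b : Beta K R E H q) (hsec : SecKZ G)
    (h8 : q = 8 → normalizer (K : Set G) ≤ K ⊔ centralizer (K : Set G)) :
    TT K E = normalizer (E : Set G) := by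
  apply le_antisymm (sup_le (centralizer_le_normalizer _) inf_le_right)
  intro n hn
  have hnor := normal_HX h b hsec h8
  have h4 := b.l2.four
  have hfH := finite_H b
  obtain ⟨r, hr, hrH⟩ := Nat.exists_prime_and_dvd (n := Nat.card H) (by rw [b.bor.cardH]; omega)
  have hrf : Fact r.Prime := ⟨hr⟩
  obtain ⟨⟨x, hxH⟩, hxr⟩ := exists_prime_orderOf_dvd_card' (G := H) r hrH
  rw [Subgroup.orderOf_mk] at hxr
  have hxN : x ∈ normalizer (E : Set G) := (H_le_ME b hxH).2
  have h1 := hnor.conj_mem _ (mem_HX.mpr ⟨⟨x, hxN⟩, hxH, rfl⟩) ((act E).rangeRestrict ⟨n, hn⟩)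
  obtain ⟨z, hz, hzx⟩ := mem_HX.mp h1
  -- `z ∈ ⟨x⟩` since `H` is cyclic
  have hzr : orderOf (z : G) = r := by
    rw [← order_rr b hz, hzx, orderOf_conj, order_rr b (x := ⟨x, hxN⟩) hxH, ← hxr]
  have hcyc := b.bor.cyc
  have h2 : zpowers (⟨x, hxH⟩ : H) = zpowers (⟨z, hz⟩ : H) :=
    zpowers_eq_of_cyclic (by rw [Subgroup.orderOf_mk, Subgroup.orderOf_mk, hxr, hzr])
  have h3 : (⟨z, hz⟩ : H) ∈ zpowers (⟨x, hxH⟩ : H) := by rw [h2]; exact mem_zpowers _
  obtain ⟨k, hk⟩ := h3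
  have hzk : z = (⟨x, hxN⟩ : normalizer (E : Set G)) ^ k := Subtype.ext (by
    have := congrArg Subtype.val hk
    exact this.symm)
  exact mem_TT_rr h b hr hxH hxr (n := ⟨n, hn⟩) (x := ⟨x, hxN⟩) (k := k) (by
    rw [← hzx, hzk, map_zpow])

/-! ### orders -/

theorem card_eq_mul_odd {M S : Subgroup G} (hS : IsSyl2 M S) :
    ∃ m, Odd m ∧ Nat.card M = Nat.card S * m := by
  obtain ⟨m, hm⟩ := Subgroup.card_dvd_of_le hS.le
  refine ⟨m, ?_, hm⟩
  by_contra hodd
  rw [Nat.not_odd_iff_even] at hodd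
  have hpf : Fact (Nat.Prime 2) := ⟨Nat.prime_two⟩
  obtain ⟨a, ha⟩ := IsPGroup.iff_card.mp hS.two
  have h1 : 2 ^ (a + 1) ∣ Nat.card M := by
    rw [hm, ha, pow_succ]
    exact mul_dvd_mul_left _ (even_iff_two_dvd.mp hodd)
  have h2 := pow_le_of_dvd hS h1
  rw [ha, pow_succ] at h2
  have : 0 < 2 ^ a := by positivity
  omega

omit [Finite G] in
theorem pow_mul_odd {a b m n : ℕ} (hm : Odd m) (hn : Odd n) (h : 2 ^ a * m = 2 ^ b * n) :
    2 ^ a = 2 ^ b := by
  have h1 : 2 ^ a ∣ 2 ^ b := by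
    have h3 : Nat.Coprime (2 ^ a) n := Nat.Coprime.pow_left a (Nat.coprime_two_left.mpr hn)
    exact h3.dvd_of_dvd_mul_right (by rw [← h]; exact Dvd.intro _ rfl)
  have h2 : 2 ^ b ∣ 2 ^ a := by
    have h3 : Nat.Coprime (2 ^ b) m := Nat.Coprime.pow_left b (Nat.coprime_two_left.mpr hm)
    exact h3.dvd_of_dvd_mul_right (by rw [h]; exact Dvd.intro _ rfl)
  exact Nat.dvd_antisymm h1 h2

omit [Finite G] in
/-- `V` is a Sylow 2-subgroup of `C_M(E)` -/
theorem sylV (b : Beta K R E H q) :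
    IsSyl2 (centralizer (E : Set G) ⊓ (normalizer (K : Set G) ⊓ normalizer (E : Set G)))
      (R ⊔ E) := by
  refine ⟨le_inf (V_le_C b) (le_inf b.V_le ((V_le_C b).trans (centralizer_le_normalizer _))),
    isPGroup_of_elem b.elemV, fun U hU hU2 hle => le_antisymm ?_ hle⟩
  intro u hu
  obtain ⟨y, hy, e, he, hye⟩ := C_inf_M b (hU hu).1 (hU hu).2.1
  have hyU : y ∈ U := by
    have : y = u * e⁻¹ := by rw [hye]; group
    rw [this]
    exact U.mul_mem hu (U.inv_mem (hle (mem_sup_right he)))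
  have hUY : U ⊓ centralizer (K : Set G) = R :=
    b.sylR.max _ inf_le_right (hU2.to_le inf_le_left) (le_inf (le_sup_left.trans hle) b.sylR.le)
  have hyR : y ∈ R := by rw [← hUY]; exact ⟨hyU, hy⟩
  rw [hye]
  exact Subgroup.mul_mem _ (mem_sup_left hyR) (mem_sup_right he)

theorem sylS (b : Beta K R E H q) {S : Subgroup G} (hS : IsSyl2 (normalizer (K : Set G)) S)
    (hV : R ⊔ E ≤ S) : IsSyl2 (normalizer (K : Set G) ⊓ normalizer (E : Set G)) S :=
  ⟨le_inf hS.le (fun s hs => mem_normalizer_of_forall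
    (S_norm_E b hS (le_sup_right.trans hV) s hs)), hS.two,
    fun _ hU hU2 hle => hS.max _ (hU.trans inf_le_left) hU2 hle⟩

/-- `|N_G(E)|₂ |V| = |P| |S|` -/
theorem card_syl [IsSimpleGroup G] (h : Std p K) (b : Beta K R E H q) (hsec : SecKZ G)
    (h8 : q = 8 → normalizer (K : Set G) ≤ K ⊔ centralizer (K : Set G)) {S P W : Subgroup G}
    (hS : IsSyl2 (normalizer (K : Set G)) S) (hV : R ⊔ E ≤ S)
    (hP : IsSyl2 (centralizer (E : Set G)) P) (hW : IsSyl2 (normalizer (E : Set G)) W) :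
    Nat.card W * Nat.card (R ⊔ E : Subgroup G) = Nat.card P * Nat.card S := by
  have hpf : Fact (Nat.Prime 2) := ⟨Nat.prime_two⟩
  have h1 := card_sup_mul (K := centralizer (E : Set G))
    (H := normalizer (K : Set G) ⊓ normalizer (E : Set G))
    (inf_le_right.trans (normalizer_le_centralizer E))
  have h2 : centralizer (E : Set G) ⊔ (normalizer (K : Set G) ⊓ normalizer (E : Set G)) =
    normalizer (E : Set G) := normE_eq h b hsec h8
  rw [h2] at h1
  obtain ⟨m₁, hm₁, e₁⟩ := card_eq_mul_odd hW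
  obtain ⟨m₂, hm₂, e₂⟩ := card_eq_mul_odd (sylV b)
  obtain ⟨m₃, hm₃, e₃⟩ := card_eq_mul_odd hP
  obtain ⟨m₄, hm₄, e₄⟩ := card_eq_mul_odd (sylS b hS hV)
  obtain ⟨a₁, ha₁⟩ := IsPGroup.iff_card.mp hW.two
  obtain ⟨a₂, ha₂⟩ := IsPGroup.iff_card.mp (isPGroup_of_elem b.elemV)
  obtain ⟨a₃, ha₃⟩ := IsPGroup.iff_card.mp hP.two
  obtain ⟨a₄, ha₄⟩ := IsPGroup.iff_card.mp hS.two
  rw [e₁, e₂, e₃, e₄, ha₁, ha₂, ha₃, ha₄] at h1
  rw [ha₁, ha₂, ha₃, ha₄, ← pow_add, ← pow_add]
  refine pow_mul_odd (hm₁.mul hm₂) (hm₃.mul hm₄) ?_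
  rw [pow_add, pow_add]
  calc 2 ^ a₁ * 2 ^ a₂ * (m₁ * m₂) = 2 ^ a₁ * m₁ * (2 ^ a₂ * m₂) := by ring
    _ = 2 ^ a₃ * m₃ * (2 ^ a₄ * m₄) := h1
    _ = 2 ^ a₃ * 2 ^ a₄ * (m₃ * m₄) := by ring

/-- **(vi)** `P > V` if `N_G(V)` contains a 2-group larger than `S` -/
theorem card_lt [IsSimpleGroup G] (h : Std p K) (b : Beta K R E H q) (hsec : SecKZ G)
    (h8 : q = 8 → normalizer (K : Set G) ≤ K ⊔ centralizer (K : Set G)) {S P W : Subgroup G}
    (hS : IsSyl2 (normalizer (K : Set G)) S) (hV : R ⊔ E ≤ S)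
    (hP : IsSyl2 (centralizer (E : Set G)) P) (hW : W ≤ normalizer (E : Set G))
    (hW2 : IsPGroup 2 W) (hlt : Nat.card S < Nat.card W) :
    Nat.card (R ⊔ E : Subgroup G) < Nat.card P := by
  obtain ⟨W', hW', hWW'⟩ := exists_isSyl2 _ W hW hW2
  have h1 := card_syl h b hsec h8 hS hV hP hW'
  have h2 : Nat.card S < Nat.card W' := hlt.trans_le (Subgroup.card_le_of_le hWW')
  by_contra hcon
  push Not at hcon
  have h3 : Nat.card P * Nat.card S ≤ Nat.card (R ⊔ E : Subgroup G) * Nat.card S :=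
    Nat.mul_le_mul_right _ hcon
  have h4 : Nat.card (R ⊔ E : Subgroup G) * Nat.card S <
      Nat.card (R ⊔ E : Subgroup G) * Nat.card W' :=
    Nat.mul_lt_mul_of_pos_left h2 Nat.card_pos
  rw [mul_comm (Nat.card W')] at h1
  omega

end Cfsg.Agent.OddCyclic.CaseASix
end
end

-- part: OddCyclic/CompJOne_mg
section
prune_inst 0x2030120041221200001800020000180282000000004b800191210702068edc4020020e20c8200d0358208844003400481110001002000000000000000b1c01a08020d2060240a10426000f803007580c00000000000000000000000000041000000000000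
set_option linter.all false
open scoped Cfsg.Agent.FastGrp

-- part: OddCyclic/CompJOne
section
/-!
# Component case `J₁` of S0342

`no_JOne`: in a finite group with all odd Sylow subgroups cyclic there is no involution `t` fused to another
involution of `C(t)` with `C(t) = Y × K`, `K` of type `J₁`, `4 ∤ |Y|`, `t ∈ Z(Y)`.
-/

set_option autoImplicit false

namespace Cfsg.Agent.OddCyclic.CompJOne

open Subgroup Cfsg.Agent.OddCyclic.T1Defs Cfsg.Agent.OddCyclic.CompBasic
open Cfsg.Agent.OddCyclic.CompJOneTools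
open Cfsg.Agent.SporRec.J1.Defs Cfsg.Agent.SporRec.J1.CentFacts Cfsg.Agent.SporRec.J1.Pair
open Cfsg.Agent.SporRec.J1.A5More (w0)

/-! ### Elementary facts -/

section Elem

variable {G : Type*} [Group G]

/-- two commuting involutions give a subgroup of order four -/
theorem four_dvd [Finite G] {Y : Subgroup G} {a b : G} (ha : a ∈ Y) (hb : b ∈ Y) (aa : a * a = 1)
    (bb : b * b = 1) (ab : a * b = b * a) (a1 : a ≠ 1) (b1 : b ≠ 1) (hne : a ≠ b) : 4 ∣ Nat.card Y := by
  classical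
  let V : Subgroup G :=
    { carrier := {x | x = 1 ∨ x = a ∨ x = b ∨ x = a * b}
      mul_mem' := by
        have h1 : a * (a * b) = b := by rw [← mul_assoc, aa, one_mul]
        have h2 : b * (a * b) = a := by rw [ab, ← mul_assoc, bb, one_mul]
        have h3 : a * b * a = b := by rw [ab, mul_assoc, aa, mul_one]
        have h4 : a * b * b = a := by rw [mul_assoc, bb, mul_one]
        have h5 : a * b * (a * b) = 1 := by rw [← mul_assoc, h3, bb]
        rintro x y (rfl | rfl | rfl | rfl) (rfl | rfl | rfl | rfl) <;>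
          simp only [Set.mem_ofPred_eq, one_mul, mul_one, aa, bb, h1, h2, h3, h4, h5, ← ab] <;> itauto
      one_mem' := Or.inl rfl
      inv_mem' := by
        have ha' : a⁻¹ = a := inv_eq_of_mul_eq_one_right aa
        have hb' : b⁻¹ = b := inv_eq_of_mul_eq_one_right bb
        rintro x (rfl | rfl | rfl | rfl)
        · left; exact inv_one
        · right; left; exact ha'
        · right; right; left; exact hb'
        · right; right; right
          rw [mul_inv_rev, ha', hb', ab] }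
  have hle : V ≤ Y := by
    rintro x (rfl | rfl | rfl | rfl)
    · exact Y.one_mem
    · exact ha
    · exact hb
    · exact Y.mul_mem ha hb
  have hcard : Nat.card V = 4 := by
    have h1 : (V : Set G) = (({1, a, b, a * b} : Finset G) : Set G) := by
      ext x
      simp only [Finset.coe_insert, Finset.coe_singleton, Set.mem_insert_iff, Set.mem_singleton_iff]
      rfl
    calc Nat.card V = (V : Set G).ncard := rfl
      _ = ({1, a, b, a * b} : Finset G).card := by rw [h1, Set.ncard_coe_finset]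
      _ = 4 := by
        have n1 : a ≠ a * b := by
          intro h; exact b1 (mul_left_cancel (h.symm.trans (mul_one a).symm))
        have n2 : b ≠ a * b := by
          intro h; exact a1 (mul_right_cancel (h.symm.trans (one_mul b).symm))
        have n3 : (1 : G) ≠ a * b := by
          intro h
          apply hne
          rw [eq_comm, mul_eq_one_iff_eq_inv] at h
          rw [h, inv_eq_of_mul_eq_one_right bb]
        rw [Finset.card_insert_of_notMem, Finset.card_insert_of_notMem, Finset.card_insert_of_notMem,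
          Finset.card_singleton]
        · simpa using n2
        · simp only [Finset.mem_insert, Finset.mem_singleton, not_or]
          exact ⟨hne, n1⟩
        · simp only [Finset.mem_insert, Finset.mem_singleton, not_or]
          exact ⟨a1.symm, b1.symm, n3⟩
  rw [← hcard]
  exact card_dvd_of_le hle

theorem w0_three : w0 ^ 3 = 1 ∧ w0 ≠ 1 :=
  ⟨Cfsg.Agent.SporRec.J1.A5More.ds, Cfsg.Agent.SporRec.J1.A5More.ds_ne⟩

theorem prod_three : ∀ a : A5, ∃ b : A5, b ^ 3 = 1 ∧ (b⁻¹ * a) ^ 3 = 1 := by (set_option synthInstance.maxSize 9000 in open scoped Cfsg.Agent.Lib.FastPerm in decide +kernel)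

end Elem

variable {G : Type*} [Group G]

/-- the situation: `C(t) = Y × K`. -/
structure Setup (t : G) (Y K : Subgroup G) : Prop where
  odd : OddCyc G
  t2 : orderOf t = 2
  comm : ∀ y ∈ Y, ∀ k ∈ K, y * k = k * y
  disj : ∀ x ∈ Y, x ∈ K → x = 1
  tY : t ∈ Y
  tcent : ∀ y ∈ Y, y * t = t * y
  cover : ∀ g, g * t = t * g → ∃ y ∈ Y, ∃ k ∈ K, g = y * k
  four : ¬ 4 ∣ Nat.card Y
  loc : Local K

/-- the centraliser of the involution `k` of `K` -/
structure CentK (K : Subgroup G) (k : G) (ψ : A5 →* G) (v : G) : Prop where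
  kK : k ∈ K
  k2 : orderOf k = 2
  inj : Function.Injective ψ
  mem : ∀ a, ψ a ∈ K
  comm : ∀ a, k * ψ a = ψ a * k
  cover : ∀ g ∈ K, g * k = k * g → ∃ a, g = ψ a ∨ g = k * ψ a
  ne : ∀ a, ψ a ≠ k
  vK : v ∈ K
  v5 : orderOf v = 5
  vx : v * ψ w0 = ψ w0 * v
  kv : k * v * k⁻¹ = v⁻¹
  cov : ∀ z ∈ K, z * ψ w0 = ψ w0 * z → z * v * z⁻¹ = v ∨ z * v * z⁻¹ = v⁻¹

namespace Setup

variable {t : G} {Y K : Subgroup G}

theorem tt (S : Setup t Y K) : t * t = 1 := sq_of_two S.t2

theorem t1 (S : Setup t Y K) : t ≠ 1 := ne_of_two S.t2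

theorem tk (S : Setup t Y K) {k : G} (hk : k ∈ K) : t * k = k * t := S.comm t S.tY k hk

theorem pow_eq (S : Setup t Y K) {y k : G} (hy : y ∈ Y) (hk : k ∈ K) {n : ℕ} (h : (y * k) ^ n = 1) :
    y ^ n = 1 ∧ k ^ n = 1 := by
  have hc : Commute y k := S.comm y hy k hk
  rw [hc.mul_pow] at h
  have h1 : y ^ n = (k ^ n)⁻¹ := eq_inv_of_mul_eq_one_left h
  have h2 : y ^ n = 1 := S.disj _ (Y.pow_mem hy n) (by rw [h1]; exact K.inv_mem (K.pow_mem hk n))
  refine ⟨h2, ?_⟩
  rwa [h2, one_mul] at h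

theorem y_cases [Finite G] (S : Setup t Y K) {y : G} (hy : y ∈ Y) (hyy : y * y = 1) : y = 1 ∨ y = t := by
  by_contra hne
  push Not at hne
  exact S.four (four_dvd hy S.tY hyy S.tt (S.tcent y hy) hne.1 S.t1 hne.2)

theorem y_two [Finite G] (S : Setup t Y K) {y : G} (hy : y ∈ Y) {n : ℕ} (h : y ^ (2 ^ n) = 1) :
    y = 1 ∨ y = t := by
  apply S.y_cases hy
  have h1 : orderOf y ∣ 2 ^ n := orderOf_dvd_of_pow_eq_one h
  obtain ⟨m, -, hm⟩ := (Nat.dvd_prime_pow Nat.prime_two).1 h1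
  have h2 : m ≤ 1 := by
    by_contra hlt
    apply S.four
    have h3 : 2 ^ 2 ∣ orderOf y := by rw [hm]; exact pow_dvd_pow 2 (by omega)
    exact h3.trans (orderOf_dvd_natCard Y hy)
  have h3 : y ^ (2 ^ 1) = 1 := by
    apply orderOf_dvd_iff_pow_eq_one.1
    rw [hm]
    exact pow_dvd_pow 2 h2
  rwa [pow_one, pow_two] at h3

/-- elements of order 3 (or 5) of `C(t)` lie in `K` -/
theorem mem_K [Finite G] (S : Setup t Y K) {p : ℕ} (hp : p.Prime) (hp2 : p ≠ 2) (hpK : p ∣ Nat.card K) {g : G}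
    (hg : g * t = t * g) (hgp : g ^ p = 1) : g ∈ K := by
  obtain ⟨y, hy, k, hk, rfl⟩ := S.cover g hg
  obtain ⟨h1, h2⟩ := S.pow_eq hy hk hgp
  suffices y = 1 by rw [this, one_mul]; exact hk
  by_contra hy1
  have : Fact p.Prime := ⟨hp⟩
  obtain ⟨⟨z, hzK⟩, hz⟩ := exists_prime_orderOf_dvd_card' (G := K) p hpK
  rw [Subgroup.orderOf_mk] at hz
  have h3 := zpowers_eq_of_commute S.odd hp hp2 (orderOf_eq_prime h1 hy1) hz (S.comm y hy z hzK)
  apply hy1
  apply S.disj y hy
  have h4 : y ∈ zpowers z := by rw [← h3]; exact mem_zpowers y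
  obtain ⟨n, rfl⟩ := mem_zpowers_iff.1 h4
  exact K.zpow_mem hzK n

/-- involutions of `C(t)` -/
theorem inv_cases [Finite G] (S : Setup t Y K) {s : G} (hs : s * t = t * s) (ss : s * s = 1) (s1 : s ≠ 1)
    (st : s ≠ t) : ∃ e k, (e = 1 ∨ e = t) ∧ k ∈ K ∧ orderOf k = 2 ∧ s = e * k := by
  obtain ⟨y, hy, k, hk, rfl⟩ := S.cover s hs
  obtain ⟨h1, h2⟩ := S.pow_eq (n := 2) hy hk (by rw [pow_two, ss])
  rw [pow_two] at h1 h2
  have hy' := S.y_cases hy h1
  refine ⟨y, k, hy', hk, orderOf_two h2 ?_, rfl⟩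
  rintro rfl
  rw [mul_one] at s1 st
  tauto

theorem exists_centK [Finite G] (S : Setup t Y K) {k : G} (hk : k ∈ K) (hk2 : orderOf k = 2) :
    ∃ ψ v, CentK K k ψ v := by
  have hk2' : orderOf (⟨k, hk⟩ : K) = 2 := by rw [Subgroup.orderOf_mk]; exact hk2
  obtain ⟨φ, D⟩ := exists_centData (⟨k, hk⟩ : K) hk2' (S.loc.cent _ hk2')
  obtain ⟨v, P⟩ := exists_pd3 S.loc hk2' D
  refine ⟨K.subtype.comp φ, v, hk, hk2, K.subtype_injective.comp D.inj, fun a => (φ a).2,
    fun a => congrArg Subtype.val (D.comm a), ?_, ?_, v.2, ?_, congrArg Subtype.val P.xy,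
    congrArg Subtype.val P.inv, ?_⟩
  · intro g hg hgk
    obtain ⟨a, ha⟩ := D.cover ⟨g, hg⟩ (Subtype.ext hgk)
    refine ⟨a, ?_⟩
    rcases ha with ha | ha
    · left; exact congrArg Subtype.val ha
    · right; exact congrArg Subtype.val ha
  · intro a ha
    exact D.ne a (Subtype.ext ha)
  · rw [Subgroup.orderOf_coe]; exact P.yq
  · intro z hz hzx
    have hzx' : (⟨z, hz⟩ : K) * φ w0 = φ w0 * ⟨z, hz⟩ := Subtype.ext hzx
    obtain ⟨i, j, h⟩ := P.cover' hzx'
    have hxv : Commute (φ w0 ^ i) v := ((show Commute v (φ w0) from P.xy).zpow_right i).symm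
    have hvv : Commute (v ^ j) v := (Commute.refl v).zpow_left j
    have h1 : Commute (φ w0 ^ i * v ^ j) v := hxv.mul_left hvv
    rcases h with h | h
    · left
      have : (⟨z, hz⟩ : K) * v * (⟨z, hz⟩ : K)⁻¹ = v := by
        rw [h, h1.eq]; group
      exact congrArg Subtype.val this
    · right
      have : (⟨z, hz⟩ : K) * v * (⟨z, hz⟩ : K)⁻¹ = v⁻¹ := by
        rw [h]
        calc φ w0 ^ i * v ^ j * ⟨k, hk⟩ * v * (φ w0 ^ i * v ^ j * ⟨k, hk⟩)⁻¹ 
            = (φ w0 ^ i * v ^ j) * (⟨k, hk⟩ * v * (⟨k, hk⟩ : K)⁻¹) * (φ w0 ^ i * v ^ j)⁻¹ := by group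
          _ = (φ w0 ^ i * v ^ j) * v⁻¹ * (φ w0 ^ i * v ^ j)⁻¹ := by rw [P.inv]
          _ = v⁻¹ := by rw [(h1.inv_right).eq]; group
      exact congrArg Subtype.val this

theorem three_dvd [Finite G] {k v : G} {ψ : A5 →* G} (D : CentK K k ψ v) : 3 ∣ Nat.card K := by
  have : Fact (Nat.Prime 3) := ⟨Nat.prime_three⟩
  have h1 : orderOf (ψ w0) = 3 := by
    refine orderOf_eq_prime (by rw [← map_pow, w0_three.1, map_one]) ?_
    intro h
    exact w0_three.2 (D.inj (by rw [h, map_one]))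
  rw [← h1]
  exact orderOf_dvd_natCard K (D.mem w0)

/-- the configuration obtained from a fusion of `t` -/
theorem exists_config [Finite G] (S : Setup t Y K) (g : G) (hg : (g * t * g⁻¹) * t = t * (g * t * g⁻¹))
    (hgt : g * t * g⁻¹ ≠ t) : ∃ (k v : G) (ψ : A5 →* G) (w s : G), CentK K k ψ v ∧ (s = k ∨ s = t * k) ∧
      w * s * w⁻¹ = t ∧ (w * t * w⁻¹ = k ∨ w * t * w⁻¹ = t * k) ∧ ∀ a, ∃ b, w * ψ a * w⁻¹ = ψ b := by
  set s := g * t * g⁻¹ with hs
  have ss : s * s = 1 := by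
    calc g * t * g⁻¹ * (g * t * g⁻¹) = g * (t * t) * g⁻¹ := by group
      _ = 1 := by rw [S.tt]; group
  have s1 : s ≠ 1 := by
    intro h
    rw [hs] at h
    exact S.t1 (conj_eq_one_iff.1 h)
  obtain ⟨e, k, he, hk, hk2, hsk⟩ := S.inv_cases hg ss s1 hgt
  obtain ⟨ψ, v, D⟩ := S.exists_centK hk hk2
  -- the involution `g⁻¹ t g`
  set r := g⁻¹ * t * g with hr
  have hgs : g⁻¹ * s * g = t := by rw [hs]; group
  have hrt : r * t = t * r := by
    calc g⁻¹ * t * g * t = g⁻¹ * t * g * (g⁻¹ * s * g) := by rw [hgs]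
      _ = g⁻¹ * (t * s) * g := by group
      _ = g⁻¹ * (s * t) * g := by rw [hg]
      _ = (g⁻¹ * s * g) * (g⁻¹ * t * g) := by group
      _ = t * (g⁻¹ * t * g) := by rw [hgs]
  have rr : r * r = 1 := by
    calc g⁻¹ * t * g * (g⁻¹ * t * g) = g⁻¹ * (t * t) * g := by group
      _ = 1 := by rw [S.tt]; group
  have r1 : r ≠ 1 := by
    intro h
    apply S.t1
    have : t = g * r * g⁻¹ := by rw [hr]; group
    rw [this, h]; group
  have rt : r ≠ t := by
    intro h
    apply hgt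
    calc s = g * t * g⁻¹ := hs
      _ = g * r * g⁻¹ := by rw [h]
      _ = t := by rw [hr]; group
  obtain ⟨e2, k2, he2, hk2K, hk22, hrk⟩ := S.inv_cases hrt rr r1 rt
  obtain ⟨⟨κ, hκK⟩, hκ⟩ := S.loc.conj ⟨k2, hk2K⟩ ⟨k, hk⟩ (by rw [Subgroup.orderOf_mk]; exact hk22)
    (by rw [Subgroup.orderOf_mk]; exact hk2)
  have hκ' : κ * k2 * κ⁻¹ = k := congrArg Subtype.val hκ
  have hκt : κ * t = t * κ := (S.tk hκK).symm
  -- `t` and `s` commute with `ψ a`
  have hta : ∀ a, t * ψ a = ψ a * t := fun a => S.tk (D.mem a)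
  have hsa : ∀ a, s * ψ a = ψ a * s := by
    intro a
    rw [hsk]
    have h1 : Commute e (ψ a) := by
      rcases he with rfl | rfl
      · exact Commute.one_left _
      · exact hta a
    exact (h1.mul_left (D.comm a)).eq
  have h3K := three_dvd D
  -- conjugates of `ψ a`
  have hmem3 : ∀ b : A5, b ^ 3 = 1 → g⁻¹ * ψ b * g ∈ K := by
    intro b hb
    apply S.mem_K Nat.prime_three (by norm_num) h3K
    · calc g⁻¹ * ψ b * g * t = g⁻¹ * ψ b * g * (g⁻¹ * s * g) := by rw [hgs]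
        _ = g⁻¹ * (ψ b * s) * g := by group
        _ = g⁻¹ * (s * ψ b) * g := by rw [hsa]
        _ = (g⁻¹ * s * g) * (g⁻¹ * ψ b * g) := by group
        _ = t * (g⁻¹ * ψ b * g) := by rw [hgs]
    · have : (g⁻¹ * ψ b * g) ^ 3 = g⁻¹ * (ψ b) ^ 3 * g := by
        rw [pow_succ, pow_two, pow_succ, pow_two]; group
      rw [this, ← map_pow, hb, map_one]; group
  have hmem : ∀ a : A5, g⁻¹ * ψ a * g ∈ K := by
    intro a
    obtain ⟨b, hb1, hb2⟩ := prod_three a
    have h1 := K.mul_mem (hmem3 _ hb1) (hmem3 _ hb2)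
    have h2 : g⁻¹ * ψ b * g * (g⁻¹ * ψ (b⁻¹ * a) * g) = g⁻¹ * ψ a * g := by
      rw [map_mul, map_inv]; group
    rwa [h2] at h1
  refine ⟨k, v, ψ, κ * g⁻¹, s, D, ?_, ?_, ?_, ?_⟩
  · rcases he with rfl | rfl
    · left; rw [hsk, one_mul]
    · right; exact hsk
  · calc κ * g⁻¹ * s * (κ * g⁻¹)⁻¹ = κ * (g⁻¹ * s * g) * κ⁻¹ := by group
      _ = t := by rw [hgs, hκt]; group
  · have h1 : κ * g⁻¹ * t * (κ * g⁻¹)⁻¹ = e2 * k := by
      calc κ * g⁻¹ * t * (κ * g⁻¹)⁻¹ = κ * r * κ⁻¹ := by rw [hr]; group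
        _ = κ * e2 * k2 * κ⁻¹ := by rw [hrk]; group
        _ = e2 * (κ * k2 * κ⁻¹) := by
          have : κ * e2 = e2 * κ := by
            rcases he2 with rfl | rfl
            · rw [mul_one, one_mul]
            · exact hκt
          rw [this]; group
        _ = e2 * k := by rw [hκ']
    rw [h1]
    rcases he2 with rfl | rfl
    · left; rw [one_mul]
    · right; rfl
  · -- the image of `ψ a`
    have hwK : ∀ a, κ * g⁻¹ * ψ a * (κ * g⁻¹)⁻¹ ∈ K := by
      intro a
      have : κ * g⁻¹ * ψ a * (κ * g⁻¹)⁻¹ = κ * (g⁻¹ * ψ a * g) * κ⁻¹ := by group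
      rw [this]
      exact K.mul_mem (K.mul_mem hκK (hmem a)) (K.inv_mem hκK)
    have hwk : ∀ a, (κ * g⁻¹ * ψ a * (κ * g⁻¹)⁻¹) * k = k * (κ * g⁻¹ * ψ a * (κ * g⁻¹)⁻¹) := by
      intro a
      -- `g⁻¹ ψ(a) g` commutes with `k2`
      have h1 : (g⁻¹ * ψ a * g) * r = r * (g⁻¹ * ψ a * g) := by
        rw [hr]
        calc g⁻¹ * ψ a * g * (g⁻¹ * t * g) = g⁻¹ * (ψ a * t) * g := by group
          _ = g⁻¹ * (t * ψ a) * g := by rw [hta]
          _ = _ := by group
      have h2 : (g⁻¹ * ψ a * g) * k2 = k2 * (g⁻¹ * ψ a * g) := by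
        have h3 : k2 = e2 * r := by
          rw [hrk, ← mul_assoc]
          rcases he2 with rfl | rfl
          · group
          · rw [S.tt, one_mul]
        have h4 : Commute (g⁻¹ * ψ a * g) e2 := by
          rcases he2 with rfl | rfl
          · exact Commute.one_right _
          · exact (S.tk (hmem a)).symm
        rw [h3]
        exact (h4.mul_right h1).eq
      calc (κ * g⁻¹ * ψ a * (κ * g⁻¹)⁻¹) * k = (κ * g⁻¹ * ψ a * (κ * g⁻¹)⁻¹) * (κ * k2 * κ⁻¹) := by rw [hκ']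
        _ = κ * ((g⁻¹ * ψ a * g) * k2) * κ⁻¹ := by group
        _ = κ * (k2 * (g⁻¹ * ψ a * g)) * κ⁻¹ := by rw [h2]
        _ = (κ * k2 * κ⁻¹) * (κ * g⁻¹ * ψ a * (κ * g⁻¹)⁻¹) := by group
        _ = _ := by rw [hκ']
    have hk3 : k ^ 3 = k := by
      rw [pow_succ, pow_two, sq_of_two hk2, one_mul]
    have h3 : ∀ a : A5, a ^ 3 = 1 → ∃ b, κ * g⁻¹ * ψ a * (κ * g⁻¹)⁻¹ = ψ b := by
      intro a ha
      obtain ⟨b, hb | hb⟩ := D.cover _ (hwK a) (hwk a)
      · exact ⟨b, hb⟩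
      · exfalso
        have h4 : (κ * g⁻¹ * ψ a * (κ * g⁻¹)⁻¹) ^ 3 = 1 := by
          have : (κ * g⁻¹ * ψ a * (κ * g⁻¹)⁻¹) ^ 3 = κ * g⁻¹ * (ψ a) ^ 3 * (κ * g⁻¹)⁻¹ := by
            rw [pow_succ, pow_two, pow_succ, pow_two]; group
          rw [this, ← map_pow, ha, map_one]; group
        rw [hb, (show Commute k (ψ b) from D.comm b).mul_pow, hk3, ← map_pow] at h4
        apply D.ne (b ^ 3)⁻¹
        rw [map_inv]
        exact (eq_inv_of_mul_eq_one_left h4).symm
    intro a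
    obtain ⟨b, hb1, hb2⟩ := prod_three a
    obtain ⟨c1, hc1⟩ := h3 b hb1
    obtain ⟨c2, hc2⟩ := h3 _ hb2
    refine ⟨c1 * c2, ?_⟩
    rw [map_mul, ← hc1, ← hc2, map_mul, map_inv]
    group

theorem mem_normalizer_zpowers {X : Type*} [Group X] {g x : X} (h : g * x * g⁻¹ = x⁻¹) :
    g ∈ normalizer (zpowers x : Set X) := by
  have h' : g⁻¹ * x * g = x⁻¹ := by
    have h1 : g * x⁻¹ * g⁻¹ = x := by
      calc g * x⁻¹ * g⁻¹ = (g * x * g⁻¹)⁻¹ := by group
        _ = x := by rw [h, inv_inv]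
    calc g⁻¹ * x * g = g⁻¹ * (g * x⁻¹ * g⁻¹) * g := by rw [h1]
      _ = x⁻¹ := by group
  rw [mem_normalizer_iff]
  intro y
  constructor
  · intro hy
    obtain ⟨n, rfl⟩ := mem_zpowers_iff.1 hy
    have h2 : g * x ^ n * g⁻¹ = (g * x * g⁻¹) ^ n := by rw [conj_zpow]
    rw [h2, h]
    exact zpow_mem (inv_mem (mem_zpowers x)) n
  · intro hy
    obtain ⟨n, hn⟩ := mem_zpowers_iff.1 hy
    have h3 : y = g⁻¹ * x ^ n * g := by rw [hn]; group
    have h2 : g⁻¹ * x ^ n * g⁻¹⁻¹ = (g⁻¹ * x * g⁻¹⁻¹) ^ n := by rw [conj_zpow]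
    rw [inv_inv, h'] at h2
    rw [h3, h2]
    exact zpow_mem (inv_mem (mem_zpowers x)) n

/-- the configuration where `w` acts as a 3-cycle is impossible -/
theorem no_three_cycle [Finite G] (S : Setup t Y K) {k v w s : G} {ψ : A5 →* G} (D : CentK K k ψ v)
    (hs : s = k ∨ s = t * k) (hws : w * s * w⁻¹ = t) (hwt : w * t * w⁻¹ = k ∨ w * t * w⁻¹ = t * k)
    (hne : w * t * w⁻¹ ≠ s) : False := by
  classical
  have : Fact (Nat.Prime 3) := ⟨Nat.prime_three⟩
  have htk := S.tk D.kK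
  have k1 : k ≠ 1 := ne_of_two D.k2
  have kt : k ≠ t := by
    intro h
    apply k1
    apply S.disj k ?_ D.kK
    rw [h]; exact S.tY
  have kk := sq_of_two D.k2
  have hta : ∀ a, t * ψ a = ψ a * t := fun a => S.tk (D.mem a)
  have hst : s ≠ t := by
    rcases hs with rfl | rfl
    · exact kt
    · intro h; exact k1 (mul_left_cancel (h.trans (mul_one t).symm))
  have ht1 : w * t * w⁻¹ ≠ t := by
    rcases hwt with h | h <;> rw [h]
    · exact kt
    · intro h; exact k1 (mul_left_cancel (h.trans (mul_one t).symm))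
  -- `w t₁ w⁻¹ = s`
  have hw1 : w * (w * t * w⁻¹) * w⁻¹ = s := by
    rcases hs with rfl | rfl
    · rcases hwt with h | h
      · exact absurd h hne
      · rw [h]
        calc w * (t * s) * w⁻¹ = (w * t * w⁻¹) * (w * s * w⁻¹) := by group
          _ = t * s * t := by rw [h, hws]
          _ = s := by rw [htk, mul_assoc, S.tt, mul_one]
    · rcases hwt with h | h
      · rw [h]
        calc w * k * w⁻¹ = w * (t * (t * k)) * w⁻¹ := by rw [← mul_assoc t t k, S.tt, one_mul]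
          _ = (w * t * w⁻¹) * (w * (t * k) * w⁻¹) := by group
          _ = k * t := by rw [h, hws]
          _ = t * k := htk.symm
      · exact absurd h hne
  have e3 : w ^ (3 : ℤ) = w * w * w := by
    rw [show (3 : ℤ) = ((3 : ℕ) : ℤ) from rfl, zpow_natCast, pow_succ, pow_two]
  have e2 : w ^ (2 : ℤ) = w * w := by
    rw [show (2 : ℤ) = ((2 : ℕ) : ℤ) from rfl, zpow_natCast, pow_two]
  have hw3 : Commute (w ^ (3 : ℤ)) t := by
    have : w ^ (3 : ℤ) * t * (w ^ (3 : ℤ))⁻¹ = t := by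
      calc w ^ (3 : ℤ) * t * (w ^ (3 : ℤ))⁻¹ = w * (w * (w * t * w⁻¹) * w⁻¹) * w⁻¹ := by
            rw [e3]; group
        _ = t := by rw [hw1, hws]
    calc w ^ (3 : ℤ) * t = w ^ (3 : ℤ) * t * (w ^ (3 : ℤ))⁻¹ * w ^ (3 : ℤ) := by group
      _ = t * w ^ (3 : ℤ) := by rw [this]
  let τ : ℤ → G := fun j => w ^ j * t * (w ^ j)⁻¹
  have hτ3 : ∀ q r : ℤ, τ (r + 3 * q) = τ r := by
    intro q r
    have h1 : Commute (w ^ (3 * q)) t := by
      rw [zpow_mul]; exact hw3.zpow_left q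
    change w ^ (r + 3 * q) * t * (w ^ (r + 3 * q))⁻¹ = w ^ r * t * (w ^ r)⁻¹
    rw [zpow_add]
    calc w ^ r * w ^ (3 * q) * t * (w ^ r * w ^ (3 * q))⁻¹ 
        = w ^ r * (w ^ (3 * q) * t) * (w ^ (3 * q))⁻¹ * (w ^ r)⁻¹ := by group
      _ = w ^ r * (t * w ^ (3 * q)) * (w ^ (3 * q))⁻¹ * (w ^ r)⁻¹ := by rw [h1.eq]
      _ = _ := by group
  have hτ0 : τ 0 = t := by change w ^ (0 : ℤ) * t * (w ^ (0 : ℤ))⁻¹ = t; group
  have hτ1 : τ 1 = w * t * w⁻¹ := by change w ^ (1 : ℤ) * t * (w ^ (1 : ℤ))⁻¹ = _; group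
  have hτ2 : τ 2 = s := by
    rw [← hw1]
    change w ^ (2 : ℤ) * t * (w ^ (2 : ℤ))⁻¹ = _
    rw [e2]; group
  have hcases : ∀ j : ℤ, (j % 3 = 0 ∧ τ j = t) ∨ (j % 3 = 1 ∧ τ j = w * t * w⁻¹) ∨ (j % 3 = 2 ∧ τ j = s) := by
    intro j
    have h1 : τ j = τ (j % 3) := by
      conv_lhs => rw [← Int.emod_add_mul_ediv j 3]
      exact hτ3 _ _
    have h2 : j % 3 = 0 ∨ j % 3 = 1 ∨ j % 3 = 2 := by omega
    rcases h2 with h | h | h
    · left; rw [h1, h]; exact ⟨rfl, hτ0⟩
    · right; left; rw [h1, h]; exact ⟨rfl, hτ1⟩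
    · right; right; rw [h1, h]; exact ⟨rfl, hτ2⟩
  have hτψ : ∀ (j : ℤ) a, ψ a * τ j * (ψ a)⁻¹ = τ j := by
    intro j a
    have c1 : ψ a * t = t * ψ a := (hta a).symm
    have c2 : ψ a * k = k * ψ a := (D.comm a).symm
    have c3 : ψ a * (t * k) = (t * k) * ψ a := (show Commute (ψ a) t from c1).mul_right c2
    have c4 : ψ a * τ j = τ j * ψ a := by
      rcases hcases j with ⟨-, h⟩ | ⟨-, h⟩ | ⟨-, h⟩ <;> rw [h]
      · exact c1
      · rcases hwt with h | h <;> rw [h]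
        · exact c2
        · exact c3
      · rcases hs with h | h <;> rw [h]
        · exact c2
        · exact c3
    rw [c4]; group
  set H : Subgroup G := _root_.Subgroup.closure (Set.range ψ ∪ {w}) with hH
  have hAH : ∀ a, ψ a ∈ H := fun a => _root_.Subgroup.subset_closure (Or.inl ⟨a, rfl⟩)
  have hwH : w ∈ H := _root_.Subgroup.subset_closure (Or.inr rfl)
  have key : ∀ h ∈ H, ∃ n : ℤ, ∀ j : ℤ, h * τ j * h⁻¹ = τ (n + j) := by
    intro h hh
    induction hh using closure_induction with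
    | mem x hx =>
      rcases hx with ⟨a, rfl⟩ | hxw
      · exact ⟨0, fun j => by rw [zero_add]; exact hτψ j a⟩
      · rw [Set.mem_singleton_iff.1 hxw]
        refine ⟨1, fun j => ?_⟩
        change w * (w ^ j * t * (w ^ j)⁻¹) * w⁻¹ = w ^ (1 + j) * t * (w ^ (1 + j))⁻¹
        rw [zpow_add, zpow_one]; group
    | one => exact ⟨0, fun j => by rw [zero_add]; group⟩
    | mul x y _ _ hx hy =>
      obtain ⟨n, hn⟩ := hx
      obtain ⟨m, hm⟩ := hy
      refine ⟨n + m, fun j => ?_⟩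
      calc x * y * τ j * (x * y)⁻¹ = x * (y * τ j * y⁻¹) * x⁻¹ := by group
        _ = τ (n + m + j) := by rw [hm, hn, add_assoc]
    | inv x _ hx =>
      obtain ⟨n, hn⟩ := hx
      refine ⟨-n, fun j => ?_⟩
      have h1 := hn (-n + j)
      rw [show n + (-n + j) = j by ring] at h1
      rw [← h1]; group
  have key2 : ∀ h ∈ H, (orderOf h).Coprime 3 → h * t = t * h := by
    intro h hh ho
    obtain ⟨n, hn⟩ := key h hh
    have hm : ∀ (m : ℕ) (j : ℤ), h ^ m * τ j * (h ^ m)⁻¹ = τ (m * n + j) := by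
      intro m
      induction m with
      | zero => intro j; rw [Nat.cast_zero, zero_mul, zero_add, pow_zero]; group
      | succ m ih =>
        intro j
        calc h ^ (m + 1) * τ j * (h ^ (m + 1))⁻¹ = h ^ m * (h * τ j * h⁻¹) * (h ^ m)⁻¹ := by
              rw [pow_succ]; group
          _ = τ ((m + 1 : ℕ) * n + j) := by
            rw [hn, ih]
            congr 1
            push_cast
            ring
    have h1 := hm (orderOf h) 0
    rw [pow_orderOf_eq_one, hτ0, one_mul, inv_one, mul_one, add_zero] at h1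
    have h2 : ((orderOf h : ℤ) * n) % 3 = 0 := by
      rcases hcases ((orderOf h : ℤ) * n) with ⟨h3, -⟩ | ⟨-, h3⟩ | ⟨-, h3⟩
      · exact h3
      · rw [← h1] at h3; exact absurd h3.symm ht1
      · rw [← h1] at h3; exact absurd h3.symm hst
    have h3 : (3 : ℤ) ∣ n := by
      have h4 : (3 : ℤ) ∣ (orderOf h : ℤ) * n := Int.dvd_of_emod_eq_zero h2
      have h5 : IsCoprime (3 : ℤ) (orderOf h : ℤ) := by
        rw [show (3 : ℤ) = ((3 : ℕ) : ℤ) from rfl, Nat.isCoprime_iff_coprime]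
        exact ho.symm
      exact h5.dvd_of_dvd_mul_left h4
    have h4 := hn 0
    rw [add_zero, hτ0] at h4
    rcases hcases n with ⟨-, h5⟩ | ⟨h5, -⟩ | ⟨h5, -⟩
    · rw [h5] at h4
      calc h * t = (h * t * h⁻¹) * h := by group
        _ = t * h := by rw [h4]
    · omega
    · omega
  obtain ⟨P⟩ : Nonempty (Sylow 3 H) := inferInstance
  have hPc : IsCyclic P := oddCyc_subgroup S.odd H 3 P Nat.prime_three (by norm_num)
  rcases Cfsg.Agent.S0082.result P hPc with hN | hR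
  · rw [Cfsg.Agent.Transfer.FrobeniusFusion.hasNormalPComplement_iff_localCondition] at hN
    obtain ⟨s0, s00, s01, hs0⟩ := A5_inverted w0
    have e0 : ψ s0 * ψ w0 * (ψ s0)⁻¹ = (ψ w0)⁻¹ := by
      rw [← map_inv, ← map_inv, ← map_mul, ← map_mul, inv_eq_of_mul_eq_one_right s00, hs0]
    have e1 : (⟨ψ s0, hAH s0⟩ : H) * ⟨ψ w0, hAH w0⟩ * (⟨ψ s0, hAH s0⟩ : H)⁻¹ = (⟨ψ w0, hAH w0⟩ : H)⁻¹ :=
      Subtype.ext e0
    have e3 : orderOf (⟨ψ w0, hAH w0⟩ : H) = 3 := by
      rw [Subgroup.orderOf_mk]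
      refine orderOf_eq_prime (by rw [← map_pow, w0_three.1, map_one]) ?_
      intro h
      exact w0_three.2 (D.inj (by rw [h, map_one]))
    have e2 : orderOf (⟨ψ s0, hAH s0⟩ : H) = 2 := by
      rw [Subgroup.orderOf_mk]
      refine orderOf_two (by rw [← map_mul, s00, map_one]) ?_
      intro h
      exact s01 (D.inj (by rw [h, map_one]))
    have hz := hN (zpowers (⟨ψ w0, hAH w0⟩ : H)) (IsPGroup.of_card (n := 1) (by
      rw [Nat.card_zpowers, e3, pow_one])) ⟨ψ s0, hAH s0⟩ (mem_normalizer_zpowers e1) (by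
      rw [e2]; norm_num)
    have hz' := mem_centralizer_iff.1 hz _ (mem_zpowers (⟨ψ w0, hAH w0⟩ : H))
    have h6 : ψ w0 * ψ s0 = ψ s0 * ψ w0 := congrArg Subtype.val hz'
    rw [← h6, mul_assoc, mul_inv_cancel, mul_one, ← map_inv] at e0
    have h7 : w0 = w0⁻¹ := D.inj e0
    have h8 : w0 ^ 3 = w0 := by
      calc w0 ^ 3 = w0 * w0 * w0 := by rw [pow_succ, pow_two]
        _ = w0 * w0⁻¹ * w0 := by rw [← h7]
        _ = w0 := by group
    rw [w0_three.1] at h8
    exact w0_three.2 h8.symm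
  · have hle : Cfsg.pResidual 3 H ≤ (centralizer ({t} : Set G)).subgroupOf H := by
      rw [Cfsg.pResidual, closure_le]
      intro h hh
      have h1 := key2 h h.2 (by rw [Subgroup.orderOf_coe]; exact hh)
      exact mem_subgroupOf.2 (mem_centralizer_singleton_iff.2 h1)
    rw [hR] at hle
    have h1 : (⟨w, hwH⟩ : H) ∈ (centralizer ({t} : Set G)).subgroupOf H := hle (mem_top _)
    have h2 : w * t = t * w := mem_centralizer_singleton_iff.1 (mem_subgroupOf.1 h1)
    apply ht1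
    rw [h2]; group

/-- in the swap configuration there is a 2-element which centralises `ψ(w0)` and swaps `t` and `s` -/
theorem exists_w4 [Finite G] (S : Setup t Y K) {k v w s : G} {ψ : A5 →* G} (D : CentK K k ψ v)
    (hs : s = k ∨ s = t * k) (hws : w * s * w⁻¹ = t) (hwt : w * t * w⁻¹ = s)
    (hwA : ∀ a, ∃ b, w * ψ a * w⁻¹ = ψ b) : 
    ∃ u : G, (∃ n, u ^ (2 ^ n) = 1) ∧ u * ψ w0 = ψ w0 * u ∧ u * t * u⁻¹ = s ∧ u * s * u⁻¹ = t := by
  obtain ⟨p, hp⟩ := hwA w0
  have hp3 : p ^ 3 = 1 := by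
    apply D.inj
    rw [map_pow, ← hp, map_one]
    have : (w * ψ w0 * w⁻¹) ^ 3 = w * (ψ w0) ^ 3 * w⁻¹ := by
      rw [pow_succ, pow_two, pow_succ, pow_two]; group
    rw [this, ← map_pow, w0_three.1, map_one]; group
  have hp1 : p ≠ 1 := by
    rintro rfl
    rw [map_one, conj_eq_one_iff] at hp
    exact w0_three.2 (D.inj (by rw [hp, map_one]))
  obtain ⟨h, hh⟩ := Cfsg.Agent.SporRec.J1.A5More.conj3 p ⟨hp3, hp1⟩
  have hta : ∀ a, t * ψ a = ψ a * t := fun a => S.tk (D.mem a)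
  have hsa : ∀ a, s * ψ a = ψ a * s := by
    intro a
    rcases hs with rfl | rfl
    · exact D.comm a
    · exact ((show Commute t (ψ a) from hta a).mul_left (D.comm a)).eq
  set w1 := ψ h * w with hw1
  have a1 : w1 * ψ w0 * w1⁻¹ = ψ w0 := by
    calc ψ h * w * ψ w0 * (ψ h * w)⁻¹ = ψ h * (w * ψ w0 * w⁻¹) * (ψ h)⁻¹ := by group
      _ = ψ w0 := by rw [hp, ← map_inv, ← map_mul, ← map_mul, hh]
  have a2 : w1 * t * w1⁻¹ = s := by
    calc ψ h * w * t * (ψ h * w)⁻¹ = ψ h * (w * t * w⁻¹) * (ψ h)⁻¹ := by group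
      _ = (ψ h * s) * (ψ h)⁻¹ := by rw [hwt]
      _ = s := by rw [← hsa]; group
  have a3 : w1 * s * w1⁻¹ = t := by
    calc ψ h * w * s * (ψ h * w)⁻¹ = ψ h * (w * s * w⁻¹) * (ψ h)⁻¹ := by group
      _ = (ψ h * t) * (ψ h)⁻¹ := by rw [hws]
      _ = t := by rw [← hta]; group
  clear_value w1
  have hodd : ∀ j : ℕ, w1 ^ (2 * j + 1) * t * (w1 ^ (2 * j + 1))⁻¹ = s ∧
      w1 ^ (2 * j + 1) * s * (w1 ^ (2 * j + 1))⁻¹ = t := by
    intro j
    induction j with
    | zero => rw [mul_zero, zero_add, pow_one]; exact ⟨a2, a3⟩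
    | succ j ih =>
      have e : w1 ^ (2 * (j + 1) + 1) = w1 * w1 * w1 ^ (2 * j + 1) := by
        rw [show 2 * (j + 1) + 1 = (2 * j + 1) + 1 + 1 by ring, pow_succ' w1 (2 * j + 1 + 1),
          pow_succ' w1 (2 * j + 1), mul_assoc]
      rw [e]
      constructor
      · calc w1 * w1 * w1 ^ (2 * j + 1) * t * (w1 * w1 * w1 ^ (2 * j + 1))⁻¹ 
            = w1 * (w1 * (w1 ^ (2 * j + 1) * t * (w1 ^ (2 * j + 1))⁻¹) * w1⁻¹) * w1⁻¹ := by group
          _ = s := by rw [ih.1, a3, a2]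
      · calc w1 * w1 * w1 ^ (2 * j + 1) * s * (w1 * w1 * w1 ^ (2 * j + 1))⁻¹ 
            = w1 * (w1 * (w1 ^ (2 * j + 1) * s * (w1 ^ (2 * j + 1))⁻¹) * w1⁻¹) * w1⁻¹ := by group
          _ = t := by rw [ih.2, a2, a3]
  obtain ⟨n, m, hm, hnm⟩ := Nat.exists_eq_two_pow_mul_odd (n := orderOf w1) (orderOf_pos w1).ne'
  obtain ⟨j, rfl⟩ := hm
  refine ⟨w1 ^ (2 * j + 1), ⟨n, ?_⟩, ?_, (hodd j).1, (hodd j).2⟩
  · rw [← pow_mul, mul_comm, ← hnm, pow_orderOf_eq_one]
  · have : Commute w1 (ψ w0) := by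
      calc w1 * ψ w0 = (w1 * ψ w0 * w1⁻¹) * w1 := by group
        _ = ψ w0 * w1 := by rw [a1]
    exact (this.pow_left _).eq

/-- the swap configuration is impossible -/
theorem no_swap [Finite G] (S : Setup t Y K) {k v w s : G} {ψ : A5 →* G} (D : CentK K k ψ v)
    (hs : s = k ∨ s = t * k) (hws : w * s * w⁻¹ = t) (hwt : w * t * w⁻¹ = s)
    (hwA : ∀ a, ∃ b, w * ψ a * w⁻¹ = ψ b) : False := by
  classical
  have hp2 : Fact (Nat.Prime 2) := ⟨Nat.prime_two⟩
  have hp3 : Fact (Nat.Prime 3) := ⟨Nat.prime_three⟩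
  have hp5 : Fact (Nat.Prime 5) := ⟨Nat.prime_five⟩
  obtain ⟨u, ⟨nu, hu2⟩, hux, hut, hus⟩ := S.exists_w4 D hs hws hwt hwA
  have htk := S.tk D.kK
  have kk := sq_of_two D.k2
  have k1 : k ≠ 1 := ne_of_two D.k2
  have kt : k ≠ t := by
    intro h
    apply k1
    apply S.disj k ?_ D.kK
    rw [h]; exact S.tY
  have hta : ∀ a, t * ψ a = ψ a * t := fun a => S.tk (D.mem a)
  set x := ψ w0 with hx
  have hx3 : orderOf x = 3 := by
    refine orderOf_eq_prime (by rw [hx, ← map_pow, w0_three.1, map_one]) ?_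
    intro h
    exact w0_three.2 (D.inj (by rw [← hx, h, map_one]))
  obtain ⟨X, hX1, hX2, hX3⟩ := exists_centralizer_complement S.odd (by norm_num) hx3
  have htX : t ∈ X := hX3 t (hta w0) (by rw [S.t2]; norm_num)
  have hkX : k ∈ X := hX3 k (D.comm w0) (by rw [D.k2]; norm_num)
  have huX : u ∈ X := by
    refine hX3 u hux ?_
    have h1 : orderOf u ∣ 2 ^ nu := orderOf_dvd_of_pow_eq_one hu2
    exact Nat.Coprime.coprime_dvd_left h1 (Nat.Coprime.pow_left nu (by norm_num))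
  have hvX : v ∈ X := hX3 v D.vx (by rw [D.v5]; norm_num)
  -- the four-group
  have s2 : s * s = 1 := by
    rcases hs with rfl | rfl
    · exact kk
    · calc t * k * (t * k) = t * (k * t) * k := by group
        _ = t * t * (k * k) := by rw [← htk]; group
        _ = 1 := by rw [S.tt, kk, one_mul]
  set V : Subgroup G := zpowers t ⊔ zpowers k with hVdef
  have htV : t ∈ V := mem_sup_left (mem_zpowers t)
  have hkV : k ∈ V := mem_sup_right (mem_zpowers k)
  have hsV : s ∈ V := by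
    rcases hs with rfl | rfl
    · exact hkV
    · exact V.mul_mem htV hkV
  have hVcl : V = _root_.Subgroup.closure {t, k} := by
    rw [hVdef, zpowers_eq_closure, zpowers_eq_closure, ← Subgroup.closure_union]; rfl
  have hVlist : ∀ a ∈ V, a = 1 ∨ a = t ∨ a = k ∨ a = t * k := by
    intro a ha
    rw [hVcl] at ha
    induction ha using closure_induction with
    | mem y hy =>
      rcases hy with rfl | rfl
      · (clear * -; tauto)
      · (clear * -; tauto)
    | one => (clear * -; tauto)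
    | mul y z _ _ hy hz =>
      have h1 : t * (t * k) = k := by rw [← mul_assoc, S.tt, one_mul]
      have h2 : k * (t * k) = t := by rw [htk, ← mul_assoc, kk, one_mul]
      have h3 : t * k * t = k := by rw [htk, mul_assoc, S.tt, mul_one]
      have h4 : t * k * k = t := by rw [mul_assoc, kk, mul_one]
      have h5 : t * k * (t * k) = 1 := by rw [← mul_assoc, h3, kk]
      rcases hy with rfl | rfl | rfl | rfl <;> rcases hz with rfl | rfl | rfl | rfl <;>
        simp only [one_mul, mul_one, S.tt, kk, h1, h2, h3, h4, h5, ← htk] <;> (clear * -; itauto)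
    | inv y _ hy =>
      have ht' : t⁻¹ = t := inv_eq_of_mul_eq_one_right S.tt
      have hk' : k⁻¹ = k := inv_eq_of_mul_eq_one_right kk
      rcases hy with rfl | rfl | rfl | rfl
      · left; exact inv_one
      · right; left; exact ht'
      · right; right; left; exact hk'
      · right; right; right
        rw [mul_inv_rev, ht', hk', htk]
  have hVcomm : ∀ a ∈ V, ∀ b ∈ V, a * b = b * a := by
    have c1 : Commute t k := htk
    intro a ha b hb
    rcases hVlist a ha with rfl | rfl | rfl | rfl <;> rcases hVlist b hb with rfl | rfl | rfl | rfl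
    · rfl
    · exact Commute.one_left _
    · exact Commute.one_left _
    · exact Commute.one_left _
    · exact Commute.one_right _
    · rfl
    · exact c1
    · exact ((Commute.refl a).mul_right c1).eq
    · exact Commute.one_right _
    · exact c1.symm
    · rfl
    · exact (c1.symm.mul_right (Commute.refl _)).eq
    · exact Commute.one_right _
    · exact ((Commute.refl b).mul_left c1.symm).eq
    · exact (c1.mul_left (Commute.refl _)).eq
    · rfl
  have hV2 : IsPGroup 2 V := by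
    intro a
    refine ⟨1, Subtype.ext ?_⟩
    change (a : G) ^ (2 ^ 1) = 1
    rw [pow_one, pow_two]
    have h5 : t * k * (t * k) = 1 := by
      calc t * k * (t * k) = t * (k * t) * k := by group
        _ = t * t * (k * k) := by rw [← htk]; group
        _ = 1 := by rw [S.tt, kk, one_mul]
    rcases hVlist a a.2 with h | h | h | h <;> rw [h]
    · rw [one_mul]
    · exact S.tt
    · exact kk
    · exact h5
  have hV4 : Nat.card V = 4 := by
    have h1 : 4 ∣ Nat.card V := four_dvd htV hkV S.tt kk htk S.t1 k1 kt.symm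
    have h2 : Nat.card V ≤ 4 := by
      have h3 : (V : Set G) ⊆ (({1, t, k, t * k} : Finset G) : Set G) := by
        intro a ha
        simp only [Finset.coe_insert, Finset.coe_singleton, Set.mem_insert_iff, Set.mem_singleton_iff]
        exact hVlist a ha
      calc Nat.card V = (V : Set G).ncard := rfl
        _ ≤ (({1, t, k, t * k} : Finset G) : Set G).ncard := Set.ncard_le_ncard h3 (Finset.finite_toSet _)
        _ = ({1, t, k, t * k} : Finset G).card := Set.ncard_coe_finset _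
        _ ≤ 4 := Finset.card_le_four
    have h3 : 0 < Nat.card V := Nat.card_pos
    obtain ⟨c, hc⟩ := h1
    have : c = 1 := by
      rcases c with _ | _ | c
      · omega
      · rfl
      · omega
    omega
  -- the 2-group `Q = V⟨u⟩`
  set Q : Subgroup G := V ⊔ zpowers u with hQdef
  have huV : ∀ a ∈ V, u * a * u⁻¹ ∈ V := by
    have e1 : u * t * u⁻¹ ∈ V := by rw [hut]; exact hsV
    have e2 : u * k * u⁻¹ ∈ V := by
      have : k ∈ _root_.Subgroup.closure {t, s} := by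
        rcases hs with h | h
        · rw [h]; exact _root_.Subgroup.subset_closure (by simp)
        · have h1 : k = t * s := by rw [h, ← mul_assoc, S.tt, one_mul]
          rw [h1]
          exact mul_mem (_root_.Subgroup.subset_closure (by simp)) (_root_.Subgroup.subset_closure (by simp))
      rcases hs with h | h
      · rw [← h, hus]; exact htV
      · have h1 : k = t * s := by rw [h, ← mul_assoc, S.tt, one_mul]
        have h2 : u * k * u⁻¹ = (u * t * u⁻¹) * (u * s * u⁻¹) := by rw [h1]; group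
        rw [h2, hut, hus]
        exact V.mul_mem hsV htV
    intro a ha
    rcases hVlist a ha with rfl | rfl | rfl | rfl
    · rw [mul_one, mul_inv_cancel]; exact V.one_mem
    · exact e1
    · exact e2
    · have : u * (t * k) * u⁻¹ = (u * t * u⁻¹) * (u * k * u⁻¹) := by group
      rw [this]; exact V.mul_mem e1 e2
  have huN : u ∈ normalizer (V : Set G) := by
    have h1 : V.map (MulAut.conj u).toMonoidHom = V := by
      apply Subgroup.eq_of_le_of_card_ge
      · rintro _ ⟨a, ha, rfl⟩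
        exact huV a ha
      · rw [Subgroup.card_map_of_injective (MulAut.conj u).injective]
    rw [mem_normalizer_iff]
    intro a
    constructor
    · exact huV a
    · intro ha
      rw [← h1] at ha
      obtain ⟨b, hb, hab⟩ := ha
      have : b = a := (MulAut.conj u).injective hab
      rw [← this]; exact hb
  have hQ2 : IsPGroup 2 Q := by
    apply IsPGroup.to_sup_of_normal_left' hV2
    · intro a
      obtain ⟨m, hm⟩ := mem_zpowers_iff.1 a.2
      refine ⟨nu, Subtype.ext ?_⟩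
      change (a : G) ^ (2 ^ nu) = 1
      rw [← hm, ← zpow_natCast, ← zpow_mul, mul_comm, zpow_mul, zpow_natCast, hu2, one_zpow]
    · rwa [zpowers_le]
  have hVX : V ≤ X := sup_le (by rwa [zpowers_le]) (by rwa [zpowers_le])
  have hQX : Q ≤ X := sup_le hVX (by rwa [zpowers_le])
  have hVQ : V ≤ Q := le_sup_left
  have huQ : u ∈ Q := mem_sup_right (mem_zpowers u)
  have hst : s ≠ t := by
    rcases hs with rfl | rfl
    · exact kt
    · intro h; exact k1 (mul_left_cancel (h.trans (mul_one t).symm))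
  have hVneQ : V ≠ Q := by
    intro h
    have h1 : u ∈ V := by rw [h]; exact huQ
    apply hst
    rw [← hut, hVcomm u h1 t htV]; group
  -- the 2-elements of `C(V)`
  have hself : ∀ g ∈ X, (∀ a ∈ V, g * a = a * g) → (∃ n, g ^ (2 ^ n) = 1) → g ∈ V := by
    rintro g hg hgV ⟨n, hgn⟩
    obtain ⟨y, hy, c, hc, rfl⟩ := S.cover g (hgV t htV)
    obtain ⟨h1, h2⟩ := S.pow_eq hy hc hgn
    have hy' : y ∈ V := by
      rcases S.y_two hy h1 with rfl | rfl
      · exact V.one_mem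
      · exact htV
    have hck : c * k = k * c := by
      have h3 := hgV k hkV
      have h4 : y * (c * k) = y * (k * c) := by
        calc y * (c * k) = y * c * k := by group
          _ = k * (y * c) := h3
          _ = (k * y) * c := by group
          _ = (y * k) * c := by rw [S.comm y hy k D.kK]
          _ = y * (k * c) := by group
      exact mul_left_cancel h4
    have hcx : c * x = x * c := by
      have h3 := hX1 _ hg
      have h4 : y * (c * x) = y * (x * c) := by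
        calc y * (c * x) = y * c * x := by group
          _ = x * (y * c) := h3
          _ = (x * y) * c := by group
          _ = (y * x) * c := by rw [S.comm y hy x (D.mem w0)]
          _ = y * (x * c) := by group
      exact mul_left_cancel h4
    apply V.mul_mem hy'
    -- `c ∈ {1, k}`
    have hpow : ∀ a : A5, a * w0 = w0 * a → ∀ m : ℕ, a ^ (2 ^ m) = 1 → a = 1 := by
      intro a ha m hm
      have h3 := Cfsg.Agent.SporRec.J1.A5More.comm3 a ha
      have h4 : orderOf a ∣ 3 := orderOf_dvd_of_pow_eq_one h3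
      have h5 : orderOf a ∣ 2 ^ m := orderOf_dvd_of_pow_eq_one hm
      have h6 : Nat.Coprime 3 (2 ^ m) := Nat.Coprime.pow_right m (by norm_num)
      exact orderOf_eq_one_iff.1 (Nat.eq_one_of_dvd_coprimes h6 h4 h5)
    obtain ⟨a, ha | ha⟩ := D.cover c hc hck
    · have h3 : a * w0 = w0 * a := D.inj (by rw [map_mul, map_mul, ← ha]; exact hcx)
      have h4 := hpow a h3 n (D.inj (by rw [map_pow, ← ha, h2, map_one]))
      rw [ha, h4, map_one]
      exact V.one_mem
    · have h3 : a * w0 = w0 * a := by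
        apply D.inj
        rw [map_mul, map_mul]
        have h5 : k * (ψ a * ψ w0) = k * (ψ w0 * ψ a) := by
          calc k * (ψ a * ψ w0) = k * ψ a * ψ w0 := by group
            _ = c * x := by rw [ha]
            _ = x * c := hcx
            _ = (ψ w0 * k) * ψ a := by rw [ha, hx]; group
            _ = (k * ψ w0) * ψ a := by rw [D.comm w0]
            _ = _ := by group
        exact mul_left_cancel h5
      have h4 : a ^ (2 ^ (n + 1)) = 1 := by
        apply D.inj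
        rw [map_pow, map_one]
        have h5 : ψ a = k * c := by rw [ha, ← mul_assoc, kk, one_mul]
        have h6 : Commute k c := hck.symm
        rw [h5, h6.mul_pow, pow_succ, mul_comm (2 ^ n) 2, pow_mul k, pow_two, kk, one_pow, mul_comm 2, pow_mul c, h2,
          one_pow, one_mul]
      have h5 := hpow a h3 _ h4
      rw [ha, h5, map_one, mul_one]
      exact hkV
  obtain ⟨O, hO1, hO2, hO3, hO4⟩ := exists_odd_complement hX2 hQ2 hQX hVQ hV4 hVneQ hVcomm hself
  have hvO : v ∈ O := hO4 v hvX (by rw [D.v5]; norm_num)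
  -- the invariant Sylow 5-subgroups
  obtain ⟨P, hPs, hPQ⟩ := Cfsg.Agent.Lib.PGroupCoprimeAction.exists_invariant_sylow hQ2 hO2
    (fun b hb u hu => hO3 b (hQX hb) u hu) 5
  have hT2 : IsPGroup 2 (zpowers t) := IsPGroup.of_card (n := 1) (by
    rw [Nat.card_zpowers, S.t2, pow_one])
  have hTX : zpowers t ≤ X := by rwa [zpowers_le]
  have htQ : t ∈ Q := hVQ htV
  have htv : t * v = v * t := S.tk D.vK
  obtain ⟨R, hRs, hRT, hRv⟩ := Cfsg.Agent.Lib.PGroupCoprimeAction.exists_invariant_sylow_ge hT2 hO2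
    (fun b hb u hu => hO3 b (hTX hb) u hu) (q := 5) (R := zpowers v) (by rwa [zpowers_le])
    (IsPGroup.of_card (n := 1) (by rw [Nat.card_zpowers, D.v5, pow_one]))
    (by
      intro b hb r hr
      obtain ⟨i, rfl⟩ := mem_zpowers_iff.1 hb
      obtain ⟨j, rfl⟩ := mem_zpowers_iff.1 hr
      have h1 : Commute (t ^ i) (v ^ j) := (show Commute t v from htv).zpow_zpow i j
      rw [h1.eq, mul_inv_cancel_right]
      exact zpow_mem (mem_zpowers v) j)
  obtain ⟨c, ⟨hcO, hct⟩, hcR⟩ := Cfsg.Agent.Lib.PGroupCoprimeAction.exists_centralizer_conj hT2 hO2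
    (fun b hb u hu => hO3 b (hTX hb) u hu) hRs hPs hRT
    (fun b hb u hu => hPQ b (by
      have : zpowers t ≤ Q := by rwa [zpowers_le]
      exact this hb) u hu)
  -- `v ∈ P`
  have hvP : v ∈ P := by
    have h1 : c * v * c⁻¹ ∈ P := by
      rw [← hcR]
      exact ⟨v, hRv (mem_zpowers v), rfl⟩
    have hct' : c * t = t * c := (mem_centralizer_iff.1 hct t (mem_zpowers t)).symm
    have hcx : c * x = x * c := hX1 c (hO1 hcO)
    obtain ⟨y, hy, κ, hκ, rfl⟩ := S.cover c hct'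
    have hκx : κ * x = x * κ := by
      have h4 : y * (κ * x) = y * (x * κ) := by
        calc y * (κ * x) = y * κ * x := by group
          _ = x * (y * κ) := hcx
          _ = (x * y) * κ := by group
          _ = (y * x) * κ := by rw [S.comm y hy x (D.mem w0)]
          _ = y * (x * κ) := by group
      exact mul_left_cancel h4
    have h2 : y * κ * v * (y * κ)⁻¹ = y * (κ * v * κ⁻¹) * y⁻¹ := by group
    rcases D.cov κ hκ hκx with h3 | h3
    · rw [h2, h3, S.comm y hy v D.vK, mul_inv_cancel_right] at h1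
      exact h1
    · rw [h2, h3, S.comm y hy v⁻¹ (K.inv_mem D.vK), mul_inv_cancel_right] at h1
      exact inv_mem_iff.1 h1
  have hP5 : IsPGroup 5 P := by
    obtain ⟨T, rfl⟩ := hPs
    exact T.2.map _
  have hPc : IsCyclic P := isCyclic_of_isPGroup S.odd Nat.prime_five (by norm_num) hP5
  have hPcomm : ∀ a ∈ P, ∀ b ∈ P, a * b = b * a := by
    intro a ha b hb
    obtain ⟨z, hz⟩ := hPc.exists_generator
    obtain ⟨i, hi⟩ := mem_zpowers_iff.1 (hz ⟨a, ha⟩)
    obtain ⟨j, hj⟩ := mem_zpowers_iff.1 (hz ⟨b, hb⟩)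
    have h1 : (⟨a, ha⟩ : P) * ⟨b, hb⟩ = ⟨b, hb⟩ * ⟨a, ha⟩ := by
      rw [← hi, ← hj, ← zpow_add, ← zpow_add, add_comm]
    exact congrArg Subtype.val h1
  -- `u⁻¹ v u` is a power of `v`
  have hvu : u⁻¹ * v * u ∈ P := by
    have := hPQ u⁻¹ (Q.inv_mem huQ) v hvP
    rwa [inv_inv] at this
  have hvu5 : orderOf (u⁻¹ * v * u) = 5 := by
    have : u⁻¹ * v * u = MulAut.conj u⁻¹ v := by rw [MulAut.conj_apply, inv_inv]
    rw [this, MulEquiv.orderOf_eq, D.v5]
  have hz := zpowers_eq_of_commute S.odd Nat.prime_five (by norm_num) hvu5 D.v5 (hPcomm _ hvu _ hvP)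
  have hmem : u⁻¹ * v * u ∈ zpowers v := by rw [← hz]; exact mem_zpowers _
  obtain ⟨m, hm⟩ := mem_zpowers_iff.1 hmem
  have htm : t * v ^ m * t⁻¹ = v ^ m := by
    rw [((show Commute t v from htv).zpow_right m).eq, mul_inv_cancel_right]
  -- `s t` centralises `v`
  have hsv : s * v * s⁻¹ = v := by
    calc s * v * s⁻¹ = (u * t * u⁻¹) * v * (u * t * u⁻¹)⁻¹ := by rw [hut]
      _ = u * (t * (u⁻¹ * v * u) * t⁻¹) * u⁻¹ := by group
      _ = u * (u⁻¹ * v * u) * u⁻¹ := by rw [← hm, htm]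
      _ = v := by group
  -- but `s` inverts `v`
  have hsv' : s * v * s⁻¹ = v⁻¹ := by
    rcases hs with rfl | rfl
    · exact D.kv
    · calc t * k * v * (t * k)⁻¹ = t * (k * v * k⁻¹) * t⁻¹ := by group
        _ = t * v⁻¹ * t⁻¹ := by rw [D.kv]
        _ = v⁻¹ := by rw [((show Commute t v from htv).inv_right).eq, mul_inv_cancel_right]
  have h2 : v = v⁻¹ := hsv.symm.trans hsv'
  have h3 : v ^ 2 = 1 := by
    rw [pow_two]
    calc v * v = v * v⁻¹ := by rw [← h2]
      _ = 1 := mul_inv_cancel v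
  have h4 : orderOf v ∣ 2 := orderOf_dvd_of_pow_eq_one h3
  rw [D.v5] at h4
  norm_num at h4

end Setup

/-- **The component case `J₁` of S0342.** -/
theorem no_JOne [Finite G] {t : G} {Y K : Subgroup G} (S : Setup t Y K)
    (h : ∃ g : G, (g * t * g⁻¹) * t = t * (g * t * g⁻¹) ∧ g * t * g⁻¹ ≠ t) : False := by
  obtain ⟨g, hg, hgt⟩ := h
  obtain ⟨k, v, ψ, w, s, D, hs, hws, hwt, hwA⟩ := S.exists_config g hg hgt
  by_cases hne : w * t * w⁻¹ = s
  · exact S.no_swap D hs hws hne hwA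
  · exact S.no_three_cycle D hs hws hwt hne

end Cfsg.Agent.OddCyclic.CompJOne
end

-- part: OddCyclic/CaseAType
section
/-!
# S0342, component case A: involutions commuting with certain elements of odd prime order
-/

set_option autoImplicit false

namespace Cfsg.Agent.OddCyclic.CaseAType

open Subgroup
open Cfsg.Agent.LieExceptional Cfsg.Agent.LieExceptional.CITDefs
open Cfsg.Agent.LieExceptional.CITBasic
open Cfsg.Agent.OddCyclic.T1Defs
open Cfsg.Agent.OddCyclic.CompBasic Cfsg.Agent.OddCyclic.CompStandard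
open Cfsg.Agent.OddCyclic.CaseADefs Cfsg.Agent.OddCyclic.CaseABase

variable {G : Type*} [Group G] [Finite G] {p : ℕ} {K R : Subgroup G}

theorem normR (h : Std p K) (hR : IsSyl2 (centralizer (K : Set G)) R) {u : G}
    (hu : ∀ r ∈ R, u * r * u⁻¹ ∈ R) : u ∈ normalizer (K : Set G) := by
  obtain ⟨t, htR, ht2⟩ := exists_involution_of_ne_bot hR.two (sylR_ne_bot h hR)
  have h1 : u * t * u⁻¹ ∈ cj 1 (centralizer (K : Set G)) := by
    rw [cj_one]; exact hR.le (hu t htR)
  have h2 := mem_of_cj h (by rw [orderOf_conj, ht2]) h1 (conj_mem_cj (hR.le htR))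
  rwa [inv_one, one_mul] at h2

/-- `R` is a Sylow 2-subgroup of `C(x)` for `x ∈ K` if all 2-elements of `C_M(x)` lie in `Y`. -/
theorem syl (h : Std p K) (hR : IsSyl2 (centralizer (K : Set G)) R) {x : G} (hxK : x ∈ K)
    (hM : ∀ s ∈ normalizer (K : Set G), (∃ n : ℕ, s ^ 2 ^ n = 1) → s * x = x * s →
      s ∈ centralizer (K : Set G)) : IsSyl2 (centralizer ({x} : Set G)) R := by
  have hpf : Fact (Nat.Prime 2) := ⟨Nat.prime_two⟩
  refine ⟨fun r hr => mem_centralizer_singleton_iff.mpr (comm_KY x hxK r (hR.le hr)).symm, hR.two,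
    fun U hU hU2 hRU => ?_⟩
  refine Cfsg.Agent.Blocks.SylowIn.eq_of_normalizer_inf_le (p := 2) hU2 hRU ?_
  rintro u ⟨huN, huU⟩
  have h2 := mem_of_pow_two hU2 huU
  have huM := normR h hR (forall_of_mem_normalizer huN)
  have huY := hM u huM h2 (mem_centralizer_singleton_iff.mp (hU huU))
  exact mem_isSyl2 hR huY h2 (forall_of_mem_normalizer huN)

/-- Every involution commuting with an element of order `r` is conjugate into `R`. -/
theorem ttype (h : Std p K) (hR : IsSyl2 (centralizer (K : Set G)) R) {r : ℕ} (hr : r.Prime)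
    (hr2 : r ≠ 2) {x : G} (hxK : x ∈ K) (hxr : orderOf x = r)
    (hM : ∀ s ∈ normalizer (K : Set G), (∃ n : ℕ, s ^ 2 ^ n = 1) → s * x = x * s →
      s ∈ centralizer (K : Set G)) {y z : G} (hy : orderOf y = r) (hz : orderOf z = 2)
    (hyz : y * z = z * y) : ∃ g, g * z * g⁻¹ ∈ R := by
  have hS := syl h hR hxK hM
  obtain ⟨l, -, hl⟩ := CaseASix.conj_zpowers h.cyc (L := ⊤) hr hr2 (mem_top x) (mem_top y) hxr hy
  have h1 : (l * y * l⁻¹) * (l * z * l⁻¹) = (l * z * l⁻¹) * (l * y * l⁻¹) := by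
    calc (l * y * l⁻¹) * (l * z * l⁻¹) = l * (y * z) * l⁻¹ := by group
      _ = l * (z * y) * l⁻¹ := by rw [hyz]
      _ = _ := by group
  -- `x ∈ ⟨l y l⁻¹⟩`
  have hrf : Fact r.Prime := ⟨hr⟩
  have h2 : zpowers (l * y * l⁻¹) = zpowers x := by
    apply Subgroup.eq_of_le_of_card_ge (zpowers_le.mpr hl)
    rw [Nat.card_zpowers, Nat.card_zpowers, orderOf_conj, hxr, hy]
  have h3 : x ∈ zpowers (l * y * l⁻¹) := by rw [h2]; exact mem_zpowers x
  obtain ⟨m, hm⟩ := h3
  have h4 : Commute x (l * z * l⁻¹) := by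
    have h5 : Commute ((l * y * l⁻¹) ^ m) (l * z * l⁻¹) := (show Commute _ _ from h1).zpow_left m
    have h6 : (l * y * l⁻¹) ^ m = x := hm
    rwa [h6] at h5
  have hzo : orderOf (l * z * l⁻¹) = 2 := by rw [orderOf_conj, hz]
  obtain ⟨Q, hQ, hzQ⟩ := exists_isSyl2 (centralizer ({x} : Set G)) (zpowers (l * z * l⁻¹))
    (zpowers_le.mpr (mem_centralizer_singleton_iff.mpr h4.symm)) (isPGroup_zpowers hzo)
  obtain ⟨c, -, hc⟩ := isSyl2_conj hQ hS
  refine ⟨c * l, ?_⟩
  rw [hc]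
  have h5 := conj_mem_cj (g := c) (hzQ (mem_zpowers (l * z * l⁻¹)))
  have e : c * l * z * (c * l)⁻¹ = c * (l * z * l⁻¹) * c⁻¹ := by group
  rw [e]; exact h5

omit [Finite G] in
/-- descent: squares -/
theorem mem_of_sq {Y : Subgroup G} {M : Subgroup G} {x : G}
    (hk : ∀ a ∈ M, a * a ∈ Y → a * x = x * a → a ∈ Y) :
    ∀ s ∈ M, (∃ n : ℕ, s ^ 2 ^ n = 1) → s * x = x * s → s ∈ Y := by
  have key : ∀ n : ℕ, ∀ s ∈ M, s ^ 2 ^ n = 1 → s * x = x * s → s ∈ Y := by
    intro n
    induction n with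
    | zero => intro s _ h1 _; rw [pow_zero, pow_one] at h1; rw [h1]; exact Y.one_mem
    | succ n ih =>
      intro s hs h1 h2
      refine hk s hs ?_ h2
      refine ih (s * s) (M.mul_mem hs hs) ?_ ?_
      · rw [← pow_two, ← pow_mul, ← pow_succ']; exact h1
      · calc s * s * x = s * (s * x) := by group
          _ = s * (x * s) := by rw [h2]
          _ = (s * x) * s := by group
          _ = x * s * s := by rw [h2]
          _ = x * (s * s) := by group
  rintro s hs ⟨n, hn⟩ h2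
  exact key n s hs hn h2

end Cfsg.Agent.OddCyclic.CaseAType
end
end

-- part: OddCyclic/CaseATypes
section
set_option linter.all false
open scoped Cfsg.Agent.FastGrp

/-!
# S0342, component case A, step A1 (a), (b): the types of the involutions of `C(K)^g ∩ N(K)` agree
-/

set_option autoImplicit false

namespace Cfsg.Agent.OddCyclic.CaseATypes

open Subgroup
open Cfsg.Agent.LieExceptional Cfsg.Agent.LieExceptional.CITDefs
open Cfsg.Agent.OddCyclic.CompBasic Cfsg.Agent.OddCyclic.CompStandard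
open Cfsg.Agent.OddCyclic.CaseADefs Cfsg.Agent.OddCyclic.CaseABase Cfsg.Agent.OddCyclic.CaseACount

variable {G : Type*} [Group G]

/-- The facts on field automorphisms of order 2 of `K` used here. -/
structure TF (K : Subgroup G) : Prop where
  gen : ∀ x ∈ normalizer (K : Set G), x * x ∈ centralizer (K : Set G) →
    x ∉ K ⊔ centralizer (K : Set G) →
    K ⊓ centralizer ({x} : Set G) ≤
      closure {k | k ∈ K ⊓ centralizer ({x} : Set G) ∧ orderOf k = 3}
  cent : ∀ x ∈ normalizer (K : Set G), x * x ∈ centralizer (K : Set G) →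
    x ∉ K ⊔ centralizer (K : Set G) → ∀ y ∈ normalizer (K : Set G),
    (∀ k ∈ K ⊓ centralizer ({x} : Set G), y * k = k * y) →
    y ∈ centralizer (K : Set G) ∨ ∃ c ∈ centralizer (K : Set G), y = x * c

section

variable [Finite G] {p q : ℕ} {K : Subgroup G} {g a : G}

omit [Finite G] in
theorem exists_three (hTF : TF K) (hL : L2K K q) (haM : a ∈ normalizer (K : Set G))
    (ha2 : a * a ∈ centralizer (K : Set G)) (haK : a ∉ K ⊔ centralizer (K : Set G)) :
    ∃ x ∈ K, x * a = a * x ∧ orderOf x = 3 := by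
  by_contra hno
  push Not at hno
  have h1 : K ⊓ centralizer ({a} : Set G) = ⊥ := by
    rw [eq_bot_iff]
    refine (hTF.gen a haM ha2 haK).trans ?_
    rw [closure_le]
    rintro k ⟨hk, hk3⟩
    exact absurd hk3 (hno k hk.1 (mem_centralizer_singleton_iff.mp hk.2))
  have h2 := hTF.cent a haM ha2 haK
  -- every element of `K` centralises `K ⊓ C(a) = 1`
  have h3 : ∀ k ∈ K, k = 1 := by
    intro k hk
    rcases h2 k (Subgroup.le_normalizer hk) (fun x hx => by
        rw [h1, mem_bot] at hx; rw [hx, mul_one, one_mul]) with h4 | ⟨c, hc, h4⟩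
    · have h5 : k ∈ K ⊓ centralizer (K : Set G) := ⟨hk, h4⟩
      rwa [hL.inf, mem_bot] at h5
    · exfalso
      apply haK
      have h5 : a = k * c⁻¹ := by rw [h4]; group
      rw [h5]
      exact Subgroup.mul_mem _ (mem_sup_left hk) (mem_sup_right (Subgroup.inv_mem _ hc))
  have h4 : K = ⊥ := (Subgroup.eq_bot_iff_forall K).mpr h3
  obtain ⟨f, hf⟩ := hL.pow
  have h5 : IsSyl2 K ⊥ := ⟨bot_le, IsPGroup.of_bot, fun Y hY _ _ => by
    rw [eq_bot_iff]; exact hY.trans h4.le⟩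
  obtain ⟨H, hH⟩ := hL.borel ⊥ h5
  have h6 := hH.cardE
  rw [Subgroup.card_bot] at h6
  have h7 := hL.four
  omega

/-- `C_K(a) ≤ K^g` and `Y^g ∩ M ≤ Y ∪ Ya` -/
theorem field_le (h : Std p K) (hTF : TF K)
    (haY : a ∈ cj g (centralizer (K : Set G))) (haM : a ∈ normalizer (K : Set G))
    (ha2 : orderOf a = 2) (haK : a ∉ K ⊔ centralizer (K : Set G)) :
    K ⊓ centralizer ({a} : Set G) ≤ cj g K := by
  have hsq : a * a ∈ centralizer (K : Set G) := by
    rw [sq_of_orderOf ha2]; exact one_mem _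
  refine (hTF.gen a haM hsq haK).trans ?_
  rw [closure_le]
  rintro k ⟨hk, hk3⟩
  refine h.mem_cj_of_dvd g (q := 3) Nat.prime_three (by norm_num) ?_ ?_ hk3
  · rw [← hk3]; exact K.orderOf_dvd_natCard hk.1
  · exact h.centralizer_le_cj ha2 haY hk.2

theorem field_comm (h : Std p K) (hTF : TF K)
    (haY : a ∈ cj g (centralizer (K : Set G))) (haM : a ∈ normalizer (K : Set G))
    (ha2 : orderOf a = 2) (haK : a ∉ K ⊔ centralizer (K : Set G)) :
    ∀ k ∈ K ⊓ centralizer ({a} : Set G), ∀ y ∈ cj g (centralizer (K : Set G)),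
      y * k = k * y := by
  intro k hk y hy
  have h1 := field_le h hTF haY haM ha2 haK hk
  rw [cj_centralizer] at hy
  exact (mem_centralizer_iff.mp hy k h1).symm

theorem field_cent (h : Std p K) (hTF : TF K)
    (haY : a ∈ cj g (centralizer (K : Set G))) (haM : a ∈ normalizer (K : Set G))
    (ha2 : orderOf a = 2) (haK : a ∉ K ⊔ centralizer (K : Set G)) :
    ∀ y ∈ cj g (centralizer (K : Set G)), y ∈ normalizer (K : Set G) →
      y ∈ centralizer (K : Set G) ∨ ∃ c ∈ centralizer (K : Set G), y = a * c := by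
  intro y hy hyM
  have hsq : a * a ∈ centralizer (K : Set G) := by
    rw [sq_of_orderOf ha2]; exact one_mem _
  exact hTF.cent a haM hsq haK y hyM fun k hk => field_comm h hTF haY haM ha2 haK k hk y hy

/-- (b) the involutions of `Y ∩ M^g` are field automorphisms on `K^g` -/
theorem field_symm (h : Std p K) (hL : L2K K q) (hTF : TF K) (hg : g ∉ normalizer (K : Set G))
    (haY : a ∈ cj g (centralizer (K : Set G))) (haM : a ∈ normalizer (K : Set G))
    (ha2 : orderOf a = 2) (haK : a ∉ K ⊔ centralizer (K : Set G)) {b : G}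
    (hbY : b ∈ centralizer (K : Set G)) (hb2 : orderOf b = 2) :
    b ∉ cj g (K ⊔ centralizer (K : Set G)) := by
  intro hb
  have hsq : a * a ∈ centralizer (K : Set G) := by
    rw [sq_of_orderOf ha2]; exact one_mem _
  obtain ⟨x, hxK, hxa, hx3⟩ := exists_three hTF hL haM hsq haK
  have hxg : x ∈ cj g K := field_le h hTF haY haM ha2 haK
    ⟨hxK, mem_centralizer_singleton_iff.mpr hxa⟩
  have hxb : x * b = b * x := comm_KY x hxK b hbY
  have hb' := mem_cj.mp hb
  have hx' := mem_cj.mp hxg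
  obtain ⟨k, hk, y, hy, hky⟩ := mem_KY.mp hb'
  have hbo : orderOf (g⁻¹ * b * g) = 2 := by
    have := orderOf_conj g⁻¹ b
    rw [inv_inv] at this
    rw [this, hb2]
  have h1 : (k * y) ^ 2 = 1 := by rw [← hky, ← hbo, pow_orderOf_eq_one]
  obtain ⟨hk2, -⟩ := pow_eq_one_KY hL.inf hk hy h1
  have hk1 : k ≠ 1 := by
    rintro rfl
    rw [one_mul] at hky
    exact hg (h.mem_of_involution hb2 hbY (by rw [mem_cj, hky]; exact hy))
  obtain ⟨E, H, hE, hB, hkE, hcent⟩ := exists_sylow hL hk (orderOf_eq_prime hk2 hk1)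
  have h2 : (g⁻¹ * x * g) * (k * y) = (k * y) * (g⁻¹ * x * g) := by
    rw [← hky]
    calc (g⁻¹ * x * g) * (g⁻¹ * b * g) = g⁻¹ * (x * b) * g := by group
      _ = g⁻¹ * (b * x) * g := by rw [hxb]
      _ = _ := by group
  have h3 : (g⁻¹ * x * g) * k = k * (g⁻¹ * x * g) := by
    have h4 := comm_KY _ hx' y hy
    have h5 : (g⁻¹ * x * g) * k * y = k * (g⁻¹ * x * g) * y := by
      rw [mul_assoc (g⁻¹ * x * g) k y, h2, mul_assoc k y, ← h4, mul_assoc k (g⁻¹ * x * g)]
    exact mul_right_cancel h5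
  have h4 := (hcent _ hx').mp h3
  have h5 : (g⁻¹ * x * g) * (g⁻¹ * x * g) = 1 := hB.elem _ h4
  have h6 : x * x = 1 := by
    calc x * x = g * ((g⁻¹ * x * g) * (g⁻¹ * x * g)) * g⁻¹ := by group
      _ = 1 := by rw [h5]; group
  have h7 : orderOf x ∣ 2 := orderOf_dvd_of_pow_eq_one (by rw [pow_two]; exact h6)
  rw [hx3] at h7
  omega

/-- The facts for `g⁻¹`. -/
theorem swap (h : Std p K) (hL : L2K K q) (hTF : TF K) (hg : g ∉ normalizer (K : Set G))
    (haY : a ∈ cj g (centralizer (K : Set G))) (haM : a ∈ normalizer (K : Set G))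
    (ha2 : orderOf a = 2) (haK : a ∉ K ⊔ centralizer (K : Set G)) {b : G}
    (hbY : b ∈ centralizer (K : Set G)) (hbM : b ∈ cj g (normalizer (K : Set G)))
    (hb2 : orderOf b = 2) :
    g⁻¹ ∉ normalizer (K : Set G) ∧ g⁻¹ * b * g ∈ cj g⁻¹ (centralizer (K : Set G)) ∧
      g⁻¹ * b * g ∈ normalizer (K : Set G) ∧ orderOf (g⁻¹ * b * g) = 2 ∧
      g⁻¹ * b * g ∉ K ⊔ centralizer (K : Set G) := by
  refine ⟨fun h1 => hg (by simpa using inv_mem h1), ?_, mem_cj.mp hbM, ?_, ?_⟩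
  · rw [mem_cj]
    have : (g⁻¹)⁻¹ * (g⁻¹ * b * g) * g⁻¹ = b := by group
    rw [this]; exact hbY
  · have := orderOf_conj g⁻¹ b
    rw [inv_inv] at this
    rw [this, hb2]
  · intro h1
    exact field_symm h hL hTF hg haY haM ha2 haK hbY hb2 (mem_cj.mpr h1)

/-- all involutions of `Y^g ∩ M` are field automorphisms -/
theorem field_all (h : Std p K) (hL : L2K K q) (hTF : TF K) (hg : g ∉ normalizer (K : Set G))
    (haY : a ∈ cj g (centralizer (K : Set G))) (haM : a ∈ normalizer (K : Set G))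
    (ha2 : orderOf a = 2) (haK : a ∉ K ⊔ centralizer (K : Set G)) {b : G}
    (hbY : b ∈ cj g (centralizer (K : Set G))) (hb2 : orderOf b = 2) :
    b ∉ K ⊔ centralizer (K : Set G) := by
  intro hb
  obtain ⟨c, hc, hc2⟩ := exists_involution (h.even_symm hg (even_of_mem
    (H := cj g (centralizer (K : Set G)) ⊓ normalizer (K : Set G)) ⟨haY, haM⟩ ha2))
  obtain ⟨h1, h2, h3, h4, h5⟩ := swap h hL hTF hg haY haM ha2 haK hc.1 hc.2 hc2
  have hbo : orderOf (g⁻¹ * b * g) = 2 := by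
    have := orderOf_conj g⁻¹ b
    rw [inv_inv] at this
    rw [this, hb2]
  refine field_symm h hL hTF h1 h2 h3 h4 h5 (mem_cj.mp hbY) hbo ?_
  rw [mem_cj]
  have : (g⁻¹)⁻¹ * (g⁻¹ * b * g) * g⁻¹ = b := by group
  rw [this]; exact hb

/-- `C_K(a) = C_{K^g}(b)` -/
theorem field_eq (h : Std p K) (hL : L2K K q) (hTF : TF K) (hg : g ∉ normalizer (K : Set G))
    (haY : a ∈ cj g (centralizer (K : Set G))) (haM : a ∈ normalizer (K : Set G))
    (ha2 : orderOf a = 2) (haK : a ∉ K ⊔ centralizer (K : Set G)) {b : G}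
    (hbY : b ∈ centralizer (K : Set G)) (hbM : b ∈ cj g (normalizer (K : Set G)))
    (hb2 : orderOf b = 2) :
    K ⊓ centralizer ({a} : Set G) = cj g K ⊓ centralizer ({b} : Set G) := by
  obtain ⟨h1, h2, h3, h4, h5⟩ := swap h hL hTF hg haY haM ha2 haK hbY hbM hb2
  apply le_antisymm
  · intro x hx
    exact ⟨field_le h hTF haY haM ha2 haK hx,
      mem_centralizer_singleton_iff.mpr (comm_KY x hx.1 b hbY)⟩
  · intro x hx
    have hxb := mem_centralizer_singleton_iff.mp hx.2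
    have h6 : g⁻¹ * x * g ∈ K ⊓ centralizer ({g⁻¹ * b * g} : Set G) := by
      refine ⟨mem_cj.mp hx.1, mem_centralizer_singleton_iff.mpr ?_⟩
      calc (g⁻¹ * x * g) * (g⁻¹ * b * g) = g⁻¹ * (x * b) * g := by group
        _ = g⁻¹ * (b * x) * g := by rw [hxb]
        _ = _ := by group
    have h7 := field_le h hTF h2 h3 h4 h5 h6
    rw [mem_cj] at h7
    have e : (g⁻¹)⁻¹ * (g⁻¹ * x * g) * g⁻¹ = x := by group
    rw [e] at h7
    rw [cj_centralizer] at haY
    exact ⟨h7, mem_centralizer_singleton_iff.mpr (mem_centralizer_iff.mp haY x hx.1)⟩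

end

end Cfsg.Agent.OddCyclic.CaseATypes
end

-- part: OddCyclic/CompStart
section
set_option linter.all false
open scoped Cfsg.Agent.FastGrp

/-!
# S0342, component type: the choice of the standard component

`SecZero G`: every simple non-abelian section of a proper subgroup of `G` is in the list `KZero`.

* `exists_cmp`: a group of component type with cyclic odd Sylow subgroups has a component of the
  centralizer of an involution.
* `kzero_of_quasi`: for such a component `J`, `J/Z(J)` is in the list.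
* `exists_std`: there is a standard component `K` for `p = 3`, or all the components are covers of Suzuki
  groups and there is a standard component for `p = 5`.
-/

set_option autoImplicit false

namespace Cfsg.Agent.OddCyclic.CompStart

open Subgroup Cfsg
open Cfsg.Agent.OddCyclic.T1Defs Cfsg.Agent.OddCyclic.CompBasic Cfsg.Agent.OddCyclic.CompStandard
open Cfsg.Agent.OddCyclic.PumpMain

universe u

/-- every simple non-abelian section of a proper subgroup is in the list -/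
def SecZero (G : Type u) [Group G] : Prop :=
  ∀ L : Subgroup G, L ≠ ⊤ → ∀ (N : Subgroup L) [N.Normal], IsSimpleGroup (L ⧸ N) →
    (∃ a b : L ⧸ N, a * b ≠ b * a) → KZero (L ⧸ N)

/-- the hypothesis of Aschbacher's criterion for strongly embedded subgroups (S1175) -/
def Crit (G : Type u) [Group G] : Prop :=
  ∀ M : Subgroup G, M ≠ ⊤ → ∀ z : G, orderOf z = 2 → z ∈ M →
      (∃ S : Sylow 2 G, z ∈ S ∧ ∀ s ∈ S, Commute s z) → (∀ g : G, g * z * g⁻¹ ∈ M → g ∈ M) →
      (∀ g : G, Commute z (g * z * g⁻¹) → g * z * g⁻¹ ≠ z →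
        centralizer ({z * (g * z * g⁻¹)} : Set G) ≤ M) → ∃ H : Subgroup G, IsStronglyEmbedded H

/-- the Sylow 2-subgroups are not abelian -/
def NonAb (G : Type u) [Group G] : Prop :=
  ∀ S : Subgroup G, Cfsg.Agent.LieExceptional.CITDefs.IsSyl2 ⊤ S → ∃ a ∈ S, ∃ b ∈ S, a * b ≠ b * a

variable {G : Type u} [Group G]

theorem SecZero.secKZ [Finite G] (h : SecZero G) : CaseASix.SecKZ G := fun L hL N _ hN hab => by
  have := hN
  exact JFacts.kz_of_kzero (h L hL N hN hab)

theorem quasi_nonab {J : Type*} [Group J] (hJ : IsQuasisimple J) :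
    ∃ a b : J ⧸ center J, a * b ≠ b * a := by
  by_contra hcon
  push Not at hcon
  have := hJ.2
  have := hJ.1
  exact Group.IsPerfect.not_isMulCommutative (J ⧸ center J) ⟨⟨hcon⟩⟩

theorem kzero_of_quasi (hsec : SecZero G) {J : Subgroup G} (hJ : IsQuasisimple J) (hJt : J ≠ ⊤) :
    KZero (J ⧸ center J) :=
  hsec J hJt (center J) hJ.2 (quasi_nonab hJ)

theorem cmp_ne_top [IsSimpleGroup G] {t : G} (ht : orderOf t = 2) {J : Subgroup G}
    (hJ : Cmp (centralizer {t}) J) : J ≠ ⊤ := by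
  rintro rfl
  have h1 : Group.IsPerfect G := Group.IsPerfect.top_iff.mp hJ.quasi.1
  have h2 : t ∈ center G := by
    rw [mem_center_iff]
    intro g
    exact mem_centralizer_singleton_iff.mp (hJ.le (mem_top g))
  rcases (inferInstance : (center G).Normal).eq_bot_or_eq_top with h3 | h3
  · rw [h3, mem_bot] at h2
    rw [h2, orderOf_one] at ht
    omega
  · refine Group.IsPerfect.not_isMulCommutative G ⟨⟨fun a b => ?_⟩⟩
    have h4 : a ∈ center G := by rw [h3]; exact mem_top a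
    exact (mem_center_iff.mp h4 b).symm

variable [Finite G]

theorem exists_cmp (hG : OddCyc G) (hct : IsComponentType G) :
    ∃ t : G, orderOf t = 2 ∧ ∃ J : Subgroup G, Cmp (centralizer {t}) J := by
  have hpf : Fact (Nat.Prime 2) := ⟨Nat.prime_two⟩
  obtain ⟨t, ht, C, hC⟩ := hct
  refine ⟨t, ht, ?_⟩
  obtain ⟨K, hK, -⟩ := Cfsg.Agent.Lib.PComponents.exists_pcomp (p := 2) hC
  have h1 := isComponent_of_isPComponent (oddCyc_subgroup hG _) hK
  refine ⟨K.map (centralizer ({t} : Set G)).subtype, Subgroup.map_subtype_le _, ?_⟩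
  have e : (K.map (centralizer ({t} : Set G)).subtype).subgroupOf (centralizer ({t} : Set G)) = K :=
    Subgroup.comap_map_eq_self_of_injective (Subgroup.subtype_injective _) K
  rw [e]
  exact h1

/-- the order of a simple group of the list is divisible by 3, or it is a Suzuki group -/
theorem three_dvd_or {K : Type*} [Group K] [Finite K] (h : KZero K) :
    3 ∣ Nat.card K ∨ Cfsg.Lie.IsoSuzuki K := by
  rcases h with ⟨F, iF, iF', hp, h5, ⟨e⟩⟩ | ⟨F, iF, iF', f, hf, hF, ⟨e⟩⟩ | h | ⟨h, k, hk⟩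
  · left
    rw [Nat.card_congr e.toEquiv]
    exact Cfsg.Agent.ThreePrime.OrderThree.three_dvd_card_psl F
  · left
    rw [Nat.card_congr e.toEquiv]
    exact Cfsg.Agent.ThreePrime.OrderThree.three_dvd_card_psl F
  · exact Or.inr h
  · left
    rw [JFacts.card_of_local h hk]
    norm_num

/-- No component of the centralizer of an involution has order divisible by 3. -/
def NoThree (G : Type u) [Group G] : Prop :=
  ∀ t : G, orderOf t = 2 → ∀ J : Subgroup G, Cmp (centralizer {t}) J → ¬ 3 ∣ Nat.card J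

theorem exists_std [IsSimpleGroup G] (hG : OddCyc G) (hsec : SecZero G) (hct : IsComponentType G) :
    ∃ K : Subgroup G, Std 3 K ∨ (Std 5 K ∧ NoThree G) := by
  by_cases h3 : NoThree G
  · obtain ⟨t, ht, J, hJ⟩ := exists_cmp hG hct
    have h1 := kzero_of_quasi hsec hJ.quasi (cmp_ne_top ht hJ)
    rcases three_dvd_or h1 with h2 | h2
    · exact absurd (h2.trans (Subgroup.card_quotient_dvd_card _)) (h3 t ht J hJ)
    · obtain ⟨K, hK⟩ := CompStandard.exists_std hG Nat.prime_five (by norm_num) ht hJ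
        ((T1SzComp.five_dvd h2).trans (Subgroup.card_quotient_dvd_card _))
      exact ⟨K, Or.inr ⟨hK, h3⟩⟩
  · unfold NoThree at h3
    push Not at h3
    obtain ⟨t, ht, J, hJ, hd⟩ := h3
    obtain ⟨K, hK⟩ := CompStandard.exists_std hG Nat.prime_three (by norm_num) ht hJ hd
    exact ⟨K, Or.inl hK⟩

/-- all components of centralizers of involutions are covers of Suzuki groups -/
theorem NoThree.suzuki [IsSimpleGroup G] (h3 : NoThree G) (hsec : SecZero G) {t : G}
    (ht : orderOf t = 2) {J : Subgroup G} (hJ : Cmp (centralizer {t}) J) :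
    Cfsg.Lie.IsoSuzuki (J ⧸ center J) := by
  rcases three_dvd_or (kzero_of_quasi hsec hJ.quasi (cmp_ne_top ht hJ)) with h2 | h2
  · exact absurd (h2.trans (Subgroup.card_quotient_dvd_card _)) (h3 t ht J hJ)
  · exact h2

/-- an elementary abelian subgroup of order 8 -/
theorem exists_elem_eight (hr : ¬ Cfsg.PRankLE 2 2 G) :
    ∃ V : Subgroup G, Cfsg.Agent.LieExceptional.CITDefs.Elem V ∧ Nat.card V = 8 := by
  have hpf : Fact (Nat.Prime 2) := ⟨Nat.prime_two⟩
  unfold Cfsg.PRankLE at hr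
  push Not at hr
  obtain ⟨A, -, hA2, hA⟩ := hr
  have hAp : IsPGroup 2 A := fun a => ⟨1, Subtype.ext (by
    rw [pow_one]
    exact hA2 a a.2)⟩
  obtain ⟨n, hn⟩ := IsPGroup.iff_card.mp hAp
  have hn3 : 3 ≤ n := by
    rw [hn] at hA
    exact (Nat.pow_lt_pow_iff_right (by norm_num)).mp hA
  obtain ⟨B, hB⟩ := Sylow.exists_subgroup_card_pow_prime (G := A) 2 (n := 3)
    (by rw [hn]; exact pow_dvd_pow 2 hn3)
  refine ⟨B.map A.subtype, ?_, ?_⟩
  · rintro _ ⟨x, -, rfl⟩
    have := hA2 x x.2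
    rwa [pow_two] at this
  · rw [Subgroup.card_map_of_injective A.subtype_injective, hB]
    norm_num

end Cfsg.Agent.OddCyclic.CompStart
end

-- part: OddCyclic/B2Trans
section
set_option linter.all false
open scoped Cfsg.Agent.FastGrp

/-!
# S0342, case B2, piece A: transfer

`tt`: Thompson transfer in a nonabelian simple group; `tc`: transfer into a cyclic quotient of order 4
of the Sylow 2-subgroup.
-/

set_option autoImplicit false
universe u

namespace Cfsg.Agent.OddCyclic.B2Trans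

open Cfsg.Agent.LieExceptional.CITDefs Cfsg.Agent.OddCyclic.B2Defs

variable {G : Type u} [Group G] [Finite G]

/-- `IsSyl2 ⊤ T` as a Sylow subgroup -/
def syl {T : Subgroup G} (h : IsSyl2 (⊤ : Subgroup G) T) : Sylow 2 G :=
  { T with
    isPGroup' := h.two
    is_maximal' := fun {Q} hQ hle => h.max Q le_top hQ hle }

omit [Finite G] in
theorem not_comm (hnab : ∃ a b : G, a * b ≠ b * a) : ¬ IsMulCommutative G := by
  obtain ⟨a, b, hab⟩ := hnab
  intro h
  exact hab (h.is_comm.comm a b)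

/-- Thompson transfer -/
theorem tt [IsSimpleGroup G] (hnab : ∃ a b : G, a * b ≠ b * a) {t : G} (ht : t * t = 1) : TT t := by
  intro T T₀ hT hle hidx htT ht₀
  have hne : t ≠ 1 := fun h => ht₀ (h ▸ T₀.one_mem)
  have ho : orderOf t = 2 := orderOf_eq_prime (by rw [sq]; exact ht) hne
  exact Cfsg.Agent.SmallSimple.SylowEight.exists_conj_mem (not_comm hnab) (syl hT) T₀ hle hidx t ho

/-- in a cyclic group there is at most one element of order two -/
theorem eq_of_sq {C : Type*} [Group C] [Finite C] (hC : IsCyclic C) {a b : C} (ha : a * a = 1) (hb : b * b = 1)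
    (ha1 : a ≠ 1) (hb1 : b ≠ 1) : a = b := by
  have h := Cfsg.Agent.Classification.TransferSign.eq_of_isCyclic (⊤ : Subgroup C)
    (isCyclic_of_surjective (Subgroup.topEquiv (G := C)).symm (Subgroup.topEquiv (G := C)).symm.surjective)
    (Subgroup.mem_top a) (Subgroup.mem_top b) ha hb ha1 hb1
  exact h

/-- transfer with a cyclic quotient: the index does not matter -/
theorem tc' [IsSimpleGroup G] (hnab : ∃ a b : G, a * b ≠ b * a) {t : G} (ht : t * t = 1) {T T₀ : Subgroup G}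
    (hT : IsSyl2 ⊤ T) (hn : ∀ x ∈ T, ∀ u ∈ T₀, x * u * x⁻¹ ∈ T₀)
    (hcyc : ∃ y ∈ T, ∀ x ∈ T, ∃ k : ℕ, x * y ^ k ∈ T₀) (htT : t ∈ T) (ht₀ : t ∉ T₀) :
    ∃ g : G, g * t * g⁻¹ ∈ T₀ := by
  by_contra hcon
  push Not at hcon
  obtain ⟨y, hyT, hy⟩ := hcyc
  have hN : (T₀.subgroupOf T).Normal := by
    refine ⟨fun u hu x => ?_⟩
    exact hn x x.2 u hu
  have hQc : IsCyclic (T ⧸ T₀.subgroupOf T) := by
    refine ⟨⟨QuotientGroup.mk' _ (⟨y, hyT⟩ : T), fun q => ?_⟩⟩
    obtain ⟨⟨x, hx⟩, rfl⟩ := QuotientGroup.mk'_surjective (T₀.subgroupOf T) q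
    obtain ⟨k, hk⟩ := hy x hx
    refine ⟨-(k : ℤ), ?_⟩
    have h1 : (⟨x, hx⟩ : T) * (⟨y, hyT⟩ : T) ^ k ∈ T₀.subgroupOf T := hk
    have h2 : QuotientGroup.mk' (T₀.subgroupOf T) ((⟨x, hx⟩ : T) * (⟨y, hyT⟩ : T) ^ k) = 1 := by
      rw [← MonoidHom.mem_ker, QuotientGroup.ker_mk']
      exact h1
    rw [map_mul, map_pow] at h2
    show _ ^ (-(k : ℤ)) = _
    rw [zpow_neg, zpow_natCast]
    exact (eq_inv_of_mul_eq_one_left h2).symm
  let _ : CommGroup (T ⧸ T₀.subgroupOf T) := IsCyclic.commGroup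
  set φ : T →* T ⧸ T₀.subgroupOf T := QuotientGroup.mk' (T₀.subgroupOf T) with hφ
  have hker : ∀ x : T, φ x = 1 ↔ (x : G) ∈ T₀ := by
    intro x
    rw [← MonoidHom.mem_ker, hφ, QuotientGroup.ker_mk']
    rfl
  have ht2 : (⟨t, htT⟩ : T) * ⟨t, htT⟩ = 1 := Subtype.ext ht
  have he : φ ⟨t, htT⟩ * φ ⟨t, htT⟩ = 1 := by rw [← map_mul, ht2, map_one]
  have he1 : φ ⟨t, htT⟩ ≠ 1 := fun h => ht₀ ((hker _).1 h)
  have hodd : Odd T.index := by
    rw [← Nat.not_even_iff_odd, even_iff_two_dvd]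
    exact (syl hT).not_dvd_index
  have h1 := Cfsg.Agent.SmallSimple.TransferInvol.transfer_eq_of_odd_index T φ t (by rw [sq]; exact ht) hodd
    (φ ⟨t, htT⟩) (by rw [sq]; exact he) (by
      intro x hx
      obtain ⟨c, hc⟩ := isConj_iff.1 hx
      have hx2 : x * x = 1 := by
        apply Subtype.ext
        show (x : G) * x = 1
        rw [← hc]
        calc c * t * c⁻¹ * (c * t * c⁻¹) = c * (t * t) * c⁻¹ := by group
          _ = 1 := by rw [ht]; group
      refine eq_of_sq hQc ?_ he ?_ he1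
      · rw [← map_mul, hx2, map_one]
      · intro h
        apply hcon c
        rw [hc]
        exact (hker _).1 h)
  rw [Cfsg.Agent.SmallSimple.SylowEight.hom_eq_one (not_comm hnab) (fun a b => mul_comm a b)] at h1
  exact he1 h1.symm

theorem tc [IsSimpleGroup G] (hnab : ∃ a b : G, a * b ≠ b * a) {t : G} (ht : t * t = 1) : TC t := by
  intro T T₀ hT _ hn _ hcyc htT ht₀
  exact tc' hnab ht hT hn hcyc htT ht₀

end Cfsg.Agent.OddCyclic.B2Trans
end

-- part: OddCyclic/CompCovers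
section
set_option linter.all false
open scoped Cfsg.Agent.FastGrp

/-!
# The quasisimple groups over the list `KZero`

`cover`: `K` quasisimple with cyclic odd Sylow subgroups, `K / Z(K)` in the list `KZero`: `K` is `PSL(2,p)`, `SL(2,p)`,
`PSL(2,2^f)`, `Sz(q)`, `J₁` or a proper cover of `Sz(8)`.
-/

set_option autoImplicit false

namespace Cfsg.Agent.OddCyclic.CompCovers

open Subgroup Cfsg.Agent.OddCyclic.T1Defs
open Cfsg.Agent.OddCyclic.CompBasic Cfsg.Agent.OddCyclic.PumpMain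
open Cfsg.Agent.SporRec.J1.Defs (Local)
open scoped commutatorElement

section transport

variable {K : Type*} [Group K] {L : Type*} [Group L]

theorem map_centralizer (e : K ≃* L) (x : K) :
    (centralizer ({x} : Set K)).map e.toMonoidHom = centralizer ({e x} : Set L) := by
  ext y
  rw [mem_centralizer_singleton_iff]
  constructor
  · rintro ⟨z, hz, rfl⟩
    have hz := mem_centralizer_singleton_iff.mp hz
    show e z * e x = e x * e z
    rw [← map_mul, ← map_mul, hz]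
  · intro hy
    refine ⟨e.symm y, ?_, e.apply_symm_apply y⟩
    rw [SetLike.mem_coe, mem_centralizer_singleton_iff]
    apply e.injective
    rw [map_mul, map_mul, e.apply_symm_apply, hy]

/-- the isomorphism of centralizers -/
noncomputable def centEquiv (e : K ≃* L) (x : K) :
    centralizer ({x} : Set K) ≃* centralizer ({e x} : Set L) :=
  (e.subgroupMap (centralizer ({x} : Set K))).trans (MulEquiv.subgroupCongr (map_centralizer e x))

theorem mem_F (e : K ≃* L) (x y : K) : y ∈ SporRec.J1.Defs.F x ↔ e y ∈ SporRec.J1.Defs.F (e x) := by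
  have h1 : SporRec.J1.Defs.F (e x) = (SporRec.J1.Defs.F x).map e.toMonoidHom := by
    rw [SporRec.J1.Defs.F, SporRec.J1.Defs.F, Subgroup.map_commutator, map_centralizer]
  rw [h1]
  constructor
  · intro h
    exact ⟨y, h, rfl⟩
  · rintro ⟨z, hz, hzy⟩
    have : z = y := e.injective hzy
    rwa [← this]

theorem local_of_equiv (e : K ≃* L) (h : Local L) : Local K where
  conj := by
    intro x y hx hy
    obtain ⟨g, hg⟩ := h.conj (e x) (e y) (by rw [e.orderOf_eq, hx]) (by rw [e.orderOf_eq, hy])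
    refine ⟨e.symm g, e.injective ?_⟩
    rw [map_mul, map_mul, map_inv, e.apply_symm_apply, hg]
  cent := by
    intro x hx
    obtain ⟨f⟩ := h.cent (e x) (by rw [e.orderOf_eq, hx])
    exact ⟨(centEquiv e x).trans f⟩
  two := by rw [Nat.card_congr e.toEquiv]; exact h.two
  typeRule := by
    intro x y hx hy hxy hc
    rw [mem_F e, mem_F e]
    exact h.typeRule (e x) (e y) (by rw [e.orderOf_eq, hx]) (by rw [e.orderOf_eq, hy])
      (fun h => hxy (e.injective h)) (by rw [← map_mul, ← map_mul, hc])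
  cent3 := by
    intro w hw
    rw [Nat.card_congr (centEquiv e w).toEquiv]
    exact h.cent3 (e w) (by rw [e.orderOf_eq, hw])
  cent5 := by
    intro w hw
    rw [Nat.card_congr (centEquiv e w).toEquiv]
    exact h.cent5 (e w) (by rw [e.orderOf_eq, hw])

end transport

/-- `PSL(2,4) ≅ PSL(2,5)` -/
theorem psl_four_equiv {F : Type*} [Field F] [Fintype F] (hF : Fintype.card F = 4) :
    Nonempty (Matrix.ProjectiveSpecialLinearGroup (Fin 2) F ≃*
      Matrix.ProjectiveSpecialLinearGroup (Fin 2) (ZMod 5)) := by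
  have c1 : Nat.card (Matrix.ProjectiveSpecialLinearGroup (Fin 2) F) = 60 := by
    rw [ClassicalGeometry.PSL2Basic.card_PSL2_even F (by rw [hF]; decide), hF]
    norm_num
  have : Fact (Nat.Prime 5) := ⟨by norm_num⟩
  have c2 : Nat.card (Matrix.ProjectiveSpecialLinearGroup (Fin 2) (ZMod 5)) = 60 := by
    have h := ClassicalGeometry.PSL2Basic.card_PSL2_odd (ZMod 5) (by rw [ZMod.card]; decide)
    rw [ZMod.card] at h
    omega
  obtain ⟨e1⟩ := T1Socle.equiv_alternating (F' := F) (by rw [hF]; norm_num) c1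
  obtain ⟨e2⟩ := T1Socle.equiv_alternating (F' := ZMod 5) (by rw [ZMod.card]; norm_num) c2
  exact ⟨e1.trans e2.symm⟩

variable {K : Type*} [Group K] [Finite K]

/-- the centre is a 2-group -/
theorem isPGroup_center (hG : OddCyc K) (hK : Group.IsPerfect K) : IsPGroup 2 (center K) := by
  rw [IsPGroup.iff_card]
  have h1 : ∀ p : ℕ, p.Prime → p ∣ Nat.card (center K) → p = 2 := by
    intro p hp hd
    by_contra h2
    have : Fact p.Prime := ⟨hp⟩
    obtain ⟨z, hz⟩ := exists_prime_orderOf_dvd_card' p hd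
    exact false_of_center hG hK hp h2 (z := (z : K)) z.2 (by rw [Subgroup.orderOf_coe]; exact hz)
  exact ⟨_, Nat.eq_prime_pow_of_unique_prime_dvd Nat.card_pos.ne' (fun {d} hd hdd => h1 d hd hdd)⟩

omit [Finite K] in
theorem equiv_of_center (h : center K = ⊥) : Nonempty (K ≃* K ⧸ center K) :=
  ⟨QuotientGroup.quotientBot.symm.trans (QuotientGroup.quotientMulEquivOfEq h.symm)⟩

/-- **The quasisimple groups over the list.** -/
theorem cover (hG : OddCyc K) (hK : IsQuasisimple K) (h : KZero (K ⧸ center K)) :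
    (∃ (F : Type) (_ : Field F) (_ : Fintype F), (Fintype.card F).Prime ∧ 5 ≤ Fintype.card F ∧
      Nonempty (K ≃* Matrix.ProjectiveSpecialLinearGroup (Fin 2) F)) ∨
    (∃ (F : Type) (_ : Field F) (_ : Fintype F), (Fintype.card F).Prime ∧ 5 ≤ Fintype.card F ∧
      Nonempty (K ≃* Matrix.SpecialLinearGroup (Fin 2) F)) ∨
    IsL2Two K ∨ Cfsg.Lie.IsoSuzuki K ∨ (Local K ∧ ∃ k : K, orderOf k = 2) ∨
    (center K ≠ ⊥ ∧ ∃ (F : Type) (_ : Field F) (_ : Fintype F), Fintype.card F = 8 ∧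
      Nonempty (K ⧸ center K ≃* ↥(Cfsg.Lie.Sz F 4))) := by
  have hp : commutator K = ⊤ := hK.1.commutator_eq_top
  have h2 : IsPGroup 2 (center K) := isPGroup_center hG hK.1
  have hodd : ∀ (F : Type) [Field F] [Fintype F], (Fintype.card F).Prime → 5 ≤ Fintype.card F →
      (K ⧸ center K ≃* Matrix.ProjectiveSpecialLinearGroup (Fin 2) F) →
      Nonempty (K ≃* Matrix.ProjectiveSpecialLinearGroup (Fin 2) F) ∨
      Nonempty (K ≃* Matrix.SpecialLinearGroup (Fin 2) F) := by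
    intro F _ _ hF h5 e
    rcases CoverTrans.sl_two_of_perfect hp h2 (by
      rw [Nat.card_eq_fintype_card]; exact hF.odd_of_ne_two (by omega)) e with hb | hs
    · obtain ⟨f⟩ := equiv_of_center hb
      exact Or.inl ⟨f.trans e⟩
    · exact Or.inr hs
  rcases h with ⟨F, i1, i2, hF, h5, ⟨e⟩⟩ | ⟨F, i1, i2, f, hf, hF, ⟨e⟩⟩ | h | ⟨h, k, hk⟩
  · rcases hodd F hF h5 e with h | h
    · exact Or.inl ⟨F, i1, i2, hF, h5, h⟩
    · exact Or.inr (Or.inl ⟨F, i1, i2, hF, h5, h⟩)
  · have h4 : 4 ≤ Fintype.card F := by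
      rw [hF]
      calc 4 = 2 ^ 2 := by norm_num
        _ ≤ 2 ^ f := Nat.pow_le_pow_right (by norm_num) hf
    rcases h4.eq_or_lt with h5 | h5
    · obtain ⟨e'⟩ := psl_four_equiv h5.symm
      have : Fact (Nat.Prime 5) := ⟨by norm_num⟩
      have hc : Fintype.card (ZMod 5) = 5 := ZMod.card 5
      rcases hodd (ZMod 5) (by rw [hc]; norm_num) (by rw [hc]) (e.trans e') with h | h
      · exact Or.inl ⟨ZMod 5, inferInstance, inferInstance, by rw [hc]; norm_num, by rw [hc], h⟩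
      · exact Or.inr (Or.inl ⟨ZMod 5, inferInstance, inferInstance, by rw [hc]; norm_num, by rw [hc], h⟩)
    · obtain ⟨g⟩ := equiv_of_center (center_eq_bot_of_two hG hK.1 hF h5 e)
      exact Or.inr (Or.inr (Or.inl ⟨F, i1, i2, f, hf, hF, ⟨g.trans e⟩⟩))
  · obtain ⟨F, i1, i2, m, hm, hF, ⟨e⟩⟩ := h
    by_cases hb : center K = ⊥
    · obtain ⟨g⟩ := equiv_of_center hb
      exact Or.inr (Or.inr (Or.inr (Or.inl ⟨F, i1, i2, m, hm, hF, ⟨g.trans e⟩⟩)))
    · rcases hm.eq_or_lt with h1 | h1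
      · subst h1
        exact Or.inr (Or.inr (Or.inr (Or.inr (Or.inr ⟨hb, F, i1, i2, hF, ⟨e⟩⟩))))
      · exact absurd (CoverSz.center_eq_bot hp h2 h1 hF e) hb
  · obtain ⟨g⟩ := equiv_of_center (center_eq_bot_of_local hG hK.1 h hk)
    exact Or.inr (Or.inr (Or.inr (Or.inr (Or.inl ⟨local_of_equiv g h, g.symm k, by rw [g.symm.orderOf_eq, hk]⟩))))

end Cfsg.Agent.OddCyclic.CompCovers
end
end
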