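import Mathlib
import Cfsg.Agent.OddCyclic.T1Defs
import Cfsg.Agent.OddCyclic.T1Sl2
import Cfsg.Agent.OddCyclic.T1Core
import Cfsg.Agent.OddCyclic.T1Socle
import Cfsg.Agent.OddCyclic.T1PslPrime
import Cfsg.Agent.SporadicB.DihedralLift
import Cfsg.Agent.LieClassical.SLTwoTwo
import Cfsg.Prelude.Def_CaseTheorems
import Cfsg.Agent.S0029
import Cfsg.Agent.Lib.CoprimeCommutator
import Cfsg.Agent.Lib.FrattiniPGroup
import Cfsg.Agent.Characters.CNBasic
import Cfsg.Agent.LieExceptional.CITGlobal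
import Cfsg.Agent.LieExceptional.CITBasic
import Cfsg.Agent.OddCyclic.FFThree_m3
import Cfsg.Agent.OddCyclic.FFBasic
import Cfsg.Agent.OddCyclic.FFSl2
import Cfsg.Agent.OddCyclic.A4ELayer_m3
import Cfsg.Agent.FastGrp
import Cfsg.Agent.Prune
set_option linter.all false

section
prune_inst 0x7ffcfcfbaff8bddfffff7e7ffffddffe39d05fffffdffb4bffecfbff1fff030e7be5fbaf9de0d0ff0ef6e296b0b87813f97eeeffee6bdc7ffffd5ff45ffbee1fe5ffbdac5197b8341ffc6ffffbf17f8e7f3fffffffffffffffffffffffffffbeffffffffffff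

-- part: OddCyclic/T1StructQ
section
prune_inst 0x300001000000000000000000000000000000000000000000004002000a00000000000000000001000000008000000000000000000000000000000000000000000000000080080000200000000000000000000000000000000000000000000000000000000
set_option linter.all false
open scoped Cfsg.Agent.FastGrp

/-!
# S0342, T0 = 1, piece F4 (1.3 - 1.5 of blueprints/S0342-T0eq1.md): the structure of `M / O₂(M)`
-/

set_option autoImplicit false
universe u v w

namespace Cfsg.Agent.OddCyclic.T1StructQ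

open Subgroup Cfsg.Agent.LieExceptional.CITDefs Cfsg.Agent.OddCyclic.T1Defs

/-! ### inheritance of the hypotheses -/

theorem K1.congr {K : Type u} {L : Type v} [Group K] [Group L] (e : K ≃* L) (h : K1 K) : K1 L := by
  rcases h with ⟨F, i1, i2, h1, h2, ⟨f⟩⟩ | ⟨F, i1, i2, n, h1, h2, ⟨f⟩⟩ | ⟨F, i1, i2, m, h1, h2, ⟨f⟩⟩ | ⟨g, hg⟩
  · exact Or.inl ⟨F, i1, i2, h1, h2, ⟨e.symm.trans f⟩⟩
  · exact Or.inr (Or.inl ⟨F, i1, i2, n, h1, h2, ⟨e.symm.trans f⟩⟩)
  · exact Or.inr (Or.inr (Or.inl ⟨F, i1, i2, m, h1, h2, ⟨e.symm.trans f⟩⟩))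
  · exact Or.inr (Or.inr (Or.inr ⟨e g, by rw [MulEquiv.orderOf_eq]; exact hg⟩))

theorem NoSix.of_injective {A : Type u} {H : Type v} [Group A] [Group H] {f : A →* H} (hf : Function.Injective f)
    (h : NoSix H) : NoSix A := fun g hg => h (f g) (by rw [orderOf_injective f hf]; exact hg)

theorem OddCyc.of_injective {A : Type u} {H : Type v} [Group A] [Group H] {f : A →* H} (hf : Function.Injective f)
    (h : OddCyc H) : OddCyc A := by
  intro p P hp h2
  have : Fact p.Prime := ⟨hp⟩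
  have hP : IsPGroup p ((P : Subgroup A).map f) := P.2.map _
  obtain ⟨Q, hQ⟩ := hP.exists_le_sylow
  have := h p Q hp h2
  have hmem : ∀ a : (P : Subgroup A), f a ∈ (Q : Subgroup H) := fun a => hQ ⟨a, a.2, rfl⟩
  let g : (P : Subgroup A) →* (Q : Subgroup H) := (f.comp (P : Subgroup A).subtype).codRestrict _ hmem
  refine isCyclic_of_injective g fun a b hab => ?_
  exact Subtype.ext (hf (congrArg Subtype.val hab))

section quot

variable {H : Type u} [Group H] [Finite H] {N : Subgroup H} [N.Normal]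

theorem oddCyc_quot (hc : OddCyc H) : OddCyc (H ⧸ N) := by
  intro p P hp h2
  have : Fact p.Prime := ⟨hp⟩
  obtain ⟨P', rfl⟩ := Sylow.mapSurjective_surjective (QuotientGroup.mk'_surjective N) p P
  have := hc p P' hp h2
  change IsCyclic ↥((P' : Subgroup H).map (QuotientGroup.mk' N))
  exact isCyclic_of_surjective _ ((QuotientGroup.mk' N).subgroupMap_surjective (P' : Subgroup H))

omit [Finite H] in
theorem kSec_quot (hK : KSec H) : KSec (H ⧸ N) := by
  intro A B hB hs hab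
  let A' : Subgroup H := A.comap (QuotientGroup.mk' N)
  let φ : A' →* A := ((QuotientGroup.mk' N).comp A'.subtype).codRestrict A fun a => a.2
  have hφ : Function.Surjective φ := by
    rintro ⟨a, ha⟩
    obtain ⟨g, rfl⟩ := QuotientGroup.mk'_surjective N a
    exact ⟨⟨g, ha⟩, rfl⟩
  let ψ : A' →* A ⧸ B := (QuotientGroup.mk' B).comp φ
  have hψ : Function.Surjective ψ := (QuotientGroup.mk'_surjective B).comp hφ
  let e : A' ⧸ ψ.ker ≃* A ⧸ B := QuotientGroup.quotientKerEquivOfSurjective ψ hψ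
  have hs' : IsSimpleGroup (A' ⧸ ψ.ker) := e.isSimpleGroup
  have hab' : ∃ a b : A' ⧸ ψ.ker, a * b ≠ b * a := by
    obtain ⟨a, b, hab⟩ := hab
    refine ⟨e.symm a, e.symm b, fun h => hab ?_⟩
    rw [← map_mul, ← map_mul] at h
    exact e.symm.injective h
  exact K1.congr e (hK A' ψ.ker hs' hab')

omit [Finite H] in
theorem exists_lift_three (hN : ¬ 3 ∣ Nat.card N) {xb : H ⧸ N} (hx : orderOf xb = 3) :
    ∃ x : H, orderOf x = 3 ∧ (x : H ⧸ N) = xb := by
  obtain ⟨g, rfl⟩ := QuotientGroup.mk_surjective xb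
  have hg3 : g ^ 3 ∈ N := (QuotientGroup.eq_one_iff _).mp (by rw [QuotientGroup.mk_pow, ← hx, pow_orderOf_eq_one])
  obtain ⟨m, hm⟩ : ∃ m, m = Nat.card N := ⟨_, rfl⟩
  rw [← hm] at hN
  have h1 : (g ^ 3) ^ m = 1 := by
    have := pow_card_eq_one' (G := N) (x := ⟨g ^ 3, hg3⟩)
    rw [← hm] at this
    exact congrArg Subtype.val this
  have hm3 : m * m % 3 = 1 := by
    have : m % 3 = 1 ∨ m % 3 = 2 := by omega
    rcases this with h | h <;> rw [Nat.mul_mod, h]
  have hmk : ((g ^ (m * m) : H) : H ⧸ N) = g := by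
    rw [QuotientGroup.mk_pow, ← pow_mod_orderOf, hx, hm3, pow_one]
  refine ⟨g ^ (m * m), orderOf_eq_prime ?_ ?_, hmk⟩
  · rw [← pow_mul, show m * m * 3 = 3 * m * m by ring, pow_mul, pow_mul, h1, one_pow]
  · intro h
    rw [h, QuotientGroup.mk_one] at hmk
    rw [← hmk, orderOf_one] at hx
    omega

omit [Finite H] [N.Normal] in
theorem eq_of_mk_eq (hN : ¬ 3 ∣ Nat.card N) (hcen : ∀ x : H, orderOf x = 3 → ∀ y ∈ N, x * y = y * x)
    {x x' : H} (hx : orderOf x = 3) (hx' : orderOf x' = 3) (h : (x : H ⧸ N) = x') : x = x' := by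
  have hy : x⁻¹ * x' ∈ N := QuotientGroup.eq.mp h
  have hc : Commute x (x⁻¹ * x') := hcen x hx _ hy
  have h1 : x ^ 3 = 1 := by rw [← hx, pow_orderOf_eq_one]
  have h2 : x' ^ 3 = 1 := by rw [← hx', pow_orderOf_eq_one]
  have h3 : (x⁻¹ * x') ^ 3 = 1 := by
    have h4 := hc.mul_pow 3
    rwa [mul_inv_cancel_left, h1, h2, one_mul, eq_comm] at h4
  have h5 : orderOf (x⁻¹ * x') ∣ 3 := orderOf_dvd_of_pow_eq_one h3
  have h6 : orderOf (x⁻¹ * x') ∣ Nat.card N := by
    have := _root_.orderOf_dvd_natCard (⟨x⁻¹ * x', hy⟩ : N)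
    rwa [Subgroup.orderOf_mk] at this
  rcases (Nat.dvd_prime Nat.prime_three).mp h5 with h7 | h7
  · rw [orderOf_eq_one_iff] at h7
    exact (inv_mul_eq_one.mp h7)
  · rw [h7] at h6
    exact absurd h6 hN

omit [Finite H] in
theorem orderOf_mk_three (hN : ¬ 3 ∣ Nat.card N) {x : H} (hx : orderOf x = 3) : orderOf (x : H ⧸ N) = 3 := by
  refine orderOf_eq_prime ?_ ?_
  · rw [← QuotientGroup.mk_pow, ← hx, pow_orderOf_eq_one, QuotientGroup.mk_one]
  · intro h
    have hxN := (QuotientGroup.eq_one_iff _).mp h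
    have := _root_.orderOf_dvd_natCard (⟨x, hxN⟩ : N)
    rw [Subgroup.orderOf_mk, hx] at this
    exact hN this

theorem noSix_quot (hN : ¬ 3 ∣ Nat.card N) (hodd : Odd (Nat.card N))
    (hcen : ∀ x : H, orderOf x = 3 → ∀ y ∈ N, x * y = y * x) (hsix : NoSix H) : NoSix (H ⧸ N) := by
  intro g hg
  have hg2 : orderOf (g ^ 2) = 3 := by rw [orderOf_pow, hg]; decide
  have hg3 : orderOf (g ^ 3) = 2 := by rw [orderOf_pow, hg]; decide
  obtain ⟨x, hx, hxg⟩ := exists_lift_three hN hg2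
  obtain ⟨s, rfl⟩ := QuotientGroup.mk_surjective g
  obtain ⟨m, hm⟩ : ∃ m, m = Nat.card N := ⟨_, rfl⟩
  rw [← hm] at hodd
  have hs6 : s ^ 6 ∈ N := (QuotientGroup.eq_one_iff _).mp (by rw [QuotientGroup.mk_pow, ← hg, pow_orderOf_eq_one])
  have h1 : (s ^ 6) ^ m = 1 := by
    have := pow_card_eq_one' (G := N) (x := ⟨s ^ 6, hs6⟩)
    rw [← hm] at this
    exact congrArg Subtype.val this
  have hmk : ((s ^ (3 * m) : H) : H ⧸ N) = (s : H ⧸ N) ^ 3 := by
    rw [QuotientGroup.mk_pow, pow_mul, ← pow_mod_orderOf, hg3, Nat.odd_iff.mp hodd, pow_one]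
  have ht : orderOf (s ^ (3 * m)) = 2 := by
    refine orderOf_eq_prime ?_ ?_
    · rw [← pow_mul, show 3 * m * 2 = 6 * m by ring, pow_mul, h1]
    · intro h
      rw [h, QuotientGroup.mk_one] at hmk
      rw [← hmk, orderOf_one] at hg3
      omega
  have hconj : s ^ (3 * m) * x * (s ^ (3 * m))⁻¹ = x := by
    refine eq_of_mk_eq hN hcen ?_ hx ?_
    · exact ((MulAut.conj (s ^ (3 * m))).orderOf_eq x).trans hx
    · rw [QuotientGroup.mk_mul, QuotientGroup.mk_mul, QuotientGroup.mk_inv, hxg, hmk]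
      group
  have hcomm : Commute (s ^ (3 * m)) x := mul_inv_eq_iff_eq_mul.mp hconj
  have h6 := hcomm.orderOf_mul_eq_mul_orderOf_of_coprime (by rw [ht, hx]; decide)
  rw [ht, hx] at h6
  exact hsix _ h6

end quot

/-! ### the two cases -/

/-- in a cyclic 3-group any two elements of order 3 are equal or inverse -/
theorem eq_or_eq_inv_of_cyclic {H : Type u} [Group H] [Finite H] {P : Subgroup H} (hP : IsCyclic P) {a b : H} (ha : a ∈ P)
    (hb : b ∈ P) (ha3 : orderOf a = 3) (hb3 : orderOf b = 3) : b = a ∨ b = a⁻¹ := by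
  classical
  have : Fintype P := Fintype.ofFinite P
  by_contra hcon
  push Not at hcon
  obtain ⟨h1, h2⟩ := hcon
  have hcard := IsCyclic.card_pow_eq_one_le (α := P) (n := 3) (by norm_num)
  have ha1 : a ^ 3 = 1 := by rw [← ha3, pow_orderOf_eq_one]
  have hb1 : b ^ 3 = 1 := by rw [← hb3, pow_orderOf_eq_one]
  have hsub : ({1, ⟨a, ha⟩, ⟨a, ha⟩⁻¹, ⟨b, hb⟩} : Finset P) ⊆ Finset.univ.filter fun g : P => g ^ 3 = 1 := by
    intro g hg
    simp only [Finset.mem_insert, Finset.mem_singleton] at hg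
    rw [Finset.mem_filter]
    refine ⟨Finset.mem_univ _, ?_⟩
    rcases hg with rfl | rfl | rfl | rfl
    · exact one_pow _
    · exact Subtype.ext ha1
    · rw [inv_pow, inv_eq_one]; exact Subtype.ext ha1
    · exact Subtype.ext hb1
  have ha0 : a ≠ 1 := by rintro rfl; rw [orderOf_one] at ha3; omega
  have hb0 : b ≠ 1 := by rintro rfl; rw [orderOf_one] at hb3; omega
  have haa : a ≠ a⁻¹ := by
    intro h
    have h3 : a ^ 2 = 1 := by rw [pow_two]; nth_rw 1 [h]; exact inv_mul_cancel a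
    have := orderOf_dvd_of_pow_eq_one h3
    rw [ha3] at this
    omega
  have h4 : ({1, ⟨a, ha⟩, ⟨a, ha⟩⁻¹, ⟨b, hb⟩} : Finset P).card = 4 := by
    have e1 : (⟨a, ha⟩⁻¹ : P) ≠ ⟨b, hb⟩ := fun h => h2 (congrArg Subtype.val h).symm
    have e2 : (⟨a, ha⟩ : P) ≠ ⟨b, hb⟩ := fun h => h1 (congrArg Subtype.val h).symm
    have e3 : (⟨a, ha⟩ : P) ≠ ⟨a, ha⟩⁻¹ := fun h => haa (congrArg Subtype.val h)
    have e4 : (1 : P) ≠ ⟨a, ha⟩ := fun h => ha0 (congrArg Subtype.val h).symm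
    have e5 : (1 : P) ≠ ⟨a, ha⟩⁻¹ := fun h => ha0 (by
      have := congrArg Subtype.val h
      exact inv_eq_one.mp this.symm)
    have e6 : (1 : P) ≠ ⟨b, hb⟩ := fun h => hb0 (congrArg Subtype.val h).symm
    rw [Finset.card_insert_of_notMem (by simp only [e4, e5, e6, _root_.Finset.mem_insert, _root_.Finset.mem_singleton, _root_.or_self, _root_.not_false_eq_true]), Finset.card_insert_of_notMem (by simp [e2, e3]),
      Finset.card_insert_of_notMem (by simpa using e1), Finset.card_singleton]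
  have := (Finset.card_le_card hsub).trans hcard
  omega

section main

variable {H : Type u} [Group H] [Finite H]

omit [Finite H] in
/-- elements of order 2 do not commute with elements of order 3 -/
theorem not_commute (hsix : NoSix H) {t x : H} (ht : orderOf t = 2) (hx : orderOf x = 3) : ¬ t * x = x * t := by
  intro h
  have h6 := (show Commute t x from h).orderOf_mul_eq_mul_orderOf_of_coprime (by rw [ht, hx]; decide)
  rw [ht, hx] at h6
  exact hsix _ h6

theorem odd_centralizer (hsix : NoSix H) {x : H} (hx : orderOf x = 3) : Odd (Nat.card (centralizer ({x} : Set H))) := by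
  rw [← Nat.not_even_iff_odd, even_iff_two_dvd]
  intro h
  have : Fact (Nat.Prime 2) := ⟨Nat.prime_two⟩
  obtain ⟨t, ht⟩ := exists_prime_orderOf_dvd_card' 2 h
  rw [← Subgroup.orderOf_coe] at ht
  exact not_commute hsix ht hx (mem_centralizer_singleton_iff.mp t.2)

/-- the case of a normal Sylow 3-subgroup -/
theorem caseA (hsix : NoSix H) (hodd : ¬ Odd (Nat.card H)) (h3 : 3 ∣ Nat.card H) {Y : Subgroup H} [Y.Normal]
    (hY3 : ¬ 3 ∣ Nat.card Y) (hYodd : Odd (Nat.card Y)) (hYc : ∀ x : H, orderOf x = 3 → ∀ y ∈ Y, x * y = y * x)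
    (hcq : OddCyc (H ⧸ Y)) (P : Sylow 3 (H ⧸ Y)) (hPn : (P : Subgroup (H ⧸ Y)).Normal)
    (hPi : (P : Subgroup (H ⧸ Y)).index ∣ 2) (T : Sylow 2 H) :
    ∃ L : Subgroup H, L = (T : Subgroup H) ⊔ Subgroup.closure {x : H | orderOf x = 3} ∧
      (∃ (F : Type) (_ : Field F) (_ : Fintype F) (_ : CharP F 2), Nonempty (L ≃* Matrix.SpecialLinearGroup (Fin 2) F) ∧
        (Fintype.card F ≠ 2 → L.Normal)) ∧
      ∀ T' : Sylow 2 H, T' ≠ T → (T : Subgroup H) ⊓ T' = ⊥ := by
  have : Fact (Nat.Prime 2) := ⟨Nat.prime_two⟩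
  have : Fact (Nat.Prime 3) := ⟨Nat.prime_three⟩
  obtain ⟨x, hx⟩ := exists_prime_orderOf_dvd_card' 3 h3
  have hPcyc : IsCyclic (P : Subgroup (H ⧸ Y)) := hcq 3 P Nat.prime_three (by norm_num)
  have hPuniq : ∀ Q : Sylow 3 (H ⧸ Y), Q = P := fun Q => by
    have := Sylow.unique_of_normal P hPn
    exact Subsingleton.elim _ _
  have hmemP : ∀ a : H ⧸ Y, orderOf a = 3 → a ∈ (P : Subgroup (H ⧸ Y)) := by
    intro a ha
    have hz : IsPGroup 3 (zpowers a) := IsPGroup.of_card (n := 1) (by rw [Nat.card_zpowers, ha, pow_one])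
    obtain ⟨Q, hQ⟩ := hz.exists_le_sylow
    rw [hPuniq Q] at hQ
    exact hQ (mem_zpowers a)
  have hxx : ∀ x' : H, orderOf x' = 3 → x' = x ∨ x' = x⁻¹ := by
    intro x' hx'
    have h1 := orderOf_mk_three hY3 hx
    have h2 := orderOf_mk_three hY3 hx'
    rcases eq_or_eq_inv_of_cyclic hPcyc (hmemP _ h1) (hmemP _ h2) h1 h2 with h | h
    · exact Or.inl (eq_of_mk_eq hY3 hYc hx' hx h)
    · right
      refine eq_of_mk_eq hY3 hYc hx' (by rw [orderOf_inv, hx]) ?_
      rw [h, QuotientGroup.mk_inv]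
  -- the order of `T` is 2
  have hcardH : Nat.card H = Nat.card Y * (Nat.card (P : Subgroup (H ⧸ Y)) * (P : Subgroup (H ⧸ Y)).index) := by
    rw [Subgroup.card_mul_index, ← Subgroup.index_eq_card, Subgroup.card_mul_index]
  have hPodd : Odd (Nat.card (P : Subgroup (H ⧸ Y))) := by
    obtain ⟨n, hn⟩ := IsPGroup.iff_card.mp P.2
    rw [hn]
    exact Odd.pow (by decide)
  have hidx : (P : Subgroup (H ⧸ Y)).index = 2 := by
    rcases (Nat.dvd_prime Nat.prime_two).mp hPi with h | h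
    · exfalso
      apply hodd
      rw [hcardH, h, mul_one]
      exact hYodd.mul hPodd
    · exact h
  rw [hidx] at hcardH
  have h4 : ¬ 4 ∣ Nat.card H := by
    rw [hcardH, ← mul_assoc]
    have ho := hYodd.mul hPodd
    rw [Nat.odd_iff] at ho
    omega
  have hT2 : ∀ T : Sylow 2 H, Nat.card (T : Subgroup H) = 2 := by
    intro T
    obtain ⟨n, hn⟩ := IsPGroup.iff_card.mp T.2
    have h2 : 2 ∣ Nat.card (T : Subgroup H) := T.dvd_card_of_dvd_card (by
      rw [hcardH, ← mul_assoc]; exact Dvd.intro_left _ rfl)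
    have hd : Nat.card (T : Subgroup H) ∣ Nat.card H := Subgroup.card_subgroup_dvd_card _
    rw [hn] at h2 hd ⊢
    have hn2 : n < 2 := by
      by_contra hcon
      push Not at hcon
      exact h4 ((Nat.pow_dvd_pow 2 hcon).trans hd)
    interval_cases n
    · omega
    · rfl
  obtain ⟨t0, ht0⟩ := exists_prime_orderOf_dvd_card' 2 (show 2 ∣ Nat.card (T : Subgroup H) by rw [hT2])
  obtain ⟨t, htT⟩ := t0
  rw [Subgroup.orderOf_mk] at ht0
  have ht : orderOf t = 2 := ht0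
  have hTz : (T : Subgroup H) = zpowers t :=
    (eq_of_le_of_card_ge (by rwa [zpowers_le]) (by rw [hT2, Nat.card_zpowers, ht])).symm
  have htt : t * t = 1 := by rw [← pow_two, ← ht, pow_orderOf_eq_one]
  have htinv : t⁻¹ = t := inv_eq_of_mul_eq_one_left htt
  have hconj : t * x * t⁻¹ = x⁻¹ := by
    rcases hxx (t * x * t⁻¹) (((MulAut.conj t).orderOf_eq x).trans hx) with h | h
    · exact absurd (mul_inv_eq_iff_eq_mul.mp h) (not_commute hsix ht hx)
    · exact h
  have hs : orderOf (t * x) = 2 := by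
    refine orderOf_eq_prime ?_ ?_
    · rw [pow_two]
      calc t * x * (t * x) = t * x * t⁻¹ * x := by rw [htinv]; group
        _ = 1 := by rw [hconj, inv_mul_cancel]
    · intro h
      have : x = t := by rw [← htinv]; exact (inv_eq_of_mul_eq_one_right h).symm
      rw [this, ht] at hx
      omega
  have hts : orderOf (t * (t * x)) = 3 := by rw [← mul_assoc, htt, one_mul, hx]
  obtain ⟨e⟩ := SporadicB.DihedralLift.closure_pair_equiv_dihedral' ht hs hts
  obtain ⟨e1⟩ := SporadicB.DihedralLift.dihedral_three_equiv_perm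
  obtain ⟨e2⟩ := LieClassical.SLTwoTwo.nonempty_mulEquiv (F := ZMod 2) (ZMod.card 2)
  have hL : (T : Subgroup H) ⊔ _root_.Subgroup.closure {x : H | orderOf x = 3} = closure {t, t * x} := by
    apply le_antisymm
    · refine sup_le ?_ ?_
      · rw [hTz, zpowers_le]
        exact _root_.Subgroup.subset_closure (Or.inl rfl)
      · rw [closure_le]
        have hxm : x ∈ closure {t, t * x} := by
          have e0 : t * (t * x) = x := by rw [← mul_assoc, htt, one_mul]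
          have e1 := mul_mem (_root_.Subgroup.subset_closure (Or.inl rfl) : t ∈ closure {t, t * x})
            (_root_.Subgroup.subset_closure (Or.inr rfl) : t * x ∈ closure {t, t * x})
          rwa [e0] at e1
        intro x' hx'
        rcases hxx x' hx' with rfl | rfl
        · exact hxm
        · exact inv_mem hxm
    · rw [closure_le]
      have h1 : t ∈ (T : Subgroup H) ⊔ closure {x : H | orderOf x = 3} := mem_sup_left htT
      rintro z (rfl | rfl)
      · exact h1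
      · exact mul_mem h1 (mem_sup_right (_root_.Subgroup.subset_closure hx))
  refine ⟨_, rfl, ⟨ZMod 2, inferInstance, inferInstance, inferInstance, ?_, fun h => absurd (ZMod.card 2) h⟩, ?_⟩
  · exact ⟨(MulEquiv.subgroupCongr hL).trans (e.trans (e1.trans e2.symm))⟩
  · intro T' hT'
    rw [eq_bot_iff]
    intro z hz
    rw [mem_bot]
    by_contra hz1
    apply hT'
    have hc2 : ∀ T : Sylow 2 H, z ∈ (T : Subgroup H) → zpowers z = (T : Subgroup H) := by
      intro T hzT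
      refine eq_of_le_of_card_ge (by rwa [zpowers_le]) ?_
      rw [hT2, Nat.card_zpowers]
      have : orderOf z ≠ 1 := by rwa [Ne, orderOf_eq_one_iff]
      have := orderOf_pos z
      omega
    exact Sylow.ext ((hc2 T' hz.2).symm.trans (hc2 T hz.1))

/-- `⟨elements of order 3⟩` -/
def XX (H : Type u) [Group H] : Subgroup H := _root_.Subgroup.closure {x : H | orderOf x = 3}

omit [Finite H] in
theorem mem_XX {x : H} (hx : orderOf x = 3) : x ∈ XX H := _root_.Subgroup.subset_closure hx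

omit [Finite H] in
theorem XX_normal : (XX H).Normal := by
  refine ⟨fun n hn g => ?_⟩
  have hle : XX H ≤ (XX H).comap (MulAut.conj g).toMonoidHom := by
    unfold XX
    rw [closure_le]
    intro x hx
    rw [SetLike.mem_coe, mem_comap]
    refine _root_.Subgroup.subset_closure ?_
    exact ((MulAut.conj g).orderOf_eq x).trans hx
  exact hle hn

/-- `X ∩ Y = 1` if `Y` is a central 3'-group with cyclic Sylow subgroups -/
theorem XX_inf {Y : Subgroup H} (hc : OddCyc H) (hY3 : ¬ 3 ∣ Nat.card Y) (hYodd : Odd (Nat.card Y))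
    (hYc : ∀ x : H, orderOf x = 3 → ∀ y ∈ Y, x * y = y * x) : XX H ⊓ Y = ⊥ := by
  by_contra hne
  have h1 : Nat.card ↥(XX H ⊓ Y) ≠ 1 := fun h => hne (card_eq_one.mp h)
  obtain ⟨r, hr, hrd⟩ := Nat.exists_prime_and_dvd h1
  have : Fact r.Prime := ⟨hr⟩
  obtain ⟨z, hzX, hzY, hz⟩ : ∃ z : H, z ∈ XX H ∧ z ∈ Y ∧ orderOf z = r := by
    obtain ⟨z, hz⟩ := exists_prime_orderOf_dvd_card' r hrd
    exact ⟨z, (mem_inf.mp z.2).1, (mem_inf.mp z.2).2, by rw [Subgroup.orderOf_coe]; exact hz⟩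
  have hrY : r ∣ Nat.card Y := hrd.trans (card_dvd_of_le inf_le_right)
  have hr2 : r ≠ 2 := by
    rintro rfl
    rw [← Nat.not_even_iff_odd, even_iff_two_dvd] at hYodd
    exact hYodd hrY
  have hr3 : r ≠ 3 := by
    rintro rfl
    exact hY3 hrY
  -- `z` is central in `X`
  have hcent : ∀ g ∈ XX H, g * z = z * g := by
    intro g hg
    refine closure_induction (p := fun g _ => g * z = z * g) ?_ ?_ ?_ ?_ hg
    · intro x hx; exact hYc x hx z hzY
    · simp
    · intro a b _ _ ha hb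
      exact (show Commute z a from ha.symm).mul_right (show Commute z b from hb.symm) |>.symm
    · intro a _ ha
      exact ((show Commute z a from ha.symm).inv_right).symm
  have hzz : IsPGroup r (zpowers (⟨z, hzX⟩ : XX H)) :=
    IsPGroup.of_card (n := 1) (by rw [Nat.card_zpowers, Subgroup.orderOf_mk, hz, pow_one])
  obtain ⟨R, hR⟩ := hzz.exists_le_sylow
  have hRc : IsCyclic (R : Subgroup (XX H)) :=
    OddCyc.of_injective (f := (XX H).subtype) (XX H).subtype_injective hc r R hr hr2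
  let _ : CommGroup (R : Subgroup (XX H)) := hRc.commGroup
  let τ : XX H →* (R : Subgroup (XX H)) := MonoidHom.transfer (MonoidHom.id (R : Subgroup (XX H)))
  have hτ : ∀ g : H, ∀ hg : g ∈ XX H, τ ⟨g, hg⟩ = 1 := by
    intro g hg
    refine closure_induction (p := fun g hg => τ ⟨g, hg⟩ = 1) ?_ ?_ ?_ ?_ hg
    · intro x hx
      have h3 : (τ ⟨x, mem_XX hx⟩) ^ 3 = 1 := by
        rw [← map_pow]
        have : (⟨x, mem_XX hx⟩ : XX H) ^ 3 = 1 := Subtype.ext (by
          change x ^ 3 = 1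
          rw [← show orderOf x = 3 from hx, pow_orderOf_eq_one])
        rw [this, map_one]
      obtain ⟨n, hn⟩ := R.2 (τ ⟨x, mem_XX hx⟩)
      have h4 : orderOf (τ ⟨x, mem_XX hx⟩) ∣ Nat.gcd 3 (r ^ n) :=
        Nat.dvd_gcd (orderOf_dvd_of_pow_eq_one h3) (orderOf_dvd_of_pow_eq_one hn)
      have h5 : Nat.gcd 3 (r ^ n) = 1 :=
        Nat.Coprime.pow_right _ ((Nat.coprime_primes Nat.prime_three hr).mpr (Ne.symm hr3))
      rw [h5, Nat.dvd_one, orderOf_eq_one_iff] at h4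
      exact h4
    · exact map_one τ
    · intro a b ha hb h1 h2
      have : (⟨a * b, mul_mem ha hb⟩ : XX H) = ⟨a, ha⟩ * ⟨b, hb⟩ := rfl
      rw [this, map_mul, h1, h2, one_mul]
    · intro a ha h1
      have : (⟨a⁻¹, inv_mem ha⟩ : XX H) = ⟨a, ha⟩⁻¹ := rfl
      rw [this, map_inv, h1, inv_one]
  have hkey : ∀ (k : ℕ) (g₀ : XX H), g₀⁻¹ * (⟨z, hzX⟩ : XX H) ^ k * g₀ ∈ (R : Subgroup (XX H)) →
      g₀⁻¹ * (⟨z, hzX⟩ : XX H) ^ k * g₀ = (⟨z, hzX⟩ : XX H) ^ k := by
    intro k g₀ _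
    have : Commute g₀ (⟨z, hzX⟩ : XX H) := Subtype.ext (hcent g₀ g₀.2)
    rw [mul_assoc, ← (this.pow_right k).eq, inv_mul_cancel_left]
  have h6 := MonoidHom.transfer_eq_pow (MonoidHom.id (R : Subgroup (XX H))) (⟨z, hzX⟩ : XX H) hkey
  have h7 : τ ⟨z, hzX⟩ = 1 := hτ z hzX
  have h8 : (⟨z, hzX⟩ : XX H) ^ (R : Subgroup (XX H)).index = 1 := by
    have h9 : τ ⟨z, hzX⟩ = _ := h6
    rw [h7] at h9
    exact (congrArg Subtype.val h9).symm
  have h10 : r ∣ (R : Subgroup (XX H)).index := by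
    have := orderOf_dvd_of_pow_eq_one h8
    rwa [Subgroup.orderOf_mk, hz] at this
  exact R.not_dvd_index h10

/-- the case `⟨elements of order 3⟩ ≃ SL₂(F)` -/
theorem caseB (hc : OddCyc H) (hsix : NoSix H) {F : Type} [Field F] [Fintype F] [CharP F 2]
    (e : XX H ≃* Matrix.SpecialLinearGroup (Fin 2) F) (T : Sylow 2 H) :
    ∃ L : Subgroup H, L = (T : Subgroup H) ⊔ Subgroup.closure {x : H | orderOf x = 3} ∧
      (∃ (F : Type) (_ : Field F) (_ : Fintype F) (_ : CharP F 2), Nonempty (L ≃* Matrix.SpecialLinearGroup (Fin 2) F) ∧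
        (Fintype.card F ≠ 2 → L.Normal)) ∧
      ∀ T' : Sylow 2 H, T' ≠ T → (T : Subgroup H) ⊓ T' = ⊥ := by
  have : Fact (Nat.Prime 2) := ⟨Nat.prime_two⟩
  have : Fact (Nat.Prime 3) := ⟨Nat.prime_three⟩
  have hXn : (XX H).Normal := XX_normal
  -- an involution of `X` inverting an element of order 3
  obtain ⟨a, x, hx, hax⟩ : ∃ a x : XX H, orderOf x = 3 ∧ a * x * a⁻¹ = x⁻¹ := by
    let a0 : Matrix.SpecialLinearGroup (Fin 2) F := ⟨!![1, 1; 0, 1], by simp⟩
    have h1 : a0 * a0 = 1 := by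
      apply Subtype.ext
      change (!![1, 1; 0, 1] : Matrix (Fin 2) (Fin 2) F) * !![1, 1; 0, 1] = 1
      ext i j
      (revert i j; simp only [CharTwo.add_self_eq_zero, _root_.Fin.forall_fin_succ, _root_.Matrix.cons_mul, _root_.Nat.succ_eq_add_one, Nat.reduceAdd, _root_.Matrix.vecMul_cons, _root_.Matrix.head_cons, _root_.one_smul, _root_.Matrix.tail_cons, _root_.Matrix.empty_vecMul, _root_.add_zero, _root_.Matrix.add_cons, _root_.zero_smul, _root_.zero_add, _root_.Matrix.empty_mul, _root_.Equiv.symm_apply_apply, _root_.Matrix.of_apply, _root_.Matrix.cons_val', _root_.Matrix.cons_val_fin_one, Fin.isValue, _root_.Matrix.cons_val_zero, _root_.Matrix.cons_val_succ, _root_.Pi.zero_apply, _root_.IsEmpty.forall_iff, _root_.and_true, _root_.Matrix.one_apply_eq, _root_.Fin.succ_zero_eq_one, _root_.ne_eq, _root_.zero_ne_one, _root_.not_false_eq_true, _root_.Matrix.one_apply_ne, _root_.and_self, _root_.Fin.succ_ne_zero, _root_.true_and])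
    have h2 : a0 ≠ 1 := by
      intro h
      have := congrFun (congrFun (congrArg Subtype.val h) 0) 1
      simp [a0] at this
    obtain ⟨x0, hx0, hinv⟩ := T1Sl2.inverts_three h1 h2
    refine ⟨e.symm a0, e.symm x0, by rw [MulEquiv.orderOf_eq]; exact hx0, ?_⟩
    rw [← map_inv, ← map_inv, ← map_mul, ← map_mul, hinv]
  have hx' : orderOf (x : H) = 3 := by rw [Subgroup.orderOf_coe]; exact hx
  -- Frattini argument
  have hfr : centralizer ({(x : H)} : Set H) ⊔ XX H = ⊤ := by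
    rw [eq_top_iff]
    intro g _
    have hgx : orderOf (g * x * g⁻¹) = 3 := ((MulAut.conj g).orderOf_eq (x : H)).trans hx'
    have hz : ∀ y : XX H, orderOf y = 3 → ∃ P : Sylow 3 (XX H), y ∈ (P : Subgroup (XX H)) := by
      intro y hy
      have hz : IsPGroup 3 (zpowers y) := IsPGroup.of_card (n := 1) (by rw [Nat.card_zpowers, hy, pow_one])
      obtain ⟨Q, hQ⟩ := hz.exists_le_sylow
      exact ⟨Q, hQ (mem_zpowers y)⟩
    obtain ⟨P, hP⟩ := hz x hx
    obtain ⟨P', hP'⟩ := hz ⟨g * x * g⁻¹, mem_XX hgx⟩ (by rw [Subgroup.orderOf_mk]; exact hgx)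
    obtain ⟨c, hc'⟩ := MulAction.exists_smul_eq (XX H) P' P
    have hcyc : IsCyclic (P : Subgroup (XX H)) :=
      OddCyc.of_injective (f := (XX H).subtype) (XX H).subtype_injective hc 3 P Nat.prime_three (by norm_num)
    have hcm : c * ⟨g * x * g⁻¹, mem_XX hgx⟩ * c⁻¹ ∈ (P : Subgroup (XX H)) := by
      rw [← hc']
      exact ⟨_, hP', rfl⟩
    have hord : orderOf (c * (⟨g * x * g⁻¹, mem_XX hgx⟩ : XX H) * c⁻¹) = 3 :=
      ((MulAut.conj c).orderOf_eq _).trans (by rw [Subgroup.orderOf_mk]; exact hgx)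
    have hkey : ∃ d : XX H, (d : H) * g ∈ centralizer ({(x : H)} : Set H) := by
      rcases eq_or_eq_inv_of_cyclic hcyc hP hcm hx hord with h | h
      · refine ⟨c, mem_centralizer_singleton_iff.mpr ?_⟩
        have h' : (c : H) * (g * x * g⁻¹) * (c : H)⁻¹ = x := congrArg Subtype.val h
        calc (c : H) * g * x = (c * (g * x * g⁻¹) * (c : H)⁻¹) * (c * g) := by group
          _ = x * (c * g) := by rw [h']
      · refine ⟨a * c, mem_centralizer_singleton_iff.mpr ?_⟩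
        have h' : (c : H) * (g * x * g⁻¹) * (c : H)⁻¹ = (x : H)⁻¹ := congrArg Subtype.val h
        have h'' : (a : H) * (x : H) * (a : H)⁻¹ = (x : H)⁻¹ := congrArg Subtype.val hax
        have h3 : (a : H) * (x : H)⁻¹ * (a : H)⁻¹ = x := by
          have := congrArg (·⁻¹) h''
          simpa only [mul_assoc, _root_.mul_inv_rev, _root_.inv_inv] using this
        change (a : H) * c * g * x = x * (a * c * g)
        calc (a : H) * c * g * x = a * (c * (g * x * g⁻¹) * (c : H)⁻¹) * (a : H)⁻¹ * (a * c * g) := by group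
          _ = x * (a * c * g) := by rw [h', h3]
    obtain ⟨d, hd⟩ := hkey
    have : g = (d : H)⁻¹ * (d * g) := by group
    rw [this]
    exact mul_mem (mem_sup_right (inv_mem d.2)) (mem_sup_left hd)
  -- the index of `X` is odd
  have hidx : Odd (XX H).index := by
    have h1 : (XX H).index = (XX H).relIndex (centralizer ({(x : H)} : Set H)) := by
      rw [← relIndex_sup_right, hfr, relIndex_top_right]
    rw [h1]
    exact (odd_centralizer hsix hx').of_dvd_nat (relIndex_dvd_card _ _)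
  have hTX : ∀ T : Sylow 2 H, (T : Subgroup H) ≤ XX H := by
    intro T t ht
    obtain ⟨n, hn⟩ := T.2 ⟨t, ht⟩
    have hn' : t ^ 2 ^ n = 1 := congrArg Subtype.val hn
    have h1 : orderOf (t : H ⧸ XX H) ∣ Nat.gcd (2 ^ n) (XX H).index :=
      Nat.dvd_gcd (orderOf_dvd_of_pow_eq_one (by rw [← QuotientGroup.mk_pow, hn', QuotientGroup.mk_one]))
        (by rw [index_eq_card]; exact _root_.orderOf_dvd_natCard _)
    have h2 : Nat.gcd (2 ^ n) (XX H).index = 1 := Nat.Coprime.pow_left _ (Nat.coprime_two_left.mpr hidx)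
    rw [h2, Nat.dvd_one, orderOf_eq_one_iff] at h1
    exact (QuotientGroup.eq_one_iff _).mp h1
  have hL : (T : Subgroup H) ⊔ _root_.Subgroup.closure {x : H | orderOf x = 3} = XX H := sup_eq_right.mpr (hTX T)
  refine ⟨_, rfl, ⟨F, inferInstance, inferInstance, inferInstance, ⟨(MulEquiv.subgroupCongr hL).trans e⟩, fun _ => ?_⟩, ?_⟩
  · rw [hL]; exact hXn
  · intro T' hT'
    rw [eq_bot_iff]
    intro z hz
    rw [mem_bot]
    by_contra hz1
    let U : Sylow 2 H → Sylow 2 (Matrix.SpecialLinearGroup (Fin 2) F) := fun T =>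
      Sylow.mapSurjective (f := e.toMonoidHom) e.surjective (T.subtype (hTX T))
    have hU : ∀ T : Sylow 2 H, ∀ w : XX H, e w ∈ (U T : Subgroup _) ↔ (w : H) ∈ (T : Subgroup H) := by
      intro T w
      change e w ∈ ((T : Subgroup H).subgroupOf (XX H)).map e.toMonoidHom ↔ _
      rw [show e w = e.toMonoidHom w from rfl, mem_map_iff_mem e.injective, mem_subgroupOf]
    have hne : U T ≠ U T' := by
      intro h
      apply hT'
      refine Sylow.ext (le_antisymm (fun y hy => ?_) (fun y hy => ?_))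
      · have := (hU T ⟨y, hTX T' hy⟩)
        rw [h] at this
        exact this.mp ((hU T' ⟨y, hTX T' hy⟩).mpr hy)
      · have := (hU T' ⟨y, hTX T hy⟩)
        rw [← h] at this
        exact this.mp ((hU T ⟨y, hTX T hy⟩).mpr hy)
    have h1 := T1Sl2.sylow_ti hne ((hU T ⟨z, hTX T hz.1⟩).mpr hz.1) ((hU T' ⟨z, hTX T hz.1⟩).mpr hz.2)
    exact hz1 (congrArg Subtype.val (e.injective (h1.trans (map_one e).symm)))

/-- F4 (1.3-1.5), abstract -/
theorem structure_quotient {V : Type u} [CommGroup V] [Finite V]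
    (hV : ∀ v : V, v * v = 1) (hV1 : Nontrivial V) (ρ : H →* MulAut V) (hρ : Function.Injective ρ)
    (hO2 : ∀ N : Subgroup H, N.Normal → IsPGroup 2 N → N = ⊥) (hfpf : ∀ x, orderOf x = 3 → ∀ v, ρ x v = v → v = 1)
    (hc : OddCyc H) (hK : KSec H) (hsix : NoSix H) (h3 : 3 ∣ Nat.card H) :
    Odd (Nat.card H) ∨ ∀ T : Sylow 2 H, ∃ L : Subgroup H, L = (T : Subgroup H) ⊔ Subgroup.closure {x : H | orderOf x = 3} ∧
      (∃ (F : Type) (_ : Field F) (_ : Fintype F) (_ : CharP F 2), Nonempty (L ≃* Matrix.SpecialLinearGroup (Fin 2) F) ∧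
        (Fintype.card F ≠ 2 → L.Normal)) ∧
      ∀ T' : Sylow 2 H, T' ≠ T → (T : Subgroup H) ⊓ T' = ⊥ := by
  by_cases hodd : Odd (Nat.card H)
  · exact Or.inl hodd
  right
  intro T
  -- the largest normal 3'-subgroup
  obtain ⟨Y, hYn, hY3, hYmax⟩ : ∃ Y : Subgroup H, Y.Normal ∧ ¬ 3 ∣ Nat.card Y ∧
      ∀ Y' : Subgroup H, Y'.Normal → ¬ 3 ∣ Nat.card Y' → Nat.card Y' ≤ Nat.card Y := by
    have : Nonempty {Y : Subgroup H // Y.Normal ∧ ¬ 3 ∣ Nat.card Y} :=
      ⟨⟨⊥, inferInstance, by rw [card_bot]; omega⟩⟩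
    obtain ⟨Y, hY⟩ := Finite.exists_max fun Y : {Y : Subgroup H // Y.Normal ∧ ¬ 3 ∣ Nat.card Y} => Nat.card Y.1
    exact ⟨Y.1, Y.2.1, Y.2.2, fun Y' h1 h2 => hY ⟨Y', h1, h2⟩⟩
  obtain ⟨hYodd, hYc'⟩ := T1Core.core_centralised hV hV1 ρ hρ hO2 hfpf hc hK hsix Y hYn hY3 h3
  have hYc : ∀ x : H, orderOf x = 3 → ∀ y ∈ Y, x * y = y * x := hYc'
  have hO : ∀ N : Subgroup (H ⧸ Y), N.Normal → ¬ 3 ∣ Nat.card N → N = ⊥ := by
    intro N hN hN3
    have h1 : Nat.card (N.comap (QuotientGroup.mk' Y)) = Nat.card Y * Nat.card N := by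
      have h2 := Subgroup.card_mul_index (N.comap (QuotientGroup.mk' Y))
      have h4 := Subgroup.card_mul_index N
      rw [index_comap_of_surjective _ (QuotientGroup.mk'_surjective Y)] at h2
      rw [← Subgroup.index_eq_card] at h4
      have h5 := Subgroup.card_mul_index Y
      rw [← h4, ← h2, ← mul_assoc] at h5
      exact (Nat.eq_of_mul_eq_mul_right (Nat.pos_of_ne_zero index_ne_zero_of_finite) h5).symm
    have h2 := hYmax (N.comap (QuotientGroup.mk' Y)) (hN.comap _) (by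
      rw [h1]
      intro h
      rcases (Nat.Prime.dvd_mul Nat.prime_three).mp h with h | h
      · exact hY3 h
      · exact hN3 h)
    rw [h1] at h2
    have h6 : 0 < Nat.card Y := Nat.card_pos
    have h7 : 0 < Nat.card N := Nat.card_pos
    have h8 : Nat.card N = 1 := by
      have : Nat.card N ≤ 1 := by
        by_contra hcon
        push Not at hcon
        nlinarith only [h2, h6, hcon]
      omega
    exact card_eq_one.mp h8
  have h3q : 3 ∣ Nat.card (H ⧸ Y) := by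
    have h5 := Subgroup.card_mul_index Y
    rw [Subgroup.index_eq_card] at h5
    rw [← h5] at h3
    rcases (Nat.Prime.dvd_mul Nat.prime_three).mp h3 with h | h
    · exact absurd h hY3
    · exact h
  have hsixq := noSix_quot hY3 hYodd hYc hsix
  have hcq := oddCyc_quot (N := Y) hc
  rcases T1Socle.socle hcq (kSec_quot hK) hsixq h3q hO with ⟨P, hPn, hPi, -⟩ | ⟨L, hLn, hLs, -, hL3, hLiso⟩
  · exact caseA hsix hodd h3 hY3 hYodd hYc hcq P hPn hPi T
  · -- the simple case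
    have hXn : (XX H).Normal := XX_normal
    have hinf := XX_inf hc hY3 hYodd hYc
    have : Fact (Nat.Prime 3) := ⟨Nat.prime_three⟩
    have hXL : (XX H).map (QuotientGroup.mk' Y) = L := by
      have hle : (XX H).map (QuotientGroup.mk' Y) ≤ L := by
        rw [map_le_iff_le_comap]
        unfold XX
        rw [closure_le]
        intro x hx
        exact hL3 _ (orderOf_mk_three hY3 hx)
      have hn : ((XX H).map (QuotientGroup.mk' Y)).Normal := hXn.map _ (QuotientGroup.mk'_surjective Y)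
      have hn' : (((XX H).map (QuotientGroup.mk' Y)).subgroupOf L).Normal := inferInstance
      rcases hn'.eq_bot_or_eq_top with h | h
      · exfalso
        obtain ⟨x, hx⟩ := exists_prime_orderOf_dvd_card' 3 h3
        have h1 : (x : H ⧸ Y) ∈ (XX H).map (QuotientGroup.mk' Y) := ⟨x, mem_XX hx, rfl⟩
        have h2 : (⟨(x : H ⧸ Y), hle h1⟩ : L) ∈ ((XX H).map (QuotientGroup.mk' Y)).subgroupOf L :=
          mem_subgroupOf.mpr h1
        rw [h, mem_bot] at h2
        have h4 := orderOf_mk_three hY3 hx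
        have h5 : (x : H ⧸ Y) = 1 := congrArg Subtype.val h2
        rw [h5, orderOf_one] at h4
        omega
      · exact le_antisymm hle (subgroupOf_eq_top.mp h)
    have hinj : Function.Injective ((QuotientGroup.mk' Y).comp (XX H).subtype) := by
      rw [injective_iff_map_eq_one]
      intro z hz
      have hzY : (z : H) ∈ Y := (QuotientGroup.eq_one_iff _).mp hz
      have : (z : H) ∈ XX H ⊓ Y := mem_inf.mpr ⟨z.2, hzY⟩
      rw [hinf, mem_bot] at this
      exact Subtype.ext this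
    have hrange : ((QuotientGroup.mk' Y).comp (XX H).subtype).range = L := by
      rw [MonoidHom.range_comp, range_subtype, hXL]
    let e : XX H ≃* L := (MonoidHom.ofInjective hinj).trans (MulEquiv.subgroupCongr hrange)
    rcases hLiso with ⟨F, _, _, hp, h7, ⟨e'⟩⟩ | ⟨F, _, _, _, h4, ⟨e'⟩⟩
    · exfalso
      let j : Matrix.ProjectiveSpecialLinearGroup (Fin 2) F →* H := (XX H).subtype.comp (e.trans e').symm.toMonoidHom
      have hj : Function.Injective j := (XX H).subtype_injective.comp (e.trans e').symm.injective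
      exact T1PslPrime.not_psl_prime hp h7 hV hV1 (ρ.comp j)
        (fun x hx v hv => hfpf (j x) (by rw [orderOf_injective j hj]; exact hx) v hv)
        (OddCyc.of_injective hj hc) (NoSix.of_injective hj hsix)
    · exact caseB hc hsix (e.trans e') T

end main

end Cfsg.Agent.OddCyclic.T1StructQ
end

-- part: OddCyclic/T1Structure
section
prune_inst 0x30204100000000000000000000001c62da000002004b000110400a000687180100040620f0a00a101102802400388048110000190210000020008a0041180080042012468048b00000000040e804000000000000000000000000000000041000000000000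
set_option linter.all false
open scoped Cfsg.Agent.FastGrp

/-!
# S0342, no elements of order 6: types of the maximal local subgroups (piece F5, section 1.5)
-/

set_option autoImplicit false
set_option maxHeartbeats 400000
universe u

namespace Cfsg.Agent.OddCyclic.T1Structure

open Cfsg.Agent.LieExceptional.CITDefs Cfsg.Agent.OddCyclic.T1Defs

section Abs

variable {M : Type u} [Group M] [Finite M]

/-- `M/Q` acts faithfully on `Q/Φ(Q)` -/
theorem exists_action (Q : Subgroup M) [hQn : Q.Normal] (hQ : IsPGroup 2 Q)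
    (hc : ∀ m : M, (∀ x ∈ Q, m * x = x * m) → m ∈ Q)
    (hO2 : ∀ N : Subgroup M, N.Normal → IsPGroup 2 N → N ≤ Q) (h1 : Q ≠ ⊥)
    (hfpf : ∀ x : M, orderOf x = 3 → ∀ u ∈ Q, x * u = u * x → u = 1) :
    ∃ (V : Type u) (_ : CommGroup V) (_ : Finite V) (ρ : M ⧸ Q →* MulAut V),
      (∀ v : V, v * v = 1) ∧ Nontrivial V ∧ Function.Injective ρ ∧
      (∀ x, orderOf x = 3 → ∀ v, ρ x v = v → v = 1) := by
  classical
  have : Fact (Nat.Prime 2) := ⟨Nat.prime_two⟩
  have : Fact (Nat.Prime 3) := ⟨Nat.prime_three⟩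
  obtain ⟨Φ, hΦ⟩ : ∃ Φ : Subgroup M, Φ = (frattini Q).map Q.subtype := ⟨_, rfl⟩
  have hΦn : Φ.Normal := by
    rw [hΦ]
    exact ConjAct.normal_of_characteristic_of_normal
  have hΦQ : Φ ≤ Q := by
    rw [hΦ]
    rintro _ ⟨y, -, rfl⟩
    exact y.2
  have hcomm : ∀ x ∈ Q, ∀ y ∈ Q, x * y * x⁻¹ * y⁻¹ ∈ Φ := by
    intro x hx y hy
    rw [hΦ]
    exact ⟨((⟨x, hx⟩ : Q) * ⟨y, hy⟩ * (⟨x, hx⟩ : Q)⁻¹ * (⟨y, hy⟩ : Q)⁻¹ :),
      Lib.FrattiniPGroup.commutator_mem_frattini hQ ⟨x, hx⟩ ⟨y, hy⟩, rfl⟩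
  have hsq : ∀ x ∈ Q, x ^ 2 ∈ Φ := by
    intro x hx
    rw [hΦ]
    exact ⟨(⟨x, hx⟩ : Q) ^ 2, Lib.FrattiniPGroup.pow_mem_frattini hQ _, rfl⟩
  have hodd : (Nat.card (frattini Q)).Coprime 3 := by
    obtain ⟨k, hk⟩ := (hQ.to_subgroup (frattini Q)).exists_card_eq
    rw [hk]
    exact Nat.Coprime.pow_left k (by norm_num)
  obtain ⟨W, hW⟩ : ∃ W : Subgroup (M ⧸ Φ), W = Q.map (QuotientGroup.mk' Φ) := ⟨_, rfl⟩
  have hWn : W.Normal := by
    rw [hW]
    exact hQn.map _ (QuotientGroup.mk'_surjective Φ)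
  have hWmem : ∀ w : W, ∃ q ∈ Q, (QuotientGroup.mk' Φ) q = (w : M ⧸ Φ) := fun w => by
    obtain ⟨q, hq, h⟩ := hW.le w.2
    exact ⟨q, hq, h⟩
  have hmem : ∀ q ∈ Q, (QuotientGroup.mk' Φ) q ∈ W := fun q hq => by
    rw [hW]
    exact ⟨q, hq, rfl⟩
  have hmk : ∀ x y : M, (QuotientGroup.mk' Φ) x = (QuotientGroup.mk' Φ) y ↔ x⁻¹ * y ∈ Φ := fun x y =>
    QuotientGroup.eq
  have hWc : ∀ a b : W, a * b = b * a := by
    intro a b
    obtain ⟨x, hx, hxa⟩ := hWmem a
    obtain ⟨y, hy, hyb⟩ := hWmem b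
    apply Subtype.ext
    rw [Subgroup.coe_mul, Subgroup.coe_mul, ← hxa, ← hyb, ← map_mul, ← map_mul, hmk]
    have h := hcomm _ (Q.inv_mem hy) _ (Q.inv_mem hx)
    have h2 : (x * y)⁻¹ * (y * x) = y⁻¹ * x⁻¹ * y⁻¹⁻¹ * x⁻¹⁻¹ := by group
    rw [h2]
    exact h
  let cg : CommGroup W := { (inferInstance : Group W) with mul_comm := hWc }
  let ρ₀ : M →* MulAut W := (MulAut.conjNormal (H := W)).comp (QuotientGroup.mk' Φ)
  have hρ₀ : ∀ (m : M) (w : W), ((ρ₀ m w : W) : M ⧸ Φ) =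
      (QuotientGroup.mk' Φ) m * w * ((QuotientGroup.mk' Φ) m)⁻¹ := fun m w =>
    MulAut.conjNormal_apply _ _
  have hker : ∀ m : M, ρ₀ m = 1 ↔ ∀ q ∈ Q, m * q * m⁻¹ * q⁻¹ ∈ Φ := by
    intro m
    constructor
    · intro h q hq
      have h2 := hρ₀ m ⟨_, hmem q hq⟩
      rw [h] at h2
      change (QuotientGroup.mk' Φ) q = _ * (QuotientGroup.mk' Φ) q * _ at h2
      rw [← map_inv, ← map_mul, ← map_mul, hmk] at h2
      have h3 := hΦn.conj_mem _ h2 q
      have h4 : m * q * m⁻¹ * q⁻¹ = q * (q⁻¹ * (m * q * m⁻¹)) * q⁻¹ := by group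
      rw [h4]
      exact h3
    · intro h
      apply MulEquiv.ext
      intro w
      obtain ⟨q, hq, hqw⟩ := hWmem w
      apply Subtype.ext
      rw [hρ₀, ← hqw]
      rw [← map_inv, ← map_mul, ← map_mul]
      change _ = (w : M ⧸ Φ)
      rw [← hqw]
      symm
      rw [hmk]
      have h3 := hΦn.conj_mem _ (h q hq) q⁻¹
      have h4 : q⁻¹ * (m * q * m⁻¹) = q⁻¹ * (m * q * m⁻¹ * q⁻¹) * q⁻¹⁻¹ := by group
      rw [h4]
      exact h3
  have hQker : ∀ q ∈ Q, ρ₀ q = 1 := fun q hq => (hker q).2 fun x hx => hcomm q hq x hx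
  have hkerQ : ∀ m, ρ₀ m = 1 → m ∈ Q := by
    have hK2 : IsPGroup 2 ρ₀.ker := by
      rintro ⟨m, hm⟩
      obtain ⟨a, b, hb, hab⟩ := Nat.exists_eq_two_pow_mul_odd (n := orderOf m) (orderOf_pos m).ne'
      refine ⟨a, ?_⟩
      apply Subtype.ext
      change m ^ 2 ^ a = 1
      have hord : orderOf (m ^ 2 ^ a) = b := by
        rw [orderOf_pow' _ (by positivity), hab]
        rw [Nat.gcd_eq_right (Dvd.intro _ rfl)]
        exact Nat.mul_div_cancel_left _ (by positivity)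
      have hmem2 : m ^ 2 ^ a ∈ Q := by
        apply hc
        have h5 := Cfsg.Agent.S0029.result (Subgroup.zpowers (m ^ 2 ^ a)) Q
          (by rw [Subgroup.normalizer_eq_top]; exact le_top)
          (by
            rw [Nat.card_zpowers, hord]
            obtain ⟨k, hk⟩ := (hQ.to_subgroup (frattini Q)).exists_card_eq
            rw [hk]
            exact Nat.Coprime.pow_right k hb.coprime_two_right)
          (by
            intro x hx q hq
            rw [← hΦ]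
            obtain ⟨j, rfl⟩ := Subgroup.mem_zpowers_iff.1 hx
            exact (hker _).1 (by
              rw [map_zpow, map_pow, MonoidHom.mem_ker.1 hm, one_pow, one_zpow]) q hq)
        intro x hx
        have h6 := h5 (Subgroup.mem_zpowers _)
        exact ((Subgroup.mem_centralizer_iff.1 h6) x hx).symm
      obtain ⟨k, hk⟩ := hQ ⟨_, hmem2⟩
      have hk' : (m ^ 2 ^ a) ^ 2 ^ k = 1 := congrArg Subtype.val hk
      have h7 : orderOf (m ^ 2 ^ a) ∣ 2 ^ k := orderOf_dvd_of_pow_eq_one hk'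
      rw [hord] at h7
      have h8 : b = 1 := Nat.Coprime.eq_one_of_dvd (Nat.Coprime.pow_right k hb.coprime_two_right) h7
      rw [← orderOf_eq_one_iff, hord, h8]
    intro m hm
    exact hO2 ρ₀.ker inferInstance hK2 (MonoidHom.mem_ker.2 hm)
  let ρ : M ⧸ Q →* MulAut W := QuotientGroup.lift Q ρ₀ hQker
  have hρm : ∀ m : M, ρ (m : M ⧸ Q) = ρ₀ m := fun m => rfl
  refine ⟨W, cg, inferInstance, ρ, ?_, ?_, ?_, ?_⟩
  · intro v
    obtain ⟨q, hq, hqv⟩ := hWmem v
    apply Subtype.ext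
    change (v : M ⧸ Φ) * v = 1
    rw [← hqv, ← map_mul, ← sq]
    exact (QuotientGroup.eq_one_iff _).2 (hsq q hq)
  · by_contra hnt
    rw [not_nontrivial_iff_subsingleton] at hnt
    have hQΦ : Q ≤ Φ := by
      intro q hq
      have h2 : (⟨_, hmem q hq⟩ : W) = 1 := Subsingleton.elim _ _
      exact (QuotientGroup.eq_one_iff _).1 (congrArg Subtype.val h2)
    have htop : frattini Q = ⊤ := by
      rw [eq_top_iff]
      intro x _
      have h3 := hQΦ x.2
      rw [hΦ] at h3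
      obtain ⟨y, hy, hyx⟩ := h3
      have : y = x := Subtype.ext hyx
      rwa [← this]
    have h4 := frattini_nongenerating (K := (⊥ : Subgroup Q)) (by rw [htop]; simp)
    apply h1
    rw [eq_bot_iff]
    intro q hq
    have h5 : (⟨q, hq⟩ : Q) ∈ (⊥ : Subgroup Q) := by rw [h4]; trivial
    rw [Subgroup.mem_bot] at h5 ⊢
    exact congrArg Subtype.val h5
  · rw [injective_iff_map_eq_one]
    intro x hx
    obtain ⟨m, rfl⟩ := QuotientGroup.mk_surjective x
    rw [hρm] at hx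
    exact (QuotientGroup.eq_one_iff m).2 (hkerQ m hx)
  · intro x hx v hv
    obtain ⟨m, hm, rfl⟩ := Cfsg.Agent.Characters.CNBasic.exists_lift (p := 2) (q := 3) (by norm_num) Q hQ x
      (by rw [← hx]; exact pow_orderOf_eq_one x) (by
        rintro rfl
        rw [orderOf_one] at hx
        norm_num at hx)
    rw [hρm] at hv
    obtain ⟨q, hq, hqv⟩ := hWmem v
    have hfix : m * q * m⁻¹ * q⁻¹ ∈ Φ := by
      have h2 := hρ₀ m v
      rw [hv, ← hqv, ← map_inv, ← map_mul, ← map_mul, hmk] at h2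
      have h3 := hΦn.conj_mem _ h2 q
      have h4 : m * q * m⁻¹ * q⁻¹ = q * (q⁻¹ * (m * q * m⁻¹)) * q⁻¹ := by group
      rw [h4]
      exact h3
    have hcard3 : ¬ 3 ∣ Nat.card Φ := by
      intro h3
      have h4 : Nat.card Φ = Nat.card (frattini Q) := by
        rw [hΦ]
        exact Nat.card_congr ((frattini Q).equivMapOfInjective _ Q.subtype_injective).symm.toEquiv
      rw [h4] at h3
      have := Nat.eq_one_of_dvd_coprimes hodd h3 dvd_rfl
      norm_num at this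
    have hall : ∀ a ∈ Subgroup.zpowers m, q⁻¹ * (a * q * a⁻¹) ∈ Φ := by
      -- the elements a with a q a⁻¹ ≡ q mod Φ form a subgroup
      intro a ha
      have hcm : Commute ((QuotientGroup.mk' Φ) m) ((QuotientGroup.mk' Φ) q) := by
        change _ * _ = _ * _
        rw [← map_mul, ← map_mul]
        symm
        rw [hmk]
        have h3 := hΦn.conj_mem _ hfix (m⁻¹ * q⁻¹)
        have h4 : (q * m)⁻¹ * (m * q) = (m⁻¹ * q⁻¹) * (m * q * m⁻¹ * q⁻¹) * (m⁻¹ * q⁻¹)⁻¹ := by group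
        rw [h4]
        exact h3
      obtain ⟨j, rfl⟩ := Subgroup.mem_zpowers_iff.1 ha
      have h5 : Commute ((QuotientGroup.mk' Φ) (m ^ j)) ((QuotientGroup.mk' Φ) q) := by
        rw [map_zpow]
        exact hcm.zpow_left j
      rw [← hmk, map_mul, map_mul, map_inv, h5.eq, mul_inv_cancel_right]
    obtain ⟨c, hc1, hc2⟩ := Cfsg.Agent.Lib.CoprimeCommutator.exists_fixed_in_coset 3 (Subgroup.zpowers m) Φ
      (IsPGroup.of_card (n := 1) (by rw [Nat.card_zpowers, hm, pow_one]))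
      (by rw [Subgroup.normalizer_eq_top]; exact le_top) hcard3 q hall
    have hcQ : c ∈ Q := by
      have := Q.mul_mem hq (hΦQ hc2)
      rwa [mul_inv_cancel_left] at this
    have hcm : m * c = c * m := Subgroup.mem_centralizer_iff.1 hc1 m (Subgroup.mem_zpowers m)
    have hc0 : c = 1 := hfpf m hm c hcQ hcm
    rw [hc0, mul_one] at hc2
    have hqΦ : q ∈ Φ := (Subgroup.inv_mem_iff _).1 hc2
    apply Subtype.ext
    rw [← hqv]
    exact (QuotientGroup.eq_one_iff _).2 hqΦ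

end Abs

section Transport

theorem comm_eq_one {G : Type*} [Group G] (h : NoSix G) {x u : G} (hx : orderOf x = 3) {k : ℕ}
    (hu : u ^ 2 ^ k = 1) (hc : x * u = u * x) : u = 1 := by
  by_contra hu1
  obtain ⟨j, hj⟩ := LieExceptional.CITCommute.exists_involution hu hu1
  have hcm : Commute x (u ^ j) := Commute.pow_right hc j
  apply h (x * u ^ j)
  rw [hcm.orderOf_mul_eq_mul_orderOf_of_coprime (by rw [hx, hj]; norm_num), hx, hj]

theorem oddCyc_of_injective {G H : Type*} [Group G] [Finite G] [Group H] (h : OddCyc G) (f : H →* G)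
    (hf : Function.Injective f) : OddCyc H := by
  intro p P hp hp2
  obtain ⟨S, hS⟩ := (P.isPGroup'.map f).exists_le_sylow
  have := h p S hp hp2
  exact isCyclic_of_injective ((f.comp (P : Subgroup H).subtype).codRestrict (S : Subgroup G) fun x =>
    hS ⟨x, x.2, rfl⟩) (fun x y hxy => Subtype.ext (hf (congrArg Subtype.val hxy)))

theorem oddCyc_of_surjective {G H : Type*} [Group G] [Finite G] [Group H] (h : OddCyc G) (f : G →* H)
    (hf : Function.Surjective f) : OddCyc H := by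
  intro p P hp hp2
  have : Fact p.Prime := ⟨hp⟩
  have : Finite H := Finite.of_surjective f hf
  obtain ⟨S⟩ : Nonempty (Sylow p G) := inferInstance
  have hS := h p S hp hp2
  have h1 : IsCyclic ((S : Subgroup G).map f) :=
    isCyclic_of_surjective (f.subgroupMap (S : Subgroup G)) (f.subgroupMap_surjective _)
  have e : (S.mapSurjective hf) ≃* P := Sylow.equiv _ _
  have h2 : IsCyclic (S.mapSurjective hf) := h1
  exact isCyclic_of_surjective e.toMonoidHom e.surjective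

theorem K1.congr {K K' : Type*} [Group K] [Group K'] (e : K ≃* K') (h : K1 K) : K1 K' := by
  rcases h with ⟨F, _, _, h1, h2, ⟨f⟩⟩ | ⟨F, _, _, f, h1, h2, ⟨g⟩⟩ | ⟨F, _, _, m, h1, h2, ⟨g⟩⟩ | ⟨g, hg⟩
  · exact Or.inl ⟨F, _, _, h1, h2, ⟨e.symm.trans f⟩⟩
  · exact Or.inr (Or.inl ⟨F, _, _, f, h1, h2, ⟨e.symm.trans g⟩⟩)
  · exact Or.inr (Or.inr (Or.inl ⟨F, _, _, m, h1, h2, ⟨e.symm.trans g⟩⟩))
  · exact Or.inr (Or.inr (Or.inr ⟨e g, by rw [← hg]; exact orderOf_injective e.toMonoidHom e.injective g⟩))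

/-- sections of quotients of proper subgroups -/
theorem kSec_of_surjective {G : Type u} [Group G] (hG : KProper G) {L : Subgroup G} (hL : L ≠ ⊤)
    {H : Type u} [Group H] (f : L →* H) (hf : Function.Surjective f) : KSec H := by
  intro A N hN hs hnab
  let B : Subgroup G := (A.comap f).map L.subtype
  have hB : B ≠ ⊤ := by
    intro h
    apply hL
    rw [eq_top_iff, ← h]
    exact Subgroup.map_subtype_le _
  let e : (A.comap f) ≃* B := (A.comap f).equivMapOfInjective L.subtype L.subtype_injective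
  let ψ : B →* A := (f.subgroupComap A).comp e.symm.toMonoidHom
  have hψ : Function.Surjective ψ :=
    (f.subgroupComap_surjective_of_surjective A hf).comp e.symm.surjective
  let χ : B →* A ⧸ N := (QuotientGroup.mk' N).comp ψ
  have hχ : Function.Surjective χ := (QuotientGroup.mk'_surjective N).comp hψ
  let E : B ⧸ χ.ker ≃* A ⧸ N := QuotientGroup.quotientKerEquivOfSurjective χ hχ
  have hs' : IsSimpleGroup (B ⧸ χ.ker) := E.isSimpleGroup
  refine K1.congr E (hG B hB χ.ker hs' ?_)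
  obtain ⟨a, b, hab⟩ := hnab
  refine ⟨E.symm a, E.symm b, fun h => hab ?_⟩
  rw [← map_mul, ← map_mul] at h
  exact E.symm.injective h

theorem noSix_quotient {M : Type*} [Group M] [Finite M] (h : NoSix M) (Q : Subgroup M) [Q.Normal]
    (hQ : IsPGroup 2 Q) : NoSix (M ⧸ Q) := by
  have : Fact (Nat.Prime 2) := ⟨Nat.prime_two⟩
  have : Fact (Nat.Prime 3) := ⟨Nat.prime_three⟩
  intro g hg
  have h3 : orderOf (g ^ 2) = 3 := by rw [orderOf_pow' g (by norm_num), hg]; norm_num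
  have h2 : orderOf (g ^ 3) = 2 := by rw [orderOf_pow' g (by norm_num), hg]; norm_num
  obtain ⟨x, hx, hxg⟩ := Cfsg.Agent.Characters.CNBasic.exists_lift (p := 2) (q := 3) (by norm_num) Q hQ (g ^ 2)
    (by rw [← h3]; exact pow_orderOf_eq_one _) (by
      intro h
      rw [h, orderOf_one] at h3
      norm_num at h3)
  obtain ⟨y, hy⟩ := QuotientGroup.mk_surjective (g ^ 3)
  have hcm : Commute ((QuotientGroup.mk' Q) x) ((QuotientGroup.mk' Q) y) := by
    change Commute (x : M ⧸ Q) (y : M ⧸ Q)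
    rw [hxg, hy]
    exact Commute.pow_pow_self g 2 3
  have hall : ∀ a ∈ Subgroup.zpowers x, y⁻¹ * (a * y * a⁻¹) ∈ Q := by
    intro a ha
    obtain ⟨j, rfl⟩ := Subgroup.mem_zpowers_iff.1 ha
    have h5 : Commute ((QuotientGroup.mk' Q) (x ^ j)) ((QuotientGroup.mk' Q) y) := by
      rw [map_zpow]
      exact hcm.zpow_left j
    rw [← QuotientGroup.eq]
    change (QuotientGroup.mk' Q) y = (QuotientGroup.mk' Q) _
    rw [map_mul, map_mul, map_inv, h5.eq, mul_inv_cancel_right]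
  have hcard3 : ¬ 3 ∣ Nat.card Q := by
    obtain ⟨k, hk⟩ := hQ.exists_card_eq
    rw [hk]
    intro h
    exact absurd (Nat.prime_three.dvd_of_dvd_pow h) (by norm_num)
  obtain ⟨c, hc1, hc2⟩ := Cfsg.Agent.Lib.CoprimeCommutator.exists_fixed_in_coset 3 (Subgroup.zpowers x) Q
    (IsPGroup.of_card (n := 1) (by rw [Nat.card_zpowers, hx, pow_one]))
    (by rw [Subgroup.normalizer_eq_top]; exact le_top) hcard3 y hall
  have hcy : (c : M ⧸ Q) = g ^ 3 := by rw [← hy]; exact (QuotientGroup.eq.2 hc2).symm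
  have hc2Q : c ^ 2 ∈ Q := by
    rw [← QuotientGroup.eq_one_iff, QuotientGroup.mk_pow, hcy, ← h2]
    exact pow_orderOf_eq_one _
  obtain ⟨k, hk⟩ := hQ ⟨_, hc2Q⟩
  have hk' : (c ^ 2) ^ 2 ^ k = 1 := congrArg Subtype.val hk
  have hc0 : c = 1 := comm_eq_one h hx (k := k + 1) (by rw [pow_succ', pow_mul]; exact hk')
    (Subgroup.mem_centralizer_iff.1 hc1 x (Subgroup.mem_zpowers x))
  rw [hc0] at hcy
  rw [← hcy] at h2
  rw [QuotientGroup.mk_one, orderOf_one] at h2
  norm_num at h2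

theorem noSix_subgroup {G : Type*} [Group G] (h : NoSix G) (M : Subgroup G) : NoSix M := fun g hg =>
  h g (by rw [← hg]; exact Subgroup.orderOf_coe g)

/-- `O₂(SL₂(F)) = 1` in characteristic 2 -/
theorem sl2_o2 {F : Type*} [Field F] [Fintype F] [CharP F 2]
    (N : Subgroup (Matrix.SpecialLinearGroup (Fin 2) F)) (hN : N.Normal) (h2 : IsPGroup 2 N) : N = ⊥ := by
  by_contra hne
  obtain ⟨a, ha1⟩ := Subgroup.ne_bot_iff_exists_ne_one.1 hne
  obtain ⟨k, hk⟩ := h2 a
  obtain ⟨j, hj⟩ := LieExceptional.CITCommute.exists_involution (y := (a : Matrix.SpecialLinearGroup (Fin 2) F))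
    (congrArg Subtype.val hk) (fun h => ha1 (Subtype.ext h))
  obtain ⟨x, hx, hax⟩ := T1Sl2.inverts_three (a := (a : Matrix.SpecialLinearGroup (Fin 2) F) ^ j)
    (by
      have h := pow_orderOf_eq_one ((a : Matrix.SpecialLinearGroup (Fin 2) F) ^ j)
      rw [hj, sq] at h
      exact h) (by
      intro h
      rw [h, orderOf_one] at hj
      norm_num at hj)
  have hb : (a : Matrix.SpecialLinearGroup (Fin 2) F) ^ j ∈ N := N.pow_mem a.2 j
  set b := (a : Matrix.SpecialLinearGroup (Fin 2) F) ^ j with hb'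
  have h1 : x⁻¹ * x⁻¹ ∈ N := by
    have h3 := N.mul_mem hb (hN.conj_mem _ (N.inv_mem hb) x)
    have h4 : b * (x * b⁻¹ * x⁻¹) = (b * x * b⁻¹) * x⁻¹ := by group
    rw [h4, hax] at h3
    exact h3
  have h5 : x⁻¹ * x⁻¹ = x := by
    have h6 : x ^ 3 = 1 := by rw [← hx]; exact pow_orderOf_eq_one x
    rw [inv_mul_eq_iff_eq_mul, inv_eq_iff_mul_eq_one, ← h6, pow_succ, sq, mul_assoc]
  rw [h5] at h1
  obtain ⟨l, hl⟩ := h2 ⟨x, h1⟩
  have hl' : x ^ 2 ^ l = 1 := congrArg Subtype.val hl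
  have h7 : orderOf x ∣ 2 ^ l := orderOf_dvd_of_pow_eq_one hl'
  rw [hx] at h7
  exact absurd (Nat.prime_three.dvd_of_dvd_pow h7) (by norm_num)

end Transport

section Main

open Cfsg.Agent.LieExceptional.CITGlobal Cfsg.Agent.LieExceptional.CITBasic

theorem types {G : Type u} [Group G] [Finite G] [IsSimpleGroup G] (hG : Hyp G) {M Q T : Subgroup G}
    (hM : IsMaxLocal M) (hQ : IsO2 M Q) (hT : IsSyl2 M T) :
    T = Q ∨ (∃ P q, ThreeType M P Q T q) ∨ ¬ 3 ∣ Nat.card M := by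
  classical
  have : Fact (Nat.Prime 2) := ⟨Nat.prime_two⟩
  have : Fact (Nat.Prime 3) := ⟨Nat.prime_three⟩
  by_cases h3 : 3 ∣ Nat.card M
  swap
  · exact Or.inr (Or.inr h3)
  have hQT : Q ≤ T := isO2_le_isSyl2 hQ hT
  obtain ⟨X, hX1, hX, hNX⟩ := exists_o2 hM
  obtain rfl := isO2_unique hX hQ
  have hcent : Subgroup.centralizer (X : Set G) ≤ X := hG.char2 X X hX.two hX1 (by rw [hNX]; exact hX)
  have hMtop : M ≠ ⊤ := by
    rintro rfl
    have hn : X.Normal := ⟨fun x hx g => hX.normal g trivial x hx⟩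
    have h4 := (hn.eq_bot_or_eq_top).resolve_left hX1
    obtain ⟨k, hk⟩ := hX.two.exists_card_eq
    rw [h4, ] at hk
    rw [hk] at h3
    exact absurd (Nat.prime_three.dvd_of_dvd_pow h3) (by norm_num)
  have hfpf : ∀ x : G, orderOf x = 3 → ∀ u ∈ X, x * u = u * x → u = 1 := by
    intro x hx u hu hc
    obtain ⟨k, hk⟩ := hX.two ⟨u, hu⟩
    exact comm_eq_one hG.nosix hx (congrArg Subtype.val hk) hc
  have hnotX : ∀ x : G, orderOf x = 3 → x ∉ X := by
    intro x hx hxX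
    have := hfpf x hx x hxX rfl
    rw [this, orderOf_one] at hx
    norm_num at hx
  -- the quotient
  obtain ⟨Y, hY⟩ : ∃ Y : Subgroup M, Y = X.subgroupOf M := ⟨_, rfl⟩
  have hmemY : ∀ m : M, m ∈ Y ↔ (m : G) ∈ X := fun m => by rw [hY, Subgroup.mem_subgroupOf]
  have hYn : Y.Normal := ⟨fun y hy g => by
    rw [hmemY] at hy ⊢
    exact hX.normal g g.2 _ hy⟩
  have hY2 : IsPGroup 2 Y := by
    rintro ⟨y, hy⟩
    obtain ⟨k, hk⟩ := hX.two ⟨y, (hmemY y).1 hy⟩
    have hk' : (y : G) ^ 2 ^ k = 1 := congrArg Subtype.val hk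
    exact ⟨k, Subtype.ext (Subtype.ext hk')⟩
  have hYc : ∀ m : M, (∀ x ∈ Y, m * x = x * m) → m ∈ Y := by
    intro m hm
    rw [hmemY]
    apply hcent
    rw [Subgroup.mem_centralizer_iff]
    intro x hx
    exact (congrArg Subtype.val (hm ⟨x, hX.le hx⟩ ((hmemY _).2 hx))).symm
  have hYmax : ∀ N : Subgroup M, N.Normal → IsPGroup 2 N → N ≤ Y := by
    intro N hN hN2
    have h4 := hX.max (N.map M.subtype) (Subgroup.map_subtype_le N) (hN2.map _) (by
      rintro m hm _ ⟨y, hy, rfl⟩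
      exact ⟨_, hN.conj_mem y hy ⟨m, hm⟩, rfl⟩)
    intro y hy
    rw [hmemY]
    exact h4 ⟨y, hy, rfl⟩
  have hYbot : Y ≠ ⊥ := by
    intro h
    apply hX1
    rw [eq_bot_iff]
    intro x hx
    have h4 : (⟨x, hX.le hx⟩ : M) ∈ Y := (hmemY _).2 hx
    rw [h, Subgroup.mem_bot] at h4
    rw [Subgroup.mem_bot]
    exact congrArg Subtype.val h4
  obtain ⟨V, _, _, ρ, hV, hV1, hρ, hρ3⟩ := exists_action Y hY2 hYc hYmax hYbot (by
    intro x hx u hu hc
    apply Subtype.ext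
    exact hfpf x (by rw [← hx]; exact Subgroup.orderOf_coe x) u ((hmemY u).1 hu) (congrArg Subtype.val hc))
  obtain ⟨π, hπ⟩ : ∃ π : M →* M ⧸ Y, π = QuotientGroup.mk' Y := ⟨_, rfl⟩
  have hπs : Function.Surjective π := by rw [hπ]; exact QuotientGroup.mk'_surjective Y
  have hπ1 : ∀ m, π m = 1 ↔ m ∈ Y := fun m => by
    rw [hπ]
    exact QuotientGroup.eq_one_iff m
  have hπe : ∀ m m', π m = π m' ↔ m⁻¹ * m' ∈ Y := fun m m' => by
    rw [hπ]
    exact QuotientGroup.eq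
  have hO2' : ∀ N : Subgroup (M ⧸ Y), N.Normal → IsPGroup 2 N → N = ⊥ := by
    intro N hN hN2
    have h4 : IsPGroup 2 (N.comap π) := by
      apply hN2.comap_of_ker_isPGroup
      have : π.ker = Y := by
        ext m
        rw [MonoidHom.mem_ker, hπ1]
      rw [this]
      exact hY2
    have h5 := hYmax _ (hN.comap π) h4
    rw [eq_bot_iff]
    intro n hn
    obtain ⟨m, rfl⟩ := hπs n
    rw [Subgroup.mem_bot, hπ1]
    exact h5 hn
  have hoc : OddCyc (M ⧸ Y) :=
    oddCyc_of_surjective (oddCyc_of_injective hG.cyc M.subtype M.subtype_injective) π hπs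
  have hks : KSec (M ⧸ Y) := kSec_of_surjective hG.kproper hMtop π hπs
  have hns : NoSix (M ⧸ Y) := noSix_quotient (noSix_subgroup hG.nosix M) Y hY2
  have h3' : 3 ∣ Nat.card (M ⧸ Y) := by
    rw [Subgroup.card_eq_card_quotient_mul_card_subgroup Y] at h3
    obtain ⟨k, hk⟩ := hY2.exists_card_eq
    rw [hk] at h3
    rcases (Nat.prime_three.dvd_mul).1 h3 with h | h
    · exact h
    · exact absurd (Nat.prime_three.dvd_of_dvd_pow h) (by norm_num)
  -- lifting elements of order 3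
  have hlift : ∀ x : M ⧸ Y, orderOf x = 3 → ∃ y : M, orderOf y = 3 ∧ π y = x := by
    intro x hx
    rw [hπ]
    exact Cfsg.Agent.Characters.CNBasic.exists_lift (p := 2) (q := 3) (by norm_num) Y hY2 x
      (by rw [← hx]; exact pow_orderOf_eq_one _) (by
        intro h
        rw [h, orderOf_one] at hx
        norm_num at hx)
  have hpush : ∀ y : M, orderOf y = 3 → orderOf (π y) = 3 := by
    intro y hy
    have h4 : π y ^ 3 = 1 := by rw [← map_pow, ← hy, pow_orderOf_eq_one, map_one]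
    apply orderOf_eq_prime h4
    intro h5
    rw [hπ1, hmemY] at h5
    exact hnotX y (by rw [← hy]; exact Subgroup.orderOf_coe y) h5
  obtain ⟨S, hS⟩ : ∃ S : Sylow 2 M, ∀ m : M, m ∈ S ↔ (m : G) ∈ T :=
    ⟨IsSyl2.toSylow hT, fun m => Subgroup.mem_subgroupOf⟩
  rcases T1StructQ.structure_quotient hV hV1 ρ hρ hO2' hρ3 hoc hks hns h3' with hodd | hmain
  · left
    apply le_antisymm _ hQT
    intro t ht
    obtain ⟨k, hk⟩ := hT.two ⟨t, ht⟩
    have hk' : t ^ 2 ^ k = 1 := congrArg Subtype.val hk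
    have h4 : π ⟨t, hT.le ht⟩ = 1 := by
      rw [← orderOf_eq_one_iff]
      have h5 : orderOf (π ⟨t, hT.le ht⟩) ∣ 2 ^ k := orderOf_dvd_of_pow_eq_one (by
        rw [← map_pow]
        have : (⟨t, hT.le ht⟩ : M) ^ 2 ^ k = 1 := Subtype.ext hk'
        rw [this, map_one])
      have h6 : orderOf (π ⟨t, hT.le ht⟩) ∣ Nat.card (M ⧸ Y) := orderOf_dvd_natCard _
      exact Nat.eq_one_of_dvd_coprimes (Nat.Coprime.pow_left k hodd.coprime_two_left) h5 h6
    rw [hπ1, hmemY] at h4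
    exact h4
  · right
    left
    obtain ⟨L, hL, ⟨F, _, _, _, ⟨e⟩, hLn⟩, hti⟩ := hmain (S.mapSurjective hπs)
    have hSmem : ∀ x, x ∈ (S.mapSurjective hπs : Subgroup (M ⧸ Y)) ↔ ∃ m : M, (m : G) ∈ T ∧ π m = x := by
      intro x
      rw [Sylow.coe_mapSurjective]
      constructor
      · rintro ⟨m, hm, rfl⟩
        exact ⟨m, (hS m).1 hm, rfl⟩
      · rintro ⟨m, hm, rfl⟩
        exact ⟨m, (hS m).2 hm, rfl⟩
    obtain ⟨P, hP⟩ : ∃ P : Subgroup G, P = (L.comap π).map M.subtype := ⟨_, rfl⟩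
    have hmemP : ∀ g : G, g ∈ P ↔ ∃ h : g ∈ M, π ⟨g, h⟩ ∈ L := by
      intro g
      rw [hP]
      constructor
      · rintro ⟨m, hm, rfl⟩
        exact ⟨m.2, hm⟩
      · rintro ⟨h, h4⟩
        exact ⟨⟨g, h⟩, h4, rfl⟩
    have hPM : P ≤ M := fun g hg => ((hmemP g).1 hg).1
    have hXP : X ≤ P := fun x hx => (hmemP x).2 ⟨hX.le hx, by
      rw [(hπ1 _).2 ((hmemY _).2 hx)]
      exact L.one_mem⟩
    have hTP : T ≤ P := fun t ht => (hmemP t).2 ⟨hT.le ht, by
      rw [hL]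
      exact Subgroup.mem_sup_left ((hSmem _).2 ⟨_, ht, rfl⟩)⟩
    let φ : P →* L := (π.comp (Subgroup.inclusion hPM)).codRestrict L fun p => ((hmemP p).1 p.2).2
    have hφ : ∀ p : P, ((φ p : L) : M ⧸ Y) = π ⟨p, hPM p.2⟩ := fun p => rfl
    have hφs : Function.Surjective φ := by
      rintro ⟨l, hl⟩
      obtain ⟨m, rfl⟩ := hπs l
      exact ⟨⟨m, (hmemP m).2 ⟨m.2, hl⟩⟩, rfl⟩
    have hφ1 : ∀ p : P, φ p = 1 ↔ (p : G) ∈ X := by
      intro p
      rw [← hmemY ⟨p, hPM p.2⟩, ← hπ1, ← hφ]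
      exact ⟨fun h => by rw [h]; rfl, fun h => Subtype.ext h⟩
    have hψs : Function.Surjective (e.toMonoidHom.comp φ) := e.surjective.comp hφs
    have hψ1 : ∀ p : P, (e.toMonoidHom.comp φ) p = 1 ↔ (p : G) ∈ X := by
      intro p
      rw [← hφ1]
      exact e.map_eq_one_iff
    refine ⟨P, Fintype.card F, hPM, hX, hT, ⟨?_, ?_, ?_, ?_⟩, ?_, ?_, ?_, ?_⟩
    · -- O₂(P) = X
      refine ⟨hXP, hX.two, fun m hm => hX.normal m (hPM hm), ?_⟩
      intro Z hZP hZ2 hZn
      have h4 : (Z.subgroupOf P).map (e.toMonoidHom.comp φ) = ⊥ := by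
        apply sl2_o2
        · apply Subgroup.Normal.map _ _ hψs
          exact ⟨fun z hz g => by
            rw [Subgroup.mem_subgroupOf] at hz ⊢
            exact hZn g g.2 _ hz⟩
        · apply IsPGroup.map
          exact hZ2.of_injective (Subgroup.subgroupOfEquivOfLe hZP).toMonoidHom
            (Subgroup.subgroupOfEquivOfLe hZP).injective
      intro z hz
      rw [← hψ1 ⟨z, hZP hz⟩]
      rw [← Subgroup.mem_bot, ← h4]
      exact ⟨⟨z, hZP hz⟩, Subgroup.mem_subgroupOf.2 hz, rfl⟩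
    · exact ⟨hTP, hT.two, fun Z hZ hZ2 hTZ => hT.max Z (hZ.trans hPM) hZ2 hTZ⟩
    · refine ⟨F, inferInstance, inferInstance, inferInstance, e.toMonoidHom.comp φ, hψs, ?_, rfl⟩
      ext p
      rw [MonoidHom.mem_ker, hψ1, Subgroup.mem_subgroupOf]
    · exact fun x _ hx u hu hc => hfpf x hx u hu hc
    · exact fun x _ hx u hu hc => hfpf x hx u hu hc
    · -- generation
      obtain ⟨R, hR⟩ : ∃ R : Subgroup G, R = T ⊔ Subgroup.closure {x : G | x ∈ M ∧ orderOf x = 3} := ⟨_, rfl⟩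
      rw [← hR]
      have hTR : T ≤ R := by rw [hR]; exact le_sup_left
      have hR3 : ∀ x ∈ M, orderOf x = 3 → x ∈ R := fun x hx hx3 => by
        rw [hR]
        exact Subgroup.mem_sup_right (Subgroup.subset_closure ⟨hx, hx3⟩)
      apply le_antisymm
      · have h4 : L ≤ (R.subgroupOf M).map π := by
          rw [hL]
          apply sup_le
          · intro x hx
            obtain ⟨m, hm, rfl⟩ := (hSmem x).1 hx
            exact ⟨m, Subgroup.mem_subgroupOf.2 (hTR hm), rfl⟩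
          · rw [Subgroup.closure_le]
            intro x hx
            obtain ⟨y, hy, rfl⟩ := hlift x hx
            exact ⟨y, Subgroup.mem_subgroupOf.2 (hR3 y y.2 (by rw [← hy]; exact Subgroup.orderOf_coe y)), rfl⟩
        intro p hp
        obtain ⟨hpM, hpL⟩ := (hmemP p).1 hp
        obtain ⟨r, hr, hrp⟩ := h4 hpL
        rw [hπe, hmemY] at hrp
        have h5 := R.mul_mem (Subgroup.mem_subgroupOf.1 hr) (hTR (hQT hrp))
        have h6 : (r : G) * ((r⁻¹ * ⟨p, hpM⟩ : M) : G) = p := by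
          rw [Subgroup.coe_mul, Subgroup.coe_inv, mul_inv_cancel_left]
        rwa [h6] at h5
      · rw [hR]
        apply sup_le hTP
        rw [Subgroup.closure_le]
        rintro x ⟨hx, hx3⟩
        refine (hmemP x).2 ⟨hx, ?_⟩
        rw [hL]
        apply Subgroup.mem_sup_right
        apply Subgroup.subset_closure
        exact hpush ⟨x, hx⟩ (by rw [← hx3]; exact (Subgroup.orderOf_coe (⟨x, hx⟩ : M)).symm)
    · -- TI
      rintro g hg ⟨x, hx, hxX, hgx⟩
      by_contra hcon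
      push Not at hcon
      obtain ⟨y, hy, hgy⟩ := hcon
      have hne : (π ⟨g, hg⟩ • (S.mapSurjective hπs) : Sylow 2 (M ⧸ Y)) ≠ S.mapSurjective hπs := by
        intro heq
        apply hgy
        have h4 : π ⟨g, hg⟩ * π ⟨y, hT.le hy⟩ * (π ⟨g, hg⟩)⁻¹ ∈ (S.mapSurjective hπs : Subgroup (M ⧸ Y)) := by
          rw [← heq]
          exact ⟨π ⟨y, hT.le hy⟩, (hSmem _).2 ⟨_, hy, rfl⟩, rfl⟩
        obtain ⟨m, hm, hme⟩ := (hSmem _).1 h4
        rw [← map_inv, ← map_mul, ← map_mul, hπe, hmemY] at hme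
        have h5 := T.mul_mem hm (hQT hme)
        have h6 : (m : G) * ((m⁻¹ * (⟨g, hg⟩ * ⟨y, hT.le hy⟩ * ⟨g, hg⟩⁻¹) : M) : G) = g * y * g⁻¹ := by
          rw [Subgroup.coe_mul, Subgroup.coe_inv, mul_inv_cancel_left]
          rfl
        rwa [h6] at h5
      have h7 := hti _ hne
      have h8 : π (⟨g, hg⟩ * ⟨x, hT.le hx⟩ * ⟨g, hg⟩⁻¹) ∈ ((S.mapSurjective hπs : Subgroup (M ⧸ Y)) ⊓
          (π ⟨g, hg⟩ • (S.mapSurjective hπs) : Sylow 2 (M ⧸ Y)) : Subgroup (M ⧸ Y)) := by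
        refine ⟨(hSmem _).2 ⟨_, hgx, rfl⟩, ?_⟩
        exact ⟨π ⟨x, hT.le hx⟩, (hSmem _).2 ⟨_, hx, rfl⟩, by
          rw [map_mul, map_mul, map_inv]
          rfl⟩
      rw [h7, Subgroup.mem_bot, hπ1, hmemY] at h8
      apply hxX
      have h9 := hX.normal g⁻¹ (M.inv_mem hg) _ h8
      have h10 : g⁻¹ * ((⟨g, hg⟩ * ⟨x, hT.le hx⟩ * ⟨g, hg⟩⁻¹ : M) : G) * g⁻¹⁻¹ = x := by
        change g⁻¹ * (g * x * g⁻¹) * g⁻¹⁻¹ = x
        group
      rwa [h10] at h9
    · intro hq m hm p hp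
      have hn := hLn hq
      obtain ⟨hpM, hpL⟩ := (hmemP p).1 hp
      refine (hmemP _).2 ⟨M.mul_mem (M.mul_mem hm hpM) (M.inv_mem hm), ?_⟩
      have h4 := hn.conj_mem _ hpL (π ⟨m, hm⟩)
      rw [← map_inv, ← map_mul, ← map_mul] at h4
      exact h4

end Main

end Cfsg.Agent.OddCyclic.T1Structure
end

-- part: OddCyclic/BTwoLin/Basic
section
set_option linter.all false
open scoped Cfsg.Agent.FastGrp

-- part: OddCyclic/BTwoLin/Defs
section
/-!
# S0342, (E1), case `b = 2`: the abstract module situation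

blueprints/S0342-Ba-helper208.md. `X = C_G(z)/C_{C_G(z)}(M)` acts faithfully on `M = V_1/⟨z⟩` (written multiplicatively),
`f`, `q` are the commutator form and the squaring map with values in `ZMod 2`, `l` is the image of `V`, `D` the image of
`V_1 ∩ V_2`, `A` the image of `C_{V_2}(V)`, `S` a Sylow 2-subgroup of `X`; `|A| = 2 ^ c`, `|D| = 2 ^ (m + 1)`,
`|M| = 2 ^ (c + m + 2)`.
-/

set_option autoImplicit false

namespace Cfsg.Agent.OddCyclic.BTwoLin

open Cfsg.Agent.LieExceptional.CITDefs Cfsg.Agent.OddCyclic.T1Defs Cfsg.Agent.OddCyclic.PumpMain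

/-- The form part: `f` is an `X`-invariant symmetric bilinear form, `q` an `X`-invariant quadratic form with polar form
`f`. -/
structure Form {X M : Type*} [Group X] [CommGroup M] (ρ : X →* MulAut M) (f : M → M → ZMod 2) (q : M → ZMod 2) :
    Prop where
  sq : ∀ x : M, x * x = 1
  f_mul : ∀ x y w, f (x * y) w = f x w + f y w
  f_symm : ∀ x y, f x y = f y x
  q_mul : ∀ x y, q (x * y) = q x + q y + f x y
  f_inv : ∀ g x y, f (ρ g x) (ρ g y) = f x y
  q_inv : ∀ g x, q (ρ g x) = q x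

/-- The abstract situation, `c` arbitrary. -/
structure Lin1 {X M : Type*} [Group X] [CommGroup M] (ρ : X →* MulAut M) (f : M → M → ZMod 2) (q : M → ZMod 2)
    (A S : Subgroup X) (D : Subgroup M) (l : M) (c m : ℕ) : Prop where
  form : Form ρ f q
  faith : ∀ g : X, (∀ x, ρ g x = x) → g = 1
  cyc : OddCyc X
  comps : ∀ J : Subgroup X, IsQuasisimple J → KZero (J ⧸ Subgroup.center J)
  o2 : ∀ N : Subgroup X, N.Normal → IsPGroup 2 N → N = ⊥
  sylS : IsSyl2 ⊤ S
  A_le : A ≤ S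
  A_norm : S ≤ Subgroup.normalizer (A : Set X)
  A_sq : ∀ a ∈ A, a * a = 1
  card_A : Nat.card A = 2 ^ c
  l_ne : l ≠ 1
  l_mem : l ∈ D
  /-- (f4) -/
  l_fix : ∀ g ∈ Subgroup.normalizer (S : Set X), ρ g l = l
  /-- `M` is generated by the orbit of `l` -/
  gen : ∀ N : Subgroup M, (∀ g, ρ g l ∈ N) → N = ⊤
  D_perp : ∀ d ∈ D, f l d = 0
  D_q : ∀ d ∈ D, q d = 0
  D_norm : ∀ g ∈ S, ∀ d ∈ D, ρ g d ∈ D
  exists_not : ∃ x, f l x ≠ 0
  card_M : Nat.card M = 2 ^ (c + m + 2)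
  card_D : Nat.card D = 2 ^ (m + 1)
  m_le : m ≤ c
  /-- (f1) -/
  out : ∀ x, f l x ≠ 0 → ∀ a ∈ A, ρ a x * x⁻¹ ∈ D → a = 1
  perp : ∀ x, f l x = 0 → ∀ a ∈ A, ρ a x * x⁻¹ ∈ D
  dfix : ∀ d ∈ D, ∀ a ∈ A, ρ a d = d ∨ ρ a d = l * d
  dcen : ∀ d ∈ D, (∀ a ∈ A, ρ a d = d) → d = 1 ∨ d = l
  /-- (f2) -/
  rad_D : ∀ d ∈ D, (∀ x, f d x = 0) → d = 1
  rad_A : ∀ r, (∀ x, f r x = 0) → ∀ a ∈ A, ρ a r = r
  /-- (f3) -/
  three : ∀ g : X, orderOf g = 3 → ρ g l ≠ l

/-- The abstract situation, `c ≥ 2`. -/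
structure Lin {X M : Type*} [Group X] [CommGroup M] (ρ : X →* MulAut M) (f : M → M → ZMod 2) (q : M → ZMod 2)
    (A S : Subgroup X) (D : Subgroup M) (l : M) (c m : ℕ) : Prop extends Lin1 ρ f q A S D l c m where
  two_le : 2 ≤ c

end Cfsg.Agent.OddCyclic.BTwoLin
end

-- part: OddCyclic/BTwoLin/Basic
section
/-!
# Basic consequences of `Form` and `Lin1`
-/

set_option autoImplicit false

namespace Cfsg.Agent.OddCyclic.BTwoLin

open Cfsg.Agent.LieExceptional.CITDefs Cfsg.Agent.OddCyclic.T1Defs Cfsg.Agent.OddCyclic.FFBasic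
open Cfsg.Agent.OddCyclic.FFSl2 (stb mem_stb)

variable {X M : Type*} [Group X] [CommGroup M] {ρ : X →* MulAut M} {f : M → M → ZMod 2} {q : M → ZMod 2}

theorem zmod_cases (a : ZMod 2) : a = 0 ∨ a = 1 := by revert a; decide

theorem zmod_ne_zero {a : ZMod 2} : a ≠ 0 ↔ a = 1 := by revert a; decide

theorem zmod_add_self (a : ZMod 2) : a + a = 0 := by revert a; decide

namespace Form

variable (h : Form ρ f q)

include h

theorem inv_eq (x : M) : x⁻¹ = x := inv_eq_of_mul_eq_one_right (h.sq x)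

theorem one_left (y : M) : f 1 y = 0 := by
  have h1 := h.f_mul 1 1 y
  rw [mul_one] at h1
  have h2 : f 1 y + f 1 y = f 1 y + 0 := by rw [add_zero]; exact h1.symm
  exact add_left_cancel h2

theorem one_right (y : M) : f y 1 = 0 := by rw [h.f_symm, h.one_left]

theorem mul_right (x y w : M) : f x (y * w) = f x y + f x w := by
  rw [h.f_symm, h.f_mul, h.f_symm y, h.f_symm w]

theorem q_one : q 1 = 0 := by
  have h1 := h.q_mul 1 1
  rw [mul_one, h.one_left, add_zero] at h1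
  have h2 : q 1 + q 1 = q 1 + 0 := by rw [add_zero]; exact h1.symm
  exact add_left_cancel h2

theorem self (x : M) : f x x = 0 := by
  have h1 := h.q_mul x x
  rw [h.sq, h.q_one, zmod_add_self, zero_add] at h1
  exact h1.symm

theorem inv_left (x y : M) : f x⁻¹ y = f x y := by rw [h.inv_eq]

theorem q_comm_eq {x y : M} (hx : q x = 0) (hy : q y = 0) (hxy : q (x * y) = 0) : f x y = 0 := by
  rw [h.q_mul, hx, hy, zero_add, zero_add] at hxy
  exact hxy

omit h in
/-- `x^⊥` -/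
def perp (h : Form ρ f q) (x : M) : Subgroup M where
  carrier := {y | f x y = 0}
  one_mem' := h.one_right x
  mul_mem' := by
    intro a b ha hb
    change f x (a * b) = 0
    rw [h.mul_right, show f x a = 0 from ha, show f x b = 0 from hb, add_zero]
  inv_mem' := by
    intro a ha
    change f x a⁻¹ = 0
    rw [h.inv_eq]; exact ha

theorem mem_perp {x y : M} : y ∈ h.perp x ↔ f x y = 0 := Iff.rfl

theorem mul_mem_perp {x y w : M} (hy : f x y ≠ 0) (hw : f x w ≠ 0) : f x (y * w) = 0 := by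
  rw [h.mul_right, zmod_ne_zero.1 hy, zmod_ne_zero.1 hw]; decide

theorem index_perp {x : M} (hx : ∃ y, f x y ≠ 0) : (h.perp x).index = 2 := by
  obtain ⟨y, hy⟩ := hx
  rw [Subgroup.index_eq_two_iff]
  refine ⟨y, fun w => ?_⟩
  by_cases hw : f x w = 0
  · right
    refine ⟨hw, fun h1 => hy ?_⟩
    have h2 : f x (w * y) = 0 := h1
    rwa [h.mul_right, hw, zero_add] at h2
  · left
    exact ⟨h.mul_mem_perp hw hy, hw⟩

/-- the radical -/
theorem smul_perp {g : X} {x y : M} (hg : ρ g x = x) : f x (ρ g y) = f x y := by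
  conv_lhs => rw [← hg]
  exact h.f_inv g x y

theorem comm_perp {g : X} {x : M} (hg : ρ g x = x) (y : M) : f x (ρ g y * y⁻¹) = 0 := by
  rw [h.mul_right, h.smul_perp hg, h.inv_eq, zmod_add_self]

end Form

namespace Lin1

variable {A S : Subgroup X} {D : Subgroup M} {l : M} {c m : ℕ} (h : Lin1 ρ f q A S D l c m)

include h

theorem A_comm {a b : X} (ha : a ∈ A) (hb : b ∈ A) : a * b = b * a := by
  have h1 := h.A_sq _ (mul_mem ha hb)
  have h2 := h.A_sq a ha
  have h3 := h.A_sq b hb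
  calc a * b = a * b * 1 := by rw [mul_one]
    _ = a * b * (a * b * (a * b)) := by rw [h1]
    _ = a * b * (a * b) * (a * b) := by group
    _ = a * b := by rw [h1, one_mul]
    _ = (a * b)⁻¹ := (inv_eq_of_mul_eq_one_right h1).symm
    _ = b⁻¹ * a⁻¹ := by group
    _ = b * a := by rw [inv_eq_of_mul_eq_one_right h2, inv_eq_of_mul_eq_one_right h3]

theorem S_fix {g : X} (hg : g ∈ S) : ρ g l = l := h.l_fix g (Subgroup.le_normalizer hg)

theorem A_fix {a : X} (ha : a ∈ A) : ρ a l = l := h.S_fix (h.A_le ha)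

theorem D_iso {d d' : M} (hd : d ∈ D) (hd' : d' ∈ D) : f d d' = 0 :=
  h.form.q_comm_eq (h.D_q d hd) (h.D_q d' hd') (h.D_q _ (mul_mem hd hd'))

theorem comm_perp {a : X} (ha : a ∈ A) (x : M) : f l (ρ a x * x⁻¹) = 0 := h.form.comm_perp (h.A_fix ha) x

/-- `C_M(a) ≤ λ^⊥` -/
theorem fix_perp {a : X} (ha : a ∈ A) (ha1 : a ≠ 1) {x : M} (hx : ρ a x = x) : f l x = 0 := by
  by_contra h1
  refine ha1 (h.out x h1 a ha ?_)
  rw [hx, mul_inv_cancel]; exact one_mem _

theorem card_l_perp [Finite M] : 2 * Nat.card (h.form.perp l) = Nat.card M := by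
  rw [← Subgroup.card_mul_index (h.form.perp l), h.form.index_perp h.exists_not, mul_comm]

theorem D_le : D ≤ h.form.perp l := fun d hd => h.D_perp d hd

end Lin1

end Cfsg.Agent.OddCyclic.BTwoLin
end
end

-- part: OddCyclic/AOneSit
section
prune_inst 0x20300400602200000018000020001c62ca000002004b000130000e00068f1840a0050620c2a00f101002804400340068111000104010000000000000411c01a0002012060040a00021000000a007180c00000000000000000000000000041000000000000
set_option linter.all false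
open scoped Cfsg.Agent.FastGrp

/-!
# S0342, T_cyc: noncommuting `SL₂(q)`-blocks over the Baumann subgroup of a Sylow 2-subgroup, `q = 4`

`Sit S B V W Z x`: `S` is a Sylow 2-subgroup of `G`, `B = VW = C_S(Z)` is normal in `S`, of the type of a Sylow
2-subgroup of `PSL₃(4)`, `x` is an element of order 3 acting fixed point freely on `B`, `N_G(V)` and `N_G(W)` are
transitive on the involutions of `V`, `W`.  (Blueprint S0342-A1-helper199.md, sections 3 to 6.)

This file: elementary facts.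
-/

set_option autoImplicit false

namespace Cfsg.Agent.OddCyclic.AOneSit

open Subgroup
open Cfsg.Agent.LieExceptional Cfsg.Agent.LieExceptional.CITDefs
open Cfsg.Agent.OddCyclic.CompBasic Cfsg.Agent.OddCyclic.CompStandard
open Cfsg.Agent.OddCyclic.T1Defs

variable {G : Type*} [Group G]

/-- the configuration -/
structure Sit (S B V W Z : Subgroup G) (x : G) : Prop where
  syl : IsSyl2 (⊤ : Subgroup G) S
  BS : B ≤ S
  SnB : ∀ s ∈ S, ∀ b ∈ B, s * b * s⁻¹ ∈ B
  centZ : ∀ s ∈ S, (∀ z ∈ Z, s * z = z * s) → s ∈ B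
  VB : V ≤ B
  WB : W ≤ B
  dec : ∀ b ∈ B, ∃ v ∈ V, ∃ w ∈ W, b = v * w
  eV : Elem V
  eW : Elem W
  inf : V ⊓ W = Z
  cV : Nat.card V = 16
  cW : Nat.card W = 16
  cZ : Nat.card Z = 4
  comm : ∀ v ∈ V, ∀ w ∈ W, v * w * v⁻¹ * w⁻¹ ∈ Z
  nc : ∀ v ∈ V, ∀ w ∈ W, v * w = w * v → v ∈ Z ∨ w ∈ Z
  x3 : orderOf x = 3
  xV : ∀ v ∈ V, x * v * x⁻¹ ∈ V
  xW : ∀ w ∈ W, x * w * x⁻¹ ∈ W
  fV : ∀ v ∈ V, x * v = v * x → v = 1
  fW : ∀ w ∈ W, x * w = w * x → w = 1
  trV : ∀ a ∈ V, ∀ b ∈ V, a ≠ 1 → b ≠ 1 → ∃ g : G, (∀ v ∈ V, g * v * g⁻¹ ∈ V) ∧ g * a * g⁻¹ = b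
  trW : ∀ a ∈ W, ∀ b ∈ W, a ≠ 1 → b ≠ 1 → ∃ g : G, (∀ w ∈ W, g * w * g⁻¹ ∈ W) ∧ g * a * g⁻¹ = b

variable {S B V W Z : Subgroup G} {x : G}

namespace Sit

theorem ZV (h : Sit S B V W Z x) : Z ≤ V := h.inf ▸ inf_le_left

theorem ZW (h : Sit S B V W Z x) : Z ≤ W := h.inf ▸ inf_le_right

theorem mem_Z (h : Sit S B V W Z x) {v : G} (hv : v ∈ V) (hw : v ∈ W) : v ∈ Z := by
  rw [← h.inf]; exact ⟨hv, hw⟩

theorem ZB (h : Sit S B V W Z x) : Z ≤ B := h.ZV.trans h.VB

theorem two (h : Sit S B V W Z x) : IsPGroup 2 B := h.syl.two.to_le h.BS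

/-- the roles of `V` and `W` are symmetric -/
theorem symm (h : Sit S B V W Z x) : Sit S B W V Z x where
  syl := h.syl
  BS := h.BS
  SnB := h.SnB
  centZ := h.centZ
  VB := h.WB
  WB := h.VB
  dec := by
    intro b hb
    obtain ⟨v, hv, w, hw, he⟩ := h.dec b⁻¹ (B.inv_mem hb)
    exact ⟨w⁻¹, W.inv_mem hw, v⁻¹, V.inv_mem hv, by rw [← mul_inv_rev, ← he, inv_inv]⟩
  eV := h.eW
  eW := h.eV
  inf := by rw [inf_comm]; exact h.inf
  cV := h.cW
  cW := h.cV
  cZ := h.cZ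
  comm := by
    intro w hw v hv
    have e : w * v * w⁻¹ * v⁻¹ = (v * w * v⁻¹ * w⁻¹)⁻¹ := by group
    rw [e]
    exact Z.inv_mem (h.comm v hv w hw)
  nc := fun w hw v hv e => (h.nc v hv w hw e.symm).symm
  x3 := h.x3
  xV := h.xW
  xW := h.xV
  fV := h.fW
  fW := h.fV
  trV := h.trW
  trW := h.trV

theorem Zc (h : Sit S B V W Z x) {z b : G} (hz : z ∈ Z) (hb : b ∈ B) : b * z = z * b := by
  obtain ⟨v, hv, w, hw, rfl⟩ := h.dec b hb
  have h1 := h.eV.comm hv (h.ZV hz)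
  have h2 := h.eW.comm hw (h.ZW hz)
  rw [mul_assoc, h2, ← mul_assoc, h1, mul_assoc]

theorem sqV (h : Sit S B V W Z x) {v : G} (hv : v ∈ V) : v⁻¹ = v := inv_eq_of_mul_eq_one_left (h.eV v hv)

theorem conjV (h : Sit S B V W Z x) {b v : G} (hb : b ∈ B) (hv : v ∈ V) : b * v * b⁻¹ ∈ V := by
  obtain ⟨v₁, hv₁, w₁, hw₁, rfl⟩ := h.dec b hb
  have h1 : w₁ * v * w₁⁻¹ ∈ V := by
    have e : w₁ * v * w₁⁻¹ = (v * w₁ * v⁻¹ * w₁⁻¹)⁻¹ * v := by group
    rw [e]
    exact V.mul_mem (V.inv_mem (h.ZV (h.comm v hv w₁ hw₁))) hv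
  have e : v₁ * w₁ * v * (v₁ * w₁)⁻¹ = v₁ * (w₁ * v * w₁⁻¹) * v₁⁻¹ := by group
  rw [e]
  exact V.mul_mem (V.mul_mem hv₁ h1) (V.inv_mem hv₁)

/-- commutators with an element of `V ∖ Z` -/
theorem surj [Finite G] (h : Sit S B V W Z x) {v : G} (hv : v ∈ V) (hvZ : v ∉ Z) {z : G} (hz : z ∈ Z) :
    ∃ w ∈ W, v * w * v⁻¹ * w⁻¹ = z := by
  let f : W →* Z :=
    { toFun := fun w => ⟨v * w * v⁻¹ * (w : G)⁻¹, h.comm v hv w w.2⟩
      map_one' := Subtype.ext (by simp)
      map_mul' := fun a b => Subtype.ext (by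
        have h1 := h.Zc (h.comm v hv b b.2) (h.WB a.2)
        show v * (a * b : G) * v⁻¹ * (a * b : G)⁻¹ = (v * a * v⁻¹ * (a : G)⁻¹) * (v * b * v⁻¹ * (b : G)⁻¹)
        calc v * (a * b : G) * v⁻¹ * (a * b : G)⁻¹
            = (v * a * v⁻¹) * ((v * b * v⁻¹ * (b : G)⁻¹) * (a : G)⁻¹) := by group
          _ = (v * a * v⁻¹) * ((a : G)⁻¹ * (v * b * v⁻¹ * (b : G)⁻¹)) := by
              congr 1
              have h2 := h.Zc (h.comm v hv b b.2) (B.inv_mem (h.WB a.2))
              exact h2.symm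
          _ = _ := by group) }
  have hker : f.ker ≤ Z.subgroupOf W := by
    intro w hw
    rw [MonoidHom.mem_ker] at hw
    have h1 : v * w * v⁻¹ * (w : G)⁻¹ = 1 := congrArg Subtype.val hw
    have h2 : v * w = w * v := by
      have h3 : v * w * v⁻¹ = w := mul_inv_eq_one.1 h1
      exact mul_inv_eq_iff_eq_mul.1 h3
    rw [mem_subgroupOf]
    exact (h.nc v hv w w.2 h2).resolve_left hvZ
  have h1 : Nat.card f.ker ≤ 4 := by
    rw [← h.cZ, ← T1Tools.card_subgroupOf h.ZW]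
    exact Subgroup.card_le_of_le hker
  have h2 := f.ker.card_mul_index
  rw [h.cW] at h2
  have h3 : 4 ≤ f.ker.index := by
    by_contra hlt
    have h4 : f.ker.index ≤ 3 := by omega
    have h5 : Nat.card f.ker * f.ker.index ≤ 4 * 3 := Nat.mul_le_mul h1 h4
    omega
  have h4 : f.range = ⊤ := by
    apply Subgroup.eq_top_of_le_card
    rw [h.cZ, ← Subgroup.index_ker]
    exact h3
  obtain ⟨w, hw⟩ : (⟨z, hz⟩ : Z) ∈ f.range := by rw [h4]; exact mem_top _
  exact ⟨w, w.2, congrArg Subtype.val hw⟩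

/-- the involutions of `B` -/
theorem invo (h : Sit S B V W Z x) {b : G} (hb : b ∈ B) (h2 : b * b = 1) : b ∈ V ∨ b ∈ W := by
  obtain ⟨v, hv, w, hw, rfl⟩ := h.dec b hb
  have h3 : v * w = w * v := by
    have h4 : v * w = (v * w)⁻¹ := eq_inv_of_mul_eq_one_left h2
    rw [mul_inv_rev, h.sqV hv, h.symm.sqV hw] at h4
    exact h4
  rcases h.nc v hv w hw h3 with h4 | h4
  · exact Or.inr (W.mul_mem (h.ZW h4) hw)
  · exact Or.inl (V.mul_mem hv (h.ZV h4))

theorem sub_or (h : Sit S B V W Z x) {A : Subgroup G} (hA : A ≤ B) (hE : Elem A) : A ≤ V ∨ A ≤ W := by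
  by_contra hcon
  push Not at hcon
  obtain ⟨h1, h2⟩ := hcon
  obtain ⟨a, haA, haV⟩ := SetLike.not_le_iff_exists.1 h1
  obtain ⟨b, hbA, hbW⟩ := SetLike.not_le_iff_exists.1 h2
  have haW : a ∈ W := (h.invo (hA haA) (hE a haA)).resolve_left haV
  have hbV : b ∈ V := (h.invo (hA hbA) (hE b hbA)).resolve_right hbW
  rcases h.nc b hbV a haW (hE.comm hbA haA) with h3 | h3
  · exact hbW (h.ZW h3)
  · exact haV (h.ZV h3)

theorem eq_or [Finite G] (h : Sit S B V W Z x) {A : Subgroup G} (hA : A ≤ B) (hE : Elem A) (hc : Nat.card A = 16) :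
    A = V ∨ A = W := by
  rcases h.sub_or hA hE with h1 | h1
  · exact Or.inl (Subgroup.eq_of_le_of_card_ge h1 (by rw [hc, h.cV]))
  · exact Or.inr (Subgroup.eq_of_le_of_card_ge h1 (by rw [hc, h.cW]))

theorem ne (h : Sit S B V W Z x) : V ≠ W := by
  intro he
  have h1 := h.inf
  rw [← he, inf_idem] at h1
  have h2 := h.cV
  rw [h1, h.cZ] at h2
  omega

theorem exists_notZ (h : Sit S B V W Z x) : ∃ v ∈ V, v ∉ Z := by
  by_contra hcon
  push Not at hcon
  have h1 : V = Z := le_antisymm hcon h.ZV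
  have h2 := h.cV
  rw [h1, h.cZ] at h2
  omega


theorem cj_or [Finite G] (h : Sit S B V W Z x) {g : G} (hg : cj g B = B) : cj g V = V ∨ cj g V = W := by
  apply h.eq_or
  · rw [← hg]; exact cj_mono h.VB
  · exact CaseABase.elem_cj h.eV
  · rw [card_cj, h.cV]

theorem cj_pair [Finite G] (h : Sit S B V W Z x) {g : G} (hg : cj g B = B) :
    (cj g V = V ∧ cj g W = W) ∨ (cj g V = W ∧ cj g W = V) := by
  have hne : cj g V ≠ cj g W := fun he => h.ne (by
    have := congrArg (cj g⁻¹) he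
    rwa [cj_inv_cj, cj_inv_cj] at this)
  rcases h.cj_or hg with h1 | h1
  · rcases h.symm.cj_or hg with h2 | h2
    · exact Or.inl ⟨h1, h2⟩
    · exact absurd (h1.trans h2.symm) hne
  · rcases h.symm.cj_or hg with h2 | h2
    · exact absurd (h1.trans h2.symm) hne
    · exact Or.inr ⟨h1, h2⟩

theorem cjZ [Finite G] (h : Sit S B V W Z x) {g : G} (hg : cj g B = B) : cj g Z = Z := by
  rw [← h.inf, cj_inf]
  rcases h.cj_pair hg with ⟨h1, h2⟩ | ⟨h1, h2⟩
  · rw [h1, h2]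
  · rw [h1, h2, inf_comm]

theorem cjS [Finite G] (h : Sit S B V W Z x) {s : G} (hs : s ∈ S) : cj s B = B :=
  cj_eq_iff.2 (mem_normalizer_of_forall (h.SnB s hs))

theorem conjZ [Finite G] (h : Sit S B V W Z x) {s z : G} (hs : s ∈ S) (hz : z ∈ Z) : s * z * s⁻¹ ∈ Z := by
  have h1 := conj_mem_cj (g := s) hz
  rwa [h.cjZ (h.cjS hs)] at h1

end Sit

/-- `z` is a generator of `Z` central in `S` -/
structure Cen (S Z : Subgroup G) (z : G) : Prop where
  mem : z ∈ Z
  ne : z ≠ 1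
  comm : ∀ s ∈ S, s * z = z * s

/-- (P1): if an element of order `r` centralises `A`, then the elements of order `r` normalising `A` centralise it. -/
theorem p1 [Finite G] (hG : OddCyc G) {r : ℕ} (hr : r.Prime) (hr2 : r ≠ 2) {A : Subgroup G} {x y : G}
    (hx : orderOf x = r) (hy : orderOf y = r) (hcy : ∀ a ∈ A, y * a = a * y) (hxA : ∀ a ∈ A, x * a * x⁻¹ ∈ A) :
    ∀ a ∈ A, x * a = a * x := by
  have hxN : x ∈ normalizer (A : Set G) := mem_normalizer_of_forall hxA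
  have hyC : y ∈ centralizer (A : Set G) := mem_centralizer_iff.2 fun a ha => (hcy a ha).symm
  have hcn : centralizer (A : Set G) ≤ normalizer (A : Set G) := centralizer_le_normalizer _
  let N : Subgroup (normalizer (A : Set G)) := (centralizer (A : Set G)).subgroupOf _
  have hN : N.Normal := ⟨fun c hc g => by
    rw [mem_subgroupOf, mem_centralizer_iff] at hc ⊢
    intro a ha
    have h1 : (g : G)⁻¹ * a * g ∈ A := by
      have := (mem_normalizer_iff.mp ((normalizer (A : Set G)).inv_mem g.2) a).mp ha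
      simpa using this
    have h2 := hc _ h1
    show a * ((g : G) * c * (g : G)⁻¹) = (g : G) * c * (g : G)⁻¹ * a
    calc a * ((g : G) * c * (g : G)⁻¹) = (g : G) * (((g : G)⁻¹ * a * g) * c) * (g : G)⁻¹ := by group
      _ = (g : G) * ((c : G) * ((g : G)⁻¹ * a * g)) * (g : G)⁻¹ := by rw [h2]
      _ = (g : G) * c * (g : G)⁻¹ * a := by group⟩
  have hrN : r ∣ Nat.card N := by
    have h1 : (⟨y, hcn hyC⟩ : normalizer (A : Set G)) ∈ N := by rw [mem_subgroupOf]; exact hyC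
    have h2 : orderOf (⟨⟨y, hcn hyC⟩, h1⟩ : N) = r := by rw [orderOf_mk, orderOf_mk, hy]
    rw [← h2]
    exact orderOf_dvd_natCard _
  have hord : orderOf (⟨x, hxN⟩ : normalizer (A : Set G)) = r := by rw [orderOf_mk, hx]
  have hmem := mem_of_orderOf (oddCyc_subgroup hG _) hr hr2 hN hrN hord
  rw [mem_subgroupOf, mem_centralizer_iff] at hmem
  intro a ha
  exact (hmem a ha).symm

/-- elements of the same odd prime order in a subgroup generate conjugate subgroups -/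
theorem exists_conj_zpowers [Finite G] (hG : OddCyc G) {r : ℕ} (hr : r.Prime) (hr2 : r ≠ 2) {N : Subgroup G}
    {x y : G} (hxN : x ∈ N) (hyN : y ∈ N) (hx : orderOf x = r) (hy : orderOf y = r) :
    ∃ g ∈ N, x ∈ zpowers (g * y * g⁻¹) := by
  have hpf : Fact r.Prime := ⟨hr⟩
  have hcy := oddCyc_subgroup hG N
  have hxp : IsPGroup r (zpowers (⟨x, hxN⟩ : N)) := IsPGroup.of_card (n := 1) (by
    rw [Nat.card_zpowers, orderOf_mk, hx, pow_one])
  have hyp : IsPGroup r (zpowers (⟨y, hyN⟩ : N)) := IsPGroup.of_card (n := 1) (by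
    rw [Nat.card_zpowers, orderOf_mk, hy, pow_one])
  obtain ⟨P, hP⟩ := hxp.exists_le_sylow
  obtain ⟨Q, hQ⟩ := hyp.exists_le_sylow
  obtain ⟨g, hg⟩ := MulAction.exists_smul_eq N Q P
  have hxP : (⟨x, hxN⟩ : N) ∈ (P : Subgroup N) := hP (mem_zpowers _)
  have hyP : g * ⟨y, hyN⟩ * g⁻¹ ∈ (P : Subgroup N) := by
    rw [← hg]
    exact ⟨⟨y, hyN⟩, hQ (mem_zpowers _), rfl⟩
  have := hcy r P hr hr2
  have h1 : zpowers (⟨_, hxP⟩ : P) = zpowers (⟨_, hyP⟩ : P) := by
    apply zpowers_eq_of_cyclic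
    rw [orderOf_mk, orderOf_mk, orderOf_mk, CompStandard.orderOf_conj, orderOf_mk, hx, hy]
  have h2 : (⟨_, hxP⟩ : P) ∈ zpowers (⟨_, hyP⟩ : P) := by rw [← h1]; exact mem_zpowers _
  obtain ⟨n, hn⟩ := h2
  refine ⟨g, g.2, n, ?_⟩
  have h3 := congrArg (fun z : P => ((z : N) : G)) hn
  exact h3

/-- an element of order 3 permuting a set of at most two subgroups fixes them -/
theorem cj_eq_of_pair {y : G} (hy : orderOf y = 3) {A A' : Subgroup G} (h1 : cj y A = A ∨ cj y A = A')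
    (h2 : cj y A = A' → cj y A' = A ∨ cj y A' = A') : cj y A = A := by
  rcases h1 with h1 | h1
  · exact h1
  · rcases h2 h1 with h3 | h3
    · have h4 : cj (y * y * y) A = cj y A := by rw [cj_mul, cj_mul, h1, h3, h1]
      have h5 : y * y * y = 1 := by
        have := pow_orderOf_eq_one y
        rw [hy, pow_succ, pow_two] at this
        exact this
      rw [h5, cj_one] at h4
      exact h4.symm
    · have h4 : cj y A = cj y A' := h1.trans h3.symm
      have h5 := congrArg (cj y⁻¹) h4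
      rw [cj_inv_cj, cj_inv_cj] at h5
      rw [h1, h5]

/-- the product of two elements outside a subgroup of index two -/
theorem mul_mem_of_card [Finite G] {E V : Subgroup G} (hEV : E ≤ V) (hc : Nat.card V = 2 * Nat.card E) {a b : G}
    (ha : a ∈ V) (hb : b ∈ V) (ha' : a ∉ E) (hb' : b ∉ E) : a * b ∈ E := by
  have h1 : (E.subgroupOf V).index = 2 := by
    have h2 := (E.subgroupOf V).card_mul_index
    rw [T1Tools.card_subgroupOf hEV, hc, mul_comm 2] at h2
    exact Nat.eq_of_mul_eq_mul_left Nat.card_pos h2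
  have h3 := (Subgroup.mul_mem_iff_of_index_two h1 (a := (⟨a, ha⟩ : V)) (b := ⟨b, hb⟩)).2
    ⟨fun h => absurd h ha', fun h => absurd h hb'⟩
  exact h3

namespace Sit

theorem exists_z [Finite G] (h : Sit S B V W Z x) : ∃ z, Cen S Z z := by
  obtain ⟨z, hz, hz1, hc⟩ := B2Four.exists_fixed h.syl.two h.cZ (fun t ht v hv => h.conjZ ht hv)
  exact ⟨z, hz, hz1, hc⟩

theorem eZ (h : Sit S B V W Z x) : Elem Z := fun z hz => h.eV z (h.ZV hz)

theorem four (h : Sit S B V W Z x) {i v : G} (hi : i ∈ Z) (hv : v ∈ Z) (hi1 : i ≠ 1) (hv1 : v ≠ 1) (hvi : v ≠ i)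
    {y : G} (hy : y ∈ Z) : y = 1 ∨ y = i ∨ y = v ∨ y = i * v :=
  B2Four.mem_four' h.eZ h.cZ hi hv hi1 hv1 hvi hy

theorem exists_a (h : Sit S B V W Z x) (z : G) : ∃ a ∈ Z, a ≠ 1 ∧ a ≠ z := by
  by_contra hcon
  push Not at hcon
  have hsub : (Z : Set G) ⊆ ({1, z} : Set G) := by
    intro a ha
    by_cases h1 : a = 1
    · exact Or.inl h1
    · exact Or.inr (hcon a ha h1)
  have h1 := Set.ncard_le_ncard hsub
  have h2 : (Z : Set G).ncard = 4 := by rw [← h.cZ]; rfl
  have h3 : ({1, z} : Set G).ncard ≤ 2 := Set.ncard_insert_le 1 {z} |>.trans (by rw [Set.ncard_singleton])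
  omega

/-- the action of `S ∖ B` on `Z` -/
theorem act [Finite G] (h : Sit S B V W Z x) {z : G} (hz : Cen S Z z) {s : G} (hs : s ∈ S) (hsB : s ∉ B) {a : G}
    (ha : a ∈ Z) (ha1 : a ≠ 1) (haz : a ≠ z) : s * a * s⁻¹ = z * a := by
  have h1 := h.conjZ hs ha
  rcases h.four hz.mem ha hz.ne ha1 haz h1 with h2 | h2 | h2 | h2
  · exact absurd (by simpa using h2) ha1
  · exfalso
    apply haz
    have h3 : s⁻¹ * (s * a * s⁻¹) * s = s⁻¹ * z * s := by rw [h2]
    have h4 := hz.comm s⁻¹ (S.inv_mem hs)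
    calc a = s⁻¹ * (s * a * s⁻¹) * s := by group
      _ = s⁻¹ * z * s := h3
      _ = z := by rw [h4]; group
  · exfalso
    apply hsB
    apply h.centZ s hs
    have h3 : s * a = a * s := mul_inv_eq_iff_eq_mul.1 h2
    intro c hc
    rcases h.four hz.mem ha hz.ne ha1 haz hc with rfl | rfl | rfl | rfl
    · simp
    · exact hz.comm s hs
    · exact h3
    · rw [← mul_assoc, hz.comm s hs, mul_assoc, h3, mul_assoc]
  · exact h2

theorem mul_mem_B [Finite G] (h : Sit S B V W Z x) {s t : G} (hs : s ∈ S) (ht : t ∈ S) (hsB : s ∉ B) (htB : t ∉ B) :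
    s * t ∈ B := by
  obtain ⟨z, hz⟩ := h.exists_z
  obtain ⟨a, ha, ha1, haz⟩ := h.exists_a z
  apply h.centZ _ (S.mul_mem hs ht)
  have h1 := h.act hz hs hsB ha ha1 haz
  have h2 := h.act hz ht htB ha ha1 haz
  have hza : z * a ≠ 1 := fun h0 => haz (by
    have h3 : z * a = z * z := by rw [h0, h.eZ z hz.mem]
    exact mul_left_cancel h3)
  have hzaz : z * a ≠ z := fun h0 => ha1 (by simpa using h0)
  have h3 := h.act hz hs hsB (Z.mul_mem hz.mem ha) hza hzaz
  have h4 : (s * t) * a * (s * t)⁻¹ = a := by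
    calc (s * t) * a * (s * t)⁻¹ = s * (t * a * t⁻¹) * s⁻¹ := by group
      _ = s * (z * a) * s⁻¹ := by rw [h2]
      _ = z * (z * a) := h3
      _ = a := by rw [← mul_assoc, h.eZ z hz.mem, one_mul]
  have h5 : (s * t) * a = a * (s * t) := mul_inv_eq_iff_eq_mul.1 h4
  have h6 : (s * t) * z = z * (s * t) := hz.comm _ (S.mul_mem hs ht)
  intro c hc
  rcases h.four hz.mem ha hz.ne ha1 haz hc with rfl | rfl | rfl | rfl
  · simp
  · exact h6
  · exact h5
  · rw [← mul_assoc, h6, mul_assoc, h5, mul_assoc]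

theorem sq_mem_B [Finite G] (h : Sit S B V W Z x) {s : G} (hs : s ∈ S) : s * s ∈ B := by
  by_cases hsB : s ∈ B
  · exact B.mul_mem hsB hsB
  · exact h.mul_mem_B hs hs hsB hsB

theorem relIndex_eq_two [Finite G] (h : Sit S B V W Z x) {s : G} (hs : s ∈ S) (hsB : s ∉ B) : B.relIndex S = 2 := by
  rw [relIndex, index_eq_two_iff]
  refine ⟨⟨s, hs⟩, fun b => ?_⟩
  simp only [mem_subgroupOf]
  by_cases hb : (b : G) ∈ B
  · refine Or.inr ⟨hb, fun h1 => hsB ?_⟩
    have h2 := B.mul_mem (B.inv_mem hb) h1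
    simpa using h2
  · exact Or.inl ⟨h.mul_mem_B b.2 hs hb hsB, hb⟩

/-- no element of order 3 centralises `Z` -/
theorem no_three [Finite G] (hG : OddCyc G) (h : Sit S B V W Z x) {y : G} (hy : orderOf y = 3)
    (hc : ∀ z ∈ Z, y * z = z * y) : False := by
  have hxZ : ∀ a ∈ Z, x * a * x⁻¹ ∈ Z := fun a ha => h.mem_Z (h.xV a (h.ZV ha)) (h.xW a (h.ZW ha))
  have h1 := p1 hG Nat.prime_three (by norm_num) h.x3 hy hc hxZ
  obtain ⟨a, ha, ha1, -⟩ := h.exists_a 1
  exact ha1 (h.fV a (h.ZV ha) (h1 a ha))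

/-- elements of order 3 normalising `V` act fixed point freely on `V` -/
theorem fpf [Finite G] (hG : OddCyc G) (h : Sit S B V W Z x) {y : G} (hy : orderOf y = 3)
    (hyV : cj y V = V) {v : G} (hv : v ∈ V) (hc : y * v = v * y) : v = 1 := by
  have hyN : y ∈ normalizer (V : Set G) := cj_eq_iff.1 hyV
  have hxN : x ∈ normalizer (V : Set G) := mem_normalizer_of_forall h.xV
  obtain ⟨g, hg, n, hn⟩ := exists_conj_zpowers hG Nat.prime_three (by norm_num) hxN hyN h.x3 hy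
  have h1 : g * v * g⁻¹ ∈ V := forall_of_mem_normalizer hg v hv
  have h2 : Commute (g * y * g⁻¹) (g * v * g⁻¹) := by
    show (g * y * g⁻¹) * (g * v * g⁻¹) = (g * v * g⁻¹) * (g * y * g⁻¹)
    calc (g * y * g⁻¹) * (g * v * g⁻¹) = g * (y * v) * g⁻¹ := by group
      _ = g * (v * y) * g⁻¹ := by rw [hc]
      _ = _ := by group
  have h3 : Commute x (g * v * g⁻¹) := by
    have h4 : (g * y * g⁻¹) ^ n = x := hn
    rw [← h4]
    exact h2.zpow_left n
  have h4 := h.fV _ h1 h3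
  have h5 : v = g⁻¹ * (g * v * g⁻¹) * g := by group
  rw [h5, h4]; group

/-- an element of `S ∖ B` normalising `V` acts nontrivially on `V / Z` -/
theorem exists_comm_notZ [Finite G] (h : Sit S B V W Z x) {s : G} (hs : s ∈ S) (hsB : s ∉ B) (hsV : cj s V = V) :
    ∃ v ∈ V, s * v * s⁻¹ * v⁻¹ ∉ Z := by
  by_contra hcon
  push Not at hcon
  have hsW : cj s W = W := by
    rcases h.cj_pair (h.cjS hs) with h1 | h1
    · exact h1.2
    · exact absurd (h1.1.symm.trans hsV).symm h.ne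
  have hW : ∀ w ∈ W, s * w * s⁻¹ ∈ W := fun w hw => by
    have := conj_mem_cj (g := s) hw
    rwa [hsW] at this
  -- `s` fixes a coset of `Z` in `W`
  obtain ⟨w, hw, hwZ, hc⟩ : ∃ w ∈ W, w ∉ Z ∧ s * w * s⁻¹ * w⁻¹ ∈ Z := by
    obtain ⟨w₁, hw₁, hw₁Z⟩ := h.symm.exists_notZ
    by_cases hc₁ : s * w₁ * s⁻¹ * w₁⁻¹ ∈ Z
    · exact ⟨w₁, hw₁, hw₁Z, hc₁⟩
    · refine ⟨s * w₁ * s⁻¹ * w₁⁻¹, W.mul_mem (hW _ hw₁) (W.inv_mem hw₁), hc₁, ?_⟩
      set c := s * w₁ * s⁻¹ * w₁⁻¹ with hcd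
      have hcW : c ∈ W := W.mul_mem (hW _ hw₁) (W.inv_mem hw₁)
      obtain ⟨v₂, hv₂, w₂, hw₂, he⟩ := h.dec _ (h.sq_mem_B hs)
      have h1 : (s * s) * w₁ * (s * s)⁻¹ * w₁⁻¹ ∈ Z := by
        rw [he]
        have e1 : w₂ * w₁ * w₂⁻¹ = w₁ := by
          rw [h.eW.comm hw₂ hw₁]; group
        have e : v₂ * w₂ * w₁ * (v₂ * w₂)⁻¹ * w₁⁻¹ = v₂ * (w₂ * w₁ * w₂⁻¹) * v₂⁻¹ * w₁⁻¹ := by group
        rw [e, e1]
        exact h.comm v₂ hv₂ w₁ hw₁
      have h2 : s * c * s⁻¹ * c⁻¹ = ((s * s) * w₁ * (s * s)⁻¹ * w₁⁻¹) * (w₁ * (c * w₁)⁻¹ * c⁻¹) := by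
        rw [hcd]; group
      have h3 : w₁ * (c * w₁)⁻¹ * c⁻¹ = 1 := by
        have h4 : (c * w₁)⁻¹ = w₁⁻¹ * c⁻¹ := mul_inv_rev _ _
        have h5 : c⁻¹ * c⁻¹ = 1 := by rw [← mul_inv_rev, h.eW c hcW, inv_one]
        rw [h4, mul_inv_cancel_left, h5]
      rw [h2, h3, mul_one]
      exact h1
  -- `s` centralises `[V, w] = Z`
  apply hsB
  apply h.centZ s hs
  intro z hz
  obtain ⟨v, hv, he⟩ := h.symm.surj hw hwZ hz
  set ζ := s * w * s⁻¹ * w⁻¹ with hζ
  set ξ := s * v * s⁻¹ * v⁻¹ with hξ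
  have hξZ : ξ ∈ Z := hcon v hv
  have e1 : s * w * s⁻¹ = ζ * w := by rw [hζ]; group
  have e2 : s * v * s⁻¹ = ξ * v := by rw [hξ]; group
  have hvB := h.VB hv
  have hwB := h.WB hw
  have k1 : ∀ b ∈ B, Commute b ζ := fun b hb => h.Zc hc hb
  have k2 : ∀ b ∈ B, Commute b ξ := fun b hb => h.Zc hξZ hb
  have h1 : s * z * s⁻¹ = z := by
    calc s * z * s⁻¹ = s * (w * v * w⁻¹ * v⁻¹) * s⁻¹ := by rw [he]
      _ = (s * w * s⁻¹) * (s * v * s⁻¹) * (s * w * s⁻¹)⁻¹ * (s * v * s⁻¹)⁻¹ := by group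
      _ = (ζ * w) * (ξ * v) * (ζ * w)⁻¹ * (ξ * v)⁻¹ := by rw [e1, e2]
      _ = ζ * (w * ξ) * v * (ζ * w)⁻¹ * (ξ * v)⁻¹ := by group
      _ = ζ * (ξ * w) * v * (ζ * w)⁻¹ * (ξ * v)⁻¹ := by rw [(k2 w hwB).eq]
      _ = (ζ * ξ) * (w * v * w⁻¹) * ζ⁻¹ * v⁻¹ * ξ⁻¹ := by group
      _ = (ζ * ξ) * ((w * v * w⁻¹) * ζ⁻¹) * v⁻¹ * ξ⁻¹ := by group
      _ = (ζ * ξ) * (ζ⁻¹ * (w * v * w⁻¹)) * v⁻¹ * ξ⁻¹ := by
          rw [((k1 _ (B.mul_mem (B.mul_mem hwB hvB) (B.inv_mem hwB))).inv_right).eq]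
      _ = (ζ * ξ * ζ⁻¹) * ((w * v * w⁻¹ * v⁻¹) * ξ⁻¹) := by group
      _ = (ζ * ξ * ζ⁻¹) * (ξ⁻¹ * (w * v * w⁻¹ * v⁻¹)) := by
          rw [((k2 _ (B.mul_mem (B.mul_mem (B.mul_mem hwB hvB) (B.inv_mem hwB)) (B.inv_mem hvB))).inv_right).eq]
      _ = (ζ * (ξ * ζ⁻¹) * ξ⁻¹) * (w * v * w⁻¹ * v⁻¹) := by group
      _ = (ζ * (ζ⁻¹ * ξ) * ξ⁻¹) * (w * v * w⁻¹ * v⁻¹) := by
          rw [((k1 ξ (h.ZB hξZ)).inv_right).eq]
      _ = w * v * w⁻¹ * v⁻¹ := by group
      _ = z := he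
  exact mul_inv_eq_iff_eq_mul.1 h1

end Sit

end Cfsg.Agent.OddCyclic.AOneSit
end
end
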